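import Mathlib
import Cfsg.Agent.Rec.B6
import Cfsg.Agent.Rec.Orb
import Cfsg.Agent.Rec.Misc
import Cfsg.Agent.Rec.Sim

/-! Codes for the direct product of a coded group with a group of order two. -/

set_option autoImplicit false

namespace Cfsg.Agent.SF6

open Cfsg.Agent.Rec Cfsg.Agent.Spor

/-- The code `2 a + ε` stands for `elt a * t ^ ε`. -/
noncomputable def ar2 (A : Ar) : Ar where
  mul a b := force (Nat.shiftRight a 1) fun a' => force (Nat.shiftRight b 1) fun b' =>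
    Nat.add (Nat.mul 2 (A.mul a' b')) (Nat.land (Nat.xor a b) 1)
  inv a := force (Nat.shiftRight a 1) fun a' => Nat.add (Nat.mul 2 (A.inv a')) (Nat.land a 1)
  one := Nat.mul 2 A.one

/-- The arithmetic for `2 × Sp₆(2)`. -/
noncomputable def A2 : Ar := ar2 B6.A

theorem ar2_mul (A : Ar) (a b : ℕ) : (ar2 A).mul a b = 2 * A.mul (a / 2) (b / 2) + (a + b) % 2 := by
  have h : (a ^^^ b) % 2 = (a + b) % 2 := Nat.xor_mod_two_eq
  simp only [ar2, force_eq]
  show 2 * A.mul (a >>> 1) (b >>> 1) + ((a ^^^ b) &&& 1) = _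
  rw [Nat.and_one_is_mod, h, Nat.shiftRight_one, Nat.shiftRight_one]

theorem ar2_inv (A : Ar) (a : ℕ) : (ar2 A).inv a = 2 * A.inv (a / 2) + a % 2 := by
  simp only [ar2, force_eq]
  show 2 * A.inv (a >>> 1) + (a &&& 1) = _
  rw [Nat.and_one_is_mod, Nat.shiftRight_one]

variable {G : Type*} [Group G] {A : Ar}

theorem pow_mod_two {t : G} (tt : t * t = 1) (n : ℕ) : t ^ (n % 2) = t ^ n := by
  conv_rhs => rw [← Nat.div_add_mod n 2, pow_add, pow_mul, pow_two, tt, one_pow, one_mul]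

/-- The codes. -/
noncomputable def cod2 (C : Cod A G) (L : Subgroup G) {t : G} (tt : t * t = 1) (hL : t ∉ L)
    (hc : ∀ l ∈ L, l * t = t * l) : Cod (ar2 A) G where
  V a := C.V (a / 2) ∧ C.elt (a / 2) ∈ L
  elt a := C.elt (a / 2) * t ^ a
  V_one := by
    show C.V (2 * A.one / 2) ∧ C.elt (2 * A.one / 2) ∈ L
    rw [Nat.mul_div_cancel_left _ two_pos, C.elt_one]; exact ⟨C.V_one, one_mem _⟩
  elt_one := by
    show C.elt (2 * A.one / 2) * t ^ (2 * A.one) = 1
    rw [Nat.mul_div_cancel_left _ two_pos, C.elt_one, pow_mul, pow_two, tt, one_pow, one_mul]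
  V_mul {a b} ha hb := by
    rw [ar2_mul, show (2 * A.mul (a / 2) (b / 2) + (a + b) % 2) / 2 = A.mul (a / 2) (b / 2) by omega,
      C.elt_mul ha.1 hb.1]
    exact ⟨C.V_mul ha.1 hb.1, mul_mem ha.2 hb.2⟩
  elt_mul {a b} ha hb := by
    rw [ar2_mul, show (2 * A.mul (a / 2) (b / 2) + (a + b) % 2) / 2 = A.mul (a / 2) (b / 2) by omega,
      C.elt_mul ha.1 hb.1, ← pow_mod_two tt,
      show (2 * A.mul (a / 2) (b / 2) + (a + b) % 2) % 2 = (a + b) % 2 by omega, pow_mod_two tt, pow_add]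
    have h : Commute (C.elt (b / 2)) (t ^ a) := (show Commute (C.elt (b / 2)) t from hc _ hb.2).pow_right a
    simp only [mul_assoc]
    rw [← mul_assoc (C.elt (b / 2)), h.eq, mul_assoc]
  V_inv {a} ha := by
    rw [ar2_inv, show (2 * A.inv (a / 2) + a % 2) / 2 = A.inv (a / 2) by omega, C.elt_inv ha.1]
    exact ⟨C.V_inv ha.1, inv_mem ha.2⟩
  elt_inv {a} ha := by
    rw [ar2_inv, show (2 * A.inv (a / 2) + a % 2) / 2 = A.inv (a / 2) by omega, C.elt_inv ha.1,
      ← pow_mod_two tt, show (2 * A.inv (a / 2) + a % 2) % 2 = a % 2 by omega, pow_mod_two tt]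
    have h : Commute (C.elt (a / 2)) (t ^ a) := (show Commute (C.elt (a / 2)) t from hc _ ha.2).pow_right a
    have h2 : t ^ a * t ^ a = 1 := by rw [← pow_add, ← two_mul, pow_mul, pow_two, tt, one_pow]
    rw [h.eq, mul_inv_rev, inv_eq_of_mul_eq_one_right h2]
  inj {a b} ha hb h := by
    rw [← pow_mod_two tt a, ← pow_mod_two tt b] at h
    have k : ∀ {a b : ℕ}, C.elt (a / 2) ∈ L → C.elt (b / 2) ∈ L → C.elt (a / 2) * t ≠ C.elt (b / 2) :=
      fun ha hb e => hL ((mul_mem_cancel_left ha).1 (e ▸ hb))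
    rcases Nat.mod_two_eq_zero_or_one a with h1 | h1 <;> rcases Nat.mod_two_eq_zero_or_one b with h2 | h2 <;>
      rw [h1, h2] at h
    · have := C.inj ha.1 hb.1 (by simpa using h); omega
    · exact absurd (by simpa using h.symm) (k hb.2 ha.2)
    · exact absurd (by simpa using h) (k ha.2 hb.2)
    · have := C.inj ha.1 hb.1 (by simpa using h); omega

end Cfsg.Agent.SF6
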