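import Mathlib
import Cfsg.Agent.SF6.Ar

/-! Generated by tools/rec: small subgroups of 2 x Sp6(2) -/

set_option autoImplicit false
set_option maxRecDepth 100000
set_option linter.unusedVariables false
set_option exponentiation.threshold 100000

namespace Cfsg.Agent.SF6

open Cfsg.Agent.Spor Cfsg.Agent.Rec

universe u

noncomputable def cX : List ℕ := [(nat_lit 0x1020408103), (nat_lit 0x1020408112), (nat_lit 0x1020408902), (nat_lit 0x1020448102), (nat_lit 0x1020408d32), (nat_lit 0x1020458152), (nat_lit 0x1020469902), (nat_lit 0x1020479d72), (nat_lit 0x1020408522), (nat_lit 0x1020418142), (nat_lit 0x1020429102), (nat_lit 0x142040810a), (nat_lit 0x1820408302), (nat_lit 0x1030408106), (nat_lit 0x1024408102), (nat_lit 0x1220408102), (nat_lit 0x1020c08182), (nat_lit 0x106040c102)]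

noncomputable def V6_t : ST :=
(.node (nat_lit 0x1020448102) (.node (nat_lit 0x1020429102) (.node (nat_lit 0x1020418142) (.node (nat_lit 0x1020408902) (.node (nat_lit 0x1020408522) (.node (nat_lit 0x1020408112) (.leaf (nat_lit 0x1020408102) (nat_lit 0))
 (.leaf (nat_lit 0x1020408112) (nat_lit 256))
) (.node (nat_lit 0x1020408532) (.leaf (nat_lit 0x1020408522) (nat_lit 259))
 (.leaf (nat_lit 0x1020408532) (nat_lit 515))
)) (.node (nat_lit 0x1020408d22) (.node (nat_lit 0x1020408912) (.leaf (nat_lit 0x1020408902) (nat_lit 257))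
 (.leaf (nat_lit 0x1020408912) (nat_lit 513))
) (.node (nat_lit 0x1020408d32) (.leaf (nat_lit 0x1020408d22) (nat_lit 515))
 (.leaf (nat_lit 0x1020408d32) (nat_lit 771))
))) (.node (nat_lit 0x1020418942) (.node (nat_lit 0x1020418562) (.node (nat_lit 0x1020418152) (.leaf (nat_lit 0x1020418142) (nat_lit 260))
 (.leaf (nat_lit 0x1020418152) (nat_lit 516))
) (.node (nat_lit 0x1020418572) (.leaf (nat_lit 0x1020418562) (nat_lit 516))
 (.leaf (nat_lit 0x1020418572) (nat_lit 772))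
)) (.node (nat_lit 0x1020418d62) (.node (nat_lit 0x1020418952) (.leaf (nat_lit 0x1020418942) (nat_lit 516))
 (.leaf (nat_lit 0x1020418952) (nat_lit 772))
) (.node (nat_lit 0x1020418d72) (.leaf (nat_lit 0x1020418d62) (nat_lit 772))
 (.leaf (nat_lit 0x1020418d72) (nat_lit 1028))
)))) (.node (nat_lit 0x1020439142) (.node (nat_lit 0x1020429902) (.node (nat_lit 0x1020429522) (.node (nat_lit 0x1020429112) (.leaf (nat_lit 0x1020429102) (nat_lit 261))
 (.leaf (nat_lit 0x1020429112) (nat_lit 517))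
) (.node (nat_lit 0x1020429532) (.leaf (nat_lit 0x1020429522) (nat_lit 517))
 (.leaf (nat_lit 0x1020429532) (nat_lit 773))
)) (.node (nat_lit 0x1020429d22) (.node (nat_lit 0x1020429912) (.leaf (nat_lit 0x1020429902) (nat_lit 517))
 (.leaf (nat_lit 0x1020429912) (nat_lit 773))
) (.node (nat_lit 0x1020429d32) (.leaf (nat_lit 0x1020429d22) (nat_lit 773))
 (.leaf (nat_lit 0x1020429d32) (nat_lit 1029))
))) (.node (nat_lit 0x1020439942) (.node (nat_lit 0x1020439562) (.node (nat_lit 0x1020439152) (.leaf (nat_lit 0x1020439142) (nat_lit 517))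
 (.leaf (nat_lit 0x1020439152) (nat_lit 773))
) (.node (nat_lit 0x1020439572) (.leaf (nat_lit 0x1020439562) (nat_lit 773))
 (.leaf (nat_lit 0x1020439572) (nat_lit 1029))
)) (.node (nat_lit 0x1020439d62) (.node (nat_lit 0x1020439952) (.leaf (nat_lit 0x1020439942) (nat_lit 773))
 (.leaf (nat_lit 0x1020439952) (nat_lit 1029))
) (.node (nat_lit 0x1020439d72) (.leaf (nat_lit 0x1020439d62) (nat_lit 1029))
 (.leaf (nat_lit 0x1020439d72) (nat_lit 1285))
))))) (.node (nat_lit 0x1020469102) (.node (nat_lit 0x1020458142) (.node (nat_lit 0x1020448902) (.node (nat_lit 0x1020448522) (.node (nat_lit 0x1020448112) (.leaf (nat_lit 0x1020448102) (nat_lit 258))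
 (.leaf (nat_lit 0x1020448112) (nat_lit 514))
) (.node (nat_lit 0x1020448532) (.leaf (nat_lit 0x1020448522) (nat_lit 515))
 (.leaf (nat_lit 0x1020448532) (nat_lit 771))
)) (.node (nat_lit 0x1020448d22) (.node (nat_lit 0x1020448912) (.leaf (nat_lit 0x1020448902) (nat_lit 514))
 (.leaf (nat_lit 0x1020448912) (nat_lit 770))
) (.node (nat_lit 0x1020448d32) (.leaf (nat_lit 0x1020448d22) (nat_lit 771))
 (.leaf (nat_lit 0x1020448d32) (nat_lit 1027))
))) (.node (nat_lit 0x1020458942) (.node (nat_lit 0x1020458562) (.node (nat_lit 0x1020458152) (.leaf (nat_lit 0x1020458142) (nat_lit 516))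
 (.leaf (nat_lit 0x1020458152) (nat_lit 772))
) (.node (nat_lit 0x1020458572) (.leaf (nat_lit 0x1020458562) (nat_lit 772))
 (.leaf (nat_lit 0x1020458572) (nat_lit 1028))
)) (.node (nat_lit 0x1020458d62) (.node (nat_lit 0x1020458952) (.leaf (nat_lit 0x1020458942) (nat_lit 772))
 (.leaf (nat_lit 0x1020458952) (nat_lit 1028))
) (.node (nat_lit 0x1020458d72) (.leaf (nat_lit 0x1020458d62) (nat_lit 1028))
 (.leaf (nat_lit 0x1020458d72) (nat_lit 1284))
)))) (.node (nat_lit 0x1020479142) (.node (nat_lit 0x1020469902) (.node (nat_lit 0x1020469522) (.node (nat_lit 0x1020469112) (.leaf (nat_lit 0x1020469102) (nat_lit 517))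
 (.leaf (nat_lit 0x1020469112) (nat_lit 773))
) (.node (nat_lit 0x1020469532) (.leaf (nat_lit 0x1020469522) (nat_lit 773))
 (.leaf (nat_lit 0x1020469532) (nat_lit 1029))
)) (.node (nat_lit 0x1020469d22) (.node (nat_lit 0x1020469912) (.leaf (nat_lit 0x1020469902) (nat_lit 773))
 (.leaf (nat_lit 0x1020469912) (nat_lit 1029))
) (.node (nat_lit 0x1020469d32) (.leaf (nat_lit 0x1020469d22) (nat_lit 1029))
 (.leaf (nat_lit 0x1020469d32) (nat_lit 1285))
))) (.node (nat_lit 0x1020479942) (.node (nat_lit 0x1020479562) (.node (nat_lit 0x1020479152) (.leaf (nat_lit 0x1020479142) (nat_lit 773))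
 (.leaf (nat_lit 0x1020479152) (nat_lit 1029))
) (.node (nat_lit 0x1020479572) (.leaf (nat_lit 0x1020479562) (nat_lit 1029))
 (.leaf (nat_lit 0x1020479572) (nat_lit 1285))
)) (.node (nat_lit 0x1020479d62) (.node (nat_lit 0x1020479952) (.leaf (nat_lit 0x1020479942) (nat_lit 1029))
 (.leaf (nat_lit 0x1020479952) (nat_lit 1285))
) (.node (nat_lit 0x1020479d72) (.leaf (nat_lit 0x1020479d62) (nat_lit 1285))
 (.leaf (nat_lit 0x1020479d72) (nat_lit 1541))
))))))

theorem V6_ok : genOK A2 [(nat_lit 0x1020408112), (nat_lit 0x1020408902), (nat_lit 0x1020448102), (nat_lit 0x1020408522), (nat_lit 0x1020418142), (nat_lit 0x1020429102)] V6_t (nat_lit 64) = true := by decide +kernel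

noncomputable def W_t : ST :=
(.node (nat_lit 0x1020448102) (.node (nat_lit 0x1020429102) (.node (nat_lit 0x1020418142) (.node (nat_lit 0x1020408902) (.node (nat_lit 0x1020408522) (.node (nat_lit 0x1020408112) (.node (nat_lit 0x1020408103) (.leaf (nat_lit 0x1020408102) (nat_lit 0))
 (.leaf (nat_lit 0x1020408103) (nat_lit 256))
) (.node (nat_lit 0x1020408113) (.leaf (nat_lit 0x1020408112) (nat_lit 257))
 (.leaf (nat_lit 0x1020408113) (nat_lit 513))
)) (.node (nat_lit 0x1020408532) (.node (nat_lit 0x1020408523) (.leaf (nat_lit 0x1020408522) (nat_lit 260))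
 (.leaf (nat_lit 0x1020408523) (nat_lit 516))
) (.node (nat_lit 0x1020408533) (.leaf (nat_lit 0x1020408532) (nat_lit 516))
 (.leaf (nat_lit 0x1020408533) (nat_lit 772))
))) (.node (nat_lit 0x1020408d22) (.node (nat_lit 0x1020408912) (.node (nat_lit 0x1020408903) (.leaf (nat_lit 0x1020408902) (nat_lit 258))
 (.leaf (nat_lit 0x1020408903) (nat_lit 514))
) (.node (nat_lit 0x1020408913) (.leaf (nat_lit 0x1020408912) (nat_lit 514))
 (.leaf (nat_lit 0x1020408913) (nat_lit 770))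
)) (.node (nat_lit 0x1020408d32) (.node (nat_lit 0x1020408d23) (.leaf (nat_lit 0x1020408d22) (nat_lit 516))
 (.leaf (nat_lit 0x1020408d23) (nat_lit 772))
) (.node (nat_lit 0x1020408d33) (.leaf (nat_lit 0x1020408d32) (nat_lit 772))
 (.leaf (nat_lit 0x1020408d33) (nat_lit 1028))
)))) (.node (nat_lit 0x1020418942) (.node (nat_lit 0x1020418562) (.node (nat_lit 0x1020418152) (.node (nat_lit 0x1020418143) (.leaf (nat_lit 0x1020418142) (nat_lit 261))
 (.leaf (nat_lit 0x1020418143) (nat_lit 517))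
) (.node (nat_lit 0x1020418153) (.leaf (nat_lit 0x1020418152) (nat_lit 517))
 (.leaf (nat_lit 0x1020418153) (nat_lit 773))
)) (.node (nat_lit 0x1020418572) (.node (nat_lit 0x1020418563) (.leaf (nat_lit 0x1020418562) (nat_lit 517))
 (.leaf (nat_lit 0x1020418563) (nat_lit 773))
) (.node (nat_lit 0x1020418573) (.leaf (nat_lit 0x1020418572) (nat_lit 773))
 (.leaf (nat_lit 0x1020418573) (nat_lit 1029))
))) (.node (nat_lit 0x1020418d62) (.node (nat_lit 0x1020418952) (.node (nat_lit 0x1020418943) (.leaf (nat_lit 0x1020418942) (nat_lit 517))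
 (.leaf (nat_lit 0x1020418943) (nat_lit 773))
) (.node (nat_lit 0x1020418953) (.leaf (nat_lit 0x1020418952) (nat_lit 773))
 (.leaf (nat_lit 0x1020418953) (nat_lit 1029))
)) (.node (nat_lit 0x1020418d72) (.node (nat_lit 0x1020418d63) (.leaf (nat_lit 0x1020418d62) (nat_lit 773))
 (.leaf (nat_lit 0x1020418d63) (nat_lit 1029))
) (.node (nat_lit 0x1020418d73) (.leaf (nat_lit 0x1020418d72) (nat_lit 1029))
 (.leaf (nat_lit 0x1020418d73) (nat_lit 1285))
))))) (.node (nat_lit 0x1020439142) (.node (nat_lit 0x1020429902) (.node (nat_lit 0x1020429522) (.node (nat_lit 0x1020429112) (.node (nat_lit 0x1020429103) (.leaf (nat_lit 0x1020429102) (nat_lit 262))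
 (.leaf (nat_lit 0x1020429103) (nat_lit 518))
) (.node (nat_lit 0x1020429113) (.leaf (nat_lit 0x1020429112) (nat_lit 518))
 (.leaf (nat_lit 0x1020429113) (nat_lit 774))
)) (.node (nat_lit 0x1020429532) (.node (nat_lit 0x1020429523) (.leaf (nat_lit 0x1020429522) (nat_lit 518))
 (.leaf (nat_lit 0x1020429523) (nat_lit 774))
) (.node (nat_lit 0x1020429533) (.leaf (nat_lit 0x1020429532) (nat_lit 774))
 (.leaf (nat_lit 0x1020429533) (nat_lit 1030))
))) (.node (nat_lit 0x1020429d22) (.node (nat_lit 0x1020429912) (.node (nat_lit 0x1020429903) (.leaf (nat_lit 0x1020429902) (nat_lit 518))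
 (.leaf (nat_lit 0x1020429903) (nat_lit 774))
) (.node (nat_lit 0x1020429913) (.leaf (nat_lit 0x1020429912) (nat_lit 774))
 (.leaf (nat_lit 0x1020429913) (nat_lit 1030))
)) (.node (nat_lit 0x1020429d32) (.node (nat_lit 0x1020429d23) (.leaf (nat_lit 0x1020429d22) (nat_lit 774))
 (.leaf (nat_lit 0x1020429d23) (nat_lit 1030))
) (.node (nat_lit 0x1020429d33) (.leaf (nat_lit 0x1020429d32) (nat_lit 1030))
 (.leaf (nat_lit 0x1020429d33) (nat_lit 1286))
)))) (.node (nat_lit 0x1020439942) (.node (nat_lit 0x1020439562) (.node (nat_lit 0x1020439152) (.node (nat_lit 0x1020439143) (.leaf (nat_lit 0x1020439142) (nat_lit 518))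
 (.leaf (nat_lit 0x1020439143) (nat_lit 774))
) (.node (nat_lit 0x1020439153) (.leaf (nat_lit 0x1020439152) (nat_lit 774))
 (.leaf (nat_lit 0x1020439153) (nat_lit 1030))
)) (.node (nat_lit 0x1020439572) (.node (nat_lit 0x1020439563) (.leaf (nat_lit 0x1020439562) (nat_lit 774))
 (.leaf (nat_lit 0x1020439563) (nat_lit 1030))
) (.node (nat_lit 0x1020439573) (.leaf (nat_lit 0x1020439572) (nat_lit 1030))
 (.leaf (nat_lit 0x1020439573) (nat_lit 1286))
))) (.node (nat_lit 0x1020439d62) (.node (nat_lit 0x1020439952) (.node (nat_lit 0x1020439943) (.leaf (nat_lit 0x1020439942) (nat_lit 774))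
 (.leaf (nat_lit 0x1020439943) (nat_lit 1030))
) (.node (nat_lit 0x1020439953) (.leaf (nat_lit 0x1020439952) (nat_lit 1030))
 (.leaf (nat_lit 0x1020439953) (nat_lit 1286))
)) (.node (nat_lit 0x1020439d72) (.node (nat_lit 0x1020439d63) (.leaf (nat_lit 0x1020439d62) (nat_lit 1030))
 (.leaf (nat_lit 0x1020439d63) (nat_lit 1286))
) (.node (nat_lit 0x1020439d73) (.leaf (nat_lit 0x1020439d72) (nat_lit 1286))
 (.leaf (nat_lit 0x1020439d73) (nat_lit 1542))
)))))) (.node (nat_lit 0x1020469102) (.node (nat_lit 0x1020458142) (.node (nat_lit 0x1020448902) (.node (nat_lit 0x1020448522) (.node (nat_lit 0x1020448112) (.node (nat_lit 0x1020448103) (.leaf (nat_lit 0x1020448102) (nat_lit 259))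
 (.leaf (nat_lit 0x1020448103) (nat_lit 515))
) (.node (nat_lit 0x1020448113) (.leaf (nat_lit 0x1020448112) (nat_lit 515))
 (.leaf (nat_lit 0x1020448113) (nat_lit 771))
)) (.node (nat_lit 0x1020448532) (.node (nat_lit 0x1020448523) (.leaf (nat_lit 0x1020448522) (nat_lit 516))
 (.leaf (nat_lit 0x1020448523) (nat_lit 772))
) (.node (nat_lit 0x1020448533) (.leaf (nat_lit 0x1020448532) (nat_lit 772))
 (.leaf (nat_lit 0x1020448533) (nat_lit 1028))
))) (.node (nat_lit 0x1020448d22) (.node (nat_lit 0x1020448912) (.node (nat_lit 0x1020448903) (.leaf (nat_lit 0x1020448902) (nat_lit 515))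
 (.leaf (nat_lit 0x1020448903) (nat_lit 771))
) (.node (nat_lit 0x1020448913) (.leaf (nat_lit 0x1020448912) (nat_lit 771))
 (.leaf (nat_lit 0x1020448913) (nat_lit 1027))
)) (.node (nat_lit 0x1020448d32) (.node (nat_lit 0x1020448d23) (.leaf (nat_lit 0x1020448d22) (nat_lit 772))
 (.leaf (nat_lit 0x1020448d23) (nat_lit 1028))
) (.node (nat_lit 0x1020448d33) (.leaf (nat_lit 0x1020448d32) (nat_lit 1028))
 (.leaf (nat_lit 0x1020448d33) (nat_lit 1284))
)))) (.node (nat_lit 0x1020458942) (.node (nat_lit 0x1020458562) (.node (nat_lit 0x1020458152) (.node (nat_lit 0x1020458143) (.leaf (nat_lit 0x1020458142) (nat_lit 517))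
 (.leaf (nat_lit 0x1020458143) (nat_lit 773))
) (.node (nat_lit 0x1020458153) (.leaf (nat_lit 0x1020458152) (nat_lit 773))
 (.leaf (nat_lit 0x1020458153) (nat_lit 1029))
)) (.node (nat_lit 0x1020458572) (.node (nat_lit 0x1020458563) (.leaf (nat_lit 0x1020458562) (nat_lit 773))
 (.leaf (nat_lit 0x1020458563) (nat_lit 1029))
) (.node (nat_lit 0x1020458573) (.leaf (nat_lit 0x1020458572) (nat_lit 1029))
 (.leaf (nat_lit 0x1020458573) (nat_lit 1285))
))) (.node (nat_lit 0x1020458d62) (.node (nat_lit 0x1020458952) (.node (nat_lit 0x1020458943) (.leaf (nat_lit 0x1020458942) (nat_lit 773))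
 (.leaf (nat_lit 0x1020458943) (nat_lit 1029))
) (.node (nat_lit 0x1020458953) (.leaf (nat_lit 0x1020458952) (nat_lit 1029))
 (.leaf (nat_lit 0x1020458953) (nat_lit 1285))
)) (.node (nat_lit 0x1020458d72) (.node (nat_lit 0x1020458d63) (.leaf (nat_lit 0x1020458d62) (nat_lit 1029))
 (.leaf (nat_lit 0x1020458d63) (nat_lit 1285))
) (.node (nat_lit 0x1020458d73) (.leaf (nat_lit 0x1020458d72) (nat_lit 1285))
 (.leaf (nat_lit 0x1020458d73) (nat_lit 1541))
))))) (.node (nat_lit 0x1020479142) (.node (nat_lit 0x1020469902) (.node (nat_lit 0x1020469522) (.node (nat_lit 0x1020469112) (.node (nat_lit 0x1020469103) (.leaf (nat_lit 0x1020469102) (nat_lit 518))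
 (.leaf (nat_lit 0x1020469103) (nat_lit 774))
) (.node (nat_lit 0x1020469113) (.leaf (nat_lit 0x1020469112) (nat_lit 774))
 (.leaf (nat_lit 0x1020469113) (nat_lit 1030))
)) (.node (nat_lit 0x1020469532) (.node (nat_lit 0x1020469523) (.leaf (nat_lit 0x1020469522) (nat_lit 774))
 (.leaf (nat_lit 0x1020469523) (nat_lit 1030))
) (.node (nat_lit 0x1020469533) (.leaf (nat_lit 0x1020469532) (nat_lit 1030))
 (.leaf (nat_lit 0x1020469533) (nat_lit 1286))
))) (.node (nat_lit 0x1020469d22) (.node (nat_lit 0x1020469912) (.node (nat_lit 0x1020469903) (.leaf (nat_lit 0x1020469902) (nat_lit 774))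
 (.leaf (nat_lit 0x1020469903) (nat_lit 1030))
) (.node (nat_lit 0x1020469913) (.leaf (nat_lit 0x1020469912) (nat_lit 1030))
 (.leaf (nat_lit 0x1020469913) (nat_lit 1286))
)) (.node (nat_lit 0x1020469d32) (.node (nat_lit 0x1020469d23) (.leaf (nat_lit 0x1020469d22) (nat_lit 1030))
 (.leaf (nat_lit 0x1020469d23) (nat_lit 1286))
) (.node (nat_lit 0x1020469d33) (.leaf (nat_lit 0x1020469d32) (nat_lit 1286))
 (.leaf (nat_lit 0x1020469d33) (nat_lit 1542))
)))) (.node (nat_lit 0x1020479942) (.node (nat_lit 0x1020479562) (.node (nat_lit 0x1020479152) (.node (nat_lit 0x1020479143) (.leaf (nat_lit 0x1020479142) (nat_lit 774))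
 (.leaf (nat_lit 0x1020479143) (nat_lit 1030))
) (.node (nat_lit 0x1020479153) (.leaf (nat_lit 0x1020479152) (nat_lit 1030))
 (.leaf (nat_lit 0x1020479153) (nat_lit 1286))
)) (.node (nat_lit 0x1020479572) (.node (nat_lit 0x1020479563) (.leaf (nat_lit 0x1020479562) (nat_lit 1030))
 (.leaf (nat_lit 0x1020479563) (nat_lit 1286))
) (.node (nat_lit 0x1020479573) (.leaf (nat_lit 0x1020479572) (nat_lit 1286))
 (.leaf (nat_lit 0x1020479573) (nat_lit 1542))
))) (.node (nat_lit 0x1020479d62) (.node (nat_lit 0x1020479952) (.node (nat_lit 0x1020479943) (.leaf (nat_lit 0x1020479942) (nat_lit 1030))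
 (.leaf (nat_lit 0x1020479943) (nat_lit 1286))
) (.node (nat_lit 0x1020479953) (.leaf (nat_lit 0x1020479952) (nat_lit 1286))
 (.leaf (nat_lit 0x1020479953) (nat_lit 1542))
)) (.node (nat_lit 0x1020479d72) (.node (nat_lit 0x1020479d63) (.leaf (nat_lit 0x1020479d62) (nat_lit 1286))
 (.leaf (nat_lit 0x1020479d63) (nat_lit 1542))
) (.node (nat_lit 0x1020479d73) (.leaf (nat_lit 0x1020479d72) (nat_lit 1542))
 (.leaf (nat_lit 0x1020479d73) (nat_lit 1798))
)))))))

theorem W_ok : genOK A2 [(nat_lit 0x1020408103), (nat_lit 0x1020408112), (nat_lit 0x1020408902), (nat_lit 0x1020448102), (nat_lit 0x1020408522), (nat_lit 0x1020418142), (nat_lit 0x1020429102)] W_t (nat_lit 128) = true := by decide +kernel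

noncomputable def A3_t : ST :=
(.node (nat_lit 0x1020429102) (.node (nat_lit 0x1020418142) (.node (nat_lit 0x1020408522) (.leaf (nat_lit 0x1020408102) (nat_lit 0))
 (.leaf (nat_lit 0x1020408522) (nat_lit 256))
) (.node (nat_lit 0x1020418562) (.leaf (nat_lit 0x1020418142) (nat_lit 257))
 (.leaf (nat_lit 0x1020418562) (nat_lit 513))
)) (.node (nat_lit 0x1020439142) (.node (nat_lit 0x1020429522) (.leaf (nat_lit 0x1020429102) (nat_lit 258))
 (.leaf (nat_lit 0x1020429522) (nat_lit 514))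
) (.node (nat_lit 0x1020439562) (.leaf (nat_lit 0x1020439142) (nat_lit 514))
 (.leaf (nat_lit 0x1020439562) (nat_lit 770))
)))

theorem A3_ok : genOK A2 [(nat_lit 0x1020408522), (nat_lit 0x1020418142), (nat_lit 0x1020429102)] A3_t (nat_lit 8) = true := by decide +kernel

noncomputable def Z3_t : ST :=
(.node (nat_lit 0x1020408902) (.node (nat_lit 0x1020408522) (.node (nat_lit 0x1020408112) (.leaf (nat_lit 0x1020408102) (nat_lit 0))
 (.leaf (nat_lit 0x1020408112) (nat_lit 256))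
) (.node (nat_lit 0x1020408532) (.leaf (nat_lit 0x1020408522) (nat_lit 258))
 (.leaf (nat_lit 0x1020408532) (nat_lit 514))
)) (.node (nat_lit 0x1020408d22) (.node (nat_lit 0x1020408912) (.leaf (nat_lit 0x1020408902) (nat_lit 257))
 (.leaf (nat_lit 0x1020408912) (nat_lit 513))
) (.node (nat_lit 0x1020408d32) (.leaf (nat_lit 0x1020408d22) (nat_lit 514))
 (.leaf (nat_lit 0x1020408d32) (nat_lit 770))
)))

theorem Z3_ok : genOK A2 [(nat_lit 0x1020408112), (nat_lit 0x1020408902), (nat_lit 0x1020408522)] Z3_t (nat_lit 8) = true := by decide +kernel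

noncomputable def W4_t : ST :=
(.node (nat_lit 0x1020408902) (.node (nat_lit 0x1020408522) (.node (nat_lit 0x1020408112) (.node (nat_lit 0x1020408103) (.leaf (nat_lit 0x1020408102) (nat_lit 0))
 (.leaf (nat_lit 0x1020408103) (nat_lit 256))
) (.node (nat_lit 0x1020408113) (.leaf (nat_lit 0x1020408112) (nat_lit 257))
 (.leaf (nat_lit 0x1020408113) (nat_lit 513))
)) (.node (nat_lit 0x1020408532) (.node (nat_lit 0x1020408523) (.leaf (nat_lit 0x1020408522) (nat_lit 259))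
 (.leaf (nat_lit 0x1020408523) (nat_lit 515))
) (.node (nat_lit 0x1020408533) (.leaf (nat_lit 0x1020408532) (nat_lit 515))
 (.leaf (nat_lit 0x1020408533) (nat_lit 771))
))) (.node (nat_lit 0x1020408d22) (.node (nat_lit 0x1020408912) (.node (nat_lit 0x1020408903) (.leaf (nat_lit 0x1020408902) (nat_lit 258))
 (.leaf (nat_lit 0x1020408903) (nat_lit 514))
) (.node (nat_lit 0x1020408913) (.leaf (nat_lit 0x1020408912) (nat_lit 514))
 (.leaf (nat_lit 0x1020408913) (nat_lit 770))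
)) (.node (nat_lit 0x1020408d32) (.node (nat_lit 0x1020408d23) (.leaf (nat_lit 0x1020408d22) (nat_lit 515))
 (.leaf (nat_lit 0x1020408d23) (nat_lit 771))
) (.node (nat_lit 0x1020408d33) (.leaf (nat_lit 0x1020408d32) (nat_lit 771))
 (.leaf (nat_lit 0x1020408d33) (nat_lit 1027))
))))

theorem W4_ok : genOK A2 [(nat_lit 0x1020408103), (nat_lit 0x1020408112), (nat_lit 0x1020408902), (nat_lit 0x1020408522)] W4_t (nat_lit 16) = true := by decide +kernel

noncomputable def ZU_t : ST :=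
(.node (nat_lit 0x1020408522) (.node (nat_lit 0x1020408112) (.leaf (nat_lit 0x1020408102) (nat_lit 0))
 (.leaf (nat_lit 0x1020408112) (nat_lit 256))
) (.node (nat_lit 0x1020408532) (.leaf (nat_lit 0x1020408522) (nat_lit 257))
 (.leaf (nat_lit 0x1020408532) (nat_lit 513))
))

theorem ZU_ok : genOK A2 [(nat_lit 0x1020408112), (nat_lit 0x1020408522)] ZU_t (nat_lit 4) = true := by decide +kernel

noncomputable def V5_t : ST :=
(.node (nat_lit 0x142040810a) (.node (nat_lit 0x1030408106) (.node (nat_lit 0x1020418142) (.node (nat_lit 0x1020408522) (.node (nat_lit 0x1020408112) (.leaf (nat_lit 0x1020408102) (nat_lit 0))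
 (.leaf (nat_lit 0x1020408112) (nat_lit 256))
) (.node (nat_lit 0x1020408532) (.leaf (nat_lit 0x1020408522) (nat_lit 257))
 (.leaf (nat_lit 0x1020408532) (nat_lit 513))
)) (.node (nat_lit 0x1020418562) (.node (nat_lit 0x1020418152) (.leaf (nat_lit 0x1020418142) (nat_lit 258))
 (.leaf (nat_lit 0x1020418152) (nat_lit 514))
) (.node (nat_lit 0x1020418572) (.leaf (nat_lit 0x1020418562) (nat_lit 514))
 (.leaf (nat_lit 0x1020418572) (nat_lit 770))
))) (.node (nat_lit 0x1030418146) (.node (nat_lit 0x1030408526) (.node (nat_lit 0x1030408116) (.leaf (nat_lit 0x1030408106) (nat_lit 260))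
 (.leaf (nat_lit 0x1030408116) (nat_lit 516))
) (.node (nat_lit 0x1030408536) (.leaf (nat_lit 0x1030408526) (nat_lit 772))
 (.leaf (nat_lit 0x1030408536) (nat_lit 516))
)) (.node (nat_lit 0x1030418566) (.node (nat_lit 0x1030418156) (.leaf (nat_lit 0x1030418146) (nat_lit 516))
 (.leaf (nat_lit 0x1030418156) (nat_lit 772))
) (.node (nat_lit 0x1030418576) (.leaf (nat_lit 0x1030418566) (nat_lit 1028))
 (.leaf (nat_lit 0x1030418576) (nat_lit 772))
)))) (.node (nat_lit 0x143040810e) (.node (nat_lit 0x142041814a) (.node (nat_lit 0x142040852a) (.node (nat_lit 0x142040811a) (.leaf (nat_lit 0x142040810a) (nat_lit 259))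
 (.leaf (nat_lit 0x142040811a) (nat_lit 515))
) (.node (nat_lit 0x142040853a) (.leaf (nat_lit 0x142040852a) (nat_lit 515))
 (.leaf (nat_lit 0x142040853a) (nat_lit 771))
)) (.node (nat_lit 0x142041856a) (.node (nat_lit 0x142041815a) (.leaf (nat_lit 0x142041814a) (nat_lit 771))
 (.leaf (nat_lit 0x142041815a) (nat_lit 515))
) (.node (nat_lit 0x142041857a) (.leaf (nat_lit 0x142041856a) (nat_lit 1027))
 (.leaf (nat_lit 0x142041857a) (nat_lit 771))
))) (.node (nat_lit 0x143041814e) (.node (nat_lit 0x143040852e) (.node (nat_lit 0x143040811e) (.leaf (nat_lit 0x143040810e) (nat_lit 516))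
 (.leaf (nat_lit 0x143040811e) (nat_lit 772))
) (.node (nat_lit 0x143040853e) (.leaf (nat_lit 0x143040852e) (nat_lit 1028))
 (.leaf (nat_lit 0x143040853e) (nat_lit 772))
)) (.node (nat_lit 0x143041856e) (.node (nat_lit 0x143041815e) (.leaf (nat_lit 0x143041814e) (nat_lit 1028))
 (.leaf (nat_lit 0x143041815e) (nat_lit 772))
) (.node (nat_lit 0x143041857e) (.leaf (nat_lit 0x143041856e) (nat_lit 1028))
 (.leaf (nat_lit 0x143041857e) (nat_lit 1284))
)))))

theorem V5_ok : genOK A2 [(nat_lit 0x1020408112), (nat_lit 0x1020408522), (nat_lit 0x1020418142), (nat_lit 0x142040810a), (nat_lit 0x1030408106)] V5_t (nat_lit 32) = true := by decide +kernel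

noncomputable def W5_t : ST :=
(.node (nat_lit 0x142040810a) (.node (nat_lit 0x1030408106) (.node (nat_lit 0x1020418142) (.node (nat_lit 0x1020408522) (.node (nat_lit 0x1020408112) (.node (nat_lit 0x1020408103) (.leaf (nat_lit 0x1020408102) (nat_lit 0))
 (.leaf (nat_lit 0x1020408103) (nat_lit 256))
) (.node (nat_lit 0x1020408113) (.leaf (nat_lit 0x1020408112) (nat_lit 257))
 (.leaf (nat_lit 0x1020408113) (nat_lit 513))
)) (.node (nat_lit 0x1020408532) (.node (nat_lit 0x1020408523) (.leaf (nat_lit 0x1020408522) (nat_lit 258))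
 (.leaf (nat_lit 0x1020408523) (nat_lit 514))
) (.node (nat_lit 0x1020408533) (.leaf (nat_lit 0x1020408532) (nat_lit 514))
 (.leaf (nat_lit 0x1020408533) (nat_lit 770))
))) (.node (nat_lit 0x1020418562) (.node (nat_lit 0x1020418152) (.node (nat_lit 0x1020418143) (.leaf (nat_lit 0x1020418142) (nat_lit 259))
 (.leaf (nat_lit 0x1020418143) (nat_lit 515))
) (.node (nat_lit 0x1020418153) (.leaf (nat_lit 0x1020418152) (nat_lit 515))
 (.leaf (nat_lit 0x1020418153) (nat_lit 771))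
)) (.node (nat_lit 0x1020418572) (.node (nat_lit 0x1020418563) (.leaf (nat_lit 0x1020418562) (nat_lit 515))
 (.leaf (nat_lit 0x1020418563) (nat_lit 771))
) (.node (nat_lit 0x1020418573) (.leaf (nat_lit 0x1020418572) (nat_lit 771))
 (.leaf (nat_lit 0x1020418573) (nat_lit 1027))
)))) (.node (nat_lit 0x1030418146) (.node (nat_lit 0x1030408526) (.node (nat_lit 0x1030408116) (.node (nat_lit 0x1030408107) (.leaf (nat_lit 0x1030408106) (nat_lit 261))
 (.leaf (nat_lit 0x1030408107) (nat_lit 517))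
) (.node (nat_lit 0x1030408117) (.leaf (nat_lit 0x1030408116) (nat_lit 517))
 (.leaf (nat_lit 0x1030408117) (nat_lit 773))
)) (.node (nat_lit 0x1030408536) (.node (nat_lit 0x1030408527) (.leaf (nat_lit 0x1030408526) (nat_lit 773))
 (.leaf (nat_lit 0x1030408527) (nat_lit 1029))
) (.node (nat_lit 0x1030408537) (.leaf (nat_lit 0x1030408536) (nat_lit 517))
 (.leaf (nat_lit 0x1030408537) (nat_lit 773))
))) (.node (nat_lit 0x1030418566) (.node (nat_lit 0x1030418156) (.node (nat_lit 0x1030418147) (.leaf (nat_lit 0x1030418146) (nat_lit 517))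
 (.leaf (nat_lit 0x1030418147) (nat_lit 773))
) (.node (nat_lit 0x1030418157) (.leaf (nat_lit 0x1030418156) (nat_lit 773))
 (.leaf (nat_lit 0x1030418157) (nat_lit 1029))
)) (.node (nat_lit 0x1030418576) (.node (nat_lit 0x1030418567) (.leaf (nat_lit 0x1030418566) (nat_lit 1029))
 (.leaf (nat_lit 0x1030418567) (nat_lit 1285))
) (.node (nat_lit 0x1030418577) (.leaf (nat_lit 0x1030418576) (nat_lit 773))
 (.leaf (nat_lit 0x1030418577) (nat_lit 1029))
))))) (.node (nat_lit 0x143040810e) (.node (nat_lit 0x142041814a) (.node (nat_lit 0x142040852a) (.node (nat_lit 0x142040811a) (.node (nat_lit 0x142040810b) (.leaf (nat_lit 0x142040810a) (nat_lit 260))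
 (.leaf (nat_lit 0x142040810b) (nat_lit 516))
) (.node (nat_lit 0x142040811b) (.leaf (nat_lit 0x142040811a) (nat_lit 516))
 (.leaf (nat_lit 0x142040811b) (nat_lit 772))
)) (.node (nat_lit 0x142040853a) (.node (nat_lit 0x142040852b) (.leaf (nat_lit 0x142040852a) (nat_lit 516))
 (.leaf (nat_lit 0x142040852b) (nat_lit 772))
) (.node (nat_lit 0x142040853b) (.leaf (nat_lit 0x142040853a) (nat_lit 772))
 (.leaf (nat_lit 0x142040853b) (nat_lit 1028))
))) (.node (nat_lit 0x142041856a) (.node (nat_lit 0x142041815a) (.node (nat_lit 0x142041814b) (.leaf (nat_lit 0x142041814a) (nat_lit 772))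
 (.leaf (nat_lit 0x142041814b) (nat_lit 1028))
) (.node (nat_lit 0x142041815b) (.leaf (nat_lit 0x142041815a) (nat_lit 516))
 (.leaf (nat_lit 0x142041815b) (nat_lit 772))
)) (.node (nat_lit 0x142041857a) (.node (nat_lit 0x142041856b) (.leaf (nat_lit 0x142041856a) (nat_lit 1028))
 (.leaf (nat_lit 0x142041856b) (nat_lit 1284))
) (.node (nat_lit 0x142041857b) (.leaf (nat_lit 0x142041857a) (nat_lit 772))
 (.leaf (nat_lit 0x142041857b) (nat_lit 1028))
)))) (.node (nat_lit 0x143041814e) (.node (nat_lit 0x143040852e) (.node (nat_lit 0x143040811e) (.node (nat_lit 0x143040810f) (.leaf (nat_lit 0x143040810e) (nat_lit 517))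
 (.leaf (nat_lit 0x143040810f) (nat_lit 773))
) (.node (nat_lit 0x143040811f) (.leaf (nat_lit 0x143040811e) (nat_lit 773))
 (.leaf (nat_lit 0x143040811f) (nat_lit 1029))
)) (.node (nat_lit 0x143040853e) (.node (nat_lit 0x143040852f) (.leaf (nat_lit 0x143040852e) (nat_lit 1029))
 (.leaf (nat_lit 0x143040852f) (nat_lit 1285))
) (.node (nat_lit 0x143040853f) (.leaf (nat_lit 0x143040853e) (nat_lit 773))
 (.leaf (nat_lit 0x143040853f) (nat_lit 1029))
))) (.node (nat_lit 0x143041856e) (.node (nat_lit 0x143041815e) (.node (nat_lit 0x143041814f) (.leaf (nat_lit 0x143041814e) (nat_lit 1029))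
 (.leaf (nat_lit 0x143041814f) (nat_lit 1285))
) (.node (nat_lit 0x143041815f) (.leaf (nat_lit 0x143041815e) (nat_lit 773))
 (.leaf (nat_lit 0x143041815f) (nat_lit 1029))
)) (.node (nat_lit 0x143041857e) (.node (nat_lit 0x143041856f) (.leaf (nat_lit 0x143041856e) (nat_lit 1029))
 (.leaf (nat_lit 0x143041856f) (nat_lit 1285))
) (.node (nat_lit 0x143041857f) (.leaf (nat_lit 0x143041857e) (nat_lit 1285))
 (.leaf (nat_lit 0x143041857f) (nat_lit 1541))
))))))

theorem W5_ok : genOK A2 [(nat_lit 0x1020408103), (nat_lit 0x1020408112), (nat_lit 0x1020408522), (nat_lit 0x1020418142), (nat_lit 0x142040810a), (nat_lit 0x1030408106)] W5_t (nat_lit 64) = true := by decide +kernel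

noncomputable def Q2_t : ST :=
(.node (nat_lit 0x1820408302) (.node (nat_lit 0x142040810a) (.node (nat_lit 0x1020429102) (.node (nat_lit 0x1020418142) (.node (nat_lit 0x1020408902) (.node (nat_lit 0x1020408522) (.node (nat_lit 0x1020408112) (.leaf (nat_lit 0x1020408102) (nat_lit 0))
 (.leaf (nat_lit 0x1020408112) (nat_lit 256))
) (.node (nat_lit 0x1020408532) (.leaf (nat_lit 0x1020408522) (nat_lit 258))
 (.leaf (nat_lit 0x1020408532) (nat_lit 514))
)) (.node (nat_lit 0x1020408d22) (.node (nat_lit 0x1020408912) (.leaf (nat_lit 0x1020408902) (nat_lit 257))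
 (.leaf (nat_lit 0x1020408912) (nat_lit 513))
) (.node (nat_lit 0x1020408d32) (.leaf (nat_lit 0x1020408d22) (nat_lit 514))
 (.leaf (nat_lit 0x1020408d32) (nat_lit 770))
))) (.node (nat_lit 0x1020418942) (.node (nat_lit 0x1020418562) (.node (nat_lit 0x1020418152) (.leaf (nat_lit 0x1020418142) (nat_lit 259))
 (.leaf (nat_lit 0x1020418152) (nat_lit 515))
) (.node (nat_lit 0x1020418572) (.leaf (nat_lit 0x1020418562) (nat_lit 515))
 (.leaf (nat_lit 0x1020418572) (nat_lit 771))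
)) (.node (nat_lit 0x1020418d62) (.node (nat_lit 0x1020418952) (.leaf (nat_lit 0x1020418942) (nat_lit 515))
 (.leaf (nat_lit 0x1020418952) (nat_lit 771))
) (.node (nat_lit 0x1020418d72) (.leaf (nat_lit 0x1020418d62) (nat_lit 771))
 (.leaf (nat_lit 0x1020418d72) (nat_lit 1027))
)))) (.node (nat_lit 0x1020439142) (.node (nat_lit 0x1020429902) (.node (nat_lit 0x1020429522) (.node (nat_lit 0x1020429112) (.leaf (nat_lit 0x1020429102) (nat_lit 260))
 (.leaf (nat_lit 0x1020429112) (nat_lit 516))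
) (.node (nat_lit 0x1020429532) (.leaf (nat_lit 0x1020429522) (nat_lit 516))
 (.leaf (nat_lit 0x1020429532) (nat_lit 772))
)) (.node (nat_lit 0x1020429d22) (.node (nat_lit 0x1020429912) (.leaf (nat_lit 0x1020429902) (nat_lit 516))
 (.leaf (nat_lit 0x1020429912) (nat_lit 772))
) (.node (nat_lit 0x1020429d32) (.leaf (nat_lit 0x1020429d22) (nat_lit 772))
 (.leaf (nat_lit 0x1020429d32) (nat_lit 1028))
))) (.node (nat_lit 0x1020439942) (.node (nat_lit 0x1020439562) (.node (nat_lit 0x1020439152) (.leaf (nat_lit 0x1020439142) (nat_lit 516))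
 (.leaf (nat_lit 0x1020439152) (nat_lit 772))
) (.node (nat_lit 0x1020439572) (.leaf (nat_lit 0x1020439562) (nat_lit 772))
 (.leaf (nat_lit 0x1020439572) (nat_lit 1028))
)) (.node (nat_lit 0x1020439d62) (.node (nat_lit 0x1020439952) (.leaf (nat_lit 0x1020439942) (nat_lit 772))
 (.leaf (nat_lit 0x1020439952) (nat_lit 1028))
) (.node (nat_lit 0x1020439d72) (.leaf (nat_lit 0x1020439d62) (nat_lit 1028))
 (.leaf (nat_lit 0x1020439d72) (nat_lit 1284))
))))) (.node (nat_lit 0x142042912a) (.node (nat_lit 0x142041814a) (.node (nat_lit 0x142040890a) (.node (nat_lit 0x142040852a) (.node (nat_lit 0x142040811a) (.leaf (nat_lit 0x142040810a) (nat_lit 261))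
 (.leaf (nat_lit 0x142040811a) (nat_lit 517))
) (.node (nat_lit 0x142040853a) (.leaf (nat_lit 0x142040852a) (nat_lit 517))
 (.leaf (nat_lit 0x142040853a) (nat_lit 773))
)) (.node (nat_lit 0x1420408d2a) (.node (nat_lit 0x142040891a) (.leaf (nat_lit 0x142040890a) (nat_lit 517))
 (.leaf (nat_lit 0x142040891a) (nat_lit 773))
) (.node (nat_lit 0x1420408d3a) (.leaf (nat_lit 0x1420408d2a) (nat_lit 773))
 (.leaf (nat_lit 0x1420408d3a) (nat_lit 1029))
))) (.node (nat_lit 0x142041894a) (.node (nat_lit 0x142041856a) (.node (nat_lit 0x142041815a) (.leaf (nat_lit 0x142041814a) (nat_lit 773))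
 (.leaf (nat_lit 0x142041815a) (nat_lit 517))
) (.node (nat_lit 0x142041857a) (.leaf (nat_lit 0x142041856a) (nat_lit 1029))
 (.leaf (nat_lit 0x142041857a) (nat_lit 773))
)) (.node (nat_lit 0x1420418d6a) (.node (nat_lit 0x142041895a) (.leaf (nat_lit 0x142041894a) (nat_lit 1029))
 (.leaf (nat_lit 0x142041895a) (nat_lit 773))
) (.node (nat_lit 0x1420418d7a) (.leaf (nat_lit 0x1420418d6a) (nat_lit 1285))
 (.leaf (nat_lit 0x1420418d7a) (nat_lit 1029))
)))) (.node (nat_lit 0x142043916a) (.node (nat_lit 0x142042992a) (.node (nat_lit 0x142042950a) (.node (nat_lit 0x142042913a) (.leaf (nat_lit 0x142042912a) (nat_lit 517))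
 (.leaf (nat_lit 0x142042913a) (nat_lit 773))
) (.node (nat_lit 0x142042951a) (.leaf (nat_lit 0x142042950a) (nat_lit 516))
 (.leaf (nat_lit 0x142042951a) (nat_lit 772))
)) (.node (nat_lit 0x1420429d0a) (.node (nat_lit 0x142042993a) (.leaf (nat_lit 0x142042992a) (nat_lit 773))
 (.leaf (nat_lit 0x142042993a) (nat_lit 1029))
) (.node (nat_lit 0x1420429d1a) (.leaf (nat_lit 0x1420429d0a) (nat_lit 772))
 (.leaf (nat_lit 0x1420429d1a) (nat_lit 1028))
))) (.node (nat_lit 0x142043996a) (.node (nat_lit 0x142043954a) (.node (nat_lit 0x142043917a) (.leaf (nat_lit 0x142043916a) (nat_lit 1029))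
 (.leaf (nat_lit 0x142043917a) (nat_lit 773))
) (.node (nat_lit 0x142043955a) (.leaf (nat_lit 0x142043954a) (nat_lit 1028))
 (.leaf (nat_lit 0x142043955a) (nat_lit 772))
)) (.node (nat_lit 0x1420439d4a) (.node (nat_lit 0x142043997a) (.leaf (nat_lit 0x142043996a) (nat_lit 1285))
 (.leaf (nat_lit 0x142043997a) (nat_lit 1029))
) (.node (nat_lit 0x1420439d5a) (.leaf (nat_lit 0x1420439d4a) (nat_lit 1284))
 (.leaf (nat_lit 0x1420439d5a) (nat_lit 1028))
)))))) (.node (nat_lit 0x1c2040830a) (.node (nat_lit 0x1820429302) (.node (nat_lit 0x1820418362) (.node (nat_lit 0x1820408b02) (.node (nat_lit 0x1820408722) (.node (nat_lit 0x1820408312) (.leaf (nat_lit 0x1820408302) (nat_lit 262))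
 (.leaf (nat_lit 0x1820408312) (nat_lit 518))
) (.node (nat_lit 0x1820408732) (.leaf (nat_lit 0x1820408722) (nat_lit 518))
 (.leaf (nat_lit 0x1820408732) (nat_lit 774))
)) (.node (nat_lit 0x1820408f22) (.node (nat_lit 0x1820408b12) (.leaf (nat_lit 0x1820408b02) (nat_lit 518))
 (.leaf (nat_lit 0x1820408b12) (nat_lit 774))
) (.node (nat_lit 0x1820408f32) (.leaf (nat_lit 0x1820408f22) (nat_lit 774))
 (.leaf (nat_lit 0x1820408f32) (nat_lit 1030))
))) (.node (nat_lit 0x1820418b62) (.node (nat_lit 0x1820418742) (.node (nat_lit 0x1820418372) (.leaf (nat_lit 0x1820418362) (nat_lit 515))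
 (.leaf (nat_lit 0x1820418372) (nat_lit 771))
) (.node (nat_lit 0x1820418752) (.leaf (nat_lit 0x1820418742) (nat_lit 518))
 (.leaf (nat_lit 0x1820418752) (nat_lit 774))
)) (.node (nat_lit 0x1820418f42) (.node (nat_lit 0x1820418b72) (.leaf (nat_lit 0x1820418b62) (nat_lit 771))
 (.leaf (nat_lit 0x1820418b72) (nat_lit 1027))
) (.node (nat_lit 0x1820418f52) (.leaf (nat_lit 0x1820418f42) (nat_lit 774))
 (.leaf (nat_lit 0x1820418f52) (nat_lit 1030))
)))) (.node (nat_lit 0x1820439362) (.node (nat_lit 0x1820429b02) (.node (nat_lit 0x1820429722) (.node (nat_lit 0x1820429312) (.leaf (nat_lit 0x1820429302) (nat_lit 774))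
 (.leaf (nat_lit 0x1820429312) (nat_lit 1030))
) (.node (nat_lit 0x1820429732) (.leaf (nat_lit 0x1820429722) (nat_lit 1030))
 (.leaf (nat_lit 0x1820429732) (nat_lit 1286))
)) (.node (nat_lit 0x1820429f22) (.node (nat_lit 0x1820429b12) (.leaf (nat_lit 0x1820429b02) (nat_lit 518))
 (.leaf (nat_lit 0x1820429b12) (nat_lit 774))
) (.node (nat_lit 0x1820429f32) (.leaf (nat_lit 0x1820429f22) (nat_lit 774))
 (.leaf (nat_lit 0x1820429f32) (nat_lit 1030))
))) (.node (nat_lit 0x1820439b62) (.node (nat_lit 0x1820439742) (.node (nat_lit 0x1820439372) (.leaf (nat_lit 0x1820439362) (nat_lit 1027))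
 (.leaf (nat_lit 0x1820439372) (nat_lit 1283))
) (.node (nat_lit 0x1820439752) (.leaf (nat_lit 0x1820439742) (nat_lit 1030))
 (.leaf (nat_lit 0x1820439752) (nat_lit 1286))
)) (.node (nat_lit 0x1820439f42) (.node (nat_lit 0x1820439b72) (.leaf (nat_lit 0x1820439b62) (nat_lit 771))
 (.leaf (nat_lit 0x1820439b72) (nat_lit 1027))
) (.node (nat_lit 0x1820439f52) (.leaf (nat_lit 0x1820439f42) (nat_lit 774))
 (.leaf (nat_lit 0x1820439f52) (nat_lit 1030))
))))) (.node (nat_lit 0x1c2042932a) (.node (nat_lit 0x1c2041836a) (.node (nat_lit 0x1c20408b0a) (.node (nat_lit 0x1c2040872a) (.node (nat_lit 0x1c2040831a) (.leaf (nat_lit 0x1c2040830a) (nat_lit 518))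
 (.leaf (nat_lit 0x1c2040831a) (nat_lit 774))
) (.node (nat_lit 0x1c2040873a) (.leaf (nat_lit 0x1c2040872a) (nat_lit 774))
 (.leaf (nat_lit 0x1c2040873a) (nat_lit 1030))
)) (.node (nat_lit 0x1c20408f2a) (.node (nat_lit 0x1c20408b1a) (.leaf (nat_lit 0x1c20408b0a) (nat_lit 774))
 (.leaf (nat_lit 0x1c20408b1a) (nat_lit 1030))
) (.node (nat_lit 0x1c20408f3a) (.leaf (nat_lit 0x1c20408f2a) (nat_lit 1030))
 (.leaf (nat_lit 0x1c20408f3a) (nat_lit 1286))
))) (.node (nat_lit 0x1c20418b6a) (.node (nat_lit 0x1c2041874a) (.node (nat_lit 0x1c2041837a) (.leaf (nat_lit 0x1c2041836a) (nat_lit 1027))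
 (.leaf (nat_lit 0x1c2041837a) (nat_lit 771))
) (.node (nat_lit 0x1c2041875a) (.leaf (nat_lit 0x1c2041874a) (nat_lit 1030))
 (.leaf (nat_lit 0x1c2041875a) (nat_lit 774))
)) (.node (nat_lit 0x1c20418f4a) (.node (nat_lit 0x1c20418b7a) (.leaf (nat_lit 0x1c20418b6a) (nat_lit 1283))
 (.leaf (nat_lit 0x1c20418b7a) (nat_lit 1027))
) (.node (nat_lit 0x1c20418f5a) (.leaf (nat_lit 0x1c20418f4a) (nat_lit 1286))
 (.leaf (nat_lit 0x1c20418f5a) (nat_lit 1030))
)))) (.node (nat_lit 0x1c2043934a) (.node (nat_lit 0x1c20429b2a) (.node (nat_lit 0x1c2042970a) (.node (nat_lit 0x1c2042933a) (.leaf (nat_lit 0x1c2042932a) (nat_lit 1030))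
 (.leaf (nat_lit 0x1c2042933a) (nat_lit 1286))
) (.node (nat_lit 0x1c2042971a) (.leaf (nat_lit 0x1c2042970a) (nat_lit 1030))
 (.leaf (nat_lit 0x1c2042971a) (nat_lit 1286))
)) (.node (nat_lit 0x1c20429f0a) (.node (nat_lit 0x1c20429b3a) (.leaf (nat_lit 0x1c20429b2a) (nat_lit 774))
 (.leaf (nat_lit 0x1c20429b3a) (nat_lit 1030))
) (.node (nat_lit 0x1c20429f1a) (.leaf (nat_lit 0x1c20429f0a) (nat_lit 774))
 (.leaf (nat_lit 0x1c20429f1a) (nat_lit 1030))
))) (.node (nat_lit 0x1c20439b4a) (.node (nat_lit 0x1c2043976a) (.node (nat_lit 0x1c2043935a) (.leaf (nat_lit 0x1c2043934a) (nat_lit 1542))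
 (.leaf (nat_lit 0x1c2043935a) (nat_lit 1286))
) (.node (nat_lit 0x1c2043977a) (.leaf (nat_lit 0x1c2043976a) (nat_lit 1542))
 (.leaf (nat_lit 0x1c2043977a) (nat_lit 1286))
)) (.node (nat_lit 0x1c20439f6a) (.node (nat_lit 0x1c20439b5a) (.leaf (nat_lit 0x1c20439b4a) (nat_lit 1286))
 (.leaf (nat_lit 0x1c20439b5a) (nat_lit 1030))
) (.node (nat_lit 0x1c20439f7a) (.leaf (nat_lit 0x1c20439f6a) (nat_lit 1286))
 (.leaf (nat_lit 0x1c20439f7a) (nat_lit 1030))
)))))))

theorem Q2_ok : genOK A2 [(nat_lit 0x1020408112), (nat_lit 0x1020408902), (nat_lit 0x1020408522), (nat_lit 0x1020418142), (nat_lit 0x1020429102), (nat_lit 0x142040810a), (nat_lit 0x1820408302)] Q2_t (nat_lit 128) = true := by decide +kernel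

noncomputable def C2_t : ST :=
(.node (nat_lit 0x142040810a) (.node (nat_lit 0xe20441142) (.node (nat_lit 0x620460362) (.node (nat_lit 0x22047030a) (.node (nat_lit 0x22045810a) (.node (nat_lit 0x220448902) (.node (nat_lit 0x220440d22) (.node (nat_lit 0x220440532) (.node (nat_lit 0x220440112) (.leaf (nat_lit 0x220440102) (nat_lit 774))
 (.node (nat_lit 0x220440522) (.leaf (nat_lit 0x220440112) (nat_lit 1030))
 (.leaf (nat_lit 0x220440522) (nat_lit 1798))
)) (.node (nat_lit 0x220440902) (.leaf (nat_lit 0x220440532) (nat_lit 2054))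
 (.node (nat_lit 0x220440912) (.leaf (nat_lit 0x220440902) (nat_lit 1030))
 (.leaf (nat_lit 0x220440912) (nat_lit 1286))
))) (.node (nat_lit 0x220448112) (.node (nat_lit 0x220440d32) (.leaf (nat_lit 0x220440d22) (nat_lit 2054))
 (.node (nat_lit 0x220448102) (.leaf (nat_lit 0x220440d32) (nat_lit 2310))
 (.leaf (nat_lit 0x220448102) (nat_lit 519))
)) (.node (nat_lit 0x220448522) (.leaf (nat_lit 0x220448112) (nat_lit 775))
 (.node (nat_lit 0x220448532) (.leaf (nat_lit 0x220448522) (nat_lit 1543))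
 (.leaf (nat_lit 0x220448532) (nat_lit 1799))
)))) (.node (nat_lit 0x22045052a) (.node (nat_lit 0x220448d32) (.node (nat_lit 0x220448912) (.leaf (nat_lit 0x220448902) (nat_lit 775))
 (.node (nat_lit 0x220448d22) (.leaf (nat_lit 0x220448912) (nat_lit 1031))
 (.leaf (nat_lit 0x220448d22) (nat_lit 1799))
)) (.node (nat_lit 0x22045010a) (.leaf (nat_lit 0x220448d32) (nat_lit 2055))
 (.node (nat_lit 0x22045011a) (.leaf (nat_lit 0x22045010a) (nat_lit 1030))
 (.leaf (nat_lit 0x22045011a) (nat_lit 1286))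
))) (.node (nat_lit 0x22045091a) (.node (nat_lit 0x22045053a) (.leaf (nat_lit 0x22045052a) (nat_lit 1542))
 (.node (nat_lit 0x22045090a) (.leaf (nat_lit 0x22045053a) (nat_lit 1798))
 (.leaf (nat_lit 0x22045090a) (nat_lit 1286))
)) (.node (nat_lit 0x220450d2a) (.leaf (nat_lit 0x22045091a) (nat_lit 1542))
 (.node (nat_lit 0x220450d3a) (.leaf (nat_lit 0x220450d2a) (nat_lit 1798))
 (.leaf (nat_lit 0x220450d3a) (nat_lit 2054))
))))) (.node (nat_lit 0x220460b02) (.node (nat_lit 0x220458d2a) (.node (nat_lit 0x22045853a) (.node (nat_lit 0x22045811a) (.leaf (nat_lit 0x22045810a) (nat_lit 775))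
 (.node (nat_lit 0x22045852a) (.leaf (nat_lit 0x22045811a) (nat_lit 1031))
 (.leaf (nat_lit 0x22045852a) (nat_lit 1287))
)) (.node (nat_lit 0x22045890a) (.leaf (nat_lit 0x22045853a) (nat_lit 1543))
 (.node (nat_lit 0x22045891a) (.leaf (nat_lit 0x22045890a) (nat_lit 1031))
 (.leaf (nat_lit 0x22045891a) (nat_lit 1287))
))) (.node (nat_lit 0x220460312) (.node (nat_lit 0x220458d3a) (.leaf (nat_lit 0x220458d2a) (nat_lit 1543))
 (.node (nat_lit 0x220460302) (.leaf (nat_lit 0x220458d3a) (nat_lit 1799))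
 (.leaf (nat_lit 0x220460302) (nat_lit 1030))
)) (.node (nat_lit 0x220460722) (.leaf (nat_lit 0x220460312) (nat_lit 1286))
 (.node (nat_lit 0x220460732) (.leaf (nat_lit 0x220460722) (nat_lit 1542))
 (.leaf (nat_lit 0x220460732) (nat_lit 1798))
)))) (.node (nat_lit 0x220468722) (.node (nat_lit 0x220460f32) (.node (nat_lit 0x220460b12) (.leaf (nat_lit 0x220460b02) (nat_lit 1286))
 (.node (nat_lit 0x220460f22) (.leaf (nat_lit 0x220460b12) (nat_lit 1542))
 (.leaf (nat_lit 0x220460f22) (nat_lit 1798))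
)) (.node (nat_lit 0x220468302) (.leaf (nat_lit 0x220460f32) (nat_lit 2054))
 (.node (nat_lit 0x220468312) (.leaf (nat_lit 0x220468302) (nat_lit 775))
 (.leaf (nat_lit 0x220468312) (nat_lit 1031))
))) (.node (nat_lit 0x220468b12) (.node (nat_lit 0x220468732) (.leaf (nat_lit 0x220468722) (nat_lit 1287))
 (.node (nat_lit 0x220468b02) (.leaf (nat_lit 0x220468732) (nat_lit 1543))
 (.leaf (nat_lit 0x220468b02) (nat_lit 1031))
)) (.node (nat_lit 0x220468f22) (.leaf (nat_lit 0x220468b12) (nat_lit 1287))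
 (.node (nat_lit 0x220468f32) (.leaf (nat_lit 0x220468f22) (nat_lit 1543))
 (.leaf (nat_lit 0x220468f32) (nat_lit 1799))
)))))) (.node (nat_lit 0x62044814a) (.node (nat_lit 0x220478b0a) (.node (nat_lit 0x220470f2a) (.node (nat_lit 0x22047073a) (.node (nat_lit 0x22047031a) (.leaf (nat_lit 0x22047030a) (nat_lit 1286))
 (.node (nat_lit 0x22047072a) (.leaf (nat_lit 0x22047031a) (nat_lit 1542))
 (.leaf (nat_lit 0x22047072a) (nat_lit 1798))
)) (.node (nat_lit 0x220470b0a) (.leaf (nat_lit 0x22047073a) (nat_lit 1542))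
 (.node (nat_lit 0x220470b1a) (.leaf (nat_lit 0x220470b0a) (nat_lit 1542))
 (.leaf (nat_lit 0x220470b1a) (nat_lit 1798))
))) (.node (nat_lit 0x22047831a) (.node (nat_lit 0x220470f3a) (.leaf (nat_lit 0x220470f2a) (nat_lit 1542))
 (.node (nat_lit 0x22047830a) (.leaf (nat_lit 0x220470f3a) (nat_lit 1798))
 (.leaf (nat_lit 0x22047830a) (nat_lit 1031))
)) (.node (nat_lit 0x22047872a) (.leaf (nat_lit 0x22047831a) (nat_lit 1287))
 (.node (nat_lit 0x22047873a) (.leaf (nat_lit 0x22047872a) (nat_lit 1543))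
 (.leaf (nat_lit 0x22047873a) (nat_lit 1287))
)))) (.node (nat_lit 0x620440562) (.node (nat_lit 0x220478f3a) (.node (nat_lit 0x220478b1a) (.leaf (nat_lit 0x220478b0a) (nat_lit 1287))
 (.node (nat_lit 0x220478f2a) (.leaf (nat_lit 0x220478b1a) (nat_lit 1543))
 (.leaf (nat_lit 0x220478f2a) (nat_lit 1287))
)) (.node (nat_lit 0x620440142) (.leaf (nat_lit 0x220478f3a) (nat_lit 1543))
 (.node (nat_lit 0x620440152) (.leaf (nat_lit 0x620440142) (nat_lit 1030))
 (.leaf (nat_lit 0x620440152) (nat_lit 1286))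
))) (.node (nat_lit 0x620440952) (.node (nat_lit 0x620440572) (.leaf (nat_lit 0x620440562) (nat_lit 1542))
 (.node (nat_lit 0x620440942) (.leaf (nat_lit 0x620440572) (nat_lit 1798))
 (.leaf (nat_lit 0x620440942) (nat_lit 1286))
)) (.node (nat_lit 0x620440d62) (.leaf (nat_lit 0x620440952) (nat_lit 1542))
 (.node (nat_lit 0x620440d72) (.leaf (nat_lit 0x620440d62) (nat_lit 1798))
 (.leaf (nat_lit 0x620440d72) (nat_lit 2054))
))))) (.node (nat_lit 0x62045094a) (.node (nat_lit 0x620448d6a) (.node (nat_lit 0x62044857a) (.node (nat_lit 0x62044815a) (.leaf (nat_lit 0x62044814a) (nat_lit 775))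
 (.node (nat_lit 0x62044856a) (.leaf (nat_lit 0x62044815a) (nat_lit 1031))
 (.leaf (nat_lit 0x62044856a) (nat_lit 1287))
)) (.node (nat_lit 0x62044894a) (.leaf (nat_lit 0x62044857a) (nat_lit 1543))
 (.node (nat_lit 0x62044895a) (.leaf (nat_lit 0x62044894a) (nat_lit 1031))
 (.leaf (nat_lit 0x62044895a) (nat_lit 1287))
))) (.node (nat_lit 0x62045015a) (.node (nat_lit 0x620448d7a) (.leaf (nat_lit 0x620448d6a) (nat_lit 1543))
 (.node (nat_lit 0x62045014a) (.leaf (nat_lit 0x620448d7a) (nat_lit 1799))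
 (.leaf (nat_lit 0x62045014a) (nat_lit 1030))
)) (.node (nat_lit 0x62045056a) (.leaf (nat_lit 0x62045015a) (nat_lit 1286))
 (.node (nat_lit 0x62045057a) (.leaf (nat_lit 0x62045056a) (nat_lit 1542))
 (.leaf (nat_lit 0x62045057a) (nat_lit 1798))
)))) (.node (nat_lit 0x620458562) (.node (nat_lit 0x620450d7a) (.node (nat_lit 0x62045095a) (.leaf (nat_lit 0x62045094a) (nat_lit 1286))
 (.node (nat_lit 0x620450d6a) (.leaf (nat_lit 0x62045095a) (nat_lit 1542))
 (.leaf (nat_lit 0x620450d6a) (nat_lit 1798))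
)) (.node (nat_lit 0x620458142) (.leaf (nat_lit 0x620450d7a) (nat_lit 2054))
 (.node (nat_lit 0x620458152) (.leaf (nat_lit 0x620458142) (nat_lit 775))
 (.leaf (nat_lit 0x620458152) (nat_lit 1031))
))) (.node (nat_lit 0x620458952) (.node (nat_lit 0x620458572) (.leaf (nat_lit 0x620458562) (nat_lit 1287))
 (.node (nat_lit 0x620458942) (.leaf (nat_lit 0x620458572) (nat_lit 1543))
 (.leaf (nat_lit 0x620458942) (nat_lit 1031))
)) (.node (nat_lit 0x620458d62) (.leaf (nat_lit 0x620458952) (nat_lit 1287))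
 (.node (nat_lit 0x620458d72) (.leaf (nat_lit 0x620458d62) (nat_lit 1543))
 (.leaf (nat_lit 0x620458d72) (nat_lit 1799))
))))))) (.node (nat_lit 0xa2045112a) (.node (nat_lit 0x620478362) (.node (nat_lit 0x620468b6a) (.node (nat_lit 0x620460f42) (.node (nat_lit 0x620460752) (.node (nat_lit 0x620460372) (.leaf (nat_lit 0x620460362) (nat_lit 1286))
 (.node (nat_lit 0x620460742) (.leaf (nat_lit 0x620460372) (nat_lit 1542))
 (.leaf (nat_lit 0x620460742) (nat_lit 1286))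
)) (.node (nat_lit 0x620460b62) (.leaf (nat_lit 0x620460752) (nat_lit 1542))
 (.node (nat_lit 0x620460b72) (.leaf (nat_lit 0x620460b62) (nat_lit 1542))
 (.leaf (nat_lit 0x620460b72) (nat_lit 1798))
))) (.node (nat_lit 0x62046837a) (.node (nat_lit 0x620460f52) (.leaf (nat_lit 0x620460f42) (nat_lit 1542))
 (.node (nat_lit 0x62046836a) (.leaf (nat_lit 0x620460f52) (nat_lit 1798))
 (.leaf (nat_lit 0x62046836a) (nat_lit 1031))
)) (.node (nat_lit 0x62046874a) (.leaf (nat_lit 0x62046837a) (nat_lit 1287))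
 (.node (nat_lit 0x62046875a) (.leaf (nat_lit 0x62046874a) (nat_lit 1027))
 (.leaf (nat_lit 0x62046875a) (nat_lit 1283))
)))) (.node (nat_lit 0x62047074a) (.node (nat_lit 0x620468f5a) (.node (nat_lit 0x620468b7a) (.leaf (nat_lit 0x620468b6a) (nat_lit 1287))
 (.node (nat_lit 0x620468f4a) (.leaf (nat_lit 0x620468b7a) (nat_lit 1543))
 (.leaf (nat_lit 0x620468f4a) (nat_lit 1283))
)) (.node (nat_lit 0x62047036a) (.leaf (nat_lit 0x620468f5a) (nat_lit 1539))
 (.node (nat_lit 0x62047037a) (.leaf (nat_lit 0x62047036a) (nat_lit 1286))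
 (.leaf (nat_lit 0x62047037a) (nat_lit 1542))
))) (.node (nat_lit 0x620470b7a) (.node (nat_lit 0x62047075a) (.leaf (nat_lit 0x62047074a) (nat_lit 1286))
 (.node (nat_lit 0x620470b6a) (.leaf (nat_lit 0x62047075a) (nat_lit 1542))
 (.leaf (nat_lit 0x620470b6a) (nat_lit 1542))
)) (.node (nat_lit 0x620470f4a) (.leaf (nat_lit 0x620470b7a) (nat_lit 1798))
 (.node (nat_lit 0x620470f5a) (.leaf (nat_lit 0x620470f4a) (nat_lit 1542))
 (.leaf (nat_lit 0x620470f5a) (nat_lit 1798))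
))))) (.node (nat_lit 0xa20441902) (.node (nat_lit 0x620478f42) (.node (nat_lit 0x620478752) (.node (nat_lit 0x620478372) (.leaf (nat_lit 0x620478362) (nat_lit 1031))
 (.node (nat_lit 0x620478742) (.leaf (nat_lit 0x620478372) (nat_lit 1287))
 (.leaf (nat_lit 0x620478742) (nat_lit 1031))
)) (.node (nat_lit 0x620478b62) (.leaf (nat_lit 0x620478752) (nat_lit 1287))
 (.node (nat_lit 0x620478b72) (.leaf (nat_lit 0x620478b62) (nat_lit 1287))
 (.leaf (nat_lit 0x620478b72) (nat_lit 1543))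
))) (.node (nat_lit 0xa20441112) (.node (nat_lit 0x620478f52) (.leaf (nat_lit 0x620478f42) (nat_lit 1287))
 (.node (nat_lit 0xa20441102) (.leaf (nat_lit 0x620478f52) (nat_lit 1543))
 (.leaf (nat_lit 0xa20441102) (nat_lit 1030))
)) (.node (nat_lit 0xa20441522) (.leaf (nat_lit 0xa20441112) (nat_lit 1286))
 (.node (nat_lit 0xa20441532) (.leaf (nat_lit 0xa20441522) (nat_lit 1542))
 (.leaf (nat_lit 0xa20441532) (nat_lit 1798))
)))) (.node (nat_lit 0xa20449722) (.node (nat_lit 0xa20441d32) (.node (nat_lit 0xa20441912) (.leaf (nat_lit 0xa20441902) (nat_lit 1286))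
 (.node (nat_lit 0xa20441d22) (.leaf (nat_lit 0xa20441912) (nat_lit 1542))
 (.leaf (nat_lit 0xa20441d22) (nat_lit 1798))
)) (.node (nat_lit 0xa20449302) (.leaf (nat_lit 0xa20441d32) (nat_lit 2054))
 (.node (nat_lit 0xa20449312) (.leaf (nat_lit 0xa20449302) (nat_lit 775))
 (.leaf (nat_lit 0xa20449312) (nat_lit 1031))
))) (.node (nat_lit 0xa20449b12) (.node (nat_lit 0xa20449732) (.leaf (nat_lit 0xa20449722) (nat_lit 1287))
 (.node (nat_lit 0xa20449b02) (.leaf (nat_lit 0xa20449732) (nat_lit 1543))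
 (.leaf (nat_lit 0xa20449b02) (nat_lit 1031))
)) (.node (nat_lit 0xa20449f22) (.leaf (nat_lit 0xa20449b12) (nat_lit 1287))
 (.node (nat_lit 0xa20449f32) (.leaf (nat_lit 0xa20449f22) (nat_lit 1543))
 (.leaf (nat_lit 0xa20449f32) (nat_lit 1799))
)))))) (.node (nat_lit 0xa20469102) (.node (nat_lit 0xa20459b2a) (.node (nat_lit 0xa20451d0a) (.node (nat_lit 0xa2045151a) (.node (nat_lit 0xa2045113a) (.leaf (nat_lit 0xa2045112a) (nat_lit 1286))
 (.node (nat_lit 0xa2045150a) (.leaf (nat_lit 0xa2045113a) (nat_lit 1542))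
 (.leaf (nat_lit 0xa2045150a) (nat_lit 1286))
)) (.node (nat_lit 0xa2045192a) (.leaf (nat_lit 0xa2045151a) (nat_lit 1542))
 (.node (nat_lit 0xa2045193a) (.leaf (nat_lit 0xa2045192a) (nat_lit 1542))
 (.leaf (nat_lit 0xa2045193a) (nat_lit 1798))
))) (.node (nat_lit 0xa2045933a) (.node (nat_lit 0xa20451d1a) (.leaf (nat_lit 0xa20451d0a) (nat_lit 1542))
 (.node (nat_lit 0xa2045932a) (.leaf (nat_lit 0xa20451d1a) (nat_lit 1798))
 (.leaf (nat_lit 0xa2045932a) (nat_lit 1026))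
)) (.node (nat_lit 0xa2045970a) (.leaf (nat_lit 0xa2045933a) (nat_lit 1282))
 (.node (nat_lit 0xa2045971a) (.leaf (nat_lit 0xa2045970a) (nat_lit 1031))
 (.leaf (nat_lit 0xa2045971a) (nat_lit 1287))
)))) (.node (nat_lit 0xa20461722) (.node (nat_lit 0xa20459f1a) (.node (nat_lit 0xa20459b3a) (.leaf (nat_lit 0xa20459b2a) (nat_lit 1282))
 (.node (nat_lit 0xa20459f0a) (.leaf (nat_lit 0xa20459b3a) (nat_lit 1538))
 (.leaf (nat_lit 0xa20459f0a) (nat_lit 1287))
)) (.node (nat_lit 0xa20461302) (.leaf (nat_lit 0xa20459f1a) (nat_lit 1543))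
 (.node (nat_lit 0xa20461312) (.leaf (nat_lit 0xa20461302) (nat_lit 1030))
 (.leaf (nat_lit 0xa20461312) (nat_lit 1286))
))) (.node (nat_lit 0xa20461b12) (.node (nat_lit 0xa20461732) (.leaf (nat_lit 0xa20461722) (nat_lit 1542))
 (.node (nat_lit 0xa20461b02) (.leaf (nat_lit 0xa20461732) (nat_lit 1798))
 (.leaf (nat_lit 0xa20461b02) (nat_lit 1286))
)) (.node (nat_lit 0xa20461f22) (.leaf (nat_lit 0xa20461b12) (nat_lit 1542))
 (.node (nat_lit 0xa20461f32) (.leaf (nat_lit 0xa20461f22) (nat_lit 1798))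
 (.leaf (nat_lit 0xa20461f32) (nat_lit 2054))
))))) (.node (nat_lit 0xa20471b2a) (.node (nat_lit 0xa20469d22) (.node (nat_lit 0xa20469532) (.node (nat_lit 0xa20469112) (.leaf (nat_lit 0xa20469102) (nat_lit 775))
 (.node (nat_lit 0xa20469522) (.leaf (nat_lit 0xa20469112) (nat_lit 1031))
 (.leaf (nat_lit 0xa20469522) (nat_lit 1287))
)) (.node (nat_lit 0xa20469902) (.leaf (nat_lit 0xa20469532) (nat_lit 1543))
 (.node (nat_lit 0xa20469912) (.leaf (nat_lit 0xa20469902) (nat_lit 1031))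
 (.leaf (nat_lit 0xa20469912) (nat_lit 1287))
))) (.node (nat_lit 0xa2047133a) (.node (nat_lit 0xa20469d32) (.leaf (nat_lit 0xa20469d22) (nat_lit 1543))
 (.node (nat_lit 0xa2047132a) (.leaf (nat_lit 0xa20469d32) (nat_lit 1799))
 (.leaf (nat_lit 0xa2047132a) (nat_lit 1286))
)) (.node (nat_lit 0xa2047170a) (.leaf (nat_lit 0xa2047133a) (nat_lit 1542))
 (.node (nat_lit 0xa2047171a) (.leaf (nat_lit 0xa2047170a) (nat_lit 1286))
 (.leaf (nat_lit 0xa2047171a) (nat_lit 1542))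
)))) (.node (nat_lit 0xa2047950a) (.node (nat_lit 0xa20471f1a) (.node (nat_lit 0xa20471b3a) (.leaf (nat_lit 0xa20471b2a) (nat_lit 1542))
 (.node (nat_lit 0xa20471f0a) (.leaf (nat_lit 0xa20471b3a) (nat_lit 1798))
 (.leaf (nat_lit 0xa20471f0a) (nat_lit 1542))
)) (.node (nat_lit 0xa2047912a) (.leaf (nat_lit 0xa20471f1a) (nat_lit 1798))
 (.node (nat_lit 0xa2047913a) (.leaf (nat_lit 0xa2047912a) (nat_lit 1031))
 (.leaf (nat_lit 0xa2047913a) (nat_lit 1287))
))) (.node (nat_lit 0xa2047993a) (.node (nat_lit 0xa2047951a) (.leaf (nat_lit 0xa2047950a) (nat_lit 1031))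
 (.node (nat_lit 0xa2047992a) (.leaf (nat_lit 0xa2047951a) (nat_lit 1287))
 (.leaf (nat_lit 0xa2047992a) (nat_lit 1287))
)) (.node (nat_lit 0xa20479d0a) (.leaf (nat_lit 0xa2047993a) (nat_lit 1543))
 (.node (nat_lit 0xa20479d1a) (.leaf (nat_lit 0xa20479d0a) (nat_lit 1287))
 (.leaf (nat_lit 0xa20479d1a) (nat_lit 1543))
)))))))) (.node (nat_lit 0x1020448102) (.node (nat_lit 0xe2047134a) (.node (nat_lit 0xe20459362) (.node (nat_lit 0xe20449b4a) (.node (nat_lit 0xe20441d62) (.node (nat_lit 0xe20441572) (.node (nat_lit 0xe20441152) (.leaf (nat_lit 0xe20441142) (nat_lit 1286))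
 (.node (nat_lit 0xe20441562) (.leaf (nat_lit 0xe20441152) (nat_lit 1542))
 (.leaf (nat_lit 0xe20441562) (nat_lit 1798))
)) (.node (nat_lit 0xe20441942) (.leaf (nat_lit 0xe20441572) (nat_lit 1542))
 (.node (nat_lit 0xe20441952) (.leaf (nat_lit 0xe20441942) (nat_lit 1542))
 (.leaf (nat_lit 0xe20441952) (nat_lit 1798))
))) (.node (nat_lit 0xe2044935a) (.node (nat_lit 0xe20441d72) (.leaf (nat_lit 0xe20441d62) (nat_lit 1542))
 (.node (nat_lit 0xe2044934a) (.leaf (nat_lit 0xe20441d72) (nat_lit 1798))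
 (.leaf (nat_lit 0xe2044934a) (nat_lit 1031))
)) (.node (nat_lit 0xe2044976a) (.leaf (nat_lit 0xe2044935a) (nat_lit 1287))
 (.node (nat_lit 0xe2044977a) (.leaf (nat_lit 0xe2044976a) (nat_lit 1538))
 (.leaf (nat_lit 0xe2044977a) (nat_lit 1282))
)))) (.node (nat_lit 0xe2045154a) (.node (nat_lit 0xe20449f7a) (.node (nat_lit 0xe20449b5a) (.leaf (nat_lit 0xe20449b4a) (nat_lit 1287))
 (.node (nat_lit 0xe20449f6a) (.leaf (nat_lit 0xe20449b5a) (nat_lit 1543))
 (.leaf (nat_lit 0xe20449f6a) (nat_lit 1283))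
)) (.node (nat_lit 0xe2045116a) (.leaf (nat_lit 0xe20449f7a) (nat_lit 1539))
 (.node (nat_lit 0xe2045117a) (.leaf (nat_lit 0xe2045116a) (nat_lit 1286))
 (.leaf (nat_lit 0xe2045117a) (nat_lit 1542))
))) (.node (nat_lit 0xe2045197a) (.node (nat_lit 0xe2045155a) (.leaf (nat_lit 0xe2045154a) (nat_lit 1286))
 (.node (nat_lit 0xe2045196a) (.leaf (nat_lit 0xe2045155a) (nat_lit 1542))
 (.leaf (nat_lit 0xe2045196a) (nat_lit 1542))
)) (.node (nat_lit 0xe20451d4a) (.leaf (nat_lit 0xe2045197a) (nat_lit 1798))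
 (.node (nat_lit 0xe20451d5a) (.leaf (nat_lit 0xe20451d4a) (nat_lit 1542))
 (.leaf (nat_lit 0xe20451d5a) (nat_lit 1798))
))))) (.node (nat_lit 0xe20461b62) (.node (nat_lit 0xe20459f42) (.node (nat_lit 0xe20459752) (.node (nat_lit 0xe20459372) (.leaf (nat_lit 0xe20459362) (nat_lit 1031))
 (.node (nat_lit 0xe20459742) (.leaf (nat_lit 0xe20459372) (nat_lit 1287))
 (.leaf (nat_lit 0xe20459742) (nat_lit 1031))
)) (.node (nat_lit 0xe20459b62) (.leaf (nat_lit 0xe20459752) (nat_lit 1287))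
 (.node (nat_lit 0xe20459b72) (.leaf (nat_lit 0xe20459b62) (nat_lit 1287))
 (.leaf (nat_lit 0xe20459b72) (nat_lit 1543))
))) (.node (nat_lit 0xe20461372) (.node (nat_lit 0xe20459f52) (.leaf (nat_lit 0xe20459f42) (nat_lit 1287))
 (.node (nat_lit 0xe20461362) (.leaf (nat_lit 0xe20459f52) (nat_lit 1543))
 (.leaf (nat_lit 0xe20461362) (nat_lit 1286))
)) (.node (nat_lit 0xe20461742) (.leaf (nat_lit 0xe20461372) (nat_lit 1542))
 (.node (nat_lit 0xe20461752) (.leaf (nat_lit 0xe20461742) (nat_lit 1286))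
 (.leaf (nat_lit 0xe20461752) (nat_lit 1542))
)))) (.node (nat_lit 0xe2046954a) (.node (nat_lit 0xe20461f52) (.node (nat_lit 0xe20461b72) (.leaf (nat_lit 0xe20461b62) (nat_lit 1542))
 (.node (nat_lit 0xe20461f42) (.leaf (nat_lit 0xe20461b72) (nat_lit 1798))
 (.leaf (nat_lit 0xe20461f42) (nat_lit 1542))
)) (.node (nat_lit 0xe2046916a) (.leaf (nat_lit 0xe20461f52) (nat_lit 1798))
 (.node (nat_lit 0xe2046917a) (.leaf (nat_lit 0xe2046916a) (nat_lit 1031))
 (.leaf (nat_lit 0xe2046917a) (nat_lit 1287))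
))) (.node (nat_lit 0xe2046997a) (.node (nat_lit 0xe2046955a) (.leaf (nat_lit 0xe2046954a) (nat_lit 1031))
 (.node (nat_lit 0xe2046996a) (.leaf (nat_lit 0xe2046955a) (nat_lit 1287))
 (.leaf (nat_lit 0xe2046996a) (nat_lit 1287))
)) (.node (nat_lit 0xe20469d4a) (.leaf (nat_lit 0xe2046997a) (nat_lit 1543))
 (.node (nat_lit 0xe20469d5a) (.leaf (nat_lit 0xe20469d4a) (nat_lit 1287))
 (.leaf (nat_lit 0xe20469d5a) (nat_lit 1543))
)))))) (.node (nat_lit 0x1020418142) (.node (nat_lit 0xe20479942) (.node (nat_lit 0xe20471f6a) (.node (nat_lit 0xe2047177a) (.node (nat_lit 0xe2047135a) (.leaf (nat_lit 0xe2047134a) (nat_lit 1286))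
 (.node (nat_lit 0xe2047176a) (.leaf (nat_lit 0xe2047135a) (nat_lit 1542))
 (.leaf (nat_lit 0xe2047176a) (nat_lit 1798))
)) (.node (nat_lit 0xe20471b4a) (.leaf (nat_lit 0xe2047177a) (nat_lit 1542))
 (.node (nat_lit 0xe20471b5a) (.leaf (nat_lit 0xe20471b4a) (nat_lit 1542))
 (.leaf (nat_lit 0xe20471b5a) (nat_lit 1798))
))) (.node (nat_lit 0xe20479152) (.node (nat_lit 0xe20471f7a) (.leaf (nat_lit 0xe20471f6a) (nat_lit 1542))
 (.node (nat_lit 0xe20479142) (.leaf (nat_lit 0xe20471f7a) (nat_lit 1798))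
 (.leaf (nat_lit 0xe20479142) (nat_lit 1031))
)) (.node (nat_lit 0xe20479562) (.leaf (nat_lit 0xe20479152) (nat_lit 1287))
 (.node (nat_lit 0xe20479572) (.leaf (nat_lit 0xe20479562) (nat_lit 1543))
 (.leaf (nat_lit 0xe20479572) (nat_lit 1287))
)))) (.node (nat_lit 0x1020408522) (.node (nat_lit 0xe20479d72) (.node (nat_lit 0xe20479952) (.leaf (nat_lit 0xe20479942) (nat_lit 1287))
 (.node (nat_lit 0xe20479d62) (.leaf (nat_lit 0xe20479952) (nat_lit 1543))
 (.leaf (nat_lit 0xe20479d62) (nat_lit 1287))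
)) (.node (nat_lit 0x1020408102) (.leaf (nat_lit 0xe20479d72) (nat_lit 1543))
 (.node (nat_lit 0x1020408112) (.leaf (nat_lit 0x1020408102) (nat_lit 0))
 (.leaf (nat_lit 0x1020408112) (nat_lit 256))
))) (.node (nat_lit 0x1020408912) (.node (nat_lit 0x1020408532) (.leaf (nat_lit 0x1020408522) (nat_lit 1029))
 (.node (nat_lit 0x1020408902) (.leaf (nat_lit 0x1020408532) (nat_lit 1285))
 (.leaf (nat_lit 0x1020408902) (nat_lit 257))
)) (.node (nat_lit 0x1020408d22) (.leaf (nat_lit 0x1020408912) (nat_lit 513))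
 (.node (nat_lit 0x1020408d32) (.leaf (nat_lit 0x1020408d22) (nat_lit 1285))
 (.leaf (nat_lit 0x1020408d32) (nat_lit 1541))
))))) (.node (nat_lit 0x1020429902) (.node (nat_lit 0x1020418d62) (.node (nat_lit 0x1020418572) (.node (nat_lit 0x1020418152) (.leaf (nat_lit 0x1020418142) (nat_lit 258))
 (.node (nat_lit 0x1020418562) (.leaf (nat_lit 0x1020418152) (nat_lit 514))
 (.leaf (nat_lit 0x1020418562) (nat_lit 773))
)) (.node (nat_lit 0x1020418942) (.leaf (nat_lit 0x1020418572) (nat_lit 1029))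
 (.node (nat_lit 0x1020418952) (.leaf (nat_lit 0x1020418942) (nat_lit 514))
 (.leaf (nat_lit 0x1020418952) (nat_lit 770))
))) (.node (nat_lit 0x1020429112) (.node (nat_lit 0x1020418d72) (.leaf (nat_lit 0x1020418d62) (nat_lit 1029))
 (.node (nat_lit 0x1020429102) (.leaf (nat_lit 0x1020418d72) (nat_lit 1285))
 (.leaf (nat_lit 0x1020429102) (nat_lit 259))
)) (.node (nat_lit 0x1020429522) (.leaf (nat_lit 0x1020429112) (nat_lit 515))
 (.node (nat_lit 0x1020429532) (.leaf (nat_lit 0x1020429522) (nat_lit 772))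
 (.leaf (nat_lit 0x1020429532) (nat_lit 1028))
)))) (.node (nat_lit 0x1020439562) (.node (nat_lit 0x1020429d32) (.node (nat_lit 0x1020429912) (.leaf (nat_lit 0x1020429902) (nat_lit 515))
 (.node (nat_lit 0x1020429d22) (.leaf (nat_lit 0x1020429912) (nat_lit 771))
 (.leaf (nat_lit 0x1020429d22) (nat_lit 1028))
)) (.node (nat_lit 0x1020439142) (.leaf (nat_lit 0x1020429d32) (nat_lit 1284))
 (.node (nat_lit 0x1020439152) (.leaf (nat_lit 0x1020439142) (nat_lit 515))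
 (.leaf (nat_lit 0x1020439152) (nat_lit 771))
))) (.node (nat_lit 0x1020439952) (.node (nat_lit 0x1020439572) (.leaf (nat_lit 0x1020439562) (nat_lit 1028))
 (.node (nat_lit 0x1020439942) (.leaf (nat_lit 0x1020439572) (nat_lit 1284))
 (.leaf (nat_lit 0x1020439942) (nat_lit 771))
)) (.node (nat_lit 0x1020439d62) (.leaf (nat_lit 0x1020439952) (nat_lit 1027))
 (.node (nat_lit 0x1020439d72) (.leaf (nat_lit 0x1020439d62) (nat_lit 1284))
 (.leaf (nat_lit 0x1020439d72) (nat_lit 1540))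
))))))) (.node (nat_lit 0x1220429302) (.node (nat_lit 0x1020479142) (.node (nat_lit 0x1020458942) (.node (nat_lit 0x1020448d22) (.node (nat_lit 0x1020448532) (.node (nat_lit 0x1020448112) (.leaf (nat_lit 0x1020448102) (nat_lit 262))
 (.node (nat_lit 0x1020448522) (.leaf (nat_lit 0x1020448112) (nat_lit 518))
 (.leaf (nat_lit 0x1020448522) (nat_lit 1286))
)) (.node (nat_lit 0x1020448902) (.leaf (nat_lit 0x1020448532) (nat_lit 1542))
 (.node (nat_lit 0x1020448912) (.leaf (nat_lit 0x1020448902) (nat_lit 518))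
 (.leaf (nat_lit 0x1020448912) (nat_lit 774))
))) (.node (nat_lit 0x1020458152) (.node (nat_lit 0x1020448d32) (.leaf (nat_lit 0x1020448d22) (nat_lit 1542))
 (.node (nat_lit 0x1020458142) (.leaf (nat_lit 0x1020448d32) (nat_lit 1798))
 (.leaf (nat_lit 0x1020458142) (nat_lit 518))
)) (.node (nat_lit 0x1020458562) (.leaf (nat_lit 0x1020458152) (nat_lit 774))
 (.node (nat_lit 0x1020458572) (.leaf (nat_lit 0x1020458562) (nat_lit 1030))
 (.leaf (nat_lit 0x1020458572) (nat_lit 1286))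
)))) (.node (nat_lit 0x1020469522) (.node (nat_lit 0x1020458d72) (.node (nat_lit 0x1020458952) (.leaf (nat_lit 0x1020458942) (nat_lit 774))
 (.node (nat_lit 0x1020458d62) (.leaf (nat_lit 0x1020458952) (nat_lit 1030))
 (.leaf (nat_lit 0x1020458d62) (nat_lit 1286))
)) (.node (nat_lit 0x1020469102) (.leaf (nat_lit 0x1020458d72) (nat_lit 1542))
 (.node (nat_lit 0x1020469112) (.leaf (nat_lit 0x1020469102) (nat_lit 518))
 (.leaf (nat_lit 0x1020469112) (nat_lit 774))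
))) (.node (nat_lit 0x1020469912) (.node (nat_lit 0x1020469532) (.leaf (nat_lit 0x1020469522) (nat_lit 1030))
 (.node (nat_lit 0x1020469902) (.leaf (nat_lit 0x1020469532) (nat_lit 1286))
 (.leaf (nat_lit 0x1020469902) (nat_lit 774))
)) (.node (nat_lit 0x1020469d22) (.leaf (nat_lit 0x1020469912) (nat_lit 1030))
 (.node (nat_lit 0x1020469d32) (.leaf (nat_lit 0x1020469d22) (nat_lit 1286))
 (.leaf (nat_lit 0x1020469d32) (nat_lit 1542))
))))) (.node (nat_lit 0x1220408902) (.node (nat_lit 0x1020479d62) (.node (nat_lit 0x1020479572) (.node (nat_lit 0x1020479152) (.leaf (nat_lit 0x1020479142) (nat_lit 774))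
 (.node (nat_lit 0x1020479562) (.leaf (nat_lit 0x1020479152) (nat_lit 1030))
 (.leaf (nat_lit 0x1020479562) (nat_lit 1284))
)) (.node (nat_lit 0x1020479942) (.leaf (nat_lit 0x1020479572) (nat_lit 1028))
 (.node (nat_lit 0x1020479952) (.leaf (nat_lit 0x1020479942) (nat_lit 1030))
 (.leaf (nat_lit 0x1020479952) (nat_lit 1286))
))) (.node (nat_lit 0x1220408112) (.node (nat_lit 0x1020479d72) (.leaf (nat_lit 0x1020479d62) (nat_lit 1029))
 (.node (nat_lit 0x1220408102) (.leaf (nat_lit 0x1020479d72) (nat_lit 1285))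
 (.leaf (nat_lit 0x1220408102) (nat_lit 263))
)) (.node (nat_lit 0x1220408522) (.leaf (nat_lit 0x1220408112) (nat_lit 519))
 (.node (nat_lit 0x1220408532) (.leaf (nat_lit 0x1220408522) (nat_lit 1287))
 (.leaf (nat_lit 0x1220408532) (nat_lit 1543))
)))) (.node (nat_lit 0x122041856a) (.node (nat_lit 0x1220408d32) (.node (nat_lit 0x1220408912) (.leaf (nat_lit 0x1220408902) (nat_lit 519))
 (.node (nat_lit 0x1220408d22) (.leaf (nat_lit 0x1220408912) (nat_lit 775))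
 (.leaf (nat_lit 0x1220408d22) (nat_lit 1543))
)) (.node (nat_lit 0x122041814a) (.leaf (nat_lit 0x1220408d32) (nat_lit 1799))
 (.node (nat_lit 0x122041815a) (.leaf (nat_lit 0x122041814a) (nat_lit 514))
 (.leaf (nat_lit 0x122041815a) (nat_lit 770))
))) (.node (nat_lit 0x122041895a) (.node (nat_lit 0x122041857a) (.leaf (nat_lit 0x122041856a) (nat_lit 1029))
 (.node (nat_lit 0x122041894a) (.leaf (nat_lit 0x122041857a) (nat_lit 1285))
 (.leaf (nat_lit 0x122041894a) (nat_lit 770))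
)) (.node (nat_lit 0x1220418d6a) (.leaf (nat_lit 0x122041895a) (nat_lit 1026))
 (.node (nat_lit 0x1220418d7a) (.leaf (nat_lit 0x1220418d6a) (nat_lit 1285))
 (.leaf (nat_lit 0x1220418d7a) (nat_lit 1541))
)))))) (.node (nat_lit 0x122045014a) (.node (nat_lit 0x1220439b4a) (.node (nat_lit 0x1220429f22) (.node (nat_lit 0x1220429732) (.node (nat_lit 0x1220429312) (.leaf (nat_lit 0x1220429302) (nat_lit 515))
 (.node (nat_lit 0x1220429722) (.leaf (nat_lit 0x1220429312) (nat_lit 771))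
 (.leaf (nat_lit 0x1220429722) (nat_lit 1028))
)) (.node (nat_lit 0x1220429b02) (.leaf (nat_lit 0x1220429732) (nat_lit 1284))
 (.node (nat_lit 0x1220429b12) (.leaf (nat_lit 0x1220429b02) (nat_lit 771))
 (.leaf (nat_lit 0x1220429b12) (nat_lit 1027))
))) (.node (nat_lit 0x122043935a) (.node (nat_lit 0x1220429f32) (.leaf (nat_lit 0x1220429f22) (nat_lit 1284))
 (.node (nat_lit 0x122043934a) (.leaf (nat_lit 0x1220429f32) (nat_lit 1540))
 (.leaf (nat_lit 0x122043934a) (nat_lit 771))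
)) (.node (nat_lit 0x122043976a) (.leaf (nat_lit 0x122043935a) (nat_lit 1027))
 (.node (nat_lit 0x122043977a) (.leaf (nat_lit 0x122043976a) (nat_lit 1284))
 (.leaf (nat_lit 0x122043977a) (nat_lit 1028))
)))) (.node (nat_lit 0x1220440522) (.node (nat_lit 0x1220439f7a) (.node (nat_lit 0x1220439b5a) (.leaf (nat_lit 0x1220439b4a) (nat_lit 1027))
 (.node (nat_lit 0x1220439f6a) (.leaf (nat_lit 0x1220439b5a) (nat_lit 1283))
 (.leaf (nat_lit 0x1220439f6a) (nat_lit 1029))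
)) (.node (nat_lit 0x1220440102) (.leaf (nat_lit 0x1220439f7a) (nat_lit 1285))
 (.node (nat_lit 0x1220440112) (.leaf (nat_lit 0x1220440102) (nat_lit 518))
 (.leaf (nat_lit 0x1220440112) (nat_lit 774))
))) (.node (nat_lit 0x1220440912) (.node (nat_lit 0x1220440532) (.leaf (nat_lit 0x1220440522) (nat_lit 1542))
 (.node (nat_lit 0x1220440902) (.leaf (nat_lit 0x1220440532) (nat_lit 1798))
 (.leaf (nat_lit 0x1220440902) (nat_lit 774))
)) (.node (nat_lit 0x1220440d22) (.leaf (nat_lit 0x1220440912) (nat_lit 1030))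
 (.node (nat_lit 0x1220440d32) (.leaf (nat_lit 0x1220440d22) (nat_lit 1798))
 (.leaf (nat_lit 0x1220440d32) (nat_lit 2054))
))))) (.node (nat_lit 0x1220461b02) (.node (nat_lit 0x1220450d6a) (.node (nat_lit 0x122045057a) (.node (nat_lit 0x122045015a) (.leaf (nat_lit 0x122045014a) (nat_lit 774))
 (.node (nat_lit 0x122045056a) (.leaf (nat_lit 0x122045015a) (nat_lit 1030))
 (.leaf (nat_lit 0x122045056a) (nat_lit 1285))
)) (.node (nat_lit 0x122045094a) (.leaf (nat_lit 0x122045057a) (nat_lit 1541))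
 (.node (nat_lit 0x122045095a) (.leaf (nat_lit 0x122045094a) (nat_lit 1030))
 (.leaf (nat_lit 0x122045095a) (nat_lit 1286))
))) (.node (nat_lit 0x1220461312) (.node (nat_lit 0x1220450d7a) (.leaf (nat_lit 0x1220450d6a) (nat_lit 1541))
 (.node (nat_lit 0x1220461302) (.leaf (nat_lit 0x1220450d7a) (nat_lit 1797))
 (.leaf (nat_lit 0x1220461302) (nat_lit 774))
)) (.node (nat_lit 0x1220461722) (.leaf (nat_lit 0x1220461312) (nat_lit 1030))
 (.node (nat_lit 0x1220461732) (.leaf (nat_lit 0x1220461722) (nat_lit 1284))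
 (.leaf (nat_lit 0x1220461732) (nat_lit 1540))
)))) (.node (nat_lit 0x122047176a) (.node (nat_lit 0x1220461f32) (.node (nat_lit 0x1220461b12) (.leaf (nat_lit 0x1220461b02) (nat_lit 1030))
 (.node (nat_lit 0x1220461f22) (.leaf (nat_lit 0x1220461b12) (nat_lit 1286))
 (.leaf (nat_lit 0x1220461f22) (nat_lit 1540))
)) (.node (nat_lit 0x122047134a) (.leaf (nat_lit 0x1220461f32) (nat_lit 1796))
 (.node (nat_lit 0x122047135a) (.leaf (nat_lit 0x122047134a) (nat_lit 1030))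
 (.leaf (nat_lit 0x122047135a) (nat_lit 1286))
))) (.node (nat_lit 0x1220471b5a) (.node (nat_lit 0x122047177a) (.leaf (nat_lit 0x122047176a) (nat_lit 1542))
 (.node (nat_lit 0x1220471b4a) (.leaf (nat_lit 0x122047177a) (nat_lit 1286))
 (.leaf (nat_lit 0x1220471b4a) (nat_lit 1286))
)) (.node (nat_lit 0x1220471f6a) (.leaf (nat_lit 0x1220471b5a) (nat_lit 1542))
 (.node (nat_lit 0x1220471f7a) (.leaf (nat_lit 0x1220471f6a) (nat_lit 1286))
 (.leaf (nat_lit 0x1220471f7a) (nat_lit 1542))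
))))))))) (.node (nat_lit 0x1a20408302) (.node (nat_lit 0x1620440142) (.node (nat_lit 0x142046916a) (.node (nat_lit 0x142043916a) (.node (nat_lit 0x142041894a) (.node (nat_lit 0x1420408d2a) (.node (nat_lit 0x142040853a) (.node (nat_lit 0x142040811a) (.leaf (nat_lit 0x142040810a) (nat_lit 260))
 (.node (nat_lit 0x142040852a) (.leaf (nat_lit 0x142040811a) (nat_lit 516))
 (.leaf (nat_lit 0x142040852a) (nat_lit 771))
)) (.node (nat_lit 0x142040890a) (.leaf (nat_lit 0x142040853a) (nat_lit 1027))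
 (.node (nat_lit 0x142040891a) (.leaf (nat_lit 0x142040890a) (nat_lit 516))
 (.leaf (nat_lit 0x142040891a) (nat_lit 772))
))) (.node (nat_lit 0x142041815a) (.node (nat_lit 0x1420408d3a) (.leaf (nat_lit 0x1420408d2a) (nat_lit 1027))
 (.node (nat_lit 0x142041814a) (.leaf (nat_lit 0x1420408d3a) (nat_lit 1283))
 (.leaf (nat_lit 0x142041814a) (nat_lit 772))
)) (.node (nat_lit 0x142041856a) (.leaf (nat_lit 0x142041815a) (nat_lit 516))
 (.node (nat_lit 0x142041857a) (.leaf (nat_lit 0x142041856a) (nat_lit 1283))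
 (.leaf (nat_lit 0x142041857a) (nat_lit 1027))
)))) (.node (nat_lit 0x142042950a) (.node (nat_lit 0x1420418d7a) (.node (nat_lit 0x142041895a) (.leaf (nat_lit 0x142041894a) (nat_lit 1028))
 (.node (nat_lit 0x1420418d6a) (.leaf (nat_lit 0x142041895a) (nat_lit 772))
 (.leaf (nat_lit 0x1420418d6a) (nat_lit 1539))
)) (.node (nat_lit 0x142042912a) (.leaf (nat_lit 0x1420418d7a) (nat_lit 1283))
 (.node (nat_lit 0x142042913a) (.leaf (nat_lit 0x142042912a) (nat_lit 516))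
 (.leaf (nat_lit 0x142042913a) (nat_lit 772))
))) (.node (nat_lit 0x142042993a) (.node (nat_lit 0x142042951a) (.leaf (nat_lit 0x142042950a) (nat_lit 515))
 (.node (nat_lit 0x142042992a) (.leaf (nat_lit 0x142042951a) (nat_lit 771))
 (.leaf (nat_lit 0x142042992a) (nat_lit 772))
)) (.node (nat_lit 0x1420429d0a) (.leaf (nat_lit 0x142042993a) (nat_lit 1028))
 (.node (nat_lit 0x1420429d1a) (.leaf (nat_lit 0x1420429d0a) (nat_lit 771))
 (.leaf (nat_lit 0x1420429d1a) (nat_lit 1027))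
))))) (.node (nat_lit 0x142044894a) (.node (nat_lit 0x1420439d4a) (.node (nat_lit 0x142043955a) (.node (nat_lit 0x142043917a) (.leaf (nat_lit 0x142043916a) (nat_lit 1028))
 (.node (nat_lit 0x142043954a) (.leaf (nat_lit 0x142043917a) (nat_lit 772))
 (.leaf (nat_lit 0x142043954a) (nat_lit 1027))
)) (.node (nat_lit 0x142043996a) (.leaf (nat_lit 0x142043955a) (nat_lit 771))
 (.node (nat_lit 0x142043997a) (.leaf (nat_lit 0x142043996a) (nat_lit 1284))
 (.leaf (nat_lit 0x142043997a) (nat_lit 1028))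
))) (.node (nat_lit 0x142044815a) (.node (nat_lit 0x1420439d5a) (.leaf (nat_lit 0x1420439d4a) (nat_lit 1283))
 (.node (nat_lit 0x142044814a) (.leaf (nat_lit 0x1420439d5a) (nat_lit 1027))
 (.leaf (nat_lit 0x142044814a) (nat_lit 516))
)) (.node (nat_lit 0x142044856a) (.leaf (nat_lit 0x142044815a) (nat_lit 772))
 (.node (nat_lit 0x142044857a) (.leaf (nat_lit 0x142044856a) (nat_lit 1027))
 (.leaf (nat_lit 0x142044857a) (nat_lit 1283))
)))) (.node (nat_lit 0x142045852a) (.node (nat_lit 0x1420448d7a) (.node (nat_lit 0x142044895a) (.leaf (nat_lit 0x142044894a) (nat_lit 772))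
 (.node (nat_lit 0x1420448d6a) (.leaf (nat_lit 0x142044895a) (nat_lit 1028))
 (.leaf (nat_lit 0x1420448d6a) (nat_lit 1283))
)) (.node (nat_lit 0x142045810a) (.leaf (nat_lit 0x1420448d7a) (nat_lit 1539))
 (.node (nat_lit 0x142045811a) (.leaf (nat_lit 0x142045810a) (nat_lit 518))
 (.leaf (nat_lit 0x142045811a) (nat_lit 774))
))) (.node (nat_lit 0x142045891a) (.node (nat_lit 0x142045853a) (.leaf (nat_lit 0x142045852a) (nat_lit 1030))
 (.node (nat_lit 0x142045890a) (.leaf (nat_lit 0x142045853a) (nat_lit 1286))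
 (.leaf (nat_lit 0x142045890a) (nat_lit 774))
)) (.node (nat_lit 0x1420458d2a) (.leaf (nat_lit 0x142045891a) (nat_lit 1030))
 (.node (nat_lit 0x1420458d3a) (.leaf (nat_lit 0x1420458d2a) (nat_lit 1286))
 (.leaf (nat_lit 0x1420458d3a) (nat_lit 1542))
)))))) (.node (nat_lit 0x1620418142) (.node (nat_lit 0x142047992a) (.node (nat_lit 0x1420469d4a) (.node (nat_lit 0x142046955a) (.node (nat_lit 0x142046917a) (.leaf (nat_lit 0x142046916a) (nat_lit 772))
 (.node (nat_lit 0x142046954a) (.leaf (nat_lit 0x142046917a) (nat_lit 1028))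
 (.leaf (nat_lit 0x142046954a) (nat_lit 771))
)) (.node (nat_lit 0x142046996a) (.leaf (nat_lit 0x142046955a) (nat_lit 1027))
 (.node (nat_lit 0x142046997a) (.leaf (nat_lit 0x142046996a) (nat_lit 1028))
 (.leaf (nat_lit 0x142046997a) (nat_lit 1284))
))) (.node (nat_lit 0x142047913a) (.node (nat_lit 0x1420469d5a) (.leaf (nat_lit 0x1420469d4a) (nat_lit 1027))
 (.node (nat_lit 0x142047912a) (.leaf (nat_lit 0x1420469d5a) (nat_lit 1283))
 (.leaf (nat_lit 0x142047912a) (nat_lit 774))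
)) (.node (nat_lit 0x142047950a) (.leaf (nat_lit 0x142047913a) (nat_lit 1030))
 (.node (nat_lit 0x142047951a) (.leaf (nat_lit 0x142047950a) (nat_lit 774))
 (.leaf (nat_lit 0x142047951a) (nat_lit 1030))
)))) (.node (nat_lit 0x162040852a) (.node (nat_lit 0x1420479d1a) (.node (nat_lit 0x142047993a) (.leaf (nat_lit 0x142047992a) (nat_lit 1030))
 (.node (nat_lit 0x1420479d0a) (.leaf (nat_lit 0x142047993a) (nat_lit 1286))
 (.leaf (nat_lit 0x1420479d0a) (nat_lit 1030))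
)) (.node (nat_lit 0x162040810a) (.leaf (nat_lit 0x1420479d1a) (nat_lit 1286))
 (.node (nat_lit 0x162040811a) (.leaf (nat_lit 0x162040810a) (nat_lit 519))
 (.leaf (nat_lit 0x162040811a) (nat_lit 775))
))) (.node (nat_lit 0x162040891a) (.node (nat_lit 0x162040853a) (.leaf (nat_lit 0x162040852a) (nat_lit 1031))
 (.node (nat_lit 0x162040890a) (.leaf (nat_lit 0x162040853a) (nat_lit 1287))
 (.leaf (nat_lit 0x162040890a) (nat_lit 775))
)) (.node (nat_lit 0x1620408d2a) (.leaf (nat_lit 0x162040891a) (nat_lit 1031))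
 (.node (nat_lit 0x1620408d3a) (.leaf (nat_lit 0x1620408d2a) (nat_lit 1287))
 (.leaf (nat_lit 0x1620408d3a) (nat_lit 1543))
))))) (.node (nat_lit 0x1620429b2a) (.node (nat_lit 0x1620418d62) (.node (nat_lit 0x1620418572) (.node (nat_lit 0x1620418152) (.leaf (nat_lit 0x1620418142) (nat_lit 519))
 (.node (nat_lit 0x1620418562) (.leaf (nat_lit 0x1620418152) (nat_lit 775))
 (.leaf (nat_lit 0x1620418562) (nat_lit 1031))
)) (.node (nat_lit 0x1620418942) (.leaf (nat_lit 0x1620418572) (nat_lit 1287))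
 (.node (nat_lit 0x1620418952) (.leaf (nat_lit 0x1620418942) (nat_lit 775))
 (.leaf (nat_lit 0x1620418952) (nat_lit 1031))
))) (.node (nat_lit 0x162042933a) (.node (nat_lit 0x1620418d72) (.leaf (nat_lit 0x1620418d62) (nat_lit 1287))
 (.node (nat_lit 0x162042932a) (.leaf (nat_lit 0x1620418d72) (nat_lit 1543))
 (.leaf (nat_lit 0x162042932a) (nat_lit 772))
)) (.node (nat_lit 0x162042970a) (.leaf (nat_lit 0x162042933a) (nat_lit 1028))
 (.node (nat_lit 0x162042971a) (.leaf (nat_lit 0x162042970a) (nat_lit 771))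
 (.leaf (nat_lit 0x162042971a) (nat_lit 1027))
)))) (.node (nat_lit 0x1620439742) (.node (nat_lit 0x1620429f1a) (.node (nat_lit 0x1620429b3a) (.leaf (nat_lit 0x1620429b2a) (nat_lit 1028))
 (.node (nat_lit 0x1620429f0a) (.leaf (nat_lit 0x1620429b3a) (nat_lit 1284))
 (.leaf (nat_lit 0x1620429f0a) (nat_lit 1027))
)) (.node (nat_lit 0x1620439362) (.leaf (nat_lit 0x1620429f1a) (nat_lit 1283))
 (.node (nat_lit 0x1620439372) (.leaf (nat_lit 0x1620439362) (nat_lit 1284))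
 (.leaf (nat_lit 0x1620439372) (nat_lit 1028))
))) (.node (nat_lit 0x1620439b72) (.node (nat_lit 0x1620439752) (.leaf (nat_lit 0x1620439742) (nat_lit 771))
 (.node (nat_lit 0x1620439b62) (.leaf (nat_lit 0x1620439752) (nat_lit 1027))
 (.leaf (nat_lit 0x1620439b62) (nat_lit 1031))
)) (.node (nat_lit 0x1620439f42) (.leaf (nat_lit 0x1620439b72) (nat_lit 1287))
 (.node (nat_lit 0x1620439f52) (.leaf (nat_lit 0x1620439f42) (nat_lit 1027))
 (.leaf (nat_lit 0x1620439f52) (nat_lit 1283))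
))))))) (.node (nat_lit 0x1820429302) (.node (nat_lit 0x162047132a) (.node (nat_lit 0x162045090a) (.node (nat_lit 0x1620440d62) (.node (nat_lit 0x1620440572) (.node (nat_lit 0x1620440152) (.leaf (nat_lit 0x1620440142) (nat_lit 774))
 (.node (nat_lit 0x1620440562) (.leaf (nat_lit 0x1620440152) (nat_lit 1030))
 (.leaf (nat_lit 0x1620440562) (nat_lit 1286))
)) (.node (nat_lit 0x1620440942) (.leaf (nat_lit 0x1620440572) (nat_lit 1542))
 (.node (nat_lit 0x1620440952) (.leaf (nat_lit 0x1620440942) (nat_lit 1030))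
 (.leaf (nat_lit 0x1620440952) (nat_lit 1286))
))) (.node (nat_lit 0x162045011a) (.node (nat_lit 0x1620440d72) (.leaf (nat_lit 0x1620440d62) (nat_lit 1542))
 (.node (nat_lit 0x162045010a) (.leaf (nat_lit 0x1620440d72) (nat_lit 1798))
 (.leaf (nat_lit 0x162045010a) (nat_lit 774))
)) (.node (nat_lit 0x162045052a) (.leaf (nat_lit 0x162045011a) (nat_lit 1030))
 (.node (nat_lit 0x162045053a) (.leaf (nat_lit 0x162045052a) (nat_lit 1286))
 (.leaf (nat_lit 0x162045053a) (nat_lit 1542))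
)))) (.node (nat_lit 0x1620461742) (.node (nat_lit 0x1620450d3a) (.node (nat_lit 0x162045091a) (.leaf (nat_lit 0x162045090a) (nat_lit 1030))
 (.node (nat_lit 0x1620450d2a) (.leaf (nat_lit 0x162045091a) (nat_lit 1286))
 (.leaf (nat_lit 0x1620450d2a) (nat_lit 1542))
)) (.node (nat_lit 0x1620461362) (.leaf (nat_lit 0x1620450d3a) (nat_lit 1798))
 (.node (nat_lit 0x1620461372) (.leaf (nat_lit 0x1620461362) (nat_lit 1028))
 (.leaf (nat_lit 0x1620461372) (nat_lit 1284))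
))) (.node (nat_lit 0x1620461b72) (.node (nat_lit 0x1620461752) (.leaf (nat_lit 0x1620461742) (nat_lit 1030))
 (.node (nat_lit 0x1620461b62) (.leaf (nat_lit 0x1620461752) (nat_lit 1286))
 (.leaf (nat_lit 0x1620461b62) (nat_lit 1284))
)) (.node (nat_lit 0x1620461f42) (.leaf (nat_lit 0x1620461b72) (nat_lit 1540))
 (.node (nat_lit 0x1620461f52) (.leaf (nat_lit 0x1620461f42) (nat_lit 1286))
 (.leaf (nat_lit 0x1620461f52) (nat_lit 1542))
))))) (.node (nat_lit 0x1820408b02) (.node (nat_lit 0x1620471f0a) (.node (nat_lit 0x162047171a) (.node (nat_lit 0x162047133a) (.leaf (nat_lit 0x162047132a) (nat_lit 1030))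
 (.node (nat_lit 0x162047170a) (.leaf (nat_lit 0x162047133a) (nat_lit 1286))
 (.leaf (nat_lit 0x162047170a) (nat_lit 1030))
)) (.node (nat_lit 0x1620471b2a) (.leaf (nat_lit 0x162047171a) (nat_lit 1286))
 (.node (nat_lit 0x1620471b3a) (.leaf (nat_lit 0x1620471b2a) (nat_lit 1286))
 (.leaf (nat_lit 0x1620471b3a) (nat_lit 1542))
))) (.node (nat_lit 0x1820408312) (.node (nat_lit 0x1620471f1a) (.leaf (nat_lit 0x1620471f0a) (nat_lit 1286))
 (.node (nat_lit 0x1820408302) (.leaf (nat_lit 0x1620471f1a) (nat_lit 1542))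
 (.leaf (nat_lit 0x1820408302) (nat_lit 261))
)) (.node (nat_lit 0x1820408722) (.leaf (nat_lit 0x1820408312) (nat_lit 517))
 (.node (nat_lit 0x1820408732) (.leaf (nat_lit 0x1820408722) (nat_lit 770))
 (.leaf (nat_lit 0x1820408732) (nat_lit 1026))
)))) (.node (nat_lit 0x1820418742) (.node (nat_lit 0x1820408f32) (.node (nat_lit 0x1820408b12) (.leaf (nat_lit 0x1820408b02) (nat_lit 517))
 (.node (nat_lit 0x1820408f22) (.leaf (nat_lit 0x1820408b12) (nat_lit 773))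
 (.leaf (nat_lit 0x1820408f22) (nat_lit 1026))
)) (.node (nat_lit 0x1820418362) (.leaf (nat_lit 0x1820408f32) (nat_lit 1282))
 (.node (nat_lit 0x1820418372) (.leaf (nat_lit 0x1820418362) (nat_lit 514))
 (.leaf (nat_lit 0x1820418372) (nat_lit 770))
))) (.node (nat_lit 0x1820418b72) (.node (nat_lit 0x1820418752) (.leaf (nat_lit 0x1820418742) (nat_lit 517))
 (.node (nat_lit 0x1820418b62) (.leaf (nat_lit 0x1820418752) (nat_lit 773))
 (.leaf (nat_lit 0x1820418b62) (nat_lit 770))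
)) (.node (nat_lit 0x1820418f42) (.leaf (nat_lit 0x1820418b72) (nat_lit 1026))
 (.node (nat_lit 0x1820418f52) (.leaf (nat_lit 0x1820418f42) (nat_lit 773))
 (.leaf (nat_lit 0x1820418f52) (nat_lit 1029))
)))))) (.node (nat_lit 0x1820459362) (.node (nat_lit 0x1820439b62) (.node (nat_lit 0x1820429f22) (.node (nat_lit 0x1820429732) (.node (nat_lit 0x1820429312) (.leaf (nat_lit 0x1820429302) (nat_lit 773))
 (.node (nat_lit 0x1820429722) (.leaf (nat_lit 0x1820429312) (nat_lit 1029))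
 (.leaf (nat_lit 0x1820429722) (nat_lit 1282))
)) (.node (nat_lit 0x1820429b02) (.leaf (nat_lit 0x1820429732) (nat_lit 1538))
 (.node (nat_lit 0x1820429b12) (.leaf (nat_lit 0x1820429b02) (nat_lit 517))
 (.leaf (nat_lit 0x1820429b12) (nat_lit 773))
))) (.node (nat_lit 0x1820439372) (.node (nat_lit 0x1820429f32) (.leaf (nat_lit 0x1820429f22) (nat_lit 1026))
 (.node (nat_lit 0x1820439362) (.leaf (nat_lit 0x1820429f32) (nat_lit 1282))
 (.leaf (nat_lit 0x1820439362) (nat_lit 1026))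
)) (.node (nat_lit 0x1820439742) (.leaf (nat_lit 0x1820439372) (nat_lit 1282))
 (.node (nat_lit 0x1820439752) (.leaf (nat_lit 0x1820439742) (nat_lit 1029))
 (.leaf (nat_lit 0x1820439752) (nat_lit 1285))
)))) (.node (nat_lit 0x1820449722) (.node (nat_lit 0x1820439f52) (.node (nat_lit 0x1820439b72) (.leaf (nat_lit 0x1820439b62) (nat_lit 770))
 (.node (nat_lit 0x1820439f42) (.leaf (nat_lit 0x1820439b72) (nat_lit 1026))
 (.leaf (nat_lit 0x1820439f42) (nat_lit 773))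
)) (.node (nat_lit 0x1820449302) (.leaf (nat_lit 0x1820439f52) (nat_lit 1029))
 (.node (nat_lit 0x1820449312) (.leaf (nat_lit 0x1820449302) (nat_lit 517))
 (.leaf (nat_lit 0x1820449312) (nat_lit 773))
))) (.node (nat_lit 0x1820449b12) (.node (nat_lit 0x1820449732) (.leaf (nat_lit 0x1820449722) (nat_lit 1026))
 (.node (nat_lit 0x1820449b02) (.leaf (nat_lit 0x1820449732) (nat_lit 1282))
 (.leaf (nat_lit 0x1820449b02) (nat_lit 773))
)) (.node (nat_lit 0x1820449f22) (.leaf (nat_lit 0x1820449b12) (nat_lit 1029))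
 (.node (nat_lit 0x1820449f32) (.leaf (nat_lit 0x1820449f22) (nat_lit 1282))
 (.leaf (nat_lit 0x1820449f32) (nat_lit 1538))
))))) (.node (nat_lit 0x1820468b02) (.node (nat_lit 0x1820459f42) (.node (nat_lit 0x1820459752) (.node (nat_lit 0x1820459372) (.leaf (nat_lit 0x1820459362) (nat_lit 770))
 (.node (nat_lit 0x1820459742) (.leaf (nat_lit 0x1820459372) (nat_lit 1026))
 (.leaf (nat_lit 0x1820459742) (nat_lit 773))
)) (.node (nat_lit 0x1820459b62) (.leaf (nat_lit 0x1820459752) (nat_lit 1029))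
 (.node (nat_lit 0x1820459b72) (.leaf (nat_lit 0x1820459b62) (nat_lit 1026))
 (.leaf (nat_lit 0x1820459b72) (nat_lit 1282))
))) (.node (nat_lit 0x1820468312) (.node (nat_lit 0x1820459f52) (.leaf (nat_lit 0x1820459f42) (nat_lit 1029))
 (.node (nat_lit 0x1820468302) (.leaf (nat_lit 0x1820459f52) (nat_lit 1285))
 (.leaf (nat_lit 0x1820468302) (nat_lit 518))
)) (.node (nat_lit 0x1820468722) (.leaf (nat_lit 0x1820468312) (nat_lit 774))
 (.node (nat_lit 0x1820468732) (.leaf (nat_lit 0x1820468722) (nat_lit 1030))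
 (.leaf (nat_lit 0x1820468732) (nat_lit 1286))
)))) (.node (nat_lit 0x1820478742) (.node (nat_lit 0x1820468f32) (.node (nat_lit 0x1820468b12) (.leaf (nat_lit 0x1820468b02) (nat_lit 774))
 (.node (nat_lit 0x1820468f22) (.leaf (nat_lit 0x1820468b12) (nat_lit 1030))
 (.leaf (nat_lit 0x1820468f22) (nat_lit 1286))
)) (.node (nat_lit 0x1820478362) (.leaf (nat_lit 0x1820468f32) (nat_lit 1542))
 (.node (nat_lit 0x1820478372) (.leaf (nat_lit 0x1820478362) (nat_lit 774))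
 (.leaf (nat_lit 0x1820478372) (nat_lit 1030))
))) (.node (nat_lit 0x1820478b72) (.node (nat_lit 0x1820478752) (.leaf (nat_lit 0x1820478742) (nat_lit 774))
 (.node (nat_lit 0x1820478b62) (.leaf (nat_lit 0x1820478752) (nat_lit 1030))
 (.leaf (nat_lit 0x1820478b62) (nat_lit 1030))
)) (.node (nat_lit 0x1820478f42) (.leaf (nat_lit 0x1820478b72) (nat_lit 1286))
 (.node (nat_lit 0x1820478f52) (.leaf (nat_lit 0x1820478f42) (nat_lit 1030))
 (.leaf (nat_lit 0x1820478f52) (nat_lit 1286))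
)))))))) (.node (nat_lit 0x1c2044934a) (.node (nat_lit 0x1a20460302) (.node (nat_lit 0x1a2043916a) (.node (nat_lit 0x1a20418b6a) (.node (nat_lit 0x1a20408f22) (.node (nat_lit 0x1a20408732) (.node (nat_lit 0x1a20408312) (.leaf (nat_lit 0x1a20408302) (nat_lit 519))
 (.node (nat_lit 0x1a20408722) (.leaf (nat_lit 0x1a20408312) (nat_lit 775))
 (.leaf (nat_lit 0x1a20408722) (nat_lit 1031))
)) (.node (nat_lit 0x1a20408b02) (.leaf (nat_lit 0x1a20408732) (nat_lit 1287))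
 (.node (nat_lit 0x1a20408b12) (.leaf (nat_lit 0x1a20408b02) (nat_lit 775))
 (.leaf (nat_lit 0x1a20408b12) (nat_lit 1031))
))) (.node (nat_lit 0x1a2041837a) (.node (nat_lit 0x1a20408f32) (.leaf (nat_lit 0x1a20408f22) (nat_lit 1287))
 (.node (nat_lit 0x1a2041836a) (.leaf (nat_lit 0x1a20408f32) (nat_lit 1543))
 (.leaf (nat_lit 0x1a2041836a) (nat_lit 770))
)) (.node (nat_lit 0x1a2041874a) (.leaf (nat_lit 0x1a2041837a) (nat_lit 1026))
 (.node (nat_lit 0x1a2041875a) (.leaf (nat_lit 0x1a2041874a) (nat_lit 773))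
 (.leaf (nat_lit 0x1a2041875a) (nat_lit 1029))
)))) (.node (nat_lit 0x1a20429522) (.node (nat_lit 0x1a20418f5a) (.node (nat_lit 0x1a20418b7a) (.leaf (nat_lit 0x1a20418b6a) (nat_lit 1026))
 (.node (nat_lit 0x1a20418f4a) (.leaf (nat_lit 0x1a20418b7a) (nat_lit 1282))
 (.leaf (nat_lit 0x1a20418f4a) (nat_lit 1029))
)) (.node (nat_lit 0x1a20429102) (.leaf (nat_lit 0x1a20418f5a) (nat_lit 1285))
 (.node (nat_lit 0x1a20429112) (.leaf (nat_lit 0x1a20429102) (nat_lit 519))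
 (.leaf (nat_lit 0x1a20429112) (nat_lit 775))
))) (.node (nat_lit 0x1a20429912) (.node (nat_lit 0x1a20429532) (.leaf (nat_lit 0x1a20429522) (nat_lit 1031))
 (.node (nat_lit 0x1a20429902) (.leaf (nat_lit 0x1a20429532) (nat_lit 1287))
 (.leaf (nat_lit 0x1a20429902) (nat_lit 775))
)) (.node (nat_lit 0x1a20429d22) (.leaf (nat_lit 0x1a20429912) (nat_lit 1031))
 (.node (nat_lit 0x1a20429d32) (.leaf (nat_lit 0x1a20429d22) (nat_lit 1287))
 (.leaf (nat_lit 0x1a20429d32) (nat_lit 1543))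
))))) (.node (nat_lit 0x1a20441902) (.node (nat_lit 0x1a20439d4a) (.node (nat_lit 0x1a2043955a) (.node (nat_lit 0x1a2043917a) (.leaf (nat_lit 0x1a2043916a) (nat_lit 770))
 (.node (nat_lit 0x1a2043954a) (.leaf (nat_lit 0x1a2043917a) (nat_lit 1026))
 (.leaf (nat_lit 0x1a2043954a) (nat_lit 1287))
)) (.node (nat_lit 0x1a2043996a) (.leaf (nat_lit 0x1a2043955a) (nat_lit 1031))
 (.node (nat_lit 0x1a2043997a) (.leaf (nat_lit 0x1a2043996a) (nat_lit 1026))
 (.leaf (nat_lit 0x1a2043997a) (nat_lit 1282))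
))) (.node (nat_lit 0x1a20441112) (.node (nat_lit 0x1a20439d5a) (.leaf (nat_lit 0x1a20439d4a) (nat_lit 1029))
 (.node (nat_lit 0x1a20441102) (.leaf (nat_lit 0x1a20439d5a) (nat_lit 1285))
 (.leaf (nat_lit 0x1a20441102) (nat_lit 774))
)) (.node (nat_lit 0x1a20441522) (.leaf (nat_lit 0x1a20441112) (nat_lit 1030))
 (.node (nat_lit 0x1a20441532) (.leaf (nat_lit 0x1a20441522) (nat_lit 1286))
 (.leaf (nat_lit 0x1a20441532) (nat_lit 1542))
)))) (.node (nat_lit 0x1a2045154a) (.node (nat_lit 0x1a20441d32) (.node (nat_lit 0x1a20441912) (.leaf (nat_lit 0x1a20441902) (nat_lit 1030))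
 (.node (nat_lit 0x1a20441d22) (.leaf (nat_lit 0x1a20441912) (nat_lit 1286))
 (.leaf (nat_lit 0x1a20441d22) (nat_lit 1542))
)) (.node (nat_lit 0x1a2045116a) (.leaf (nat_lit 0x1a20441d32) (nat_lit 1798))
 (.node (nat_lit 0x1a2045117a) (.leaf (nat_lit 0x1a2045116a) (nat_lit 1030))
 (.leaf (nat_lit 0x1a2045117a) (nat_lit 1286))
))) (.node (nat_lit 0x1a2045197a) (.node (nat_lit 0x1a2045155a) (.leaf (nat_lit 0x1a2045154a) (nat_lit 1029))
 (.node (nat_lit 0x1a2045196a) (.leaf (nat_lit 0x1a2045155a) (nat_lit 1285))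
 (.leaf (nat_lit 0x1a2045196a) (nat_lit 1286))
)) (.node (nat_lit 0x1a20451d4a) (.leaf (nat_lit 0x1a2045197a) (nat_lit 1542))
 (.node (nat_lit 0x1a20451d5a) (.leaf (nat_lit 0x1a20451d4a) (nat_lit 1285))
 (.leaf (nat_lit 0x1a20451d5a) (nat_lit 1541))
)))))) (.node (nat_lit 0x1c2041836a) (.node (nat_lit 0x1a20470b6a) (.node (nat_lit 0x1a20460f22) (.node (nat_lit 0x1a20460732) (.node (nat_lit 0x1a20460312) (.leaf (nat_lit 0x1a20460302) (nat_lit 774))
 (.node (nat_lit 0x1a20460722) (.leaf (nat_lit 0x1a20460312) (nat_lit 1030))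
 (.leaf (nat_lit 0x1a20460722) (nat_lit 1286))
)) (.node (nat_lit 0x1a20460b02) (.leaf (nat_lit 0x1a20460732) (nat_lit 1542))
 (.node (nat_lit 0x1a20460b12) (.leaf (nat_lit 0x1a20460b02) (nat_lit 1030))
 (.leaf (nat_lit 0x1a20460b12) (nat_lit 1286))
))) (.node (nat_lit 0x1a2047037a) (.node (nat_lit 0x1a20460f32) (.leaf (nat_lit 0x1a20460f22) (nat_lit 1542))
 (.node (nat_lit 0x1a2047036a) (.leaf (nat_lit 0x1a20460f32) (nat_lit 1798))
 (.leaf (nat_lit 0x1a2047036a) (nat_lit 1030))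
)) (.node (nat_lit 0x1a2047074a) (.leaf (nat_lit 0x1a2047037a) (nat_lit 1286))
 (.node (nat_lit 0x1a2047075a) (.leaf (nat_lit 0x1a2047074a) (nat_lit 1030))
 (.leaf (nat_lit 0x1a2047075a) (nat_lit 1286))
)))) (.node (nat_lit 0x1c2040872a) (.node (nat_lit 0x1a20470f5a) (.node (nat_lit 0x1a20470b7a) (.leaf (nat_lit 0x1a20470b6a) (nat_lit 1286))
 (.node (nat_lit 0x1a20470f4a) (.leaf (nat_lit 0x1a20470b7a) (nat_lit 1542))
 (.leaf (nat_lit 0x1a20470f4a) (nat_lit 1286))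
)) (.node (nat_lit 0x1c2040830a) (.leaf (nat_lit 0x1a20470f5a) (nat_lit 1542))
 (.node (nat_lit 0x1c2040831a) (.leaf (nat_lit 0x1c2040830a) (nat_lit 517))
 (.leaf (nat_lit 0x1c2040831a) (nat_lit 773))
))) (.node (nat_lit 0x1c20408b1a) (.node (nat_lit 0x1c2040873a) (.leaf (nat_lit 0x1c2040872a) (nat_lit 1026))
 (.node (nat_lit 0x1c20408b0a) (.leaf (nat_lit 0x1c2040873a) (nat_lit 1282))
 (.leaf (nat_lit 0x1c20408b0a) (nat_lit 773))
)) (.node (nat_lit 0x1c20408f2a) (.leaf (nat_lit 0x1c20408b1a) (nat_lit 1029))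
 (.node (nat_lit 0x1c20408f3a) (.leaf (nat_lit 0x1c20408f2a) (nat_lit 1282))
 (.leaf (nat_lit 0x1c20408f3a) (nat_lit 1538))
))))) (.node (nat_lit 0x1c20429b2a) (.node (nat_lit 0x1c20418f4a) (.node (nat_lit 0x1c2041875a) (.node (nat_lit 0x1c2041837a) (.leaf (nat_lit 0x1c2041836a) (nat_lit 1026))
 (.node (nat_lit 0x1c2041874a) (.leaf (nat_lit 0x1c2041837a) (nat_lit 770))
 (.leaf (nat_lit 0x1c2041874a) (nat_lit 1029))
)) (.node (nat_lit 0x1c20418b6a) (.leaf (nat_lit 0x1c2041875a) (nat_lit 773))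
 (.node (nat_lit 0x1c20418b7a) (.leaf (nat_lit 0x1c20418b6a) (nat_lit 1282))
 (.leaf (nat_lit 0x1c20418b7a) (nat_lit 1026))
))) (.node (nat_lit 0x1c2042933a) (.node (nat_lit 0x1c20418f5a) (.leaf (nat_lit 0x1c20418f4a) (nat_lit 1285))
 (.node (nat_lit 0x1c2042932a) (.leaf (nat_lit 0x1c20418f5a) (nat_lit 1029))
 (.leaf (nat_lit 0x1c2042932a) (nat_lit 1029))
)) (.node (nat_lit 0x1c2042970a) (.leaf (nat_lit 0x1c2042933a) (nat_lit 1285))
 (.node (nat_lit 0x1c2042971a) (.leaf (nat_lit 0x1c2042970a) (nat_lit 1029))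
 (.leaf (nat_lit 0x1c2042971a) (nat_lit 1285))
)))) (.node (nat_lit 0x1c2043976a) (.node (nat_lit 0x1c20429f1a) (.node (nat_lit 0x1c20429b3a) (.leaf (nat_lit 0x1c20429b2a) (nat_lit 773))
 (.node (nat_lit 0x1c20429f0a) (.leaf (nat_lit 0x1c20429b3a) (nat_lit 1029))
 (.leaf (nat_lit 0x1c20429f0a) (nat_lit 773))
)) (.node (nat_lit 0x1c2043934a) (.leaf (nat_lit 0x1c20429f1a) (nat_lit 1029))
 (.node (nat_lit 0x1c2043935a) (.leaf (nat_lit 0x1c2043934a) (nat_lit 1030))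
 (.leaf (nat_lit 0x1c2043935a) (nat_lit 1286))
))) (.node (nat_lit 0x1c20439b5a) (.node (nat_lit 0x1c2043977a) (.leaf (nat_lit 0x1c2043976a) (nat_lit 1541))
 (.node (nat_lit 0x1c20439b4a) (.leaf (nat_lit 0x1c2043977a) (nat_lit 1285))
 (.leaf (nat_lit 0x1c20439b4a) (nat_lit 1285))
)) (.node (nat_lit 0x1c20439f6a) (.leaf (nat_lit 0x1c20439b5a) (nat_lit 1029))
 (.node (nat_lit 0x1c20439f7a) (.leaf (nat_lit 0x1c20439f6a) (nat_lit 1285))
 (.leaf (nat_lit 0x1c20439f7a) (nat_lit 1029))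
))))))) (.node (nat_lit 0x1e2042912a) (.node (nat_lit 0x1c2047830a) (.node (nat_lit 0x1c20459b2a) (.node (nat_lit 0x1c20449f6a) (.node (nat_lit 0x1c2044977a) (.node (nat_lit 0x1c2044935a) (.leaf (nat_lit 0x1c2044934a) (nat_lit 773))
 (.node (nat_lit 0x1c2044976a) (.leaf (nat_lit 0x1c2044935a) (nat_lit 1029))
 (.leaf (nat_lit 0x1c2044976a) (nat_lit 1282))
)) (.node (nat_lit 0x1c20449b4a) (.leaf (nat_lit 0x1c2044977a) (nat_lit 1026))
 (.node (nat_lit 0x1c20449b5a) (.leaf (nat_lit 0x1c20449b4a) (nat_lit 1029))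
 (.leaf (nat_lit 0x1c20449b5a) (nat_lit 1285))
))) (.node (nat_lit 0x1c2045933a) (.node (nat_lit 0x1c20449f7a) (.leaf (nat_lit 0x1c20449f6a) (nat_lit 1027))
 (.node (nat_lit 0x1c2045932a) (.leaf (nat_lit 0x1c20449f7a) (nat_lit 1283))
 (.leaf (nat_lit 0x1c2045932a) (nat_lit 1282))
)) (.node (nat_lit 0x1c2045970a) (.leaf (nat_lit 0x1c2045933a) (nat_lit 1026))
 (.node (nat_lit 0x1c2045971a) (.leaf (nat_lit 0x1c2045970a) (nat_lit 773))
 (.leaf (nat_lit 0x1c2045971a) (nat_lit 1029))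
)))) (.node (nat_lit 0x1c2046874a) (.node (nat_lit 0x1c20459f1a) (.node (nat_lit 0x1c20459b3a) (.leaf (nat_lit 0x1c20459b2a) (nat_lit 1030))
 (.node (nat_lit 0x1c20459f0a) (.leaf (nat_lit 0x1c20459b3a) (nat_lit 1286))
 (.leaf (nat_lit 0x1c20459f0a) (nat_lit 1029))
)) (.node (nat_lit 0x1c2046836a) (.leaf (nat_lit 0x1c20459f1a) (nat_lit 1285))
 (.node (nat_lit 0x1c2046837a) (.leaf (nat_lit 0x1c2046836a) (nat_lit 772))
 (.leaf (nat_lit 0x1c2046837a) (nat_lit 1028))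
))) (.node (nat_lit 0x1c20468b7a) (.node (nat_lit 0x1c2046875a) (.leaf (nat_lit 0x1c2046874a) (nat_lit 1286))
 (.node (nat_lit 0x1c20468b6a) (.leaf (nat_lit 0x1c2046875a) (nat_lit 1030))
 (.leaf (nat_lit 0x1c20468b6a) (nat_lit 1028))
)) (.node (nat_lit 0x1c20468f4a) (.leaf (nat_lit 0x1c20468b7a) (nat_lit 1284))
 (.node (nat_lit 0x1c20468f5a) (.leaf (nat_lit 0x1c20468f4a) (nat_lit 1029))
 (.leaf (nat_lit 0x1c20468f5a) (nat_lit 1285))
))))) (.node (nat_lit 0x1e20408b0a) (.node (nat_lit 0x1c20478f2a) (.node (nat_lit 0x1c2047873a) (.node (nat_lit 0x1c2047831a) (.leaf (nat_lit 0x1c2047830a) (nat_lit 774))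
 (.node (nat_lit 0x1c2047872a) (.leaf (nat_lit 0x1c2047831a) (nat_lit 1030))
 (.leaf (nat_lit 0x1c2047872a) (nat_lit 1284))
)) (.node (nat_lit 0x1c20478b0a) (.leaf (nat_lit 0x1c2047873a) (nat_lit 1028))
 (.node (nat_lit 0x1c20478b1a) (.leaf (nat_lit 0x1c20478b0a) (nat_lit 1030))
 (.leaf (nat_lit 0x1c20478b1a) (nat_lit 1286))
))) (.node (nat_lit 0x1e2040831a) (.node (nat_lit 0x1c20478f3a) (.leaf (nat_lit 0x1c20478f2a) (nat_lit 1029))
 (.node (nat_lit 0x1e2040830a) (.leaf (nat_lit 0x1c20478f3a) (nat_lit 1285))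
 (.leaf (nat_lit 0x1e2040830a) (nat_lit 775))
)) (.node (nat_lit 0x1e2040872a) (.leaf (nat_lit 0x1e2040831a) (nat_lit 1031))
 (.node (nat_lit 0x1e2040873a) (.leaf (nat_lit 0x1e2040872a) (nat_lit 1282))
 (.leaf (nat_lit 0x1e2040873a) (nat_lit 1026))
)))) (.node (nat_lit 0x1e20418742) (.node (nat_lit 0x1e20408f3a) (.node (nat_lit 0x1e20408b1a) (.leaf (nat_lit 0x1e20408b0a) (nat_lit 1031))
 (.node (nat_lit 0x1e20408f2a) (.leaf (nat_lit 0x1e20408b1a) (nat_lit 1287))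
 (.leaf (nat_lit 0x1e20408f2a) (nat_lit 1027))
)) (.node (nat_lit 0x1e20418362) (.leaf (nat_lit 0x1e20408f3a) (nat_lit 1283))
 (.node (nat_lit 0x1e20418372) (.leaf (nat_lit 0x1e20418362) (nat_lit 775))
 (.leaf (nat_lit 0x1e20418372) (nat_lit 1031))
))) (.node (nat_lit 0x1e20418b72) (.node (nat_lit 0x1e20418752) (.leaf (nat_lit 0x1e20418742) (nat_lit 775))
 (.node (nat_lit 0x1e20418b62) (.leaf (nat_lit 0x1e20418752) (nat_lit 1031))
 (.leaf (nat_lit 0x1e20418b62) (nat_lit 1031))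
)) (.node (nat_lit 0x1e20418f42) (.leaf (nat_lit 0x1e20418b72) (nat_lit 1287))
 (.node (nat_lit 0x1e20418f52) (.leaf (nat_lit 0x1e20418f42) (nat_lit 1031))
 (.leaf (nat_lit 0x1e20418f52) (nat_lit 1287))
)))))) (.node (nat_lit 0x1e2045112a) (.node (nat_lit 0x1e20439942) (.node (nat_lit 0x1e20429d0a) (.node (nat_lit 0x1e2042951a) (.node (nat_lit 0x1e2042913a) (.leaf (nat_lit 0x1e2042912a) (nat_lit 775))
 (.node (nat_lit 0x1e2042950a) (.leaf (nat_lit 0x1e2042913a) (nat_lit 1031))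
 (.leaf (nat_lit 0x1e2042950a) (nat_lit 775))
)) (.node (nat_lit 0x1e2042992a) (.leaf (nat_lit 0x1e2042951a) (nat_lit 1031))
 (.node (nat_lit 0x1e2042993a) (.leaf (nat_lit 0x1e2042992a) (nat_lit 1031))
 (.leaf (nat_lit 0x1e2042993a) (nat_lit 1287))
))) (.node (nat_lit 0x1e20439152) (.node (nat_lit 0x1e20429d1a) (.leaf (nat_lit 0x1e20429d0a) (nat_lit 1031))
 (.node (nat_lit 0x1e20439142) (.leaf (nat_lit 0x1e20429d1a) (nat_lit 1287))
 (.leaf (nat_lit 0x1e20439142) (nat_lit 775))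
)) (.node (nat_lit 0x1e20439562) (.leaf (nat_lit 0x1e20439152) (nat_lit 1031))
 (.node (nat_lit 0x1e20439572) (.leaf (nat_lit 0x1e20439562) (nat_lit 1282))
 (.leaf (nat_lit 0x1e20439572) (nat_lit 1026))
)))) (.node (nat_lit 0x1e20441562) (.node (nat_lit 0x1e20439d72) (.node (nat_lit 0x1e20439952) (.leaf (nat_lit 0x1e20439942) (nat_lit 1031))
 (.node (nat_lit 0x1e20439d62) (.leaf (nat_lit 0x1e20439952) (nat_lit 1287))
 (.leaf (nat_lit 0x1e20439d62) (nat_lit 1027))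
)) (.node (nat_lit 0x1e20441142) (.leaf (nat_lit 0x1e20439d72) (nat_lit 1283))
 (.node (nat_lit 0x1e20441152) (.leaf (nat_lit 0x1e20441142) (nat_lit 1030))
 (.leaf (nat_lit 0x1e20441152) (nat_lit 1286))
))) (.node (nat_lit 0x1e20441952) (.node (nat_lit 0x1e20441572) (.leaf (nat_lit 0x1e20441562) (nat_lit 1542))
 (.node (nat_lit 0x1e20441942) (.leaf (nat_lit 0x1e20441572) (nat_lit 1286))
 (.leaf (nat_lit 0x1e20441942) (nat_lit 1286))
)) (.node (nat_lit 0x1e20441d62) (.leaf (nat_lit 0x1e20441952) (nat_lit 1542))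
 (.node (nat_lit 0x1e20441d72) (.leaf (nat_lit 0x1e20441d62) (nat_lit 1286))
 (.leaf (nat_lit 0x1e20441d72) (nat_lit 1542))
))))) (.node (nat_lit 0x1e20460b62) (.node (nat_lit 0x1e20451d0a) (.node (nat_lit 0x1e2045151a) (.node (nat_lit 0x1e2045113a) (.leaf (nat_lit 0x1e2045112a) (nat_lit 1030))
 (.node (nat_lit 0x1e2045150a) (.leaf (nat_lit 0x1e2045113a) (nat_lit 1286))
 (.leaf (nat_lit 0x1e2045150a) (nat_lit 1030))
)) (.node (nat_lit 0x1e2045192a) (.leaf (nat_lit 0x1e2045151a) (nat_lit 1286))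
 (.node (nat_lit 0x1e2045193a) (.leaf (nat_lit 0x1e2045192a) (nat_lit 1286))
 (.leaf (nat_lit 0x1e2045193a) (nat_lit 1542))
))) (.node (nat_lit 0x1e20460372) (.node (nat_lit 0x1e20451d1a) (.leaf (nat_lit 0x1e20451d0a) (nat_lit 1286))
 (.node (nat_lit 0x1e20460362) (.leaf (nat_lit 0x1e20451d1a) (nat_lit 1542))
 (.leaf (nat_lit 0x1e20460362) (nat_lit 1030))
)) (.node (nat_lit 0x1e20460742) (.leaf (nat_lit 0x1e20460372) (nat_lit 1286))
 (.node (nat_lit 0x1e20460752) (.leaf (nat_lit 0x1e20460742) (nat_lit 1030))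
 (.leaf (nat_lit 0x1e20460752) (nat_lit 1286))
)))) (.node (nat_lit 0x1e2047072a) (.node (nat_lit 0x1e20460f52) (.node (nat_lit 0x1e20460b72) (.leaf (nat_lit 0x1e20460b62) (nat_lit 1286))
 (.node (nat_lit 0x1e20460f42) (.leaf (nat_lit 0x1e20460b72) (nat_lit 1542))
 (.leaf (nat_lit 0x1e20460f42) (nat_lit 1286))
)) (.node (nat_lit 0x1e2047030a) (.leaf (nat_lit 0x1e20460f52) (nat_lit 1542))
 (.node (nat_lit 0x1e2047031a) (.leaf (nat_lit 0x1e2047030a) (nat_lit 1030))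
 (.leaf (nat_lit 0x1e2047031a) (nat_lit 1286))
))) (.node (nat_lit 0x1e20470b1a) (.node (nat_lit 0x1e2047073a) (.leaf (nat_lit 0x1e2047072a) (nat_lit 1542))
 (.node (nat_lit 0x1e20470b0a) (.leaf (nat_lit 0x1e2047073a) (nat_lit 1286))
 (.leaf (nat_lit 0x1e20470b0a) (nat_lit 1286))
)) (.node (nat_lit 0x1e20470f2a) (.leaf (nat_lit 0x1e20470b1a) (nat_lit 1542))
 (.node (nat_lit 0x1e20470f3a) (.leaf (nat_lit 0x1e20470f2a) (nat_lit 1286))
 (.leaf (nat_lit 0x1e20470f3a) (nat_lit 1542))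
))))))))))

theorem C2_ok : genOK A2 [(nat_lit 0x1020408112), (nat_lit 0x1020408902), (nat_lit 0x1020418142), (nat_lit 0x1020429102), (nat_lit 0x142040810a), (nat_lit 0x1820408302), (nat_lit 0x1020448102), (nat_lit 0x1220408102)] C2_t (nat_lit 768) = true := by decide +kernel

noncomputable def U_t : ST :=
(.node (nat_lit 0x1820408302) (.node (nat_lit 0x142040810a) (.node (nat_lit 0x1030408106) (.node (nat_lit 0x1020448102) (.node (nat_lit 0x1020429102) (.node (nat_lit 0x1020418142) (.node (nat_lit 0x1020408902) (.node (nat_lit 0x1020408522) (.node (nat_lit 0x1020408112) (.leaf (nat_lit 0x1020408102) (nat_lit 0))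
 (.leaf (nat_lit 0x1020408112) (nat_lit 3587))
) (.node (nat_lit 0x1020408532) (.leaf (nat_lit 0x1020408522) (nat_lit 3074))
 (.leaf (nat_lit 0x1020408532) (nat_lit 1027))
)) (.node (nat_lit 0x1020408d22) (.node (nat_lit 0x1020408912) (.leaf (nat_lit 0x1020408902) (nat_lit 259))
 (.leaf (nat_lit 0x1020408912) (nat_lit 3330))
) (.node (nat_lit 0x1020408d32) (.leaf (nat_lit 0x1020408d22) (nat_lit 3331))
 (.leaf (nat_lit 0x1020408d32) (nat_lit 769))
))) (.node (nat_lit 0x1020418942) (.node (nat_lit 0x1020418562) (.node (nat_lit 0x1020418152) (.leaf (nat_lit 0x1020418142) (nat_lit 2563))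
 (.leaf (nat_lit 0x1020418152) (nat_lit 2050))
) (.node (nat_lit 0x1020418572) (.leaf (nat_lit 0x1020418562) (nat_lit 2563))
 (.leaf (nat_lit 0x1020418572) (nat_lit 2050))
)) (.node (nat_lit 0x1020418d62) (.node (nat_lit 0x1020418952) (.leaf (nat_lit 0x1020418942) (nat_lit 2306))
 (.leaf (nat_lit 0x1020418952) (nat_lit 2307))
) (.node (nat_lit 0x1020418d72) (.leaf (nat_lit 0x1020418d62) (nat_lit 2306))
 (.leaf (nat_lit 0x1020418d72) (nat_lit 2307))
)))) (.node (nat_lit 0x1020439142) (.node (nat_lit 0x1020429902) (.node (nat_lit 0x1020429522) (.node (nat_lit 0x1020429112) (.leaf (nat_lit 0x1020429102) (nat_lit 1283))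
 (.leaf (nat_lit 0x1020429112) (nat_lit 2818))
) (.node (nat_lit 0x1020429532) (.leaf (nat_lit 0x1020429522) (nat_lit 2819))
 (.leaf (nat_lit 0x1020429532) (nat_lit 1794))
)) (.node (nat_lit 0x1020429d22) (.node (nat_lit 0x1020429912) (.leaf (nat_lit 0x1020429902) (nat_lit 1026))
 (.leaf (nat_lit 0x1020429912) (nat_lit 3075))
) (.node (nat_lit 0x1020429d32) (.leaf (nat_lit 0x1020429d22) (nat_lit 2562))
 (.leaf (nat_lit 0x1020429d32) (nat_lit 2051))
))) (.node (nat_lit 0x1020439942) (.node (nat_lit 0x1020439562) (.node (nat_lit 0x1020439152) (.leaf (nat_lit 0x1020439142) (nat_lit 1793))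
 (.leaf (nat_lit 0x1020439152) (nat_lit 2307))
) (.node (nat_lit 0x1020439572) (.leaf (nat_lit 0x1020439562) (nat_lit 2306))
 (.leaf (nat_lit 0x1020439572) (nat_lit 1795))
)) (.node (nat_lit 0x1020439d62) (.node (nat_lit 0x1020439952) (.leaf (nat_lit 0x1020439942) (nat_lit 2051))
 (.leaf (nat_lit 0x1020439952) (nat_lit 2050))
) (.node (nat_lit 0x1020439d72) (.leaf (nat_lit 0x1020439d62) (nat_lit 2563))
 (.leaf (nat_lit 0x1020439d72) (nat_lit 1537))
))))) (.node (nat_lit 0x1020469102) (.node (nat_lit 0x1020458142) (.node (nat_lit 0x1020448902) (.node (nat_lit 0x1020448522) (.node (nat_lit 0x1020448112) (.leaf (nat_lit 0x1020448102) (nat_lit 256))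
 (.leaf (nat_lit 0x1020448112) (nat_lit 3331))
) (.node (nat_lit 0x1020448532) (.leaf (nat_lit 0x1020448522) (nat_lit 2818))
 (.leaf (nat_lit 0x1020448532) (nat_lit 1283))
)) (.node (nat_lit 0x1020448d22) (.node (nat_lit 0x1020448912) (.leaf (nat_lit 0x1020448902) (nat_lit 515))
 (.leaf (nat_lit 0x1020448912) (nat_lit 3074))
) (.node (nat_lit 0x1020448d32) (.leaf (nat_lit 0x1020448d22) (nat_lit 3075))
 (.leaf (nat_lit 0x1020448d32) (nat_lit 1025))
))) (.node (nat_lit 0x1020458942) (.node (nat_lit 0x1020458562) (.node (nat_lit 0x1020458152) (.leaf (nat_lit 0x1020458142) (nat_lit 2819))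
 (.leaf (nat_lit 0x1020458152) (nat_lit 1794))
) (.node (nat_lit 0x1020458572) (.leaf (nat_lit 0x1020458562) (nat_lit 2307))
 (.leaf (nat_lit 0x1020458572) (nat_lit 2306))
)) (.node (nat_lit 0x1020458d62) (.node (nat_lit 0x1020458952) (.leaf (nat_lit 0x1020458942) (nat_lit 2562))
 (.leaf (nat_lit 0x1020458952) (nat_lit 2051))
) (.node (nat_lit 0x1020458d72) (.leaf (nat_lit 0x1020458d62) (nat_lit 2050))
 (.leaf (nat_lit 0x1020458d72) (nat_lit 2563))
)))) (.node (nat_lit 0x1020479142) (.node (nat_lit 0x1020469902) (.node (nat_lit 0x1020469522) (.node (nat_lit 0x1020469112) (.leaf (nat_lit 0x1020469102) (nat_lit 1027))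
 (.leaf (nat_lit 0x1020469112) (nat_lit 3074))
) (.node (nat_lit 0x1020469532) (.leaf (nat_lit 0x1020469522) (nat_lit 3075))
 (.leaf (nat_lit 0x1020469532) (nat_lit 1538))
)) (.node (nat_lit 0x1020469d22) (.node (nat_lit 0x1020469912) (.leaf (nat_lit 0x1020469902) (nat_lit 770))
 (.leaf (nat_lit 0x1020469912) (nat_lit 3331))
) (.node (nat_lit 0x1020469d32) (.leaf (nat_lit 0x1020469d22) (nat_lit 2818))
 (.leaf (nat_lit 0x1020469d32) (nat_lit 1795))
))) (.node (nat_lit 0x1020479942) (.node (nat_lit 0x1020479562) (.node (nat_lit 0x1020479152) (.leaf (nat_lit 0x1020479142) (nat_lit 1537))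
 (.leaf (nat_lit 0x1020479152) (nat_lit 2563))
) (.node (nat_lit 0x1020479572) (.leaf (nat_lit 0x1020479562) (nat_lit 2562))
 (.leaf (nat_lit 0x1020479572) (nat_lit 1539))
)) (.node (nat_lit 0x1020479d62) (.node (nat_lit 0x1020479952) (.leaf (nat_lit 0x1020479942) (nat_lit 1795))
 (.leaf (nat_lit 0x1020479952) (nat_lit 2306))
) (.node (nat_lit 0x1020479d72) (.leaf (nat_lit 0x1020479d62) (nat_lit 2819))
 (.leaf (nat_lit 0x1020479d72) (nat_lit 1281))
)))))) (.node (nat_lit 0x1030448106) (.node (nat_lit 0x1030429146) (.node (nat_lit 0x1030418146) (.node (nat_lit 0x1030408926) (.node (nat_lit 0x1030408526) (.node (nat_lit 0x1030408116) (.leaf (nat_lit 0x1030408106) (nat_lit 257))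
 (.leaf (nat_lit 0x1030408116) (nat_lit 3331))
) (.node (nat_lit 0x1030408536) (.leaf (nat_lit 0x1030408526) (nat_lit 771))
 (.leaf (nat_lit 0x1030408536) (nat_lit 2818))
)) (.node (nat_lit 0x1030408d06) (.node (nat_lit 0x1030408936) (.leaf (nat_lit 0x1030408926) (nat_lit 513))
 (.leaf (nat_lit 0x1030408936) (nat_lit 3075))
) (.node (nat_lit 0x1030408d16) (.leaf (nat_lit 0x1030408d06) (nat_lit 515))
 (.leaf (nat_lit 0x1030408d16) (nat_lit 3074))
))) (.node (nat_lit 0x1030418966) (.node (nat_lit 0x1030418566) (.node (nat_lit 0x1030418156) (.leaf (nat_lit 0x1030418146) (nat_lit 2307))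
 (.leaf (nat_lit 0x1030418156) (nat_lit 2306))
) (.node (nat_lit 0x1030418576) (.leaf (nat_lit 0x1030418566) (nat_lit 1794))
 (.leaf (nat_lit 0x1030418576) (nat_lit 2819))
)) (.node (nat_lit 0x1030418d46) (.node (nat_lit 0x1030418976) (.leaf (nat_lit 0x1030418966) (nat_lit 2051))
 (.leaf (nat_lit 0x1030418976) (nat_lit 2562))
) (.node (nat_lit 0x1030418d56) (.leaf (nat_lit 0x1030418d46) (nat_lit 2050))
 (.leaf (nat_lit 0x1030418d56) (nat_lit 2563))
)))) (.node (nat_lit 0x1030439106) (.node (nat_lit 0x1030429966) (.node (nat_lit 0x1030429566) (.node (nat_lit 0x1030429156) (.leaf (nat_lit 0x1030429146) (nat_lit 1537))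
 (.leaf (nat_lit 0x1030429156) (nat_lit 2563))
) (.node (nat_lit 0x1030429576) (.leaf (nat_lit 0x1030429566) (nat_lit 1539))
 (.leaf (nat_lit 0x1030429576) (nat_lit 2562))
)) (.node (nat_lit 0x1030429d46) (.node (nat_lit 0x1030429976) (.leaf (nat_lit 0x1030429966) (nat_lit 1281))
 (.leaf (nat_lit 0x1030429976) (nat_lit 2819))
) (.node (nat_lit 0x1030429d56) (.leaf (nat_lit 0x1030429d46) (nat_lit 1795))
 (.leaf (nat_lit 0x1030429d56) (nat_lit 2306))
))) (.node (nat_lit 0x1030439926) (.node (nat_lit 0x1030439526) (.node (nat_lit 0x1030439116) (.leaf (nat_lit 0x1030439106) (nat_lit 1539))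
 (.leaf (nat_lit 0x1030439116) (nat_lit 2562))
) (.node (nat_lit 0x1030439536) (.leaf (nat_lit 0x1030439526) (nat_lit 1538))
 (.leaf (nat_lit 0x1030439536) (nat_lit 2563))
)) (.node (nat_lit 0x1030439d06) (.node (nat_lit 0x1030439936) (.leaf (nat_lit 0x1030439926) (nat_lit 1795))
 (.leaf (nat_lit 0x1030439936) (nat_lit 2306))
) (.node (nat_lit 0x1030439d16) (.leaf (nat_lit 0x1030439d06) (nat_lit 1282))
 (.leaf (nat_lit 0x1030439d16) (nat_lit 2819))
))))) (.node (nat_lit 0x1030469146) (.node (nat_lit 0x1030458146) (.node (nat_lit 0x1030448926) (.node (nat_lit 0x1030448526) (.node (nat_lit 0x1030448116) (.leaf (nat_lit 0x1030448106) (nat_lit 513))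
 (.leaf (nat_lit 0x1030448116) (nat_lit 3075))
) (.node (nat_lit 0x1030448536) (.leaf (nat_lit 0x1030448526) (nat_lit 1027))
 (.leaf (nat_lit 0x1030448536) (nat_lit 2562))
)) (.node (nat_lit 0x1030448d06) (.node (nat_lit 0x1030448936) (.leaf (nat_lit 0x1030448926) (nat_lit 769))
 (.leaf (nat_lit 0x1030448936) (nat_lit 2819))
) (.node (nat_lit 0x1030448d16) (.leaf (nat_lit 0x1030448d06) (nat_lit 771))
 (.leaf (nat_lit 0x1030448d16) (nat_lit 2818))
))) (.node (nat_lit 0x1030458966) (.node (nat_lit 0x1030458566) (.node (nat_lit 0x1030458156) (.leaf (nat_lit 0x1030458146) (nat_lit 2563))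
 (.leaf (nat_lit 0x1030458156) (nat_lit 2050))
) (.node (nat_lit 0x1030458576) (.leaf (nat_lit 0x1030458566) (nat_lit 2050))
 (.leaf (nat_lit 0x1030458576) (nat_lit 2563))
)) (.node (nat_lit 0x1030458d46) (.node (nat_lit 0x1030458976) (.leaf (nat_lit 0x1030458966) (nat_lit 2307))
 (.leaf (nat_lit 0x1030458976) (nat_lit 2306))
) (.node (nat_lit 0x1030458d56) (.leaf (nat_lit 0x1030458d46) (nat_lit 2306))
 (.leaf (nat_lit 0x1030458d56) (nat_lit 2307))
)))) (.node (nat_lit 0x1030479106) (.node (nat_lit 0x1030469966) (.node (nat_lit 0x1030469566) (.node (nat_lit 0x1030469156) (.leaf (nat_lit 0x1030469146) (nat_lit 1281))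
 (.leaf (nat_lit 0x1030469156) (nat_lit 2819))
) (.node (nat_lit 0x1030469576) (.leaf (nat_lit 0x1030469566) (nat_lit 1283))
 (.leaf (nat_lit 0x1030469576) (nat_lit 2818))
)) (.node (nat_lit 0x1030469d46) (.node (nat_lit 0x1030469976) (.leaf (nat_lit 0x1030469966) (nat_lit 1025))
 (.leaf (nat_lit 0x1030469976) (nat_lit 3075))
) (.node (nat_lit 0x1030469d56) (.leaf (nat_lit 0x1030469d46) (nat_lit 1539))
 (.leaf (nat_lit 0x1030469d56) (nat_lit 2562))
))) (.node (nat_lit 0x1030479926) (.node (nat_lit 0x1030479526) (.node (nat_lit 0x1030479116) (.leaf (nat_lit 0x1030479106) (nat_lit 1283))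
 (.leaf (nat_lit 0x1030479116) (nat_lit 2818))
) (.node (nat_lit 0x1030479536) (.leaf (nat_lit 0x1030479526) (nat_lit 1282))
 (.leaf (nat_lit 0x1030479536) (nat_lit 2819))
)) (.node (nat_lit 0x1030479d06) (.node (nat_lit 0x1030479936) (.leaf (nat_lit 0x1030479926) (nat_lit 1539))
 (.leaf (nat_lit 0x1030479936) (nat_lit 2562))
) (.node (nat_lit 0x1030479d16) (.leaf (nat_lit 0x1030479d06) (nat_lit 1026))
 (.leaf (nat_lit 0x1030479d16) (nat_lit 3075))
))))))) (.node (nat_lit 0x143040810e) (.node (nat_lit 0x142044814a) (.node (nat_lit 0x142042912a) (.node (nat_lit 0x142041814a) (.node (nat_lit 0x142040890a) (.node (nat_lit 0x142040852a) (.node (nat_lit 0x142040811a) (.leaf (nat_lit 0x142040810a) (nat_lit 1026))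
 (.leaf (nat_lit 0x142040811a) (nat_lit 3075))
) (.node (nat_lit 0x142040853a) (.leaf (nat_lit 0x142040852a) (nat_lit 2562))
 (.leaf (nat_lit 0x142040853a) (nat_lit 1539))
)) (.node (nat_lit 0x1420408d2a) (.node (nat_lit 0x142040891a) (.leaf (nat_lit 0x142040890a) (nat_lit 1283))
 (.leaf (nat_lit 0x142040891a) (nat_lit 2818))
) (.node (nat_lit 0x1420408d3a) (.leaf (nat_lit 0x1420408d2a) (nat_lit 2819))
 (.leaf (nat_lit 0x1420408d3a) (nat_lit 1282))
))) (.node (nat_lit 0x142041894a) (.node (nat_lit 0x142041856a) (.node (nat_lit 0x142041815a) (.leaf (nat_lit 0x142041814a) (nat_lit 1536))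
 (.leaf (nat_lit 0x142041815a) (nat_lit 2563))
) (.node (nat_lit 0x142041857a) (.leaf (nat_lit 0x142041856a) (nat_lit 2050))
 (.leaf (nat_lit 0x142041857a) (nat_lit 2051))
)) (.node (nat_lit 0x1420418d6a) (.node (nat_lit 0x142041895a) (.leaf (nat_lit 0x142041894a) (nat_lit 1795))
 (.leaf (nat_lit 0x142041895a) (nat_lit 2306))
) (.node (nat_lit 0x1420418d7a) (.leaf (nat_lit 0x1420418d6a) (nat_lit 2307))
 (.leaf (nat_lit 0x1420418d7a) (nat_lit 1792))
)))) (.node (nat_lit 0x142043916a) (.node (nat_lit 0x142042992a) (.node (nat_lit 0x142042950a) (.node (nat_lit 0x142042913a) (.leaf (nat_lit 0x142042912a) (nat_lit 1795))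
 (.leaf (nat_lit 0x142042913a) (nat_lit 1792))
) (.node (nat_lit 0x142042951a) (.leaf (nat_lit 0x142042950a) (nat_lit 1795))
 (.leaf (nat_lit 0x142042951a) (nat_lit 1793))
)) (.node (nat_lit 0x1420429d0a) (.node (nat_lit 0x142042993a) (.leaf (nat_lit 0x142042992a) (nat_lit 1537))
 (.leaf (nat_lit 0x142042993a) (nat_lit 2051))
) (.node (nat_lit 0x1420429d1a) (.leaf (nat_lit 0x1420429d0a) (nat_lit 1536))
 (.leaf (nat_lit 0x1420429d1a) (nat_lit 2051))
))) (.node (nat_lit 0x142043996a) (.node (nat_lit 0x142043954a) (.node (nat_lit 0x142043917a) (.leaf (nat_lit 0x142043916a) (nat_lit 1795))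
 (.leaf (nat_lit 0x142043917a) (nat_lit 1794))
) (.node (nat_lit 0x142043955a) (.leaf (nat_lit 0x142043954a) (nat_lit 1795))
 (.leaf (nat_lit 0x142043955a) (nat_lit 1793))
)) (.node (nat_lit 0x1420439d4a) (.node (nat_lit 0x142043997a) (.leaf (nat_lit 0x142043996a) (nat_lit 1537))
 (.leaf (nat_lit 0x142043997a) (nat_lit 2051))
) (.node (nat_lit 0x1420439d5a) (.leaf (nat_lit 0x1420439d4a) (nat_lit 1538))
 (.leaf (nat_lit 0x1420439d5a) (nat_lit 2051))
))))) (.node (nat_lit 0x142046916a) (.node (nat_lit 0x142045810a) (.node (nat_lit 0x142044894a) (.node (nat_lit 0x142044856a) (.node (nat_lit 0x142044815a) (.leaf (nat_lit 0x142044814a) (nat_lit 1282))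
 (.leaf (nat_lit 0x142044815a) (nat_lit 2819))
) (.node (nat_lit 0x142044857a) (.leaf (nat_lit 0x142044856a) (nat_lit 2306))
 (.leaf (nat_lit 0x142044857a) (nat_lit 1795))
)) (.node (nat_lit 0x1420448d6a) (.node (nat_lit 0x142044895a) (.leaf (nat_lit 0x142044894a) (nat_lit 1539))
 (.leaf (nat_lit 0x142044895a) (nat_lit 2562))
) (.node (nat_lit 0x1420448d7a) (.leaf (nat_lit 0x1420448d6a) (nat_lit 2563))
 (.leaf (nat_lit 0x1420448d7a) (nat_lit 1538))
))) (.node (nat_lit 0x142045890a) (.node (nat_lit 0x142045852a) (.node (nat_lit 0x142045811a) (.leaf (nat_lit 0x142045810a) (nat_lit 1280))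
 (.leaf (nat_lit 0x142045811a) (nat_lit 2819))
) (.node (nat_lit 0x142045853a) (.leaf (nat_lit 0x142045852a) (nat_lit 2306))
 (.leaf (nat_lit 0x142045853a) (nat_lit 1795))
)) (.node (nat_lit 0x1420458d2a) (.node (nat_lit 0x142045891a) (.leaf (nat_lit 0x142045890a) (nat_lit 1539))
 (.leaf (nat_lit 0x142045891a) (nat_lit 2562))
) (.node (nat_lit 0x1420458d3a) (.leaf (nat_lit 0x1420458d2a) (nat_lit 2563))
 (.leaf (nat_lit 0x1420458d3a) (nat_lit 1536))
)))) (.node (nat_lit 0x142047912a) (.node (nat_lit 0x142046996a) (.node (nat_lit 0x142046954a) (.node (nat_lit 0x142046917a) (.leaf (nat_lit 0x142046916a) (nat_lit 1539))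
 (.leaf (nat_lit 0x142046917a) (nat_lit 2048))
) (.node (nat_lit 0x142046955a) (.leaf (nat_lit 0x142046954a) (nat_lit 2051))
 (.leaf (nat_lit 0x142046955a) (nat_lit 1537))
)) (.node (nat_lit 0x1420469d4a) (.node (nat_lit 0x142046997a) (.leaf (nat_lit 0x142046996a) (nat_lit 1281))
 (.leaf (nat_lit 0x142046997a) (nat_lit 2307))
) (.node (nat_lit 0x1420469d5a) (.leaf (nat_lit 0x1420469d4a) (nat_lit 1792))
 (.leaf (nat_lit 0x1420469d5a) (nat_lit 1795))
))) (.node (nat_lit 0x142047992a) (.node (nat_lit 0x142047950a) (.node (nat_lit 0x142047913a) (.leaf (nat_lit 0x142047912a) (nat_lit 2051))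
 (.leaf (nat_lit 0x142047913a) (nat_lit 1538))
) (.node (nat_lit 0x142047951a) (.leaf (nat_lit 0x142047950a) (nat_lit 1539))
 (.leaf (nat_lit 0x142047951a) (nat_lit 2049))
)) (.node (nat_lit 0x1420479d0a) (.node (nat_lit 0x142047993a) (.leaf (nat_lit 0x142047992a) (nat_lit 1793))
 (.leaf (nat_lit 0x142047993a) (nat_lit 1795))
) (.node (nat_lit 0x1420479d1a) (.leaf (nat_lit 0x1420479d0a) (nat_lit 1282))
 (.leaf (nat_lit 0x1420479d1a) (nat_lit 2307))
)))))) (.node (nat_lit 0x143044814e) (.node (nat_lit 0x143042916e) (.node (nat_lit 0x143041814e) (.node (nat_lit 0x143040892e) (.node (nat_lit 0x143040852e) (.node (nat_lit 0x143040811e) (.leaf (nat_lit 0x143040810e) (nat_lit 770))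
 (.leaf (nat_lit 0x143040811e) (nat_lit 3331))
) (.node (nat_lit 0x143040853e) (.leaf (nat_lit 0x143040852e) (nat_lit 1283))
 (.leaf (nat_lit 0x143040853e) (nat_lit 2818))
)) (.node (nat_lit 0x1430408d0e) (.node (nat_lit 0x143040893e) (.leaf (nat_lit 0x143040892e) (nat_lit 1026))
 (.leaf (nat_lit 0x143040893e) (nat_lit 3075))
) (.node (nat_lit 0x1430408d1e) (.leaf (nat_lit 0x1430408d0e) (nat_lit 1027))
 (.leaf (nat_lit 0x1430408d1e) (nat_lit 3074))
))) (.node (nat_lit 0x143041896e) (.node (nat_lit 0x143041856e) (.node (nat_lit 0x143041815e) (.leaf (nat_lit 0x143041814e) (nat_lit 1280))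
 (.leaf (nat_lit 0x143041815e) (nat_lit 2819))
) (.node (nat_lit 0x143041857e) (.leaf (nat_lit 0x143041856e) (nat_lit 1795))
 (.leaf (nat_lit 0x143041857e) (nat_lit 2306))
)) (.node (nat_lit 0x1430418d4e) (.node (nat_lit 0x143041897e) (.leaf (nat_lit 0x143041896e) (nat_lit 1536))
 (.leaf (nat_lit 0x143041897e) (nat_lit 2563))
) (.node (nat_lit 0x1430418d5e) (.leaf (nat_lit 0x1430418d4e) (nat_lit 1539))
 (.leaf (nat_lit 0x1430418d5e) (nat_lit 2562))
)))) (.node (nat_lit 0x143043912e) (.node (nat_lit 0x143042994e) (.node (nat_lit 0x143042954e) (.node (nat_lit 0x143042917e) (.leaf (nat_lit 0x143042916e) (nat_lit 1538))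
 (.leaf (nat_lit 0x143042917e) (nat_lit 2051))
) (.node (nat_lit 0x143042955e) (.leaf (nat_lit 0x143042954e) (nat_lit 1539))
 (.leaf (nat_lit 0x143042955e) (nat_lit 2049))
)) (.node (nat_lit 0x1430429d6e) (.node (nat_lit 0x143042995e) (.leaf (nat_lit 0x143042994e) (nat_lit 1282))
 (.leaf (nat_lit 0x143042995e) (nat_lit 2307))
) (.node (nat_lit 0x1430429d7e) (.leaf (nat_lit 0x1430429d6e) (nat_lit 1795))
 (.leaf (nat_lit 0x1430429d7e) (nat_lit 1793))
))) (.node (nat_lit 0x143043990e) (.node (nat_lit 0x143043950e) (.node (nat_lit 0x143043913e) (.leaf (nat_lit 0x143043912e) (nat_lit 1536))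
 (.leaf (nat_lit 0x143043913e) (nat_lit 2051))
) (.node (nat_lit 0x143043951e) (.leaf (nat_lit 0x143043950e) (nat_lit 1539))
 (.leaf (nat_lit 0x143043951e) (nat_lit 2049))
)) (.node (nat_lit 0x1430439d2e) (.node (nat_lit 0x143043991e) (.leaf (nat_lit 0x143043990e) (nat_lit 1280))
 (.leaf (nat_lit 0x143043991e) (nat_lit 2307))
) (.node (nat_lit 0x1430439d3e) (.leaf (nat_lit 0x1430439d2e) (nat_lit 1795))
 (.leaf (nat_lit 0x1430439d3e) (nat_lit 1793))
))))) (.node (nat_lit 0x143046912e) (.node (nat_lit 0x143045810e) (.node (nat_lit 0x143044896e) (.node (nat_lit 0x143044856e) (.node (nat_lit 0x143044815e) (.leaf (nat_lit 0x143044814e) (nat_lit 1026))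
 (.leaf (nat_lit 0x143044815e) (nat_lit 3075))
) (.node (nat_lit 0x143044857e) (.leaf (nat_lit 0x143044856e) (nat_lit 1539))
 (.leaf (nat_lit 0x143044857e) (nat_lit 2562))
)) (.node (nat_lit 0x1430448d4e) (.node (nat_lit 0x143044897e) (.leaf (nat_lit 0x143044896e) (nat_lit 1282))
 (.leaf (nat_lit 0x143044897e) (nat_lit 2819))
) (.node (nat_lit 0x1430448d5e) (.leaf (nat_lit 0x1430448d4e) (nat_lit 1283))
 (.leaf (nat_lit 0x1430448d5e) (nat_lit 2818))
))) (.node (nat_lit 0x143045892e) (.node (nat_lit 0x143045852e) (.node (nat_lit 0x143045811e) (.leaf (nat_lit 0x143045810e) (nat_lit 1024))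
 (.leaf (nat_lit 0x143045811e) (nat_lit 3075))
) (.node (nat_lit 0x143045853e) (.leaf (nat_lit 0x143045852e) (nat_lit 1539))
 (.leaf (nat_lit 0x143045853e) (nat_lit 2562))
)) (.node (nat_lit 0x1430458d0e) (.node (nat_lit 0x143045893e) (.leaf (nat_lit 0x143045892e) (nat_lit 1280))
 (.leaf (nat_lit 0x143045893e) (nat_lit 2819))
) (.node (nat_lit 0x1430458d1e) (.leaf (nat_lit 0x1430458d0e) (nat_lit 1283))
 (.leaf (nat_lit 0x1430458d1e) (nat_lit 2818))
)))) (.node (nat_lit 0x143047916e) (.node (nat_lit 0x143046990e) (.node (nat_lit 0x143046950e) (.node (nat_lit 0x143046913e) (.leaf (nat_lit 0x143046912e) (nat_lit 1282))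
 (.leaf (nat_lit 0x143046913e) (nat_lit 2307))
) (.node (nat_lit 0x143046951e) (.leaf (nat_lit 0x143046950e) (nat_lit 1283))
 (.leaf (nat_lit 0x143046951e) (nat_lit 2305))
)) (.node (nat_lit 0x1430469d2e) (.node (nat_lit 0x143046991e) (.leaf (nat_lit 0x143046990e) (nat_lit 1026))
 (.leaf (nat_lit 0x143046991e) (nat_lit 2563))
) (.node (nat_lit 0x1430469d3e) (.leaf (nat_lit 0x1430469d2e) (nat_lit 1539))
 (.leaf (nat_lit 0x1430469d3e) (nat_lit 2049))
))) (.node (nat_lit 0x143047994e) (.node (nat_lit 0x143047954e) (.node (nat_lit 0x143047917e) (.leaf (nat_lit 0x143047916e) (nat_lit 1792))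
 (.leaf (nat_lit 0x143047917e) (nat_lit 1795))
) (.node (nat_lit 0x143047955e) (.leaf (nat_lit 0x143047954e) (nat_lit 1795))
 (.leaf (nat_lit 0x143047955e) (nat_lit 1793))
)) (.node (nat_lit 0x1430479d6e) (.node (nat_lit 0x143047995e) (.leaf (nat_lit 0x143047994e) (nat_lit 1536))
 (.leaf (nat_lit 0x143047995e) (nat_lit 2051))
) (.node (nat_lit 0x1430479d7e) (.leaf (nat_lit 0x1430479d6e) (nat_lit 2051))
 (.leaf (nat_lit 0x1430479d7e) (nat_lit 1537))
)))))))) (.node (nat_lit 0x1c2040830a) (.node (nat_lit 0x183040830e) (.node (nat_lit 0x1820449302) (.node (nat_lit 0x1820429302) (.node (nat_lit 0x1820418362) (.node (nat_lit 0x1820408b02) (.node (nat_lit 0x1820408722) (.node (nat_lit 0x1820408312) (.leaf (nat_lit 0x1820408302) (nat_lit 258))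
 (.leaf (nat_lit 0x1820408312) (nat_lit 3331))
) (.node (nat_lit 0x1820408732) (.leaf (nat_lit 0x1820408722) (nat_lit 2817))
 (.leaf (nat_lit 0x1820408732) (nat_lit 1283))
)) (.node (nat_lit 0x1820408f22) (.node (nat_lit 0x1820408b12) (.leaf (nat_lit 0x1820408b02) (nat_lit 515))
 (.leaf (nat_lit 0x1820408b12) (nat_lit 3073))
) (.node (nat_lit 0x1820408f32) (.leaf (nat_lit 0x1820408f22) (nat_lit 3075))
 (.leaf (nat_lit 0x1820408f32) (nat_lit 1026))
))) (.node (nat_lit 0x1820418b62) (.node (nat_lit 0x1820418742) (.node (nat_lit 0x1820418372) (.leaf (nat_lit 0x1820418362) (nat_lit 2307))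
 (.leaf (nat_lit 0x1820418372) (nat_lit 1792))
) (.node (nat_lit 0x1820418752) (.leaf (nat_lit 0x1820418742) (nat_lit 2307))
 (.leaf (nat_lit 0x1820418752) (nat_lit 1793))
)) (.node (nat_lit 0x1820418f42) (.node (nat_lit 0x1820418b72) (.leaf (nat_lit 0x1820418b62) (nat_lit 2049))
 (.leaf (nat_lit 0x1820418b72) (nat_lit 2051))
) (.node (nat_lit 0x1820418f52) (.leaf (nat_lit 0x1820418f42) (nat_lit 2048))
 (.leaf (nat_lit 0x1820418f52) (nat_lit 2051))
)))) (.node (nat_lit 0x1820439362) (.node (nat_lit 0x1820429b02) (.node (nat_lit 0x1820429722) (.node (nat_lit 0x1820429312) (.leaf (nat_lit 0x1820429302) (nat_lit 768))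
 (.leaf (nat_lit 0x1820429312) (nat_lit 2819))
) (.node (nat_lit 0x1820429732) (.leaf (nat_lit 0x1820429722) (nat_lit 2305))
 (.leaf (nat_lit 0x1820429732) (nat_lit 1795))
)) (.node (nat_lit 0x1820429f22) (.node (nat_lit 0x1820429b12) (.leaf (nat_lit 0x1820429b02) (nat_lit 1027))
 (.leaf (nat_lit 0x1820429b12) (nat_lit 2561))
) (.node (nat_lit 0x1820429f32) (.leaf (nat_lit 0x1820429f22) (nat_lit 2563))
 (.leaf (nat_lit 0x1820429f32) (nat_lit 1536))
))) (.node (nat_lit 0x1820439b62) (.node (nat_lit 0x1820439742) (.node (nat_lit 0x1820439372) (.leaf (nat_lit 0x1820439362) (nat_lit 2307))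
 (.leaf (nat_lit 0x1820439372) (nat_lit 1794))
) (.node (nat_lit 0x1820439752) (.leaf (nat_lit 0x1820439742) (nat_lit 2307))
 (.leaf (nat_lit 0x1820439752) (nat_lit 1793))
)) (.node (nat_lit 0x1820439f42) (.node (nat_lit 0x1820439b72) (.leaf (nat_lit 0x1820439b62) (nat_lit 2049))
 (.leaf (nat_lit 0x1820439b72) (nat_lit 2051))
) (.node (nat_lit 0x1820439f52) (.leaf (nat_lit 0x1820439f42) (nat_lit 2050))
 (.leaf (nat_lit 0x1820439f52) (nat_lit 2051))
))))) (.node (nat_lit 0x1820468302) (.node (nat_lit 0x1820459362) (.node (nat_lit 0x1820449b02) (.node (nat_lit 0x1820449722) (.node (nat_lit 0x1820449312) (.leaf (nat_lit 0x1820449302) (nat_lit 514))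
 (.leaf (nat_lit 0x1820449312) (nat_lit 3075))
) (.node (nat_lit 0x1820449732) (.leaf (nat_lit 0x1820449722) (nat_lit 2561))
 (.leaf (nat_lit 0x1820449732) (nat_lit 1539))
)) (.node (nat_lit 0x1820449f22) (.node (nat_lit 0x1820449b12) (.leaf (nat_lit 0x1820449b02) (nat_lit 771))
 (.leaf (nat_lit 0x1820449b12) (nat_lit 2817))
) (.node (nat_lit 0x1820449f32) (.leaf (nat_lit 0x1820449f22) (nat_lit 2819))
 (.leaf (nat_lit 0x1820449f32) (nat_lit 1282))
))) (.node (nat_lit 0x1820459b62) (.node (nat_lit 0x1820459742) (.node (nat_lit 0x1820459372) (.leaf (nat_lit 0x1820459362) (nat_lit 2051))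
 (.leaf (nat_lit 0x1820459372) (nat_lit 2048))
) (.node (nat_lit 0x1820459752) (.leaf (nat_lit 0x1820459742) (nat_lit 2563))
 (.leaf (nat_lit 0x1820459752) (nat_lit 1537))
)) (.node (nat_lit 0x1820459f42) (.node (nat_lit 0x1820459b72) (.leaf (nat_lit 0x1820459b62) (nat_lit 1793))
 (.leaf (nat_lit 0x1820459b72) (nat_lit 2307))
) (.node (nat_lit 0x1820459f52) (.leaf (nat_lit 0x1820459f42) (nat_lit 2304))
 (.leaf (nat_lit 0x1820459f52) (nat_lit 1795))
)))) (.node (nat_lit 0x1820478362) (.node (nat_lit 0x1820468b02) (.node (nat_lit 0x1820468722) (.node (nat_lit 0x1820468312) (.leaf (nat_lit 0x1820468302) (nat_lit 512))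
 (.leaf (nat_lit 0x1820468312) (nat_lit 3075))
) (.node (nat_lit 0x1820468732) (.leaf (nat_lit 0x1820468722) (nat_lit 2561))
 (.leaf (nat_lit 0x1820468732) (nat_lit 1539))
)) (.node (nat_lit 0x1820468f22) (.node (nat_lit 0x1820468b12) (.leaf (nat_lit 0x1820468b02) (nat_lit 771))
 (.leaf (nat_lit 0x1820468b12) (nat_lit 2817))
) (.node (nat_lit 0x1820468f32) (.leaf (nat_lit 0x1820468f22) (nat_lit 2819))
 (.leaf (nat_lit 0x1820468f32) (nat_lit 1280))
))) (.node (nat_lit 0x1820478b62) (.node (nat_lit 0x1820478742) (.node (nat_lit 0x1820478372) (.leaf (nat_lit 0x1820478362) (nat_lit 2563))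
 (.leaf (nat_lit 0x1820478372) (nat_lit 1538))
) (.node (nat_lit 0x1820478752) (.leaf (nat_lit 0x1820478742) (nat_lit 2051))
 (.leaf (nat_lit 0x1820478752) (nat_lit 2049))
)) (.node (nat_lit 0x1820478f42) (.node (nat_lit 0x1820478b72) (.leaf (nat_lit 0x1820478b62) (nat_lit 2305))
 (.leaf (nat_lit 0x1820478b72) (nat_lit 1795))
) (.node (nat_lit 0x1820478f52) (.leaf (nat_lit 0x1820478f42) (nat_lit 1794))
 (.leaf (nat_lit 0x1820478f52) (nat_lit 2307))
)))))) (.node (nat_lit 0x183044934e) (.node (nat_lit 0x183042934e) (.node (nat_lit 0x183041836e) (.node (nat_lit 0x1830408b2e) (.node (nat_lit 0x183040872e) (.node (nat_lit 0x183040831e) (.leaf (nat_lit 0x183040830e) (nat_lit 513))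
 (.leaf (nat_lit 0x183040831e) (nat_lit 3075))
) (.node (nat_lit 0x183040873e) (.leaf (nat_lit 0x183040872e) (nat_lit 1027))
 (.leaf (nat_lit 0x183040873e) (nat_lit 2560))
)) (.node (nat_lit 0x1830408f0e) (.node (nat_lit 0x1830408b3e) (.leaf (nat_lit 0x1830408b2e) (nat_lit 769))
 (.leaf (nat_lit 0x1830408b3e) (nat_lit 2819))
) (.node (nat_lit 0x1830408f1e) (.leaf (nat_lit 0x1830408f0e) (nat_lit 771))
 (.leaf (nat_lit 0x1830408f1e) (nat_lit 2816))
))) (.node (nat_lit 0x1830418b4e) (.node (nat_lit 0x183041874e) (.node (nat_lit 0x183041837e) (.leaf (nat_lit 0x183041836e) (nat_lit 2051))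
 (.leaf (nat_lit 0x183041837e) (nat_lit 2048))
) (.node (nat_lit 0x183041875e) (.leaf (nat_lit 0x183041874e) (nat_lit 1538))
 (.leaf (nat_lit 0x183041875e) (nat_lit 2563))
)) (.node (nat_lit 0x1830418f6e) (.node (nat_lit 0x1830418b5e) (.leaf (nat_lit 0x1830418b4e) (nat_lit 1795))
 (.leaf (nat_lit 0x1830418b5e) (nat_lit 2304))
) (.node (nat_lit 0x1830418f7e) (.leaf (nat_lit 0x1830418f6e) (nat_lit 1794))
 (.leaf (nat_lit 0x1830418f7e) (nat_lit 2307))
)))) (.node (nat_lit 0x183043932e) (.node (nat_lit 0x1830429b6e) (.node (nat_lit 0x183042976e) (.node (nat_lit 0x183042935e) (.leaf (nat_lit 0x183042934e) (nat_lit 1025))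
 (.leaf (nat_lit 0x183042935e) (nat_lit 2563))
) (.node (nat_lit 0x183042977e) (.leaf (nat_lit 0x183042976e) (nat_lit 1539))
 (.leaf (nat_lit 0x183042977e) (nat_lit 2050))
)) (.node (nat_lit 0x1830429f4e) (.node (nat_lit 0x1830429b7e) (.leaf (nat_lit 0x1830429b6e) (nat_lit 1281))
 (.leaf (nat_lit 0x1830429b7e) (nat_lit 2307))
) (.node (nat_lit 0x1830429f5e) (.leaf (nat_lit 0x1830429f4e) (nat_lit 1283))
 (.leaf (nat_lit 0x1830429f5e) (nat_lit 2306))
))) (.node (nat_lit 0x1830439b0e) (.node (nat_lit 0x183043970e) (.node (nat_lit 0x183043933e) (.leaf (nat_lit 0x183043932e) (nat_lit 2051))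
 (.leaf (nat_lit 0x183043933e) (nat_lit 2050))
) (.node (nat_lit 0x183043971e) (.leaf (nat_lit 0x183043970e) (nat_lit 1538))
 (.leaf (nat_lit 0x183043971e) (nat_lit 2563))
)) (.node (nat_lit 0x1830439f2e) (.node (nat_lit 0x1830439b1e) (.leaf (nat_lit 0x1830439b0e) (nat_lit 1795))
 (.leaf (nat_lit 0x1830439b1e) (nat_lit 2306))
) (.node (nat_lit 0x1830439f3e) (.leaf (nat_lit 0x1830439f2e) (nat_lit 1794))
 (.leaf (nat_lit 0x1830439f3e) (nat_lit 2307))
))))) (.node (nat_lit 0x183046830e) (.node (nat_lit 0x183045932e) (.node (nat_lit 0x1830449b6e) (.node (nat_lit 0x183044976e) (.node (nat_lit 0x183044935e) (.leaf (nat_lit 0x183044934e) (nat_lit 769))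
 (.leaf (nat_lit 0x183044935e) (nat_lit 2819))
) (.node (nat_lit 0x183044977e) (.leaf (nat_lit 0x183044976e) (nat_lit 1283))
 (.leaf (nat_lit 0x183044977e) (nat_lit 2304))
)) (.node (nat_lit 0x1830449f4e) (.node (nat_lit 0x1830449b7e) (.leaf (nat_lit 0x1830449b6e) (nat_lit 1025))
 (.leaf (nat_lit 0x1830449b7e) (nat_lit 2563))
) (.node (nat_lit 0x1830449f5e) (.leaf (nat_lit 0x1830449f4e) (nat_lit 1027))
 (.leaf (nat_lit 0x1830449f5e) (nat_lit 2560))
))) (.node (nat_lit 0x1830459b0e) (.node (nat_lit 0x183045970e) (.node (nat_lit 0x183045933e) (.leaf (nat_lit 0x183045932e) (nat_lit 1795))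
 (.leaf (nat_lit 0x183045933e) (nat_lit 2304))
) (.node (nat_lit 0x183045971e) (.leaf (nat_lit 0x183045970e) (nat_lit 1282))
 (.leaf (nat_lit 0x183045971e) (nat_lit 2819))
)) (.node (nat_lit 0x1830459f2e) (.node (nat_lit 0x1830459b1e) (.leaf (nat_lit 0x1830459b0e) (nat_lit 1539))
 (.leaf (nat_lit 0x1830459b1e) (nat_lit 2560))
) (.node (nat_lit 0x1830459f3e) (.leaf (nat_lit 0x1830459f2e) (nat_lit 1538))
 (.leaf (nat_lit 0x1830459f3e) (nat_lit 2563))
)))) (.node (nat_lit 0x183047836e) (.node (nat_lit 0x1830468b2e) (.node (nat_lit 0x183046872e) (.node (nat_lit 0x183046831e) (.leaf (nat_lit 0x183046830e) (nat_lit 769))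
 (.leaf (nat_lit 0x183046831e) (nat_lit 2819))
) (.node (nat_lit 0x183046873e) (.leaf (nat_lit 0x183046872e) (nat_lit 1283))
 (.leaf (nat_lit 0x183046873e) (nat_lit 2306))
)) (.node (nat_lit 0x1830468f0e) (.node (nat_lit 0x1830468b3e) (.leaf (nat_lit 0x1830468b2e) (nat_lit 1025))
 (.leaf (nat_lit 0x1830468b3e) (nat_lit 2563))
) (.node (nat_lit 0x1830468f1e) (.leaf (nat_lit 0x1830468f0e) (nat_lit 1027))
 (.leaf (nat_lit 0x1830468f1e) (nat_lit 2562))
))) (.node (nat_lit 0x1830478b4e) (.node (nat_lit 0x183047874e) (.node (nat_lit 0x183047837e) (.leaf (nat_lit 0x183047836e) (nat_lit 2307))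
 (.leaf (nat_lit 0x183047837e) (nat_lit 1794))
) (.node (nat_lit 0x183047875e) (.leaf (nat_lit 0x183047874e) (nat_lit 1794))
 (.leaf (nat_lit 0x183047875e) (nat_lit 2307))
)) (.node (nat_lit 0x1830478f6e) (.node (nat_lit 0x1830478b5e) (.leaf (nat_lit 0x1830478b4e) (nat_lit 2051))
 (.leaf (nat_lit 0x1830478b5e) (nat_lit 2050))
) (.node (nat_lit 0x1830478f7e) (.leaf (nat_lit 0x1830478f6e) (nat_lit 2050))
 (.leaf (nat_lit 0x1830478f7e) (nat_lit 2051))
))))))) (.node (nat_lit 0x1c30408306) (.node (nat_lit 0x1c2044934a) (.node (nat_lit 0x1c2042932a) (.node (nat_lit 0x1c2041836a) (.node (nat_lit 0x1c20408b0a) (.node (nat_lit 0x1c2040872a) (.node (nat_lit 0x1c2040831a) (.leaf (nat_lit 0x1c2040830a) (nat_lit 769))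
 (.leaf (nat_lit 0x1c2040831a) (nat_lit 2819))
) (.node (nat_lit 0x1c2040873a) (.leaf (nat_lit 0x1c2040872a) (nat_lit 2304))
 (.leaf (nat_lit 0x1c2040873a) (nat_lit 1283))
)) (.node (nat_lit 0x1c20408f2a) (.node (nat_lit 0x1c20408b1a) (.leaf (nat_lit 0x1c20408b0a) (nat_lit 1027))
 (.leaf (nat_lit 0x1c20408b1a) (nat_lit 2560))
) (.node (nat_lit 0x1c20408f3a) (.leaf (nat_lit 0x1c20408f2a) (nat_lit 2563))
 (.leaf (nat_lit 0x1c20408f3a) (nat_lit 1025))
))) (.node (nat_lit 0x1c20418b6a) (.node (nat_lit 0x1c2041874a) (.node (nat_lit 0x1c2041837a) (.leaf (nat_lit 0x1c2041836a) (nat_lit 1792))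
 (.leaf (nat_lit 0x1c2041837a) (nat_lit 2307))
) (.node (nat_lit 0x1c2041875a) (.leaf (nat_lit 0x1c2041874a) (nat_lit 1794))
 (.leaf (nat_lit 0x1c2041875a) (nat_lit 2307))
)) (.node (nat_lit 0x1c20418f4a) (.node (nat_lit 0x1c20418b7a) (.leaf (nat_lit 0x1c20418b6a) (nat_lit 2051))
 (.leaf (nat_lit 0x1c20418b7a) (nat_lit 2050))
) (.node (nat_lit 0x1c20418f5a) (.leaf (nat_lit 0x1c20418f4a) (nat_lit 2051))
 (.leaf (nat_lit 0x1c20418f5a) (nat_lit 2048))
)))) (.node (nat_lit 0x1c2043934a) (.node (nat_lit 0x1c20429b2a) (.node (nat_lit 0x1c2042970a) (.node (nat_lit 0x1c2042933a) (.leaf (nat_lit 0x1c2042932a) (nat_lit 1794))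
 (.leaf (nat_lit 0x1c2042933a) (nat_lit 2307))
) (.node (nat_lit 0x1c2042971a) (.leaf (nat_lit 0x1c2042970a) (nat_lit 1794))
 (.leaf (nat_lit 0x1c2042971a) (nat_lit 2307))
)) (.node (nat_lit 0x1c20429f0a) (.node (nat_lit 0x1c20429b3a) (.leaf (nat_lit 0x1c20429b2a) (nat_lit 2051))
 (.leaf (nat_lit 0x1c20429b3a) (nat_lit 2050))
) (.node (nat_lit 0x1c20429f1a) (.leaf (nat_lit 0x1c20429f0a) (nat_lit 2051))
 (.leaf (nat_lit 0x1c20429f1a) (nat_lit 2050))
))) (.node (nat_lit 0x1c20439b4a) (.node (nat_lit 0x1c2043976a) (.node (nat_lit 0x1c2043935a) (.leaf (nat_lit 0x1c2043934a) (nat_lit 1281))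
 (.leaf (nat_lit 0x1c2043935a) (nat_lit 2307))
) (.node (nat_lit 0x1c2043977a) (.leaf (nat_lit 0x1c2043976a) (nat_lit 1794))
 (.leaf (nat_lit 0x1c2043977a) (nat_lit 1795))
)) (.node (nat_lit 0x1c20439f6a) (.node (nat_lit 0x1c20439b5a) (.leaf (nat_lit 0x1c20439b4a) (nat_lit 1539))
 (.leaf (nat_lit 0x1c20439b5a) (nat_lit 2050))
) (.node (nat_lit 0x1c20439f7a) (.leaf (nat_lit 0x1c20439f6a) (nat_lit 2051))
 (.leaf (nat_lit 0x1c20439f7a) (nat_lit 1537))
))))) (.node (nat_lit 0x1c2046836a) (.node (nat_lit 0x1c2045932a) (.node (nat_lit 0x1c20449b4a) (.node (nat_lit 0x1c2044976a) (.node (nat_lit 0x1c2044935a) (.leaf (nat_lit 0x1c2044934a) (nat_lit 1025))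
 (.leaf (nat_lit 0x1c2044935a) (nat_lit 2563))
) (.node (nat_lit 0x1c2044977a) (.leaf (nat_lit 0x1c2044976a) (nat_lit 2048))
 (.leaf (nat_lit 0x1c2044977a) (nat_lit 1539))
)) (.node (nat_lit 0x1c20449f6a) (.node (nat_lit 0x1c20449b5a) (.leaf (nat_lit 0x1c20449b4a) (nat_lit 1283))
 (.leaf (nat_lit 0x1c20449b5a) (nat_lit 2304))
) (.node (nat_lit 0x1c20449f7a) (.leaf (nat_lit 0x1c20449f6a) (nat_lit 2307))
 (.leaf (nat_lit 0x1c20449f7a) (nat_lit 1281))
))) (.node (nat_lit 0x1c20459b2a) (.node (nat_lit 0x1c2045970a) (.node (nat_lit 0x1c2045933a) (.leaf (nat_lit 0x1c2045932a) (nat_lit 2048))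
 (.leaf (nat_lit 0x1c2045933a) (nat_lit 2051))
) (.node (nat_lit 0x1c2045971a) (.leaf (nat_lit 0x1c2045970a) (nat_lit 1538))
 (.leaf (nat_lit 0x1c2045971a) (nat_lit 2563))
)) (.node (nat_lit 0x1c20459f0a) (.node (nat_lit 0x1c20459b3a) (.leaf (nat_lit 0x1c20459b2a) (nat_lit 2307))
 (.leaf (nat_lit 0x1c20459b3a) (nat_lit 1794))
) (.node (nat_lit 0x1c20459f1a) (.leaf (nat_lit 0x1c20459f0a) (nat_lit 1795))
 (.leaf (nat_lit 0x1c20459f1a) (nat_lit 2304))
)))) (.node (nat_lit 0x1c2047830a) (.node (nat_lit 0x1c20468b6a) (.node (nat_lit 0x1c2046874a) (.node (nat_lit 0x1c2046837a) (.leaf (nat_lit 0x1c2046836a) (nat_lit 1538))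
 (.leaf (nat_lit 0x1c2046837a) (nat_lit 2563))
) (.node (nat_lit 0x1c2046875a) (.leaf (nat_lit 0x1c2046874a) (nat_lit 2050))
 (.leaf (nat_lit 0x1c2046875a) (nat_lit 2051))
)) (.node (nat_lit 0x1c20468f4a) (.node (nat_lit 0x1c20468b7a) (.leaf (nat_lit 0x1c20468b6a) (nat_lit 1795))
 (.leaf (nat_lit 0x1c20468b7a) (nat_lit 2306))
) (.node (nat_lit 0x1c20468f5a) (.leaf (nat_lit 0x1c20468f4a) (nat_lit 2307))
 (.leaf (nat_lit 0x1c20468f5a) (nat_lit 1794))
))) (.node (nat_lit 0x1c20478b0a) (.node (nat_lit 0x1c2047872a) (.node (nat_lit 0x1c2047831a) (.leaf (nat_lit 0x1c2047830a) (nat_lit 1025))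
 (.leaf (nat_lit 0x1c2047831a) (nat_lit 2563))
) (.node (nat_lit 0x1c2047873a) (.leaf (nat_lit 0x1c2047872a) (nat_lit 2050))
 (.leaf (nat_lit 0x1c2047873a) (nat_lit 1539))
)) (.node (nat_lit 0x1c20478f2a) (.node (nat_lit 0x1c20478b1a) (.leaf (nat_lit 0x1c20478b0a) (nat_lit 1283))
 (.leaf (nat_lit 0x1c20478b1a) (nat_lit 2306))
) (.node (nat_lit 0x1c20478f3a) (.leaf (nat_lit 0x1c20478f2a) (nat_lit 2307))
 (.leaf (nat_lit 0x1c20478f3a) (nat_lit 1281))
)))))) (.node (nat_lit 0x1c30449306) (.node (nat_lit 0x1c30429366) (.node (nat_lit 0x1c30418366) (.node (nat_lit 0x1c30408b26) (.node (nat_lit 0x1c30408726) (.node (nat_lit 0x1c30408316) (.leaf (nat_lit 0x1c30408306) (nat_lit 514))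
 (.leaf (nat_lit 0x1c30408316) (nat_lit 3075))
) (.node (nat_lit 0x1c30408736) (.leaf (nat_lit 0x1c30408726) (nat_lit 1027))
 (.leaf (nat_lit 0x1c30408736) (nat_lit 2561))
)) (.node (nat_lit 0x1c30408f06) (.node (nat_lit 0x1c30408b36) (.leaf (nat_lit 0x1c30408b26) (nat_lit 770))
 (.leaf (nat_lit 0x1c30408b36) (nat_lit 2819))
) (.node (nat_lit 0x1c30408f16) (.leaf (nat_lit 0x1c30408f06) (nat_lit 771))
 (.leaf (nat_lit 0x1c30408f16) (nat_lit 2817))
))) (.node (nat_lit 0x1c30418b46) (.node (nat_lit 0x1c30418746) (.node (nat_lit 0x1c30418376) (.leaf (nat_lit 0x1c30418366) (nat_lit 1536))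
 (.leaf (nat_lit 0x1c30418376) (nat_lit 2563))
) (.node (nat_lit 0x1c30418756) (.leaf (nat_lit 0x1c30418746) (nat_lit 2051))
 (.leaf (nat_lit 0x1c30418756) (nat_lit 2049))
)) (.node (nat_lit 0x1c30418f66) (.node (nat_lit 0x1c30418b56) (.leaf (nat_lit 0x1c30418b46) (nat_lit 1792))
 (.leaf (nat_lit 0x1c30418b56) (nat_lit 2307))
) (.node (nat_lit 0x1c30418f76) (.leaf (nat_lit 0x1c30418f66) (nat_lit 1795))
 (.leaf (nat_lit 0x1c30418f76) (nat_lit 2305))
)))) (.node (nat_lit 0x1c30439306) (.node (nat_lit 0x1c30429b46) (.node (nat_lit 0x1c30429746) (.node (nat_lit 0x1c30429376) (.leaf (nat_lit 0x1c30429366) (nat_lit 1538))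
 (.leaf (nat_lit 0x1c30429376) (nat_lit 2563))
) (.node (nat_lit 0x1c30429756) (.leaf (nat_lit 0x1c30429746) (nat_lit 2051))
 (.leaf (nat_lit 0x1c30429756) (nat_lit 2049))
)) (.node (nat_lit 0x1c30429f66) (.node (nat_lit 0x1c30429b56) (.leaf (nat_lit 0x1c30429b46) (nat_lit 1794))
 (.leaf (nat_lit 0x1c30429b56) (nat_lit 2307))
) (.node (nat_lit 0x1c30429f76) (.leaf (nat_lit 0x1c30429f66) (nat_lit 1795))
 (.leaf (nat_lit 0x1c30429f76) (nat_lit 2305))
))) (.node (nat_lit 0x1c30439b26) (.node (nat_lit 0x1c30439726) (.node (nat_lit 0x1c30439316) (.leaf (nat_lit 0x1c30439306) (nat_lit 1024))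
 (.leaf (nat_lit 0x1c30439316) (nat_lit 2563))
) (.node (nat_lit 0x1c30439736) (.leaf (nat_lit 0x1c30439726) (nat_lit 1539))
 (.leaf (nat_lit 0x1c30439736) (nat_lit 2049))
)) (.node (nat_lit 0x1c30439f06) (.node (nat_lit 0x1c30439b36) (.leaf (nat_lit 0x1c30439b26) (nat_lit 1280))
 (.leaf (nat_lit 0x1c30439b36) (nat_lit 2307))
) (.node (nat_lit 0x1c30439f16) (.leaf (nat_lit 0x1c30439f06) (nat_lit 1283))
 (.leaf (nat_lit 0x1c30439f16) (nat_lit 2305))
))))) (.node (nat_lit 0x1c30468366) (.node (nat_lit 0x1c30459366) (.node (nat_lit 0x1c30449b26) (.node (nat_lit 0x1c30449726) (.node (nat_lit 0x1c30449316) (.leaf (nat_lit 0x1c30449306) (nat_lit 770))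
 (.leaf (nat_lit 0x1c30449316) (nat_lit 2819))
) (.node (nat_lit 0x1c30449736) (.leaf (nat_lit 0x1c30449726) (nat_lit 1283))
 (.leaf (nat_lit 0x1c30449736) (nat_lit 2305))
)) (.node (nat_lit 0x1c30449f06) (.node (nat_lit 0x1c30449b36) (.leaf (nat_lit 0x1c30449b26) (nat_lit 1026))
 (.leaf (nat_lit 0x1c30449b36) (nat_lit 2563))
) (.node (nat_lit 0x1c30449f16) (.leaf (nat_lit 0x1c30449f06) (nat_lit 1027))
 (.leaf (nat_lit 0x1c30449f16) (nat_lit 2561))
))) (.node (nat_lit 0x1c30459b46) (.node (nat_lit 0x1c30459746) (.node (nat_lit 0x1c30459376) (.leaf (nat_lit 0x1c30459366) (nat_lit 1792))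
 (.leaf (nat_lit 0x1c30459376) (nat_lit 2307))
) (.node (nat_lit 0x1c30459756) (.leaf (nat_lit 0x1c30459746) (nat_lit 2307))
 (.leaf (nat_lit 0x1c30459756) (nat_lit 1793))
)) (.node (nat_lit 0x1c30459f66) (.node (nat_lit 0x1c30459b56) (.leaf (nat_lit 0x1c30459b46) (nat_lit 2048))
 (.leaf (nat_lit 0x1c30459b56) (nat_lit 2051))
) (.node (nat_lit 0x1c30459f76) (.leaf (nat_lit 0x1c30459f66) (nat_lit 2051))
 (.leaf (nat_lit 0x1c30459f76) (nat_lit 2049))
)))) (.node (nat_lit 0x1c30478306) (.node (nat_lit 0x1c30468b46) (.node (nat_lit 0x1c30468746) (.node (nat_lit 0x1c30468376) (.leaf (nat_lit 0x1c30468366) (nat_lit 1282))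
 (.leaf (nat_lit 0x1c30468376) (nat_lit 2819))
) (.node (nat_lit 0x1c30468756) (.leaf (nat_lit 0x1c30468746) (nat_lit 1795))
 (.leaf (nat_lit 0x1c30468756) (nat_lit 2305))
)) (.node (nat_lit 0x1c30468f66) (.node (nat_lit 0x1c30468b56) (.leaf (nat_lit 0x1c30468b46) (nat_lit 1538))
 (.leaf (nat_lit 0x1c30468b56) (nat_lit 2563))
) (.node (nat_lit 0x1c30468f76) (.leaf (nat_lit 0x1c30468f66) (nat_lit 1539))
 (.leaf (nat_lit 0x1c30468f76) (nat_lit 2561))
))) (.node (nat_lit 0x1c30478b26) (.node (nat_lit 0x1c30478726) (.node (nat_lit 0x1c30478316) (.leaf (nat_lit 0x1c30478306) (nat_lit 768))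
 (.leaf (nat_lit 0x1c30478316) (nat_lit 2819))
) (.node (nat_lit 0x1c30478736) (.leaf (nat_lit 0x1c30478726) (nat_lit 1283))
 (.leaf (nat_lit 0x1c30478736) (nat_lit 2305))
)) (.node (nat_lit 0x1c30478f06) (.node (nat_lit 0x1c30478b36) (.leaf (nat_lit 0x1c30478b26) (nat_lit 1024))
 (.leaf (nat_lit 0x1c30478b36) (nat_lit 2563))
) (.node (nat_lit 0x1c30478f16) (.leaf (nat_lit 0x1c30478f06) (nat_lit 1027))
 (.leaf (nat_lit 0x1c30478f16) (nat_lit 2561))
)))))))))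

theorem U_ok : genOK A2 [(nat_lit 0x1020448102), (nat_lit 0x1030408106), (nat_lit 0x1820408302), (nat_lit 0x1020408902)] U_t (nat_lit 512) = true := by decide +kernel

noncomputable def T_t : ST :=
(.node (nat_lit 0x1820408302) (.node (nat_lit 0x142040810a) (.node (nat_lit 0x1030408106) (.node (nat_lit 0x1020448102) (.node (nat_lit 0x1020429102) (.node (nat_lit 0x1020418142) (.node (nat_lit 0x1020408902) (.node (nat_lit 0x1020408522) (.node (nat_lit 0x1020408112) (.node (nat_lit 0x1020408103) (.leaf (nat_lit 0x1020408102) (nat_lit 0))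
 (.leaf (nat_lit 0x1020408103) (nat_lit 256))
) (.node (nat_lit 0x1020408113) (.leaf (nat_lit 0x1020408112) (nat_lit 3588))
 (.leaf (nat_lit 0x1020408113) (nat_lit 3844))
)) (.node (nat_lit 0x1020408532) (.node (nat_lit 0x1020408523) (.leaf (nat_lit 0x1020408522) (nat_lit 3075))
 (.leaf (nat_lit 0x1020408523) (nat_lit 3331))
) (.node (nat_lit 0x1020408533) (.leaf (nat_lit 0x1020408532) (nat_lit 1028))
 (.leaf (nat_lit 0x1020408533) (nat_lit 1284))
))) (.node (nat_lit 0x1020408d22) (.node (nat_lit 0x1020408912) (.node (nat_lit 0x1020408903) (.leaf (nat_lit 0x1020408902) (nat_lit 260))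
 (.leaf (nat_lit 0x1020408903) (nat_lit 516))
) (.node (nat_lit 0x1020408913) (.leaf (nat_lit 0x1020408912) (nat_lit 3331))
 (.leaf (nat_lit 0x1020408913) (nat_lit 3587))
)) (.node (nat_lit 0x1020408d32) (.node (nat_lit 0x1020408d23) (.leaf (nat_lit 0x1020408d22) (nat_lit 3332))
 (.leaf (nat_lit 0x1020408d23) (nat_lit 3588))
) (.node (nat_lit 0x1020408d33) (.leaf (nat_lit 0x1020408d32) (nat_lit 770))
 (.leaf (nat_lit 0x1020408d33) (nat_lit 1026))
)))) (.node (nat_lit 0x1020418942) (.node (nat_lit 0x1020418562) (.node (nat_lit 0x1020418152) (.node (nat_lit 0x1020418143) (.leaf (nat_lit 0x1020418142) (nat_lit 2564))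
 (.leaf (nat_lit 0x1020418143) (nat_lit 2820))
) (.node (nat_lit 0x1020418153) (.leaf (nat_lit 0x1020418152) (nat_lit 2051))
 (.leaf (nat_lit 0x1020418153) (nat_lit 2307))
)) (.node (nat_lit 0x1020418572) (.node (nat_lit 0x1020418563) (.leaf (nat_lit 0x1020418562) (nat_lit 2564))
 (.leaf (nat_lit 0x1020418563) (nat_lit 2820))
) (.node (nat_lit 0x1020418573) (.leaf (nat_lit 0x1020418572) (nat_lit 2051))
 (.leaf (nat_lit 0x1020418573) (nat_lit 2307))
))) (.node (nat_lit 0x1020418d62) (.node (nat_lit 0x1020418952) (.node (nat_lit 0x1020418943) (.leaf (nat_lit 0x1020418942) (nat_lit 2307))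
 (.leaf (nat_lit 0x1020418943) (nat_lit 2563))
) (.node (nat_lit 0x1020418953) (.leaf (nat_lit 0x1020418952) (nat_lit 2308))
 (.leaf (nat_lit 0x1020418953) (nat_lit 2564))
)) (.node (nat_lit 0x1020418d72) (.node (nat_lit 0x1020418d63) (.leaf (nat_lit 0x1020418d62) (nat_lit 2307))
 (.leaf (nat_lit 0x1020418d63) (nat_lit 2563))
) (.node (nat_lit 0x1020418d73) (.leaf (nat_lit 0x1020418d72) (nat_lit 2308))
 (.leaf (nat_lit 0x1020418d73) (nat_lit 2564))
))))) (.node (nat_lit 0x1020439142) (.node (nat_lit 0x1020429902) (.node (nat_lit 0x1020429522) (.node (nat_lit 0x1020429112) (.node (nat_lit 0x1020429103) (.leaf (nat_lit 0x1020429102) (nat_lit 1284))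
 (.leaf (nat_lit 0x1020429103) (nat_lit 1540))
) (.node (nat_lit 0x1020429113) (.leaf (nat_lit 0x1020429112) (nat_lit 2819))
 (.leaf (nat_lit 0x1020429113) (nat_lit 3075))
)) (.node (nat_lit 0x1020429532) (.node (nat_lit 0x1020429523) (.leaf (nat_lit 0x1020429522) (nat_lit 2820))
 (.leaf (nat_lit 0x1020429523) (nat_lit 3076))
) (.node (nat_lit 0x1020429533) (.leaf (nat_lit 0x1020429532) (nat_lit 1795))
 (.leaf (nat_lit 0x1020429533) (nat_lit 2051))
))) (.node (nat_lit 0x1020429d22) (.node (nat_lit 0x1020429912) (.node (nat_lit 0x1020429903) (.leaf (nat_lit 0x1020429902) (nat_lit 1027))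
 (.leaf (nat_lit 0x1020429903) (nat_lit 1283))
) (.node (nat_lit 0x1020429913) (.leaf (nat_lit 0x1020429912) (nat_lit 3076))
 (.leaf (nat_lit 0x1020429913) (nat_lit 3332))
)) (.node (nat_lit 0x1020429d32) (.node (nat_lit 0x1020429d23) (.leaf (nat_lit 0x1020429d22) (nat_lit 2563))
 (.leaf (nat_lit 0x1020429d23) (nat_lit 2819))
) (.node (nat_lit 0x1020429d33) (.leaf (nat_lit 0x1020429d32) (nat_lit 2052))
 (.leaf (nat_lit 0x1020429d33) (nat_lit 2308))
)))) (.node (nat_lit 0x1020439942) (.node (nat_lit 0x1020439562) (.node (nat_lit 0x1020439152) (.node (nat_lit 0x1020439143) (.leaf (nat_lit 0x1020439142) (nat_lit 1794))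
 (.leaf (nat_lit 0x1020439143) (nat_lit 2050))
) (.node (nat_lit 0x1020439153) (.leaf (nat_lit 0x1020439152) (nat_lit 2308))
 (.leaf (nat_lit 0x1020439153) (nat_lit 2564))
)) (.node (nat_lit 0x1020439572) (.node (nat_lit 0x1020439563) (.leaf (nat_lit 0x1020439562) (nat_lit 2307))
 (.leaf (nat_lit 0x1020439563) (nat_lit 2563))
) (.node (nat_lit 0x1020439573) (.leaf (nat_lit 0x1020439572) (nat_lit 1796))
 (.leaf (nat_lit 0x1020439573) (nat_lit 2052))
))) (.node (nat_lit 0x1020439d62) (.node (nat_lit 0x1020439952) (.node (nat_lit 0x1020439943) (.leaf (nat_lit 0x1020439942) (nat_lit 2052))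
 (.leaf (nat_lit 0x1020439943) (nat_lit 2308))
) (.node (nat_lit 0x1020439953) (.leaf (nat_lit 0x1020439952) (nat_lit 2051))
 (.leaf (nat_lit 0x1020439953) (nat_lit 2307))
)) (.node (nat_lit 0x1020439d72) (.node (nat_lit 0x1020439d63) (.leaf (nat_lit 0x1020439d62) (nat_lit 2564))
 (.leaf (nat_lit 0x1020439d63) (nat_lit 2820))
) (.node (nat_lit 0x1020439d73) (.leaf (nat_lit 0x1020439d72) (nat_lit 1538))
 (.leaf (nat_lit 0x1020439d73) (nat_lit 1794))
)))))) (.node (nat_lit 0x1020469102) (.node (nat_lit 0x1020458142) (.node (nat_lit 0x1020448902) (.node (nat_lit 0x1020448522) (.node (nat_lit 0x1020448112) (.node (nat_lit 0x1020448103) (.leaf (nat_lit 0x1020448102) (nat_lit 257))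
 (.leaf (nat_lit 0x1020448103) (nat_lit 513))
) (.node (nat_lit 0x1020448113) (.leaf (nat_lit 0x1020448112) (nat_lit 3332))
 (.leaf (nat_lit 0x1020448113) (nat_lit 3588))
)) (.node (nat_lit 0x1020448532) (.node (nat_lit 0x1020448523) (.leaf (nat_lit 0x1020448522) (nat_lit 2819))
 (.leaf (nat_lit 0x1020448523) (nat_lit 3075))
) (.node (nat_lit 0x1020448533) (.leaf (nat_lit 0x1020448532) (nat_lit 1284))
 (.leaf (nat_lit 0x1020448533) (nat_lit 1540))
))) (.node (nat_lit 0x1020448d22) (.node (nat_lit 0x1020448912) (.node (nat_lit 0x1020448903) (.leaf (nat_lit 0x1020448902) (nat_lit 516))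
 (.leaf (nat_lit 0x1020448903) (nat_lit 772))
) (.node (nat_lit 0x1020448913) (.leaf (nat_lit 0x1020448912) (nat_lit 3075))
 (.leaf (nat_lit 0x1020448913) (nat_lit 3331))
)) (.node (nat_lit 0x1020448d32) (.node (nat_lit 0x1020448d23) (.leaf (nat_lit 0x1020448d22) (nat_lit 3076))
 (.leaf (nat_lit 0x1020448d23) (nat_lit 3332))
) (.node (nat_lit 0x1020448d33) (.leaf (nat_lit 0x1020448d32) (nat_lit 1026))
 (.leaf (nat_lit 0x1020448d33) (nat_lit 1282))
)))) (.node (nat_lit 0x1020458942) (.node (nat_lit 0x1020458562) (.node (nat_lit 0x1020458152) (.node (nat_lit 0x1020458143) (.leaf (nat_lit 0x1020458142) (nat_lit 2820))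
 (.leaf (nat_lit 0x1020458143) (nat_lit 3076))
) (.node (nat_lit 0x1020458153) (.leaf (nat_lit 0x1020458152) (nat_lit 1795))
 (.leaf (nat_lit 0x1020458153) (nat_lit 2051))
)) (.node (nat_lit 0x1020458572) (.node (nat_lit 0x1020458563) (.leaf (nat_lit 0x1020458562) (nat_lit 2308))
 (.leaf (nat_lit 0x1020458563) (nat_lit 2564))
) (.node (nat_lit 0x1020458573) (.leaf (nat_lit 0x1020458572) (nat_lit 2307))
 (.leaf (nat_lit 0x1020458573) (nat_lit 2563))
))) (.node (nat_lit 0x1020458d62) (.node (nat_lit 0x1020458952) (.node (nat_lit 0x1020458943) (.leaf (nat_lit 0x1020458942) (nat_lit 2563))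
 (.leaf (nat_lit 0x1020458943) (nat_lit 2819))
) (.node (nat_lit 0x1020458953) (.leaf (nat_lit 0x1020458952) (nat_lit 2052))
 (.leaf (nat_lit 0x1020458953) (nat_lit 2308))
)) (.node (nat_lit 0x1020458d72) (.node (nat_lit 0x1020458d63) (.leaf (nat_lit 0x1020458d62) (nat_lit 2051))
 (.leaf (nat_lit 0x1020458d63) (nat_lit 2307))
) (.node (nat_lit 0x1020458d73) (.leaf (nat_lit 0x1020458d72) (nat_lit 2564))
 (.leaf (nat_lit 0x1020458d73) (nat_lit 2820))
))))) (.node (nat_lit 0x1020479142) (.node (nat_lit 0x1020469902) (.node (nat_lit 0x1020469522) (.node (nat_lit 0x1020469112) (.node (nat_lit 0x1020469103) (.leaf (nat_lit 0x1020469102) (nat_lit 1028))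
 (.leaf (nat_lit 0x1020469103) (nat_lit 1284))
) (.node (nat_lit 0x1020469113) (.leaf (nat_lit 0x1020469112) (nat_lit 3075))
 (.leaf (nat_lit 0x1020469113) (nat_lit 3331))
)) (.node (nat_lit 0x1020469532) (.node (nat_lit 0x1020469523) (.leaf (nat_lit 0x1020469522) (nat_lit 3076))
 (.leaf (nat_lit 0x1020469523) (nat_lit 3332))
) (.node (nat_lit 0x1020469533) (.leaf (nat_lit 0x1020469532) (nat_lit 1539))
 (.leaf (nat_lit 0x1020469533) (nat_lit 1795))
))) (.node (nat_lit 0x1020469d22) (.node (nat_lit 0x1020469912) (.node (nat_lit 0x1020469903) (.leaf (nat_lit 0x1020469902) (nat_lit 771))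
 (.leaf (nat_lit 0x1020469903) (nat_lit 1027))
) (.node (nat_lit 0x1020469913) (.leaf (nat_lit 0x1020469912) (nat_lit 3332))
 (.leaf (nat_lit 0x1020469913) (nat_lit 3588))
)) (.node (nat_lit 0x1020469d32) (.node (nat_lit 0x1020469d23) (.leaf (nat_lit 0x1020469d22) (nat_lit 2819))
 (.leaf (nat_lit 0x1020469d23) (nat_lit 3075))
) (.node (nat_lit 0x1020469d33) (.leaf (nat_lit 0x1020469d32) (nat_lit 1796))
 (.leaf (nat_lit 0x1020469d33) (nat_lit 2052))
)))) (.node (nat_lit 0x1020479942) (.node (nat_lit 0x1020479562) (.node (nat_lit 0x1020479152) (.node (nat_lit 0x1020479143) (.leaf (nat_lit 0x1020479142) (nat_lit 1538))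
 (.leaf (nat_lit 0x1020479143) (nat_lit 1794))
) (.node (nat_lit 0x1020479153) (.leaf (nat_lit 0x1020479152) (nat_lit 2564))
 (.leaf (nat_lit 0x1020479153) (nat_lit 2820))
)) (.node (nat_lit 0x1020479572) (.node (nat_lit 0x1020479563) (.leaf (nat_lit 0x1020479562) (nat_lit 2563))
 (.leaf (nat_lit 0x1020479563) (nat_lit 2819))
) (.node (nat_lit 0x1020479573) (.leaf (nat_lit 0x1020479572) (nat_lit 1540))
 (.leaf (nat_lit 0x1020479573) (nat_lit 1796))
))) (.node (nat_lit 0x1020479d62) (.node (nat_lit 0x1020479952) (.node (nat_lit 0x1020479943) (.leaf (nat_lit 0x1020479942) (nat_lit 1796))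
 (.leaf (nat_lit 0x1020479943) (nat_lit 2052))
) (.node (nat_lit 0x1020479953) (.leaf (nat_lit 0x1020479952) (nat_lit 2307))
 (.leaf (nat_lit 0x1020479953) (nat_lit 2563))
)) (.node (nat_lit 0x1020479d72) (.node (nat_lit 0x1020479d63) (.leaf (nat_lit 0x1020479d62) (nat_lit 2820))
 (.leaf (nat_lit 0x1020479d63) (nat_lit 3076))
) (.node (nat_lit 0x1020479d73) (.leaf (nat_lit 0x1020479d72) (nat_lit 1282))
 (.leaf (nat_lit 0x1020479d73) (nat_lit 1538))
))))))) (.node (nat_lit 0x1030448106) (.node (nat_lit 0x1030429146) (.node (nat_lit 0x1030418146) (.node (nat_lit 0x1030408926) (.node (nat_lit 0x1030408526) (.node (nat_lit 0x1030408116) (.node (nat_lit 0x1030408107) (.leaf (nat_lit 0x1030408106) (nat_lit 258))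
 (.leaf (nat_lit 0x1030408107) (nat_lit 514))
) (.node (nat_lit 0x1030408117) (.leaf (nat_lit 0x1030408116) (nat_lit 3332))
 (.leaf (nat_lit 0x1030408117) (nat_lit 3588))
)) (.node (nat_lit 0x1030408536) (.node (nat_lit 0x1030408527) (.leaf (nat_lit 0x1030408526) (nat_lit 772))
 (.leaf (nat_lit 0x1030408527) (nat_lit 1028))
) (.node (nat_lit 0x1030408537) (.leaf (nat_lit 0x1030408536) (nat_lit 2819))
 (.leaf (nat_lit 0x1030408537) (nat_lit 3075))
))) (.node (nat_lit 0x1030408d06) (.node (nat_lit 0x1030408936) (.node (nat_lit 0x1030408927) (.leaf (nat_lit 0x1030408926) (nat_lit 514))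
 (.leaf (nat_lit 0x1030408927) (nat_lit 770))
) (.node (nat_lit 0x1030408937) (.leaf (nat_lit 0x1030408936) (nat_lit 3076))
 (.leaf (nat_lit 0x1030408937) (nat_lit 3332))
)) (.node (nat_lit 0x1030408d16) (.node (nat_lit 0x1030408d07) (.leaf (nat_lit 0x1030408d06) (nat_lit 516))
 (.leaf (nat_lit 0x1030408d07) (nat_lit 772))
) (.node (nat_lit 0x1030408d17) (.leaf (nat_lit 0x1030408d16) (nat_lit 3075))
 (.leaf (nat_lit 0x1030408d17) (nat_lit 3331))
)))) (.node (nat_lit 0x1030418966) (.node (nat_lit 0x1030418566) (.node (nat_lit 0x1030418156) (.node (nat_lit 0x1030418147) (.leaf (nat_lit 0x1030418146) (nat_lit 2308))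
 (.leaf (nat_lit 0x1030418147) (nat_lit 2564))
) (.node (nat_lit 0x1030418157) (.leaf (nat_lit 0x1030418156) (nat_lit 2307))
 (.leaf (nat_lit 0x1030418157) (nat_lit 2563))
)) (.node (nat_lit 0x1030418576) (.node (nat_lit 0x1030418567) (.leaf (nat_lit 0x1030418566) (nat_lit 1795))
 (.leaf (nat_lit 0x1030418567) (nat_lit 2051))
) (.node (nat_lit 0x1030418577) (.leaf (nat_lit 0x1030418576) (nat_lit 2820))
 (.leaf (nat_lit 0x1030418577) (nat_lit 3076))
))) (.node (nat_lit 0x1030418d46) (.node (nat_lit 0x1030418976) (.node (nat_lit 0x1030418967) (.leaf (nat_lit 0x1030418966) (nat_lit 2052))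
 (.leaf (nat_lit 0x1030418967) (nat_lit 2308))
) (.node (nat_lit 0x1030418977) (.leaf (nat_lit 0x1030418976) (nat_lit 2563))
 (.leaf (nat_lit 0x1030418977) (nat_lit 2819))
)) (.node (nat_lit 0x1030418d56) (.node (nat_lit 0x1030418d47) (.leaf (nat_lit 0x1030418d46) (nat_lit 2051))
 (.leaf (nat_lit 0x1030418d47) (nat_lit 2307))
) (.node (nat_lit 0x1030418d57) (.leaf (nat_lit 0x1030418d56) (nat_lit 2564))
 (.leaf (nat_lit 0x1030418d57) (nat_lit 2820))
))))) (.node (nat_lit 0x1030439106) (.node (nat_lit 0x1030429966) (.node (nat_lit 0x1030429566) (.node (nat_lit 0x1030429156) (.node (nat_lit 0x1030429147) (.leaf (nat_lit 0x1030429146) (nat_lit 1538))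
 (.leaf (nat_lit 0x1030429147) (nat_lit 1794))
) (.node (nat_lit 0x1030429157) (.leaf (nat_lit 0x1030429156) (nat_lit 2564))
 (.leaf (nat_lit 0x1030429157) (nat_lit 2820))
)) (.node (nat_lit 0x1030429576) (.node (nat_lit 0x1030429567) (.leaf (nat_lit 0x1030429566) (nat_lit 1540))
 (.leaf (nat_lit 0x1030429567) (nat_lit 1796))
) (.node (nat_lit 0x1030429577) (.leaf (nat_lit 0x1030429576) (nat_lit 2563))
 (.leaf (nat_lit 0x1030429577) (nat_lit 2819))
))) (.node (nat_lit 0x1030429d46) (.node (nat_lit 0x1030429976) (.node (nat_lit 0x1030429967) (.leaf (nat_lit 0x1030429966) (nat_lit 1282))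
 (.leaf (nat_lit 0x1030429967) (nat_lit 1538))
) (.node (nat_lit 0x1030429977) (.leaf (nat_lit 0x1030429976) (nat_lit 2820))
 (.leaf (nat_lit 0x1030429977) (nat_lit 3076))
)) (.node (nat_lit 0x1030429d56) (.node (nat_lit 0x1030429d47) (.leaf (nat_lit 0x1030429d46) (nat_lit 1796))
 (.leaf (nat_lit 0x1030429d47) (nat_lit 2052))
) (.node (nat_lit 0x1030429d57) (.leaf (nat_lit 0x1030429d56) (nat_lit 2307))
 (.leaf (nat_lit 0x1030429d57) (nat_lit 2563))
)))) (.node (nat_lit 0x1030439926) (.node (nat_lit 0x1030439526) (.node (nat_lit 0x1030439116) (.node (nat_lit 0x1030439107) (.leaf (nat_lit 0x1030439106) (nat_lit 1540))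
 (.leaf (nat_lit 0x1030439107) (nat_lit 1796))
) (.node (nat_lit 0x1030439117) (.leaf (nat_lit 0x1030439116) (nat_lit 2563))
 (.leaf (nat_lit 0x1030439117) (nat_lit 2819))
)) (.node (nat_lit 0x1030439536) (.node (nat_lit 0x1030439527) (.leaf (nat_lit 0x1030439526) (nat_lit 1539))
 (.leaf (nat_lit 0x1030439527) (nat_lit 1795))
) (.node (nat_lit 0x1030439537) (.leaf (nat_lit 0x1030439536) (nat_lit 2564))
 (.leaf (nat_lit 0x1030439537) (nat_lit 2820))
))) (.node (nat_lit 0x1030439d06) (.node (nat_lit 0x1030439936) (.node (nat_lit 0x1030439927) (.leaf (nat_lit 0x1030439926) (nat_lit 1796))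
 (.leaf (nat_lit 0x1030439927) (nat_lit 2052))
) (.node (nat_lit 0x1030439937) (.leaf (nat_lit 0x1030439936) (nat_lit 2307))
 (.leaf (nat_lit 0x1030439937) (nat_lit 2563))
)) (.node (nat_lit 0x1030439d16) (.node (nat_lit 0x1030439d07) (.leaf (nat_lit 0x1030439d06) (nat_lit 1283))
 (.leaf (nat_lit 0x1030439d07) (nat_lit 1539))
) (.node (nat_lit 0x1030439d17) (.leaf (nat_lit 0x1030439d16) (nat_lit 2820))
 (.leaf (nat_lit 0x1030439d17) (nat_lit 3076))
)))))) (.node (nat_lit 0x1030469146) (.node (nat_lit 0x1030458146) (.node (nat_lit 0x1030448926) (.node (nat_lit 0x1030448526) (.node (nat_lit 0x1030448116) (.node (nat_lit 0x1030448107) (.leaf (nat_lit 0x1030448106) (nat_lit 514))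
 (.leaf (nat_lit 0x1030448107) (nat_lit 770))
) (.node (nat_lit 0x1030448117) (.leaf (nat_lit 0x1030448116) (nat_lit 3076))
 (.leaf (nat_lit 0x1030448117) (nat_lit 3332))
)) (.node (nat_lit 0x1030448536) (.node (nat_lit 0x1030448527) (.leaf (nat_lit 0x1030448526) (nat_lit 1028))
 (.leaf (nat_lit 0x1030448527) (nat_lit 1284))
) (.node (nat_lit 0x1030448537) (.leaf (nat_lit 0x1030448536) (nat_lit 2563))
 (.leaf (nat_lit 0x1030448537) (nat_lit 2819))
))) (.node (nat_lit 0x1030448d06) (.node (nat_lit 0x1030448936) (.node (nat_lit 0x1030448927) (.leaf (nat_lit 0x1030448926) (nat_lit 770))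
 (.leaf (nat_lit 0x1030448927) (nat_lit 1026))
) (.node (nat_lit 0x1030448937) (.leaf (nat_lit 0x1030448936) (nat_lit 2820))
 (.leaf (nat_lit 0x1030448937) (nat_lit 3076))
)) (.node (nat_lit 0x1030448d16) (.node (nat_lit 0x1030448d07) (.leaf (nat_lit 0x1030448d06) (nat_lit 772))
 (.leaf (nat_lit 0x1030448d07) (nat_lit 1028))
) (.node (nat_lit 0x1030448d17) (.leaf (nat_lit 0x1030448d16) (nat_lit 2819))
 (.leaf (nat_lit 0x1030448d17) (nat_lit 3075))
)))) (.node (nat_lit 0x1030458966) (.node (nat_lit 0x1030458566) (.node (nat_lit 0x1030458156) (.node (nat_lit 0x1030458147) (.leaf (nat_lit 0x1030458146) (nat_lit 2564))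
 (.leaf (nat_lit 0x1030458147) (nat_lit 2820))
) (.node (nat_lit 0x1030458157) (.leaf (nat_lit 0x1030458156) (nat_lit 2051))
 (.leaf (nat_lit 0x1030458157) (nat_lit 2307))
)) (.node (nat_lit 0x1030458576) (.node (nat_lit 0x1030458567) (.leaf (nat_lit 0x1030458566) (nat_lit 2051))
 (.leaf (nat_lit 0x1030458567) (nat_lit 2307))
) (.node (nat_lit 0x1030458577) (.leaf (nat_lit 0x1030458576) (nat_lit 2564))
 (.leaf (nat_lit 0x1030458577) (nat_lit 2820))
))) (.node (nat_lit 0x1030458d46) (.node (nat_lit 0x1030458976) (.node (nat_lit 0x1030458967) (.leaf (nat_lit 0x1030458966) (nat_lit 2308))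
 (.leaf (nat_lit 0x1030458967) (nat_lit 2564))
) (.node (nat_lit 0x1030458977) (.leaf (nat_lit 0x1030458976) (nat_lit 2307))
 (.leaf (nat_lit 0x1030458977) (nat_lit 2563))
)) (.node (nat_lit 0x1030458d56) (.node (nat_lit 0x1030458d47) (.leaf (nat_lit 0x1030458d46) (nat_lit 2307))
 (.leaf (nat_lit 0x1030458d47) (nat_lit 2563))
) (.node (nat_lit 0x1030458d57) (.leaf (nat_lit 0x1030458d56) (nat_lit 2308))
 (.leaf (nat_lit 0x1030458d57) (nat_lit 2564))
))))) (.node (nat_lit 0x1030479106) (.node (nat_lit 0x1030469966) (.node (nat_lit 0x1030469566) (.node (nat_lit 0x1030469156) (.node (nat_lit 0x1030469147) (.leaf (nat_lit 0x1030469146) (nat_lit 1282))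
 (.leaf (nat_lit 0x1030469147) (nat_lit 1538))
) (.node (nat_lit 0x1030469157) (.leaf (nat_lit 0x1030469156) (nat_lit 2820))
 (.leaf (nat_lit 0x1030469157) (nat_lit 3076))
)) (.node (nat_lit 0x1030469576) (.node (nat_lit 0x1030469567) (.leaf (nat_lit 0x1030469566) (nat_lit 1284))
 (.leaf (nat_lit 0x1030469567) (nat_lit 1540))
) (.node (nat_lit 0x1030469577) (.leaf (nat_lit 0x1030469576) (nat_lit 2819))
 (.leaf (nat_lit 0x1030469577) (nat_lit 3075))
))) (.node (nat_lit 0x1030469d46) (.node (nat_lit 0x1030469976) (.node (nat_lit 0x1030469967) (.leaf (nat_lit 0x1030469966) (nat_lit 1026))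
 (.leaf (nat_lit 0x1030469967) (nat_lit 1282))
) (.node (nat_lit 0x1030469977) (.leaf (nat_lit 0x1030469976) (nat_lit 3076))
 (.leaf (nat_lit 0x1030469977) (nat_lit 3332))
)) (.node (nat_lit 0x1030469d56) (.node (nat_lit 0x1030469d47) (.leaf (nat_lit 0x1030469d46) (nat_lit 1540))
 (.leaf (nat_lit 0x1030469d47) (nat_lit 1796))
) (.node (nat_lit 0x1030469d57) (.leaf (nat_lit 0x1030469d56) (nat_lit 2563))
 (.leaf (nat_lit 0x1030469d57) (nat_lit 2819))
)))) (.node (nat_lit 0x1030479926) (.node (nat_lit 0x1030479526) (.node (nat_lit 0x1030479116) (.node (nat_lit 0x1030479107) (.leaf (nat_lit 0x1030479106) (nat_lit 1284))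
 (.leaf (nat_lit 0x1030479107) (nat_lit 1540))
) (.node (nat_lit 0x1030479117) (.leaf (nat_lit 0x1030479116) (nat_lit 2819))
 (.leaf (nat_lit 0x1030479117) (nat_lit 3075))
)) (.node (nat_lit 0x1030479536) (.node (nat_lit 0x1030479527) (.leaf (nat_lit 0x1030479526) (nat_lit 1283))
 (.leaf (nat_lit 0x1030479527) (nat_lit 1539))
) (.node (nat_lit 0x1030479537) (.leaf (nat_lit 0x1030479536) (nat_lit 2820))
 (.leaf (nat_lit 0x1030479537) (nat_lit 3076))
))) (.node (nat_lit 0x1030479d06) (.node (nat_lit 0x1030479936) (.node (nat_lit 0x1030479927) (.leaf (nat_lit 0x1030479926) (nat_lit 1540))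
 (.leaf (nat_lit 0x1030479927) (nat_lit 1796))
) (.node (nat_lit 0x1030479937) (.leaf (nat_lit 0x1030479936) (nat_lit 2563))
 (.leaf (nat_lit 0x1030479937) (nat_lit 2819))
)) (.node (nat_lit 0x1030479d16) (.node (nat_lit 0x1030479d07) (.leaf (nat_lit 0x1030479d06) (nat_lit 1027))
 (.leaf (nat_lit 0x1030479d07) (nat_lit 1283))
) (.node (nat_lit 0x1030479d17) (.leaf (nat_lit 0x1030479d16) (nat_lit 3076))
 (.leaf (nat_lit 0x1030479d17) (nat_lit 3332))
)))))))) (.node (nat_lit 0x143040810e) (.node (nat_lit 0x142044814a) (.node (nat_lit 0x142042912a) (.node (nat_lit 0x142041814a) (.node (nat_lit 0x142040890a) (.node (nat_lit 0x142040852a) (.node (nat_lit 0x142040811a) (.node (nat_lit 0x142040810b) (.leaf (nat_lit 0x142040810a) (nat_lit 1027))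
 (.leaf (nat_lit 0x142040810b) (nat_lit 1283))
) (.node (nat_lit 0x142040811b) (.leaf (nat_lit 0x142040811a) (nat_lit 3076))
 (.leaf (nat_lit 0x142040811b) (nat_lit 3332))
)) (.node (nat_lit 0x142040853a) (.node (nat_lit 0x142040852b) (.leaf (nat_lit 0x142040852a) (nat_lit 2563))
 (.leaf (nat_lit 0x142040852b) (nat_lit 2819))
) (.node (nat_lit 0x142040853b) (.leaf (nat_lit 0x142040853a) (nat_lit 1540))
 (.leaf (nat_lit 0x142040853b) (nat_lit 1796))
))) (.node (nat_lit 0x1420408d2a) (.node (nat_lit 0x142040891a) (.node (nat_lit 0x142040890b) (.leaf (nat_lit 0x142040890a) (nat_lit 1284))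
 (.leaf (nat_lit 0x142040890b) (nat_lit 1540))
) (.node (nat_lit 0x142040891b) (.leaf (nat_lit 0x142040891a) (nat_lit 2819))
 (.leaf (nat_lit 0x142040891b) (nat_lit 3075))
)) (.node (nat_lit 0x1420408d3a) (.node (nat_lit 0x1420408d2b) (.leaf (nat_lit 0x1420408d2a) (nat_lit 2820))
 (.leaf (nat_lit 0x1420408d2b) (nat_lit 3076))
) (.node (nat_lit 0x1420408d3b) (.leaf (nat_lit 0x1420408d3a) (nat_lit 1283))
 (.leaf (nat_lit 0x1420408d3b) (nat_lit 1539))
)))) (.node (nat_lit 0x142041894a) (.node (nat_lit 0x142041856a) (.node (nat_lit 0x142041815a) (.node (nat_lit 0x142041814b) (.leaf (nat_lit 0x142041814a) (nat_lit 1537))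
 (.leaf (nat_lit 0x142041814b) (nat_lit 1793))
) (.node (nat_lit 0x142041815b) (.leaf (nat_lit 0x142041815a) (nat_lit 2564))
 (.leaf (nat_lit 0x142041815b) (nat_lit 2820))
)) (.node (nat_lit 0x142041857a) (.node (nat_lit 0x142041856b) (.leaf (nat_lit 0x142041856a) (nat_lit 2051))
 (.leaf (nat_lit 0x142041856b) (nat_lit 2307))
) (.node (nat_lit 0x142041857b) (.leaf (nat_lit 0x142041857a) (nat_lit 2052))
 (.leaf (nat_lit 0x142041857b) (nat_lit 2308))
))) (.node (nat_lit 0x1420418d6a) (.node (nat_lit 0x142041895a) (.node (nat_lit 0x142041894b) (.leaf (nat_lit 0x142041894a) (nat_lit 1796))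
 (.leaf (nat_lit 0x142041894b) (nat_lit 2052))
) (.node (nat_lit 0x142041895b) (.leaf (nat_lit 0x142041895a) (nat_lit 2307))
 (.leaf (nat_lit 0x142041895b) (nat_lit 2563))
)) (.node (nat_lit 0x1420418d7a) (.node (nat_lit 0x1420418d6b) (.leaf (nat_lit 0x1420418d6a) (nat_lit 2308))
 (.leaf (nat_lit 0x1420418d6b) (nat_lit 2564))
) (.node (nat_lit 0x1420418d7b) (.leaf (nat_lit 0x1420418d7a) (nat_lit 1793))
 (.leaf (nat_lit 0x1420418d7b) (nat_lit 2049))
))))) (.node (nat_lit 0x142043916a) (.node (nat_lit 0x142042992a) (.node (nat_lit 0x142042950a) (.node (nat_lit 0x142042913a) (.node (nat_lit 0x142042912b) (.leaf (nat_lit 0x142042912a) (nat_lit 1796))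
 (.leaf (nat_lit 0x142042912b) (nat_lit 2052))
) (.node (nat_lit 0x142042913b) (.leaf (nat_lit 0x142042913a) (nat_lit 1793))
 (.leaf (nat_lit 0x142042913b) (nat_lit 2049))
)) (.node (nat_lit 0x142042951a) (.node (nat_lit 0x142042950b) (.leaf (nat_lit 0x142042950a) (nat_lit 1796))
 (.leaf (nat_lit 0x142042950b) (nat_lit 2052))
) (.node (nat_lit 0x142042951b) (.leaf (nat_lit 0x142042951a) (nat_lit 1794))
 (.leaf (nat_lit 0x142042951b) (nat_lit 2050))
))) (.node (nat_lit 0x1420429d0a) (.node (nat_lit 0x142042993a) (.node (nat_lit 0x142042992b) (.leaf (nat_lit 0x142042992a) (nat_lit 1538))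
 (.leaf (nat_lit 0x142042992b) (nat_lit 1794))
) (.node (nat_lit 0x142042993b) (.leaf (nat_lit 0x142042993a) (nat_lit 2052))
 (.leaf (nat_lit 0x142042993b) (nat_lit 2308))
)) (.node (nat_lit 0x1420429d1a) (.node (nat_lit 0x1420429d0b) (.leaf (nat_lit 0x1420429d0a) (nat_lit 1537))
 (.leaf (nat_lit 0x1420429d0b) (nat_lit 1793))
) (.node (nat_lit 0x1420429d1b) (.leaf (nat_lit 0x1420429d1a) (nat_lit 2052))
 (.leaf (nat_lit 0x1420429d1b) (nat_lit 2308))
)))) (.node (nat_lit 0x142043996a) (.node (nat_lit 0x142043954a) (.node (nat_lit 0x142043917a) (.node (nat_lit 0x142043916b) (.leaf (nat_lit 0x142043916a) (nat_lit 1796))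
 (.leaf (nat_lit 0x142043916b) (nat_lit 2052))
) (.node (nat_lit 0x142043917b) (.leaf (nat_lit 0x142043917a) (nat_lit 1795))
 (.leaf (nat_lit 0x142043917b) (nat_lit 2051))
)) (.node (nat_lit 0x142043955a) (.node (nat_lit 0x142043954b) (.leaf (nat_lit 0x142043954a) (nat_lit 1796))
 (.leaf (nat_lit 0x142043954b) (nat_lit 2052))
) (.node (nat_lit 0x142043955b) (.leaf (nat_lit 0x142043955a) (nat_lit 1794))
 (.leaf (nat_lit 0x142043955b) (nat_lit 2050))
))) (.node (nat_lit 0x1420439d4a) (.node (nat_lit 0x142043997a) (.node (nat_lit 0x142043996b) (.leaf (nat_lit 0x142043996a) (nat_lit 1538))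
 (.leaf (nat_lit 0x142043996b) (nat_lit 1794))
) (.node (nat_lit 0x142043997b) (.leaf (nat_lit 0x142043997a) (nat_lit 2052))
 (.leaf (nat_lit 0x142043997b) (nat_lit 2308))
)) (.node (nat_lit 0x1420439d5a) (.node (nat_lit 0x1420439d4b) (.leaf (nat_lit 0x1420439d4a) (nat_lit 1539))
 (.leaf (nat_lit 0x1420439d4b) (nat_lit 1795))
) (.node (nat_lit 0x1420439d5b) (.leaf (nat_lit 0x1420439d5a) (nat_lit 2052))
 (.leaf (nat_lit 0x1420439d5b) (nat_lit 2308))
)))))) (.node (nat_lit 0x142046916a) (.node (nat_lit 0x142045810a) (.node (nat_lit 0x142044894a) (.node (nat_lit 0x142044856a) (.node (nat_lit 0x142044815a) (.node (nat_lit 0x142044814b) (.leaf (nat_lit 0x142044814a) (nat_lit 1283))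
 (.leaf (nat_lit 0x142044814b) (nat_lit 1539))
) (.node (nat_lit 0x142044815b) (.leaf (nat_lit 0x142044815a) (nat_lit 2820))
 (.leaf (nat_lit 0x142044815b) (nat_lit 3076))
)) (.node (nat_lit 0x142044857a) (.node (nat_lit 0x142044856b) (.leaf (nat_lit 0x142044856a) (nat_lit 2307))
 (.leaf (nat_lit 0x142044856b) (nat_lit 2563))
) (.node (nat_lit 0x142044857b) (.leaf (nat_lit 0x142044857a) (nat_lit 1796))
 (.leaf (nat_lit 0x142044857b) (nat_lit 2052))
))) (.node (nat_lit 0x1420448d6a) (.node (nat_lit 0x142044895a) (.node (nat_lit 0x142044894b) (.leaf (nat_lit 0x142044894a) (nat_lit 1540))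
 (.leaf (nat_lit 0x142044894b) (nat_lit 1796))
) (.node (nat_lit 0x142044895b) (.leaf (nat_lit 0x142044895a) (nat_lit 2563))
 (.leaf (nat_lit 0x142044895b) (nat_lit 2819))
)) (.node (nat_lit 0x1420448d7a) (.node (nat_lit 0x1420448d6b) (.leaf (nat_lit 0x1420448d6a) (nat_lit 2564))
 (.leaf (nat_lit 0x1420448d6b) (nat_lit 2820))
) (.node (nat_lit 0x1420448d7b) (.leaf (nat_lit 0x1420448d7a) (nat_lit 1539))
 (.leaf (nat_lit 0x1420448d7b) (nat_lit 1795))
)))) (.node (nat_lit 0x142045890a) (.node (nat_lit 0x142045852a) (.node (nat_lit 0x142045811a) (.node (nat_lit 0x142045810b) (.leaf (nat_lit 0x142045810a) (nat_lit 1281))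
 (.leaf (nat_lit 0x142045810b) (nat_lit 1537))
) (.node (nat_lit 0x142045811b) (.leaf (nat_lit 0x142045811a) (nat_lit 2820))
 (.leaf (nat_lit 0x142045811b) (nat_lit 3076))
)) (.node (nat_lit 0x142045853a) (.node (nat_lit 0x142045852b) (.leaf (nat_lit 0x142045852a) (nat_lit 2307))
 (.leaf (nat_lit 0x142045852b) (nat_lit 2563))
) (.node (nat_lit 0x142045853b) (.leaf (nat_lit 0x142045853a) (nat_lit 1796))
 (.leaf (nat_lit 0x142045853b) (nat_lit 2052))
))) (.node (nat_lit 0x1420458d2a) (.node (nat_lit 0x142045891a) (.node (nat_lit 0x142045890b) (.leaf (nat_lit 0x142045890a) (nat_lit 1540))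
 (.leaf (nat_lit 0x142045890b) (nat_lit 1796))
) (.node (nat_lit 0x142045891b) (.leaf (nat_lit 0x142045891a) (nat_lit 2563))
 (.leaf (nat_lit 0x142045891b) (nat_lit 2819))
)) (.node (nat_lit 0x1420458d3a) (.node (nat_lit 0x1420458d2b) (.leaf (nat_lit 0x1420458d2a) (nat_lit 2564))
 (.leaf (nat_lit 0x1420458d2b) (nat_lit 2820))
) (.node (nat_lit 0x1420458d3b) (.leaf (nat_lit 0x1420458d3a) (nat_lit 1537))
 (.leaf (nat_lit 0x1420458d3b) (nat_lit 1793))
))))) (.node (nat_lit 0x142047912a) (.node (nat_lit 0x142046996a) (.node (nat_lit 0x142046954a) (.node (nat_lit 0x142046917a) (.node (nat_lit 0x142046916b) (.leaf (nat_lit 0x142046916a) (nat_lit 1540))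
 (.leaf (nat_lit 0x142046916b) (nat_lit 1796))
) (.node (nat_lit 0x142046917b) (.leaf (nat_lit 0x142046917a) (nat_lit 2049))
 (.leaf (nat_lit 0x142046917b) (nat_lit 2305))
)) (.node (nat_lit 0x142046955a) (.node (nat_lit 0x142046954b) (.leaf (nat_lit 0x142046954a) (nat_lit 2052))
 (.leaf (nat_lit 0x142046954b) (nat_lit 2308))
) (.node (nat_lit 0x142046955b) (.leaf (nat_lit 0x142046955a) (nat_lit 1538))
 (.leaf (nat_lit 0x142046955b) (nat_lit 1794))
))) (.node (nat_lit 0x1420469d4a) (.node (nat_lit 0x142046997a) (.node (nat_lit 0x142046996b) (.leaf (nat_lit 0x142046996a) (nat_lit 1282))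
 (.leaf (nat_lit 0x142046996b) (nat_lit 1538))
) (.node (nat_lit 0x142046997b) (.leaf (nat_lit 0x142046997a) (nat_lit 2308))
 (.leaf (nat_lit 0x142046997b) (nat_lit 2564))
)) (.node (nat_lit 0x1420469d5a) (.node (nat_lit 0x1420469d4b) (.leaf (nat_lit 0x1420469d4a) (nat_lit 1793))
 (.leaf (nat_lit 0x1420469d4b) (nat_lit 2049))
) (.node (nat_lit 0x1420469d5b) (.leaf (nat_lit 0x1420469d5a) (nat_lit 1796))
 (.leaf (nat_lit 0x1420469d5b) (nat_lit 2052))
)))) (.node (nat_lit 0x142047992a) (.node (nat_lit 0x142047950a) (.node (nat_lit 0x142047913a) (.node (nat_lit 0x142047912b) (.leaf (nat_lit 0x142047912a) (nat_lit 2052))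
 (.leaf (nat_lit 0x142047912b) (nat_lit 2308))
) (.node (nat_lit 0x142047913b) (.leaf (nat_lit 0x142047913a) (nat_lit 1539))
 (.leaf (nat_lit 0x142047913b) (nat_lit 1795))
)) (.node (nat_lit 0x142047951a) (.node (nat_lit 0x142047950b) (.leaf (nat_lit 0x142047950a) (nat_lit 1540))
 (.leaf (nat_lit 0x142047950b) (nat_lit 1796))
) (.node (nat_lit 0x142047951b) (.leaf (nat_lit 0x142047951a) (nat_lit 2050))
 (.leaf (nat_lit 0x142047951b) (nat_lit 2306))
))) (.node (nat_lit 0x1420479d0a) (.node (nat_lit 0x142047993a) (.node (nat_lit 0x142047992b) (.leaf (nat_lit 0x142047992a) (nat_lit 1794))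
 (.leaf (nat_lit 0x142047992b) (nat_lit 2050))
) (.node (nat_lit 0x142047993b) (.leaf (nat_lit 0x142047993a) (nat_lit 1796))
 (.leaf (nat_lit 0x142047993b) (nat_lit 2052))
)) (.node (nat_lit 0x1420479d1a) (.node (nat_lit 0x1420479d0b) (.leaf (nat_lit 0x1420479d0a) (nat_lit 1283))
 (.leaf (nat_lit 0x1420479d0b) (nat_lit 1539))
) (.node (nat_lit 0x1420479d1b) (.leaf (nat_lit 0x1420479d1a) (nat_lit 2308))
 (.leaf (nat_lit 0x1420479d1b) (nat_lit 2564))
))))))) (.node (nat_lit 0x143044814e) (.node (nat_lit 0x143042916e) (.node (nat_lit 0x143041814e) (.node (nat_lit 0x143040892e) (.node (nat_lit 0x143040852e) (.node (nat_lit 0x143040811e) (.node (nat_lit 0x143040810f) (.leaf (nat_lit 0x143040810e) (nat_lit 771))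
 (.leaf (nat_lit 0x143040810f) (nat_lit 1027))
) (.node (nat_lit 0x143040811f) (.leaf (nat_lit 0x143040811e) (nat_lit 3332))
 (.leaf (nat_lit 0x143040811f) (nat_lit 3588))
)) (.node (nat_lit 0x143040853e) (.node (nat_lit 0x143040852f) (.leaf (nat_lit 0x143040852e) (nat_lit 1284))
 (.leaf (nat_lit 0x143040852f) (nat_lit 1540))
) (.node (nat_lit 0x143040853f) (.leaf (nat_lit 0x143040853e) (nat_lit 2819))
 (.leaf (nat_lit 0x143040853f) (nat_lit 3075))
))) (.node (nat_lit 0x1430408d0e) (.node (nat_lit 0x143040893e) (.node (nat_lit 0x143040892f) (.leaf (nat_lit 0x143040892e) (nat_lit 1027))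
 (.leaf (nat_lit 0x143040892f) (nat_lit 1283))
) (.node (nat_lit 0x143040893f) (.leaf (nat_lit 0x143040893e) (nat_lit 3076))
 (.leaf (nat_lit 0x143040893f) (nat_lit 3332))
)) (.node (nat_lit 0x1430408d1e) (.node (nat_lit 0x1430408d0f) (.leaf (nat_lit 0x1430408d0e) (nat_lit 1028))
 (.leaf (nat_lit 0x1430408d0f) (nat_lit 1284))
) (.node (nat_lit 0x1430408d1f) (.leaf (nat_lit 0x1430408d1e) (nat_lit 3075))
 (.leaf (nat_lit 0x1430408d1f) (nat_lit 3331))
)))) (.node (nat_lit 0x143041896e) (.node (nat_lit 0x143041856e) (.node (nat_lit 0x143041815e) (.node (nat_lit 0x143041814f) (.leaf (nat_lit 0x143041814e) (nat_lit 1281))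
 (.leaf (nat_lit 0x143041814f) (nat_lit 1537))
) (.node (nat_lit 0x143041815f) (.leaf (nat_lit 0x143041815e) (nat_lit 2820))
 (.leaf (nat_lit 0x143041815f) (nat_lit 3076))
)) (.node (nat_lit 0x143041857e) (.node (nat_lit 0x143041856f) (.leaf (nat_lit 0x143041856e) (nat_lit 1796))
 (.leaf (nat_lit 0x143041856f) (nat_lit 2052))
) (.node (nat_lit 0x143041857f) (.leaf (nat_lit 0x143041857e) (nat_lit 2307))
 (.leaf (nat_lit 0x143041857f) (nat_lit 2563))
))) (.node (nat_lit 0x1430418d4e) (.node (nat_lit 0x143041897e) (.node (nat_lit 0x143041896f) (.leaf (nat_lit 0x143041896e) (nat_lit 1537))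
 (.leaf (nat_lit 0x143041896f) (nat_lit 1793))
) (.node (nat_lit 0x143041897f) (.leaf (nat_lit 0x143041897e) (nat_lit 2564))
 (.leaf (nat_lit 0x143041897f) (nat_lit 2820))
)) (.node (nat_lit 0x1430418d5e) (.node (nat_lit 0x1430418d4f) (.leaf (nat_lit 0x1430418d4e) (nat_lit 1540))
 (.leaf (nat_lit 0x1430418d4f) (nat_lit 1796))
) (.node (nat_lit 0x1430418d5f) (.leaf (nat_lit 0x1430418d5e) (nat_lit 2563))
 (.leaf (nat_lit 0x1430418d5f) (nat_lit 2819))
))))) (.node (nat_lit 0x143043912e) (.node (nat_lit 0x143042994e) (.node (nat_lit 0x143042954e) (.node (nat_lit 0x143042917e) (.node (nat_lit 0x143042916f) (.leaf (nat_lit 0x143042916e) (nat_lit 1539))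
 (.leaf (nat_lit 0x143042916f) (nat_lit 1795))
) (.node (nat_lit 0x143042917f) (.leaf (nat_lit 0x143042917e) (nat_lit 2052))
 (.leaf (nat_lit 0x143042917f) (nat_lit 2308))
)) (.node (nat_lit 0x143042955e) (.node (nat_lit 0x143042954f) (.leaf (nat_lit 0x143042954e) (nat_lit 1540))
 (.leaf (nat_lit 0x143042954f) (nat_lit 1796))
) (.node (nat_lit 0x143042955f) (.leaf (nat_lit 0x143042955e) (nat_lit 2050))
 (.leaf (nat_lit 0x143042955f) (nat_lit 2306))
))) (.node (nat_lit 0x1430429d6e) (.node (nat_lit 0x143042995e) (.node (nat_lit 0x143042994f) (.leaf (nat_lit 0x143042994e) (nat_lit 1283))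
 (.leaf (nat_lit 0x143042994f) (nat_lit 1539))
) (.node (nat_lit 0x143042995f) (.leaf (nat_lit 0x143042995e) (nat_lit 2308))
 (.leaf (nat_lit 0x143042995f) (nat_lit 2564))
)) (.node (nat_lit 0x1430429d7e) (.node (nat_lit 0x1430429d6f) (.leaf (nat_lit 0x1430429d6e) (nat_lit 1796))
 (.leaf (nat_lit 0x1430429d6f) (nat_lit 2052))
) (.node (nat_lit 0x1430429d7f) (.leaf (nat_lit 0x1430429d7e) (nat_lit 1794))
 (.leaf (nat_lit 0x1430429d7f) (nat_lit 2050))
)))) (.node (nat_lit 0x143043990e) (.node (nat_lit 0x143043950e) (.node (nat_lit 0x143043913e) (.node (nat_lit 0x143043912f) (.leaf (nat_lit 0x143043912e) (nat_lit 1537))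
 (.leaf (nat_lit 0x143043912f) (nat_lit 1793))
) (.node (nat_lit 0x143043913f) (.leaf (nat_lit 0x143043913e) (nat_lit 2052))
 (.leaf (nat_lit 0x143043913f) (nat_lit 2308))
)) (.node (nat_lit 0x143043951e) (.node (nat_lit 0x143043950f) (.leaf (nat_lit 0x143043950e) (nat_lit 1540))
 (.leaf (nat_lit 0x143043950f) (nat_lit 1796))
) (.node (nat_lit 0x143043951f) (.leaf (nat_lit 0x143043951e) (nat_lit 2050))
 (.leaf (nat_lit 0x143043951f) (nat_lit 2306))
))) (.node (nat_lit 0x1430439d2e) (.node (nat_lit 0x143043991e) (.node (nat_lit 0x143043990f) (.leaf (nat_lit 0x143043990e) (nat_lit 1281))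
 (.leaf (nat_lit 0x143043990f) (nat_lit 1537))
) (.node (nat_lit 0x143043991f) (.leaf (nat_lit 0x143043991e) (nat_lit 2308))
 (.leaf (nat_lit 0x143043991f) (nat_lit 2564))
)) (.node (nat_lit 0x1430439d3e) (.node (nat_lit 0x1430439d2f) (.leaf (nat_lit 0x1430439d2e) (nat_lit 1796))
 (.leaf (nat_lit 0x1430439d2f) (nat_lit 2052))
) (.node (nat_lit 0x1430439d3f) (.leaf (nat_lit 0x1430439d3e) (nat_lit 1794))
 (.leaf (nat_lit 0x1430439d3f) (nat_lit 2050))
)))))) (.node (nat_lit 0x143046912e) (.node (nat_lit 0x143045810e) (.node (nat_lit 0x143044896e) (.node (nat_lit 0x143044856e) (.node (nat_lit 0x143044815e) (.node (nat_lit 0x143044814f) (.leaf (nat_lit 0x143044814e) (nat_lit 1027))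
 (.leaf (nat_lit 0x143044814f) (nat_lit 1283))
) (.node (nat_lit 0x143044815f) (.leaf (nat_lit 0x143044815e) (nat_lit 3076))
 (.leaf (nat_lit 0x143044815f) (nat_lit 3332))
)) (.node (nat_lit 0x143044857e) (.node (nat_lit 0x143044856f) (.leaf (nat_lit 0x143044856e) (nat_lit 1540))
 (.leaf (nat_lit 0x143044856f) (nat_lit 1796))
) (.node (nat_lit 0x143044857f) (.leaf (nat_lit 0x143044857e) (nat_lit 2563))
 (.leaf (nat_lit 0x143044857f) (nat_lit 2819))
))) (.node (nat_lit 0x1430448d4e) (.node (nat_lit 0x143044897e) (.node (nat_lit 0x143044896f) (.leaf (nat_lit 0x143044896e) (nat_lit 1283))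
 (.leaf (nat_lit 0x143044896f) (nat_lit 1539))
) (.node (nat_lit 0x143044897f) (.leaf (nat_lit 0x143044897e) (nat_lit 2820))
 (.leaf (nat_lit 0x143044897f) (nat_lit 3076))
)) (.node (nat_lit 0x1430448d5e) (.node (nat_lit 0x1430448d4f) (.leaf (nat_lit 0x1430448d4e) (nat_lit 1284))
 (.leaf (nat_lit 0x1430448d4f) (nat_lit 1540))
) (.node (nat_lit 0x1430448d5f) (.leaf (nat_lit 0x1430448d5e) (nat_lit 2819))
 (.leaf (nat_lit 0x1430448d5f) (nat_lit 3075))
)))) (.node (nat_lit 0x143045892e) (.node (nat_lit 0x143045852e) (.node (nat_lit 0x143045811e) (.node (nat_lit 0x143045810f) (.leaf (nat_lit 0x143045810e) (nat_lit 1025))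
 (.leaf (nat_lit 0x143045810f) (nat_lit 1281))
) (.node (nat_lit 0x143045811f) (.leaf (nat_lit 0x143045811e) (nat_lit 3076))
 (.leaf (nat_lit 0x143045811f) (nat_lit 3332))
)) (.node (nat_lit 0x143045853e) (.node (nat_lit 0x143045852f) (.leaf (nat_lit 0x143045852e) (nat_lit 1540))
 (.leaf (nat_lit 0x143045852f) (nat_lit 1796))
) (.node (nat_lit 0x143045853f) (.leaf (nat_lit 0x143045853e) (nat_lit 2563))
 (.leaf (nat_lit 0x143045853f) (nat_lit 2819))
))) (.node (nat_lit 0x1430458d0e) (.node (nat_lit 0x143045893e) (.node (nat_lit 0x143045892f) (.leaf (nat_lit 0x143045892e) (nat_lit 1281))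
 (.leaf (nat_lit 0x143045892f) (nat_lit 1537))
) (.node (nat_lit 0x143045893f) (.leaf (nat_lit 0x143045893e) (nat_lit 2820))
 (.leaf (nat_lit 0x143045893f) (nat_lit 3076))
)) (.node (nat_lit 0x1430458d1e) (.node (nat_lit 0x1430458d0f) (.leaf (nat_lit 0x1430458d0e) (nat_lit 1284))
 (.leaf (nat_lit 0x1430458d0f) (nat_lit 1540))
) (.node (nat_lit 0x1430458d1f) (.leaf (nat_lit 0x1430458d1e) (nat_lit 2819))
 (.leaf (nat_lit 0x1430458d1f) (nat_lit 3075))
))))) (.node (nat_lit 0x143047916e) (.node (nat_lit 0x143046990e) (.node (nat_lit 0x143046950e) (.node (nat_lit 0x143046913e) (.node (nat_lit 0x143046912f) (.leaf (nat_lit 0x143046912e) (nat_lit 1283))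
 (.leaf (nat_lit 0x143046912f) (nat_lit 1539))
) (.node (nat_lit 0x143046913f) (.leaf (nat_lit 0x143046913e) (nat_lit 2308))
 (.leaf (nat_lit 0x143046913f) (nat_lit 2564))
)) (.node (nat_lit 0x143046951e) (.node (nat_lit 0x143046950f) (.leaf (nat_lit 0x143046950e) (nat_lit 1284))
 (.leaf (nat_lit 0x143046950f) (nat_lit 1540))
) (.node (nat_lit 0x143046951f) (.leaf (nat_lit 0x143046951e) (nat_lit 2306))
 (.leaf (nat_lit 0x143046951f) (nat_lit 2562))
))) (.node (nat_lit 0x1430469d2e) (.node (nat_lit 0x143046991e) (.node (nat_lit 0x143046990f) (.leaf (nat_lit 0x143046990e) (nat_lit 1027))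
 (.leaf (nat_lit 0x143046990f) (nat_lit 1283))
) (.node (nat_lit 0x143046991f) (.leaf (nat_lit 0x143046991e) (nat_lit 2564))
 (.leaf (nat_lit 0x143046991f) (nat_lit 2820))
)) (.node (nat_lit 0x1430469d3e) (.node (nat_lit 0x1430469d2f) (.leaf (nat_lit 0x1430469d2e) (nat_lit 1540))
 (.leaf (nat_lit 0x1430469d2f) (nat_lit 1796))
) (.node (nat_lit 0x1430469d3f) (.leaf (nat_lit 0x1430469d3e) (nat_lit 2050))
 (.leaf (nat_lit 0x1430469d3f) (nat_lit 2306))
)))) (.node (nat_lit 0x143047994e) (.node (nat_lit 0x143047954e) (.node (nat_lit 0x143047917e) (.node (nat_lit 0x143047916f) (.leaf (nat_lit 0x143047916e) (nat_lit 1793))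
 (.leaf (nat_lit 0x143047916f) (nat_lit 2049))
) (.node (nat_lit 0x143047917f) (.leaf (nat_lit 0x143047917e) (nat_lit 1796))
 (.leaf (nat_lit 0x143047917f) (nat_lit 2052))
)) (.node (nat_lit 0x143047955e) (.node (nat_lit 0x143047954f) (.leaf (nat_lit 0x143047954e) (nat_lit 1796))
 (.leaf (nat_lit 0x143047954f) (nat_lit 2052))
) (.node (nat_lit 0x143047955f) (.leaf (nat_lit 0x143047955e) (nat_lit 1794))
 (.leaf (nat_lit 0x143047955f) (nat_lit 2050))
))) (.node (nat_lit 0x1430479d6e) (.node (nat_lit 0x143047995e) (.node (nat_lit 0x143047994f) (.leaf (nat_lit 0x143047994e) (nat_lit 1537))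
 (.leaf (nat_lit 0x143047994f) (nat_lit 1793))
) (.node (nat_lit 0x143047995f) (.leaf (nat_lit 0x143047995e) (nat_lit 2052))
 (.leaf (nat_lit 0x143047995f) (nat_lit 2308))
)) (.node (nat_lit 0x1430479d7e) (.node (nat_lit 0x1430479d6f) (.leaf (nat_lit 0x1430479d6e) (nat_lit 2052))
 (.leaf (nat_lit 0x1430479d6f) (nat_lit 2308))
) (.node (nat_lit 0x1430479d7f) (.leaf (nat_lit 0x1430479d7e) (nat_lit 1538))
 (.leaf (nat_lit 0x1430479d7f) (nat_lit 1794))
))))))))) (.node (nat_lit 0x1c2040830a) (.node (nat_lit 0x183040830e) (.node (nat_lit 0x1820449302) (.node (nat_lit 0x1820429302) (.node (nat_lit 0x1820418362) (.node (nat_lit 0x1820408b02) (.node (nat_lit 0x1820408722) (.node (nat_lit 0x1820408312) (.node (nat_lit 0x1820408303) (.leaf (nat_lit 0x1820408302) (nat_lit 259))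
 (.leaf (nat_lit 0x1820408303) (nat_lit 515))
) (.node (nat_lit 0x1820408313) (.leaf (nat_lit 0x1820408312) (nat_lit 3332))
 (.leaf (nat_lit 0x1820408313) (nat_lit 3588))
)) (.node (nat_lit 0x1820408732) (.node (nat_lit 0x1820408723) (.leaf (nat_lit 0x1820408722) (nat_lit 2818))
 (.leaf (nat_lit 0x1820408723) (nat_lit 3074))
) (.node (nat_lit 0x1820408733) (.leaf (nat_lit 0x1820408732) (nat_lit 1284))
 (.leaf (nat_lit 0x1820408733) (nat_lit 1540))
))) (.node (nat_lit 0x1820408f22) (.node (nat_lit 0x1820408b12) (.node (nat_lit 0x1820408b03) (.leaf (nat_lit 0x1820408b02) (nat_lit 516))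
 (.leaf (nat_lit 0x1820408b03) (nat_lit 772))
) (.node (nat_lit 0x1820408b13) (.leaf (nat_lit 0x1820408b12) (nat_lit 3074))
 (.leaf (nat_lit 0x1820408b13) (nat_lit 3330))
)) (.node (nat_lit 0x1820408f32) (.node (nat_lit 0x1820408f23) (.leaf (nat_lit 0x1820408f22) (nat_lit 3076))
 (.leaf (nat_lit 0x1820408f23) (nat_lit 3332))
) (.node (nat_lit 0x1820408f33) (.leaf (nat_lit 0x1820408f32) (nat_lit 1027))
 (.leaf (nat_lit 0x1820408f33) (nat_lit 1283))
)))) (.node (nat_lit 0x1820418b62) (.node (nat_lit 0x1820418742) (.node (nat_lit 0x1820418372) (.node (nat_lit 0x1820418363) (.leaf (nat_lit 0x1820418362) (nat_lit 2308))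
 (.leaf (nat_lit 0x1820418363) (nat_lit 2564))
) (.node (nat_lit 0x1820418373) (.leaf (nat_lit 0x1820418372) (nat_lit 1793))
 (.leaf (nat_lit 0x1820418373) (nat_lit 2049))
)) (.node (nat_lit 0x1820418752) (.node (nat_lit 0x1820418743) (.leaf (nat_lit 0x1820418742) (nat_lit 2308))
 (.leaf (nat_lit 0x1820418743) (nat_lit 2564))
) (.node (nat_lit 0x1820418753) (.leaf (nat_lit 0x1820418752) (nat_lit 1794))
 (.leaf (nat_lit 0x1820418753) (nat_lit 2050))
))) (.node (nat_lit 0x1820418f42) (.node (nat_lit 0x1820418b72) (.node (nat_lit 0x1820418b63) (.leaf (nat_lit 0x1820418b62) (nat_lit 2050))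
 (.leaf (nat_lit 0x1820418b63) (nat_lit 2306))
) (.node (nat_lit 0x1820418b73) (.leaf (nat_lit 0x1820418b72) (nat_lit 2052))
 (.leaf (nat_lit 0x1820418b73) (nat_lit 2308))
)) (.node (nat_lit 0x1820418f52) (.node (nat_lit 0x1820418f43) (.leaf (nat_lit 0x1820418f42) (nat_lit 2049))
 (.leaf (nat_lit 0x1820418f43) (nat_lit 2305))
) (.node (nat_lit 0x1820418f53) (.leaf (nat_lit 0x1820418f52) (nat_lit 2052))
 (.leaf (nat_lit 0x1820418f53) (nat_lit 2308))
))))) (.node (nat_lit 0x1820439362) (.node (nat_lit 0x1820429b02) (.node (nat_lit 0x1820429722) (.node (nat_lit 0x1820429312) (.node (nat_lit 0x1820429303) (.leaf (nat_lit 0x1820429302) (nat_lit 769))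
 (.leaf (nat_lit 0x1820429303) (nat_lit 1025))
) (.node (nat_lit 0x1820429313) (.leaf (nat_lit 0x1820429312) (nat_lit 2820))
 (.leaf (nat_lit 0x1820429313) (nat_lit 3076))
)) (.node (nat_lit 0x1820429732) (.node (nat_lit 0x1820429723) (.leaf (nat_lit 0x1820429722) (nat_lit 2306))
 (.leaf (nat_lit 0x1820429723) (nat_lit 2562))
) (.node (nat_lit 0x1820429733) (.leaf (nat_lit 0x1820429732) (nat_lit 1796))
 (.leaf (nat_lit 0x1820429733) (nat_lit 2052))
))) (.node (nat_lit 0x1820429f22) (.node (nat_lit 0x1820429b12) (.node (nat_lit 0x1820429b03) (.leaf (nat_lit 0x1820429b02) (nat_lit 1028))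
 (.leaf (nat_lit 0x1820429b03) (nat_lit 1284))
) (.node (nat_lit 0x1820429b13) (.leaf (nat_lit 0x1820429b12) (nat_lit 2562))
 (.leaf (nat_lit 0x1820429b13) (nat_lit 2818))
)) (.node (nat_lit 0x1820429f32) (.node (nat_lit 0x1820429f23) (.leaf (nat_lit 0x1820429f22) (nat_lit 2564))
 (.leaf (nat_lit 0x1820429f23) (nat_lit 2820))
) (.node (nat_lit 0x1820429f33) (.leaf (nat_lit 0x1820429f32) (nat_lit 1537))
 (.leaf (nat_lit 0x1820429f33) (nat_lit 1793))
)))) (.node (nat_lit 0x1820439b62) (.node (nat_lit 0x1820439742) (.node (nat_lit 0x1820439372) (.node (nat_lit 0x1820439363) (.leaf (nat_lit 0x1820439362) (nat_lit 2308))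
 (.leaf (nat_lit 0x1820439363) (nat_lit 2564))
) (.node (nat_lit 0x1820439373) (.leaf (nat_lit 0x1820439372) (nat_lit 1795))
 (.leaf (nat_lit 0x1820439373) (nat_lit 2051))
)) (.node (nat_lit 0x1820439752) (.node (nat_lit 0x1820439743) (.leaf (nat_lit 0x1820439742) (nat_lit 2308))
 (.leaf (nat_lit 0x1820439743) (nat_lit 2564))
) (.node (nat_lit 0x1820439753) (.leaf (nat_lit 0x1820439752) (nat_lit 1794))
 (.leaf (nat_lit 0x1820439753) (nat_lit 2050))
))) (.node (nat_lit 0x1820439f42) (.node (nat_lit 0x1820439b72) (.node (nat_lit 0x1820439b63) (.leaf (nat_lit 0x1820439b62) (nat_lit 2050))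
 (.leaf (nat_lit 0x1820439b63) (nat_lit 2306))
) (.node (nat_lit 0x1820439b73) (.leaf (nat_lit 0x1820439b72) (nat_lit 2052))
 (.leaf (nat_lit 0x1820439b73) (nat_lit 2308))
)) (.node (nat_lit 0x1820439f52) (.node (nat_lit 0x1820439f43) (.leaf (nat_lit 0x1820439f42) (nat_lit 2051))
 (.leaf (nat_lit 0x1820439f43) (nat_lit 2307))
) (.node (nat_lit 0x1820439f53) (.leaf (nat_lit 0x1820439f52) (nat_lit 2052))
 (.leaf (nat_lit 0x1820439f53) (nat_lit 2308))
)))))) (.node (nat_lit 0x1820468302) (.node (nat_lit 0x1820459362) (.node (nat_lit 0x1820449b02) (.node (nat_lit 0x1820449722) (.node (nat_lit 0x1820449312) (.node (nat_lit 0x1820449303) (.leaf (nat_lit 0x1820449302) (nat_lit 515))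
 (.leaf (nat_lit 0x1820449303) (nat_lit 771))
) (.node (nat_lit 0x1820449313) (.leaf (nat_lit 0x1820449312) (nat_lit 3076))
 (.leaf (nat_lit 0x1820449313) (nat_lit 3332))
)) (.node (nat_lit 0x1820449732) (.node (nat_lit 0x1820449723) (.leaf (nat_lit 0x1820449722) (nat_lit 2562))
 (.leaf (nat_lit 0x1820449723) (nat_lit 2818))
) (.node (nat_lit 0x1820449733) (.leaf (nat_lit 0x1820449732) (nat_lit 1540))
 (.leaf (nat_lit 0x1820449733) (nat_lit 1796))
))) (.node (nat_lit 0x1820449f22) (.node (nat_lit 0x1820449b12) (.node (nat_lit 0x1820449b03) (.leaf (nat_lit 0x1820449b02) (nat_lit 772))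
 (.leaf (nat_lit 0x1820449b03) (nat_lit 1028))
) (.node (nat_lit 0x1820449b13) (.leaf (nat_lit 0x1820449b12) (nat_lit 2818))
 (.leaf (nat_lit 0x1820449b13) (nat_lit 3074))
)) (.node (nat_lit 0x1820449f32) (.node (nat_lit 0x1820449f23) (.leaf (nat_lit 0x1820449f22) (nat_lit 2820))
 (.leaf (nat_lit 0x1820449f23) (nat_lit 3076))
) (.node (nat_lit 0x1820449f33) (.leaf (nat_lit 0x1820449f32) (nat_lit 1283))
 (.leaf (nat_lit 0x1820449f33) (nat_lit 1539))
)))) (.node (nat_lit 0x1820459b62) (.node (nat_lit 0x1820459742) (.node (nat_lit 0x1820459372) (.node (nat_lit 0x1820459363) (.leaf (nat_lit 0x1820459362) (nat_lit 2052))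
 (.leaf (nat_lit 0x1820459363) (nat_lit 2308))
) (.node (nat_lit 0x1820459373) (.leaf (nat_lit 0x1820459372) (nat_lit 2049))
 (.leaf (nat_lit 0x1820459373) (nat_lit 2305))
)) (.node (nat_lit 0x1820459752) (.node (nat_lit 0x1820459743) (.leaf (nat_lit 0x1820459742) (nat_lit 2564))
 (.leaf (nat_lit 0x1820459743) (nat_lit 2820))
) (.node (nat_lit 0x1820459753) (.leaf (nat_lit 0x1820459752) (nat_lit 1538))
 (.leaf (nat_lit 0x1820459753) (nat_lit 1794))
))) (.node (nat_lit 0x1820459f42) (.node (nat_lit 0x1820459b72) (.node (nat_lit 0x1820459b63) (.leaf (nat_lit 0x1820459b62) (nat_lit 1794))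
 (.leaf (nat_lit 0x1820459b63) (nat_lit 2050))
) (.node (nat_lit 0x1820459b73) (.leaf (nat_lit 0x1820459b72) (nat_lit 2308))
 (.leaf (nat_lit 0x1820459b73) (nat_lit 2564))
)) (.node (nat_lit 0x1820459f52) (.node (nat_lit 0x1820459f43) (.leaf (nat_lit 0x1820459f42) (nat_lit 2305))
 (.leaf (nat_lit 0x1820459f43) (nat_lit 2561))
) (.node (nat_lit 0x1820459f53) (.leaf (nat_lit 0x1820459f52) (nat_lit 1796))
 (.leaf (nat_lit 0x1820459f53) (nat_lit 2052))
))))) (.node (nat_lit 0x1820478362) (.node (nat_lit 0x1820468b02) (.node (nat_lit 0x1820468722) (.node (nat_lit 0x1820468312) (.node (nat_lit 0x1820468303) (.leaf (nat_lit 0x1820468302) (nat_lit 513))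
 (.leaf (nat_lit 0x1820468303) (nat_lit 769))
) (.node (nat_lit 0x1820468313) (.leaf (nat_lit 0x1820468312) (nat_lit 3076))
 (.leaf (nat_lit 0x1820468313) (nat_lit 3332))
)) (.node (nat_lit 0x1820468732) (.node (nat_lit 0x1820468723) (.leaf (nat_lit 0x1820468722) (nat_lit 2562))
 (.leaf (nat_lit 0x1820468723) (nat_lit 2818))
) (.node (nat_lit 0x1820468733) (.leaf (nat_lit 0x1820468732) (nat_lit 1540))
 (.leaf (nat_lit 0x1820468733) (nat_lit 1796))
))) (.node (nat_lit 0x1820468f22) (.node (nat_lit 0x1820468b12) (.node (nat_lit 0x1820468b03) (.leaf (nat_lit 0x1820468b02) (nat_lit 772))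
 (.leaf (nat_lit 0x1820468b03) (nat_lit 1028))
) (.node (nat_lit 0x1820468b13) (.leaf (nat_lit 0x1820468b12) (nat_lit 2818))
 (.leaf (nat_lit 0x1820468b13) (nat_lit 3074))
)) (.node (nat_lit 0x1820468f32) (.node (nat_lit 0x1820468f23) (.leaf (nat_lit 0x1820468f22) (nat_lit 2820))
 (.leaf (nat_lit 0x1820468f23) (nat_lit 3076))
) (.node (nat_lit 0x1820468f33) (.leaf (nat_lit 0x1820468f32) (nat_lit 1281))
 (.leaf (nat_lit 0x1820468f33) (nat_lit 1537))
)))) (.node (nat_lit 0x1820478b62) (.node (nat_lit 0x1820478742) (.node (nat_lit 0x1820478372) (.node (nat_lit 0x1820478363) (.leaf (nat_lit 0x1820478362) (nat_lit 2564))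
 (.leaf (nat_lit 0x1820478363) (nat_lit 2820))
) (.node (nat_lit 0x1820478373) (.leaf (nat_lit 0x1820478372) (nat_lit 1539))
 (.leaf (nat_lit 0x1820478373) (nat_lit 1795))
)) (.node (nat_lit 0x1820478752) (.node (nat_lit 0x1820478743) (.leaf (nat_lit 0x1820478742) (nat_lit 2052))
 (.leaf (nat_lit 0x1820478743) (nat_lit 2308))
) (.node (nat_lit 0x1820478753) (.leaf (nat_lit 0x1820478752) (nat_lit 2050))
 (.leaf (nat_lit 0x1820478753) (nat_lit 2306))
))) (.node (nat_lit 0x1820478f42) (.node (nat_lit 0x1820478b72) (.node (nat_lit 0x1820478b63) (.leaf (nat_lit 0x1820478b62) (nat_lit 2306))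
 (.leaf (nat_lit 0x1820478b63) (nat_lit 2562))
) (.node (nat_lit 0x1820478b73) (.leaf (nat_lit 0x1820478b72) (nat_lit 1796))
 (.leaf (nat_lit 0x1820478b73) (nat_lit 2052))
)) (.node (nat_lit 0x1820478f52) (.node (nat_lit 0x1820478f43) (.leaf (nat_lit 0x1820478f42) (nat_lit 1795))
 (.leaf (nat_lit 0x1820478f43) (nat_lit 2051))
) (.node (nat_lit 0x1820478f53) (.leaf (nat_lit 0x1820478f52) (nat_lit 2308))
 (.leaf (nat_lit 0x1820478f53) (nat_lit 2564))
))))))) (.node (nat_lit 0x183044934e) (.node (nat_lit 0x183042934e) (.node (nat_lit 0x183041836e) (.node (nat_lit 0x1830408b2e) (.node (nat_lit 0x183040872e) (.node (nat_lit 0x183040831e) (.node (nat_lit 0x183040830f) (.leaf (nat_lit 0x183040830e) (nat_lit 514))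
 (.leaf (nat_lit 0x183040830f) (nat_lit 770))
) (.node (nat_lit 0x183040831f) (.leaf (nat_lit 0x183040831e) (nat_lit 3076))
 (.leaf (nat_lit 0x183040831f) (nat_lit 3332))
)) (.node (nat_lit 0x183040873e) (.node (nat_lit 0x183040872f) (.leaf (nat_lit 0x183040872e) (nat_lit 1028))
 (.leaf (nat_lit 0x183040872f) (nat_lit 1284))
) (.node (nat_lit 0x183040873f) (.leaf (nat_lit 0x183040873e) (nat_lit 2561))
 (.leaf (nat_lit 0x183040873f) (nat_lit 2817))
))) (.node (nat_lit 0x1830408f0e) (.node (nat_lit 0x1830408b3e) (.node (nat_lit 0x1830408b2f) (.leaf (nat_lit 0x1830408b2e) (nat_lit 770))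
 (.leaf (nat_lit 0x1830408b2f) (nat_lit 1026))
) (.node (nat_lit 0x1830408b3f) (.leaf (nat_lit 0x1830408b3e) (nat_lit 2820))
 (.leaf (nat_lit 0x1830408b3f) (nat_lit 3076))
)) (.node (nat_lit 0x1830408f1e) (.node (nat_lit 0x1830408f0f) (.leaf (nat_lit 0x1830408f0e) (nat_lit 772))
 (.leaf (nat_lit 0x1830408f0f) (nat_lit 1028))
) (.node (nat_lit 0x1830408f1f) (.leaf (nat_lit 0x1830408f1e) (nat_lit 2817))
 (.leaf (nat_lit 0x1830408f1f) (nat_lit 3073))
)))) (.node (nat_lit 0x1830418b4e) (.node (nat_lit 0x183041874e) (.node (nat_lit 0x183041837e) (.node (nat_lit 0x183041836f) (.leaf (nat_lit 0x183041836e) (nat_lit 2052))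
 (.leaf (nat_lit 0x183041836f) (nat_lit 2308))
) (.node (nat_lit 0x183041837f) (.leaf (nat_lit 0x183041837e) (nat_lit 2049))
 (.leaf (nat_lit 0x183041837f) (nat_lit 2305))
)) (.node (nat_lit 0x183041875e) (.node (nat_lit 0x183041874f) (.leaf (nat_lit 0x183041874e) (nat_lit 1539))
 (.leaf (nat_lit 0x183041874f) (nat_lit 1795))
) (.node (nat_lit 0x183041875f) (.leaf (nat_lit 0x183041875e) (nat_lit 2564))
 (.leaf (nat_lit 0x183041875f) (nat_lit 2820))
))) (.node (nat_lit 0x1830418f6e) (.node (nat_lit 0x1830418b5e) (.node (nat_lit 0x1830418b4f) (.leaf (nat_lit 0x1830418b4e) (nat_lit 1796))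
 (.leaf (nat_lit 0x1830418b4f) (nat_lit 2052))
) (.node (nat_lit 0x1830418b5f) (.leaf (nat_lit 0x1830418b5e) (nat_lit 2305))
 (.leaf (nat_lit 0x1830418b5f) (nat_lit 2561))
)) (.node (nat_lit 0x1830418f7e) (.node (nat_lit 0x1830418f6f) (.leaf (nat_lit 0x1830418f6e) (nat_lit 1795))
 (.leaf (nat_lit 0x1830418f6f) (nat_lit 2051))
) (.node (nat_lit 0x1830418f7f) (.leaf (nat_lit 0x1830418f7e) (nat_lit 2308))
 (.leaf (nat_lit 0x1830418f7f) (nat_lit 2564))
))))) (.node (nat_lit 0x183043932e) (.node (nat_lit 0x1830429b6e) (.node (nat_lit 0x183042976e) (.node (nat_lit 0x183042935e) (.node (nat_lit 0x183042934f) (.leaf (nat_lit 0x183042934e) (nat_lit 1026))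
 (.leaf (nat_lit 0x183042934f) (nat_lit 1282))
) (.node (nat_lit 0x183042935f) (.leaf (nat_lit 0x183042935e) (nat_lit 2564))
 (.leaf (nat_lit 0x183042935f) (nat_lit 2820))
)) (.node (nat_lit 0x183042977e) (.node (nat_lit 0x183042976f) (.leaf (nat_lit 0x183042976e) (nat_lit 1540))
 (.leaf (nat_lit 0x183042976f) (nat_lit 1796))
) (.node (nat_lit 0x183042977f) (.leaf (nat_lit 0x183042977e) (nat_lit 2051))
 (.leaf (nat_lit 0x183042977f) (nat_lit 2307))
))) (.node (nat_lit 0x1830429f4e) (.node (nat_lit 0x1830429b7e) (.node (nat_lit 0x1830429b6f) (.leaf (nat_lit 0x1830429b6e) (nat_lit 1282))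
 (.leaf (nat_lit 0x1830429b6f) (nat_lit 1538))
) (.node (nat_lit 0x1830429b7f) (.leaf (nat_lit 0x1830429b7e) (nat_lit 2308))
 (.leaf (nat_lit 0x1830429b7f) (nat_lit 2564))
)) (.node (nat_lit 0x1830429f5e) (.node (nat_lit 0x1830429f4f) (.leaf (nat_lit 0x1830429f4e) (nat_lit 1284))
 (.leaf (nat_lit 0x1830429f4f) (nat_lit 1540))
) (.node (nat_lit 0x1830429f5f) (.leaf (nat_lit 0x1830429f5e) (nat_lit 2307))
 (.leaf (nat_lit 0x1830429f5f) (nat_lit 2563))
)))) (.node (nat_lit 0x1830439b0e) (.node (nat_lit 0x183043970e) (.node (nat_lit 0x183043933e) (.node (nat_lit 0x183043932f) (.leaf (nat_lit 0x183043932e) (nat_lit 2052))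
 (.leaf (nat_lit 0x183043932f) (nat_lit 2308))
) (.node (nat_lit 0x183043933f) (.leaf (nat_lit 0x183043933e) (nat_lit 2051))
 (.leaf (nat_lit 0x183043933f) (nat_lit 2307))
)) (.node (nat_lit 0x183043971e) (.node (nat_lit 0x183043970f) (.leaf (nat_lit 0x183043970e) (nat_lit 1539))
 (.leaf (nat_lit 0x183043970f) (nat_lit 1795))
) (.node (nat_lit 0x183043971f) (.leaf (nat_lit 0x183043971e) (nat_lit 2564))
 (.leaf (nat_lit 0x183043971f) (nat_lit 2820))
))) (.node (nat_lit 0x1830439f2e) (.node (nat_lit 0x1830439b1e) (.node (nat_lit 0x1830439b0f) (.leaf (nat_lit 0x1830439b0e) (nat_lit 1796))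
 (.leaf (nat_lit 0x1830439b0f) (nat_lit 2052))
) (.node (nat_lit 0x1830439b1f) (.leaf (nat_lit 0x1830439b1e) (nat_lit 2307))
 (.leaf (nat_lit 0x1830439b1f) (nat_lit 2563))
)) (.node (nat_lit 0x1830439f3e) (.node (nat_lit 0x1830439f2f) (.leaf (nat_lit 0x1830439f2e) (nat_lit 1795))
 (.leaf (nat_lit 0x1830439f2f) (nat_lit 2051))
) (.node (nat_lit 0x1830439f3f) (.leaf (nat_lit 0x1830439f3e) (nat_lit 2308))
 (.leaf (nat_lit 0x1830439f3f) (nat_lit 2564))
)))))) (.node (nat_lit 0x183046830e) (.node (nat_lit 0x183045932e) (.node (nat_lit 0x1830449b6e) (.node (nat_lit 0x183044976e) (.node (nat_lit 0x183044935e) (.node (nat_lit 0x183044934f) (.leaf (nat_lit 0x183044934e) (nat_lit 770))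
 (.leaf (nat_lit 0x183044934f) (nat_lit 1026))
) (.node (nat_lit 0x183044935f) (.leaf (nat_lit 0x183044935e) (nat_lit 2820))
 (.leaf (nat_lit 0x183044935f) (nat_lit 3076))
)) (.node (nat_lit 0x183044977e) (.node (nat_lit 0x183044976f) (.leaf (nat_lit 0x183044976e) (nat_lit 1284))
 (.leaf (nat_lit 0x183044976f) (nat_lit 1540))
) (.node (nat_lit 0x183044977f) (.leaf (nat_lit 0x183044977e) (nat_lit 2305))
 (.leaf (nat_lit 0x183044977f) (nat_lit 2561))
))) (.node (nat_lit 0x1830449f4e) (.node (nat_lit 0x1830449b7e) (.node (nat_lit 0x1830449b6f) (.leaf (nat_lit 0x1830449b6e) (nat_lit 1026))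
 (.leaf (nat_lit 0x1830449b6f) (nat_lit 1282))
) (.node (nat_lit 0x1830449b7f) (.leaf (nat_lit 0x1830449b7e) (nat_lit 2564))
 (.leaf (nat_lit 0x1830449b7f) (nat_lit 2820))
)) (.node (nat_lit 0x1830449f5e) (.node (nat_lit 0x1830449f4f) (.leaf (nat_lit 0x1830449f4e) (nat_lit 1028))
 (.leaf (nat_lit 0x1830449f4f) (nat_lit 1284))
) (.node (nat_lit 0x1830449f5f) (.leaf (nat_lit 0x1830449f5e) (nat_lit 2561))
 (.leaf (nat_lit 0x1830449f5f) (nat_lit 2817))
)))) (.node (nat_lit 0x1830459b0e) (.node (nat_lit 0x183045970e) (.node (nat_lit 0x183045933e) (.node (nat_lit 0x183045932f) (.leaf (nat_lit 0x183045932e) (nat_lit 1796))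
 (.leaf (nat_lit 0x183045932f) (nat_lit 2052))
) (.node (nat_lit 0x183045933f) (.leaf (nat_lit 0x183045933e) (nat_lit 2305))
 (.leaf (nat_lit 0x183045933f) (nat_lit 2561))
)) (.node (nat_lit 0x183045971e) (.node (nat_lit 0x183045970f) (.leaf (nat_lit 0x183045970e) (nat_lit 1283))
 (.leaf (nat_lit 0x183045970f) (nat_lit 1539))
) (.node (nat_lit 0x183045971f) (.leaf (nat_lit 0x183045971e) (nat_lit 2820))
 (.leaf (nat_lit 0x183045971f) (nat_lit 3076))
))) (.node (nat_lit 0x1830459f2e) (.node (nat_lit 0x1830459b1e) (.node (nat_lit 0x1830459b0f) (.leaf (nat_lit 0x1830459b0e) (nat_lit 1540))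
 (.leaf (nat_lit 0x1830459b0f) (nat_lit 1796))
) (.node (nat_lit 0x1830459b1f) (.leaf (nat_lit 0x1830459b1e) (nat_lit 2561))
 (.leaf (nat_lit 0x1830459b1f) (nat_lit 2817))
)) (.node (nat_lit 0x1830459f3e) (.node (nat_lit 0x1830459f2f) (.leaf (nat_lit 0x1830459f2e) (nat_lit 1539))
 (.leaf (nat_lit 0x1830459f2f) (nat_lit 1795))
) (.node (nat_lit 0x1830459f3f) (.leaf (nat_lit 0x1830459f3e) (nat_lit 2564))
 (.leaf (nat_lit 0x1830459f3f) (nat_lit 2820))
))))) (.node (nat_lit 0x183047836e) (.node (nat_lit 0x1830468b2e) (.node (nat_lit 0x183046872e) (.node (nat_lit 0x183046831e) (.node (nat_lit 0x183046830f) (.leaf (nat_lit 0x183046830e) (nat_lit 770))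
 (.leaf (nat_lit 0x183046830f) (nat_lit 1026))
) (.node (nat_lit 0x183046831f) (.leaf (nat_lit 0x183046831e) (nat_lit 2820))
 (.leaf (nat_lit 0x183046831f) (nat_lit 3076))
)) (.node (nat_lit 0x183046873e) (.node (nat_lit 0x183046872f) (.leaf (nat_lit 0x183046872e) (nat_lit 1284))
 (.leaf (nat_lit 0x183046872f) (nat_lit 1540))
) (.node (nat_lit 0x183046873f) (.leaf (nat_lit 0x183046873e) (nat_lit 2307))
 (.leaf (nat_lit 0x183046873f) (nat_lit 2563))
))) (.node (nat_lit 0x1830468f0e) (.node (nat_lit 0x1830468b3e) (.node (nat_lit 0x1830468b2f) (.leaf (nat_lit 0x1830468b2e) (nat_lit 1026))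
 (.leaf (nat_lit 0x1830468b2f) (nat_lit 1282))
) (.node (nat_lit 0x1830468b3f) (.leaf (nat_lit 0x1830468b3e) (nat_lit 2564))
 (.leaf (nat_lit 0x1830468b3f) (nat_lit 2820))
)) (.node (nat_lit 0x1830468f1e) (.node (nat_lit 0x1830468f0f) (.leaf (nat_lit 0x1830468f0e) (nat_lit 1028))
 (.leaf (nat_lit 0x1830468f0f) (nat_lit 1284))
) (.node (nat_lit 0x1830468f1f) (.leaf (nat_lit 0x1830468f1e) (nat_lit 2563))
 (.leaf (nat_lit 0x1830468f1f) (nat_lit 2819))
)))) (.node (nat_lit 0x1830478b4e) (.node (nat_lit 0x183047874e) (.node (nat_lit 0x183047837e) (.node (nat_lit 0x183047836f) (.leaf (nat_lit 0x183047836e) (nat_lit 2308))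
 (.leaf (nat_lit 0x183047836f) (nat_lit 2564))
) (.node (nat_lit 0x183047837f) (.leaf (nat_lit 0x183047837e) (nat_lit 1795))
 (.leaf (nat_lit 0x183047837f) (nat_lit 2051))
)) (.node (nat_lit 0x183047875e) (.node (nat_lit 0x183047874f) (.leaf (nat_lit 0x183047874e) (nat_lit 1795))
 (.leaf (nat_lit 0x183047874f) (nat_lit 2051))
) (.node (nat_lit 0x183047875f) (.leaf (nat_lit 0x183047875e) (nat_lit 2308))
 (.leaf (nat_lit 0x183047875f) (nat_lit 2564))
))) (.node (nat_lit 0x1830478f6e) (.node (nat_lit 0x1830478b5e) (.node (nat_lit 0x1830478b4f) (.leaf (nat_lit 0x1830478b4e) (nat_lit 2052))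
 (.leaf (nat_lit 0x1830478b4f) (nat_lit 2308))
) (.node (nat_lit 0x1830478b5f) (.leaf (nat_lit 0x1830478b5e) (nat_lit 2051))
 (.leaf (nat_lit 0x1830478b5f) (nat_lit 2307))
)) (.node (nat_lit 0x1830478f7e) (.node (nat_lit 0x1830478f6f) (.leaf (nat_lit 0x1830478f6e) (nat_lit 2051))
 (.leaf (nat_lit 0x1830478f6f) (nat_lit 2307))
) (.node (nat_lit 0x1830478f7f) (.leaf (nat_lit 0x1830478f7e) (nat_lit 2052))
 (.leaf (nat_lit 0x1830478f7f) (nat_lit 2308))
)))))))) (.node (nat_lit 0x1c30408306) (.node (nat_lit 0x1c2044934a) (.node (nat_lit 0x1c2042932a) (.node (nat_lit 0x1c2041836a) (.node (nat_lit 0x1c20408b0a) (.node (nat_lit 0x1c2040872a) (.node (nat_lit 0x1c2040831a) (.node (nat_lit 0x1c2040830b) (.leaf (nat_lit 0x1c2040830a) (nat_lit 770))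
 (.leaf (nat_lit 0x1c2040830b) (nat_lit 1026))
) (.node (nat_lit 0x1c2040831b) (.leaf (nat_lit 0x1c2040831a) (nat_lit 2820))
 (.leaf (nat_lit 0x1c2040831b) (nat_lit 3076))
)) (.node (nat_lit 0x1c2040873a) (.node (nat_lit 0x1c2040872b) (.leaf (nat_lit 0x1c2040872a) (nat_lit 2305))
 (.leaf (nat_lit 0x1c2040872b) (nat_lit 2561))
) (.node (nat_lit 0x1c2040873b) (.leaf (nat_lit 0x1c2040873a) (nat_lit 1284))
 (.leaf (nat_lit 0x1c2040873b) (nat_lit 1540))
))) (.node (nat_lit 0x1c20408f2a) (.node (nat_lit 0x1c20408b1a) (.node (nat_lit 0x1c20408b0b) (.leaf (nat_lit 0x1c20408b0a) (nat_lit 1028))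
 (.leaf (nat_lit 0x1c20408b0b) (nat_lit 1284))
) (.node (nat_lit 0x1c20408b1b) (.leaf (nat_lit 0x1c20408b1a) (nat_lit 2561))
 (.leaf (nat_lit 0x1c20408b1b) (nat_lit 2817))
)) (.node (nat_lit 0x1c20408f3a) (.node (nat_lit 0x1c20408f2b) (.leaf (nat_lit 0x1c20408f2a) (nat_lit 2564))
 (.leaf (nat_lit 0x1c20408f2b) (nat_lit 2820))
) (.node (nat_lit 0x1c20408f3b) (.leaf (nat_lit 0x1c20408f3a) (nat_lit 1026))
 (.leaf (nat_lit 0x1c20408f3b) (nat_lit 1282))
)))) (.node (nat_lit 0x1c20418b6a) (.node (nat_lit 0x1c2041874a) (.node (nat_lit 0x1c2041837a) (.node (nat_lit 0x1c2041836b) (.leaf (nat_lit 0x1c2041836a) (nat_lit 1793))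
 (.leaf (nat_lit 0x1c2041836b) (nat_lit 2049))
) (.node (nat_lit 0x1c2041837b) (.leaf (nat_lit 0x1c2041837a) (nat_lit 2308))
 (.leaf (nat_lit 0x1c2041837b) (nat_lit 2564))
)) (.node (nat_lit 0x1c2041875a) (.node (nat_lit 0x1c2041874b) (.leaf (nat_lit 0x1c2041874a) (nat_lit 1795))
 (.leaf (nat_lit 0x1c2041874b) (nat_lit 2051))
) (.node (nat_lit 0x1c2041875b) (.leaf (nat_lit 0x1c2041875a) (nat_lit 2308))
 (.leaf (nat_lit 0x1c2041875b) (nat_lit 2564))
))) (.node (nat_lit 0x1c20418f4a) (.node (nat_lit 0x1c20418b7a) (.node (nat_lit 0x1c20418b6b) (.leaf (nat_lit 0x1c20418b6a) (nat_lit 2052))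
 (.leaf (nat_lit 0x1c20418b6b) (nat_lit 2308))
) (.node (nat_lit 0x1c20418b7b) (.leaf (nat_lit 0x1c20418b7a) (nat_lit 2051))
 (.leaf (nat_lit 0x1c20418b7b) (nat_lit 2307))
)) (.node (nat_lit 0x1c20418f5a) (.node (nat_lit 0x1c20418f4b) (.leaf (nat_lit 0x1c20418f4a) (nat_lit 2052))
 (.leaf (nat_lit 0x1c20418f4b) (nat_lit 2308))
) (.node (nat_lit 0x1c20418f5b) (.leaf (nat_lit 0x1c20418f5a) (nat_lit 2049))
 (.leaf (nat_lit 0x1c20418f5b) (nat_lit 2305))
))))) (.node (nat_lit 0x1c2043934a) (.node (nat_lit 0x1c20429b2a) (.node (nat_lit 0x1c2042970a) (.node (nat_lit 0x1c2042933a) (.node (nat_lit 0x1c2042932b) (.leaf (nat_lit 0x1c2042932a) (nat_lit 1795))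
 (.leaf (nat_lit 0x1c2042932b) (nat_lit 2051))
) (.node (nat_lit 0x1c2042933b) (.leaf (nat_lit 0x1c2042933a) (nat_lit 2308))
 (.leaf (nat_lit 0x1c2042933b) (nat_lit 2564))
)) (.node (nat_lit 0x1c2042971a) (.node (nat_lit 0x1c2042970b) (.leaf (nat_lit 0x1c2042970a) (nat_lit 1795))
 (.leaf (nat_lit 0x1c2042970b) (nat_lit 2051))
) (.node (nat_lit 0x1c2042971b) (.leaf (nat_lit 0x1c2042971a) (nat_lit 2308))
 (.leaf (nat_lit 0x1c2042971b) (nat_lit 2564))
))) (.node (nat_lit 0x1c20429f0a) (.node (nat_lit 0x1c20429b3a) (.node (nat_lit 0x1c20429b2b) (.leaf (nat_lit 0x1c20429b2a) (nat_lit 2052))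
 (.leaf (nat_lit 0x1c20429b2b) (nat_lit 2308))
) (.node (nat_lit 0x1c20429b3b) (.leaf (nat_lit 0x1c20429b3a) (nat_lit 2051))
 (.leaf (nat_lit 0x1c20429b3b) (nat_lit 2307))
)) (.node (nat_lit 0x1c20429f1a) (.node (nat_lit 0x1c20429f0b) (.leaf (nat_lit 0x1c20429f0a) (nat_lit 2052))
 (.leaf (nat_lit 0x1c20429f0b) (nat_lit 2308))
) (.node (nat_lit 0x1c20429f1b) (.leaf (nat_lit 0x1c20429f1a) (nat_lit 2051))
 (.leaf (nat_lit 0x1c20429f1b) (nat_lit 2307))
)))) (.node (nat_lit 0x1c20439b4a) (.node (nat_lit 0x1c2043976a) (.node (nat_lit 0x1c2043935a) (.node (nat_lit 0x1c2043934b) (.leaf (nat_lit 0x1c2043934a) (nat_lit 1282))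
 (.leaf (nat_lit 0x1c2043934b) (nat_lit 1538))
) (.node (nat_lit 0x1c2043935b) (.leaf (nat_lit 0x1c2043935a) (nat_lit 2308))
 (.leaf (nat_lit 0x1c2043935b) (nat_lit 2564))
)) (.node (nat_lit 0x1c2043977a) (.node (nat_lit 0x1c2043976b) (.leaf (nat_lit 0x1c2043976a) (nat_lit 1795))
 (.leaf (nat_lit 0x1c2043976b) (nat_lit 2051))
) (.node (nat_lit 0x1c2043977b) (.leaf (nat_lit 0x1c2043977a) (nat_lit 1796))
 (.leaf (nat_lit 0x1c2043977b) (nat_lit 2052))
))) (.node (nat_lit 0x1c20439f6a) (.node (nat_lit 0x1c20439b5a) (.node (nat_lit 0x1c20439b4b) (.leaf (nat_lit 0x1c20439b4a) (nat_lit 1540))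
 (.leaf (nat_lit 0x1c20439b4b) (nat_lit 1796))
) (.node (nat_lit 0x1c20439b5b) (.leaf (nat_lit 0x1c20439b5a) (nat_lit 2051))
 (.leaf (nat_lit 0x1c20439b5b) (nat_lit 2307))
)) (.node (nat_lit 0x1c20439f7a) (.node (nat_lit 0x1c20439f6b) (.leaf (nat_lit 0x1c20439f6a) (nat_lit 2052))
 (.leaf (nat_lit 0x1c20439f6b) (nat_lit 2308))
) (.node (nat_lit 0x1c20439f7b) (.leaf (nat_lit 0x1c20439f7a) (nat_lit 1538))
 (.leaf (nat_lit 0x1c20439f7b) (nat_lit 1794))
)))))) (.node (nat_lit 0x1c2046836a) (.node (nat_lit 0x1c2045932a) (.node (nat_lit 0x1c20449b4a) (.node (nat_lit 0x1c2044976a) (.node (nat_lit 0x1c2044935a) (.node (nat_lit 0x1c2044934b) (.leaf (nat_lit 0x1c2044934a) (nat_lit 1026))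
 (.leaf (nat_lit 0x1c2044934b) (nat_lit 1282))
) (.node (nat_lit 0x1c2044935b) (.leaf (nat_lit 0x1c2044935a) (nat_lit 2564))
 (.leaf (nat_lit 0x1c2044935b) (nat_lit 2820))
)) (.node (nat_lit 0x1c2044977a) (.node (nat_lit 0x1c2044976b) (.leaf (nat_lit 0x1c2044976a) (nat_lit 2049))
 (.leaf (nat_lit 0x1c2044976b) (nat_lit 2305))
) (.node (nat_lit 0x1c2044977b) (.leaf (nat_lit 0x1c2044977a) (nat_lit 1540))
 (.leaf (nat_lit 0x1c2044977b) (nat_lit 1796))
))) (.node (nat_lit 0x1c20449f6a) (.node (nat_lit 0x1c20449b5a) (.node (nat_lit 0x1c20449b4b) (.leaf (nat_lit 0x1c20449b4a) (nat_lit 1284))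
 (.leaf (nat_lit 0x1c20449b4b) (nat_lit 1540))
) (.node (nat_lit 0x1c20449b5b) (.leaf (nat_lit 0x1c20449b5a) (nat_lit 2305))
 (.leaf (nat_lit 0x1c20449b5b) (nat_lit 2561))
)) (.node (nat_lit 0x1c20449f7a) (.node (nat_lit 0x1c20449f6b) (.leaf (nat_lit 0x1c20449f6a) (nat_lit 2308))
 (.leaf (nat_lit 0x1c20449f6b) (nat_lit 2564))
) (.node (nat_lit 0x1c20449f7b) (.leaf (nat_lit 0x1c20449f7a) (nat_lit 1282))
 (.leaf (nat_lit 0x1c20449f7b) (nat_lit 1538))
)))) (.node (nat_lit 0x1c20459b2a) (.node (nat_lit 0x1c2045970a) (.node (nat_lit 0x1c2045933a) (.node (nat_lit 0x1c2045932b) (.leaf (nat_lit 0x1c2045932a) (nat_lit 2049))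
 (.leaf (nat_lit 0x1c2045932b) (nat_lit 2305))
) (.node (nat_lit 0x1c2045933b) (.leaf (nat_lit 0x1c2045933a) (nat_lit 2052))
 (.leaf (nat_lit 0x1c2045933b) (nat_lit 2308))
)) (.node (nat_lit 0x1c2045971a) (.node (nat_lit 0x1c2045970b) (.leaf (nat_lit 0x1c2045970a) (nat_lit 1539))
 (.leaf (nat_lit 0x1c2045970b) (nat_lit 1795))
) (.node (nat_lit 0x1c2045971b) (.leaf (nat_lit 0x1c2045971a) (nat_lit 2564))
 (.leaf (nat_lit 0x1c2045971b) (nat_lit 2820))
))) (.node (nat_lit 0x1c20459f0a) (.node (nat_lit 0x1c20459b3a) (.node (nat_lit 0x1c20459b2b) (.leaf (nat_lit 0x1c20459b2a) (nat_lit 2308))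
 (.leaf (nat_lit 0x1c20459b2b) (nat_lit 2564))
) (.node (nat_lit 0x1c20459b3b) (.leaf (nat_lit 0x1c20459b3a) (nat_lit 1795))
 (.leaf (nat_lit 0x1c20459b3b) (nat_lit 2051))
)) (.node (nat_lit 0x1c20459f1a) (.node (nat_lit 0x1c20459f0b) (.leaf (nat_lit 0x1c20459f0a) (nat_lit 1796))
 (.leaf (nat_lit 0x1c20459f0b) (nat_lit 2052))
) (.node (nat_lit 0x1c20459f1b) (.leaf (nat_lit 0x1c20459f1a) (nat_lit 2305))
 (.leaf (nat_lit 0x1c20459f1b) (nat_lit 2561))
))))) (.node (nat_lit 0x1c2047830a) (.node (nat_lit 0x1c20468b6a) (.node (nat_lit 0x1c2046874a) (.node (nat_lit 0x1c2046837a) (.node (nat_lit 0x1c2046836b) (.leaf (nat_lit 0x1c2046836a) (nat_lit 1539))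
 (.leaf (nat_lit 0x1c2046836b) (nat_lit 1795))
) (.node (nat_lit 0x1c2046837b) (.leaf (nat_lit 0x1c2046837a) (nat_lit 2564))
 (.leaf (nat_lit 0x1c2046837b) (nat_lit 2820))
)) (.node (nat_lit 0x1c2046875a) (.node (nat_lit 0x1c2046874b) (.leaf (nat_lit 0x1c2046874a) (nat_lit 2051))
 (.leaf (nat_lit 0x1c2046874b) (nat_lit 2307))
) (.node (nat_lit 0x1c2046875b) (.leaf (nat_lit 0x1c2046875a) (nat_lit 2052))
 (.leaf (nat_lit 0x1c2046875b) (nat_lit 2308))
))) (.node (nat_lit 0x1c20468f4a) (.node (nat_lit 0x1c20468b7a) (.node (nat_lit 0x1c20468b6b) (.leaf (nat_lit 0x1c20468b6a) (nat_lit 1796))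
 (.leaf (nat_lit 0x1c20468b6b) (nat_lit 2052))
) (.node (nat_lit 0x1c20468b7b) (.leaf (nat_lit 0x1c20468b7a) (nat_lit 2307))
 (.leaf (nat_lit 0x1c20468b7b) (nat_lit 2563))
)) (.node (nat_lit 0x1c20468f5a) (.node (nat_lit 0x1c20468f4b) (.leaf (nat_lit 0x1c20468f4a) (nat_lit 2308))
 (.leaf (nat_lit 0x1c20468f4b) (nat_lit 2564))
) (.node (nat_lit 0x1c20468f5b) (.leaf (nat_lit 0x1c20468f5a) (nat_lit 1795))
 (.leaf (nat_lit 0x1c20468f5b) (nat_lit 2051))
)))) (.node (nat_lit 0x1c20478b0a) (.node (nat_lit 0x1c2047872a) (.node (nat_lit 0x1c2047831a) (.node (nat_lit 0x1c2047830b) (.leaf (nat_lit 0x1c2047830a) (nat_lit 1026))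
 (.leaf (nat_lit 0x1c2047830b) (nat_lit 1282))
) (.node (nat_lit 0x1c2047831b) (.leaf (nat_lit 0x1c2047831a) (nat_lit 2564))
 (.leaf (nat_lit 0x1c2047831b) (nat_lit 2820))
)) (.node (nat_lit 0x1c2047873a) (.node (nat_lit 0x1c2047872b) (.leaf (nat_lit 0x1c2047872a) (nat_lit 2051))
 (.leaf (nat_lit 0x1c2047872b) (nat_lit 2307))
) (.node (nat_lit 0x1c2047873b) (.leaf (nat_lit 0x1c2047873a) (nat_lit 1540))
 (.leaf (nat_lit 0x1c2047873b) (nat_lit 1796))
))) (.node (nat_lit 0x1c20478f2a) (.node (nat_lit 0x1c20478b1a) (.node (nat_lit 0x1c20478b0b) (.leaf (nat_lit 0x1c20478b0a) (nat_lit 1284))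
 (.leaf (nat_lit 0x1c20478b0b) (nat_lit 1540))
) (.node (nat_lit 0x1c20478b1b) (.leaf (nat_lit 0x1c20478b1a) (nat_lit 2307))
 (.leaf (nat_lit 0x1c20478b1b) (nat_lit 2563))
)) (.node (nat_lit 0x1c20478f3a) (.node (nat_lit 0x1c20478f2b) (.leaf (nat_lit 0x1c20478f2a) (nat_lit 2308))
 (.leaf (nat_lit 0x1c20478f2b) (nat_lit 2564))
) (.node (nat_lit 0x1c20478f3b) (.leaf (nat_lit 0x1c20478f3a) (nat_lit 1282))
 (.leaf (nat_lit 0x1c20478f3b) (nat_lit 1538))
))))))) (.node (nat_lit 0x1c30449306) (.node (nat_lit 0x1c30429366) (.node (nat_lit 0x1c30418366) (.node (nat_lit 0x1c30408b26) (.node (nat_lit 0x1c30408726) (.node (nat_lit 0x1c30408316) (.node (nat_lit 0x1c30408307) (.leaf (nat_lit 0x1c30408306) (nat_lit 515))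
 (.leaf (nat_lit 0x1c30408307) (nat_lit 771))
) (.node (nat_lit 0x1c30408317) (.leaf (nat_lit 0x1c30408316) (nat_lit 3076))
 (.leaf (nat_lit 0x1c30408317) (nat_lit 3332))
)) (.node (nat_lit 0x1c30408736) (.node (nat_lit 0x1c30408727) (.leaf (nat_lit 0x1c30408726) (nat_lit 1028))
 (.leaf (nat_lit 0x1c30408727) (nat_lit 1284))
) (.node (nat_lit 0x1c30408737) (.leaf (nat_lit 0x1c30408736) (nat_lit 2562))
 (.leaf (nat_lit 0x1c30408737) (nat_lit 2818))
))) (.node (nat_lit 0x1c30408f06) (.node (nat_lit 0x1c30408b36) (.node (nat_lit 0x1c30408b27) (.leaf (nat_lit 0x1c30408b26) (nat_lit 771))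
 (.leaf (nat_lit 0x1c30408b27) (nat_lit 1027))
) (.node (nat_lit 0x1c30408b37) (.leaf (nat_lit 0x1c30408b36) (nat_lit 2820))
 (.leaf (nat_lit 0x1c30408b37) (nat_lit 3076))
)) (.node (nat_lit 0x1c30408f16) (.node (nat_lit 0x1c30408f07) (.leaf (nat_lit 0x1c30408f06) (nat_lit 772))
 (.leaf (nat_lit 0x1c30408f07) (nat_lit 1028))
) (.node (nat_lit 0x1c30408f17) (.leaf (nat_lit 0x1c30408f16) (nat_lit 2818))
 (.leaf (nat_lit 0x1c30408f17) (nat_lit 3074))
)))) (.node (nat_lit 0x1c30418b46) (.node (nat_lit 0x1c30418746) (.node (nat_lit 0x1c30418376) (.node (nat_lit 0x1c30418367) (.leaf (nat_lit 0x1c30418366) (nat_lit 1537))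
 (.leaf (nat_lit 0x1c30418367) (nat_lit 1793))
) (.node (nat_lit 0x1c30418377) (.leaf (nat_lit 0x1c30418376) (nat_lit 2564))
 (.leaf (nat_lit 0x1c30418377) (nat_lit 2820))
)) (.node (nat_lit 0x1c30418756) (.node (nat_lit 0x1c30418747) (.leaf (nat_lit 0x1c30418746) (nat_lit 2052))
 (.leaf (nat_lit 0x1c30418747) (nat_lit 2308))
) (.node (nat_lit 0x1c30418757) (.leaf (nat_lit 0x1c30418756) (nat_lit 2050))
 (.leaf (nat_lit 0x1c30418757) (nat_lit 2306))
))) (.node (nat_lit 0x1c30418f66) (.node (nat_lit 0x1c30418b56) (.node (nat_lit 0x1c30418b47) (.leaf (nat_lit 0x1c30418b46) (nat_lit 1793))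
 (.leaf (nat_lit 0x1c30418b47) (nat_lit 2049))
) (.node (nat_lit 0x1c30418b57) (.leaf (nat_lit 0x1c30418b56) (nat_lit 2308))
 (.leaf (nat_lit 0x1c30418b57) (nat_lit 2564))
)) (.node (nat_lit 0x1c30418f76) (.node (nat_lit 0x1c30418f67) (.leaf (nat_lit 0x1c30418f66) (nat_lit 1796))
 (.leaf (nat_lit 0x1c30418f67) (nat_lit 2052))
) (.node (nat_lit 0x1c30418f77) (.leaf (nat_lit 0x1c30418f76) (nat_lit 2306))
 (.leaf (nat_lit 0x1c30418f77) (nat_lit 2562))
))))) (.node (nat_lit 0x1c30439306) (.node (nat_lit 0x1c30429b46) (.node (nat_lit 0x1c30429746) (.node (nat_lit 0x1c30429376) (.node (nat_lit 0x1c30429367) (.leaf (nat_lit 0x1c30429366) (nat_lit 1539))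
 (.leaf (nat_lit 0x1c30429367) (nat_lit 1795))
) (.node (nat_lit 0x1c30429377) (.leaf (nat_lit 0x1c30429376) (nat_lit 2564))
 (.leaf (nat_lit 0x1c30429377) (nat_lit 2820))
)) (.node (nat_lit 0x1c30429756) (.node (nat_lit 0x1c30429747) (.leaf (nat_lit 0x1c30429746) (nat_lit 2052))
 (.leaf (nat_lit 0x1c30429747) (nat_lit 2308))
) (.node (nat_lit 0x1c30429757) (.leaf (nat_lit 0x1c30429756) (nat_lit 2050))
 (.leaf (nat_lit 0x1c30429757) (nat_lit 2306))
))) (.node (nat_lit 0x1c30429f66) (.node (nat_lit 0x1c30429b56) (.node (nat_lit 0x1c30429b47) (.leaf (nat_lit 0x1c30429b46) (nat_lit 1795))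
 (.leaf (nat_lit 0x1c30429b47) (nat_lit 2051))
) (.node (nat_lit 0x1c30429b57) (.leaf (nat_lit 0x1c30429b56) (nat_lit 2308))
 (.leaf (nat_lit 0x1c30429b57) (nat_lit 2564))
)) (.node (nat_lit 0x1c30429f76) (.node (nat_lit 0x1c30429f67) (.leaf (nat_lit 0x1c30429f66) (nat_lit 1796))
 (.leaf (nat_lit 0x1c30429f67) (nat_lit 2052))
) (.node (nat_lit 0x1c30429f77) (.leaf (nat_lit 0x1c30429f76) (nat_lit 2306))
 (.leaf (nat_lit 0x1c30429f77) (nat_lit 2562))
)))) (.node (nat_lit 0x1c30439b26) (.node (nat_lit 0x1c30439726) (.node (nat_lit 0x1c30439316) (.node (nat_lit 0x1c30439307) (.leaf (nat_lit 0x1c30439306) (nat_lit 1025))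
 (.leaf (nat_lit 0x1c30439307) (nat_lit 1281))
) (.node (nat_lit 0x1c30439317) (.leaf (nat_lit 0x1c30439316) (nat_lit 2564))
 (.leaf (nat_lit 0x1c30439317) (nat_lit 2820))
)) (.node (nat_lit 0x1c30439736) (.node (nat_lit 0x1c30439727) (.leaf (nat_lit 0x1c30439726) (nat_lit 1540))
 (.leaf (nat_lit 0x1c30439727) (nat_lit 1796))
) (.node (nat_lit 0x1c30439737) (.leaf (nat_lit 0x1c30439736) (nat_lit 2050))
 (.leaf (nat_lit 0x1c30439737) (nat_lit 2306))
))) (.node (nat_lit 0x1c30439f06) (.node (nat_lit 0x1c30439b36) (.node (nat_lit 0x1c30439b27) (.leaf (nat_lit 0x1c30439b26) (nat_lit 1281))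
 (.leaf (nat_lit 0x1c30439b27) (nat_lit 1537))
) (.node (nat_lit 0x1c30439b37) (.leaf (nat_lit 0x1c30439b36) (nat_lit 2308))
 (.leaf (nat_lit 0x1c30439b37) (nat_lit 2564))
)) (.node (nat_lit 0x1c30439f16) (.node (nat_lit 0x1c30439f07) (.leaf (nat_lit 0x1c30439f06) (nat_lit 1284))
 (.leaf (nat_lit 0x1c30439f07) (nat_lit 1540))
) (.node (nat_lit 0x1c30439f17) (.leaf (nat_lit 0x1c30439f16) (nat_lit 2306))
 (.leaf (nat_lit 0x1c30439f17) (nat_lit 2562))
)))))) (.node (nat_lit 0x1c30468366) (.node (nat_lit 0x1c30459366) (.node (nat_lit 0x1c30449b26) (.node (nat_lit 0x1c30449726) (.node (nat_lit 0x1c30449316) (.node (nat_lit 0x1c30449307) (.leaf (nat_lit 0x1c30449306) (nat_lit 771))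
 (.leaf (nat_lit 0x1c30449307) (nat_lit 1027))
) (.node (nat_lit 0x1c30449317) (.leaf (nat_lit 0x1c30449316) (nat_lit 2820))
 (.leaf (nat_lit 0x1c30449317) (nat_lit 3076))
)) (.node (nat_lit 0x1c30449736) (.node (nat_lit 0x1c30449727) (.leaf (nat_lit 0x1c30449726) (nat_lit 1284))
 (.leaf (nat_lit 0x1c30449727) (nat_lit 1540))
) (.node (nat_lit 0x1c30449737) (.leaf (nat_lit 0x1c30449736) (nat_lit 2306))
 (.leaf (nat_lit 0x1c30449737) (nat_lit 2562))
))) (.node (nat_lit 0x1c30449f06) (.node (nat_lit 0x1c30449b36) (.node (nat_lit 0x1c30449b27) (.leaf (nat_lit 0x1c30449b26) (nat_lit 1027))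
 (.leaf (nat_lit 0x1c30449b27) (nat_lit 1283))
) (.node (nat_lit 0x1c30449b37) (.leaf (nat_lit 0x1c30449b36) (nat_lit 2564))
 (.leaf (nat_lit 0x1c30449b37) (nat_lit 2820))
)) (.node (nat_lit 0x1c30449f16) (.node (nat_lit 0x1c30449f07) (.leaf (nat_lit 0x1c30449f06) (nat_lit 1028))
 (.leaf (nat_lit 0x1c30449f07) (nat_lit 1284))
) (.node (nat_lit 0x1c30449f17) (.leaf (nat_lit 0x1c30449f16) (nat_lit 2562))
 (.leaf (nat_lit 0x1c30449f17) (nat_lit 2818))
)))) (.node (nat_lit 0x1c30459b46) (.node (nat_lit 0x1c30459746) (.node (nat_lit 0x1c30459376) (.node (nat_lit 0x1c30459367) (.leaf (nat_lit 0x1c30459366) (nat_lit 1793))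
 (.leaf (nat_lit 0x1c30459367) (nat_lit 2049))
) (.node (nat_lit 0x1c30459377) (.leaf (nat_lit 0x1c30459376) (nat_lit 2308))
 (.leaf (nat_lit 0x1c30459377) (nat_lit 2564))
)) (.node (nat_lit 0x1c30459756) (.node (nat_lit 0x1c30459747) (.leaf (nat_lit 0x1c30459746) (nat_lit 2308))
 (.leaf (nat_lit 0x1c30459747) (nat_lit 2564))
) (.node (nat_lit 0x1c30459757) (.leaf (nat_lit 0x1c30459756) (nat_lit 1794))
 (.leaf (nat_lit 0x1c30459757) (nat_lit 2050))
))) (.node (nat_lit 0x1c30459f66) (.node (nat_lit 0x1c30459b56) (.node (nat_lit 0x1c30459b47) (.leaf (nat_lit 0x1c30459b46) (nat_lit 2049))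
 (.leaf (nat_lit 0x1c30459b47) (nat_lit 2305))
) (.node (nat_lit 0x1c30459b57) (.leaf (nat_lit 0x1c30459b56) (nat_lit 2052))
 (.leaf (nat_lit 0x1c30459b57) (nat_lit 2308))
)) (.node (nat_lit 0x1c30459f76) (.node (nat_lit 0x1c30459f67) (.leaf (nat_lit 0x1c30459f66) (nat_lit 2052))
 (.leaf (nat_lit 0x1c30459f67) (nat_lit 2308))
) (.node (nat_lit 0x1c30459f77) (.leaf (nat_lit 0x1c30459f76) (nat_lit 2050))
 (.leaf (nat_lit 0x1c30459f77) (nat_lit 2306))
))))) (.node (nat_lit 0x1c30478306) (.node (nat_lit 0x1c30468b46) (.node (nat_lit 0x1c30468746) (.node (nat_lit 0x1c30468376) (.node (nat_lit 0x1c30468367) (.leaf (nat_lit 0x1c30468366) (nat_lit 1283))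
 (.leaf (nat_lit 0x1c30468367) (nat_lit 1539))
) (.node (nat_lit 0x1c30468377) (.leaf (nat_lit 0x1c30468376) (nat_lit 2820))
 (.leaf (nat_lit 0x1c30468377) (nat_lit 3076))
)) (.node (nat_lit 0x1c30468756) (.node (nat_lit 0x1c30468747) (.leaf (nat_lit 0x1c30468746) (nat_lit 1796))
 (.leaf (nat_lit 0x1c30468747) (nat_lit 2052))
) (.node (nat_lit 0x1c30468757) (.leaf (nat_lit 0x1c30468756) (nat_lit 2306))
 (.leaf (nat_lit 0x1c30468757) (nat_lit 2562))
))) (.node (nat_lit 0x1c30468f66) (.node (nat_lit 0x1c30468b56) (.node (nat_lit 0x1c30468b47) (.leaf (nat_lit 0x1c30468b46) (nat_lit 1539))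
 (.leaf (nat_lit 0x1c30468b47) (nat_lit 1795))
) (.node (nat_lit 0x1c30468b57) (.leaf (nat_lit 0x1c30468b56) (nat_lit 2564))
 (.leaf (nat_lit 0x1c30468b57) (nat_lit 2820))
)) (.node (nat_lit 0x1c30468f76) (.node (nat_lit 0x1c30468f67) (.leaf (nat_lit 0x1c30468f66) (nat_lit 1540))
 (.leaf (nat_lit 0x1c30468f67) (nat_lit 1796))
) (.node (nat_lit 0x1c30468f77) (.leaf (nat_lit 0x1c30468f76) (nat_lit 2562))
 (.leaf (nat_lit 0x1c30468f77) (nat_lit 2818))
)))) (.node (nat_lit 0x1c30478b26) (.node (nat_lit 0x1c30478726) (.node (nat_lit 0x1c30478316) (.node (nat_lit 0x1c30478307) (.leaf (nat_lit 0x1c30478306) (nat_lit 769))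
 (.leaf (nat_lit 0x1c30478307) (nat_lit 1025))
) (.node (nat_lit 0x1c30478317) (.leaf (nat_lit 0x1c30478316) (nat_lit 2820))
 (.leaf (nat_lit 0x1c30478317) (nat_lit 3076))
)) (.node (nat_lit 0x1c30478736) (.node (nat_lit 0x1c30478727) (.leaf (nat_lit 0x1c30478726) (nat_lit 1284))
 (.leaf (nat_lit 0x1c30478727) (nat_lit 1540))
) (.node (nat_lit 0x1c30478737) (.leaf (nat_lit 0x1c30478736) (nat_lit 2306))
 (.leaf (nat_lit 0x1c30478737) (nat_lit 2562))
))) (.node (nat_lit 0x1c30478f06) (.node (nat_lit 0x1c30478b36) (.node (nat_lit 0x1c30478b27) (.leaf (nat_lit 0x1c30478b26) (nat_lit 1025))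
 (.leaf (nat_lit 0x1c30478b27) (nat_lit 1281))
) (.node (nat_lit 0x1c30478b37) (.leaf (nat_lit 0x1c30478b36) (nat_lit 2564))
 (.leaf (nat_lit 0x1c30478b37) (nat_lit 2820))
)) (.node (nat_lit 0x1c30478f16) (.node (nat_lit 0x1c30478f07) (.leaf (nat_lit 0x1c30478f06) (nat_lit 1028))
 (.leaf (nat_lit 0x1c30478f07) (nat_lit 1284))
) (.node (nat_lit 0x1c30478f17) (.leaf (nat_lit 0x1c30478f16) (nat_lit 2562))
 (.leaf (nat_lit 0x1c30478f17) (nat_lit 2818))
))))))))))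

theorem T_ok : genOK A2 [(nat_lit 0x1020408103), (nat_lit 0x1020448102), (nat_lit 0x1030408106), (nat_lit 0x1820408302), (nat_lit 0x1020408902)] T_t (nat_lit 1024) = true := by decide +kernel

noncomputable def D8_t : ST :=
(.node (nat_lit 0x1820408302) (.node (nat_lit 0x142040810a) (.node (nat_lit 0x1030408106) (.leaf (nat_lit 0x1020408102) (nat_lit 0))
 (.leaf (nat_lit 0x1030408106) (nat_lit 256))
) (.node (nat_lit 0x143040810e) (.leaf (nat_lit 0x142040810a) (nat_lit 1025))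
 (.leaf (nat_lit 0x143040810e) (nat_lit 769))
)) (.node (nat_lit 0x1c2040830a) (.node (nat_lit 0x183040830e) (.leaf (nat_lit 0x1820408302) (nat_lit 257))
 (.leaf (nat_lit 0x183040830e) (nat_lit 512))
) (.node (nat_lit 0x1c30408306) (.leaf (nat_lit 0x1c2040830a) (nat_lit 768))
 (.leaf (nat_lit 0x1c30408306) (nat_lit 513))
)))

theorem D8_ok : genOK A2 [(nat_lit 0x1030408106), (nat_lit 0x1820408302)] D8_t (nat_lit 8) = true := by decide +kernel

noncomputable def Sl_t : ST :=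
(.node (nat_lit 0x181080808c) (.node (nat_lit 0x1410808284) (.node (nat_lit 0x1020c08182) (.node (nat_lit 0x1010c08184) (.leaf (nat_lit 0x1010808084) (nat_lit 768))
 (.node (nat_lit 0x1020408102) (.leaf (nat_lit 0x1010c08184) (nat_lit 512))
 (.leaf (nat_lit 0x1020408102) (nat_lit 0))
)) (.node (nat_lit 0x1030408106) (.leaf (nat_lit 0x1020c08182) (nat_lit 257))
 (.node (nat_lit 0x1030808086) (.leaf (nat_lit 0x1030408106) (nat_lit 256))
 (.leaf (nat_lit 0x1030808086) (nat_lit 513))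
))) (.node (nat_lit 0x1420c0838a) (.node (nat_lit 0x1410c08384) (.leaf (nat_lit 0x1410808284) (nat_lit 1026))
 (.node (nat_lit 0x142040810a) (.leaf (nat_lit 0x1410c08384) (nat_lit 770))
 (.leaf (nat_lit 0x142040810a) (nat_lit 1026))
)) (.node (nat_lit 0x143040810e) (.leaf (nat_lit 0x1420c0838a) (nat_lit 1024))
 (.node (nat_lit 0x143080828e) (.leaf (nat_lit 0x143040810e) (nat_lit 770))
 (.leaf (nat_lit 0x143080828e) (nat_lit 1026))
)))) (.node (nat_lit 0x1c1080828c) (.node (nat_lit 0x1820c08382) (.node (nat_lit 0x1810c0838c) (.leaf (nat_lit 0x181080808c) (nat_lit 1025))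
 (.node (nat_lit 0x1820408302) (.leaf (nat_lit 0x1810c0838c) (nat_lit 768))
 (.leaf (nat_lit 0x1820408302) (nat_lit 258))
)) (.node (nat_lit 0x183040830e) (.leaf (nat_lit 0x1820c08382) (nat_lit 514))
 (.node (nat_lit 0x183080808e) (.leaf (nat_lit 0x183040830e) (nat_lit 512))
 (.leaf (nat_lit 0x183080808e) (nat_lit 769))
))) (.node (nat_lit 0x1c20c0818a) (.node (nat_lit 0x1c10c0818c) (.leaf (nat_lit 0x1c1080828c) (nat_lit 1024))
 (.node (nat_lit 0x1c2040830a) (.leaf (nat_lit 0x1c10c0818c) (nat_lit 1026))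
 (.leaf (nat_lit 0x1c2040830a) (nat_lit 768))
)) (.node (nat_lit 0x1c30408306) (.leaf (nat_lit 0x1c20c0818a) (nat_lit 1025))
 (.node (nat_lit 0x1c30808286) (.leaf (nat_lit 0x1c30408306) (nat_lit 514))
 (.leaf (nat_lit 0x1c30808286) (nat_lit 770))
)))))

theorem Sl_ok : genOK A2 [(nat_lit 0x1030408106), (nat_lit 0x1020c08182), (nat_lit 0x1820408302)] Sl_t (nat_lit 24) = true := by decide +kernel

noncomputable def Sp_t : ST :=
(.node (nat_lit 0x142040810a) (.node (nat_lit 0xc6040c20e) (.node (nat_lit 0x87040c20a) (.node (nat_lit 0x85040420a) (.leaf (nat_lit 0x840404202) (nat_lit 769))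
 (.node (nat_lit 0x86040c202) (.leaf (nat_lit 0x85040420a) (nat_lit 1024))
 (.leaf (nat_lit 0x86040c202) (nat_lit 513))
)) (.node (nat_lit 0xc40404206) (.leaf (nat_lit 0x87040c20a) (nat_lit 768))
 (.node (nat_lit 0xc5040420e) (.leaf (nat_lit 0xc40404206) (nat_lit 1025))
 (.leaf (nat_lit 0xc5040420e) (nat_lit 1025))
))) (.node (nat_lit 0x1030408106) (.node (nat_lit 0xc7040c206) (.leaf (nat_lit 0xc6040c20e) (nat_lit 1024))
 (.node (nat_lit 0x1020408102) (.leaf (nat_lit 0xc7040c206) (nat_lit 769))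
 (.leaf (nat_lit 0x1020408102) (nat_lit 0))
)) (.node (nat_lit 0x106040c102) (.leaf (nat_lit 0x1030408106) (nat_lit 256))
 (.node (nat_lit 0x107040c106) (.leaf (nat_lit 0x106040c102) (nat_lit 258))
 (.leaf (nat_lit 0x107040c106) (nat_lit 514))
)))) (.node (nat_lit 0x1840404302) (.node (nat_lit 0x147040c10a) (.node (nat_lit 0x143040810e) (.leaf (nat_lit 0x142040810a) (nat_lit 1025))
 (.node (nat_lit 0x146040c10e) (.leaf (nat_lit 0x143040810e) (nat_lit 769))
 (.leaf (nat_lit 0x146040c10e) (nat_lit 1026))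
)) (.node (nat_lit 0x1820408302) (.leaf (nat_lit 0x147040c10a) (nat_lit 1025))
 (.node (nat_lit 0x183040830e) (.leaf (nat_lit 0x1820408302) (nat_lit 257))
 (.leaf (nat_lit 0x183040830e) (nat_lit 512))
))) (.node (nat_lit 0x1c30408306) (.node (nat_lit 0x185040430e) (.leaf (nat_lit 0x1840404302) (nat_lit 514))
 (.node (nat_lit 0x1c2040830a) (.leaf (nat_lit 0x185040430e) (nat_lit 770))
 (.leaf (nat_lit 0x1c2040830a) (nat_lit 768))
)) (.node (nat_lit 0x1c40404306) (.leaf (nat_lit 0x1c30408306) (nat_lit 513))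
 (.node (nat_lit 0x1c5040430a) (.leaf (nat_lit 0x1c40404306) (nat_lit 770))
 (.leaf (nat_lit 0x1c5040430a) (nat_lit 1026))
)))))

theorem Sp_ok : genOK A2 [(nat_lit 0x1030408106), (nat_lit 0x1820408302), (nat_lit 0x106040c102)] Sp_t (nat_lit 24) = true := by decide +kernel

noncomputable def L3_t : ST :=
(.node (nat_lit 0x105080a084) (.node (nat_lit 0x86140e282) (.node (nat_lit 0x470c0620c) (.node (nat_lit 0x441802304) (.node (nat_lit 0x43140e108) (.node (nat_lit 0x421802308) (.node (nat_lit 0x42140a108) (.leaf (nat_lit 0x421002108) (nat_lit 2048))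
 (.leaf (nat_lit 0x42140a108) (nat_lit 1794))
) (.node (nat_lit 0x421c0a308) (.leaf (nat_lit 0x421802308) (nat_lit 1794))
 (.node (nat_lit 0x431006108) (.leaf (nat_lit 0x421c0a308) (nat_lit 1536))
 (.leaf (nat_lit 0x431006108) (nat_lit 1792))
))) (.node (nat_lit 0x431c06308) (.node (nat_lit 0x43180e308) (.leaf (nat_lit 0x43140e108) (nat_lit 1538))
 (.leaf (nat_lit 0x43180e308) (nat_lit 1536))
) (.node (nat_lit 0x440802204) (.leaf (nat_lit 0x431c06308) (nat_lit 1538))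
 (.node (nat_lit 0x440c06204) (.leaf (nat_lit 0x440802204) (nat_lit 1538))
 (.leaf (nat_lit 0x440c06204) (nat_lit 1282))
)))) (.node (nat_lit 0x451c0a304) (.node (nat_lit 0x45080a204) (.node (nat_lit 0x441c06304) (.leaf (nat_lit 0x441802304) (nat_lit 1539))
 (.leaf (nat_lit 0x441c06304) (nat_lit 1538))
) (.node (nat_lit 0x450c0e204) (.leaf (nat_lit 0x45080a204) (nat_lit 1282))
 (.node (nat_lit 0x45180e304) (.leaf (nat_lit 0x450c0e204) (nat_lit 1026))
 (.leaf (nat_lit 0x45180e304) (nat_lit 1282))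
))) (.node (nat_lit 0x46100210c) (.node (nat_lit 0x46080220c) (.leaf (nat_lit 0x451c0a304) (nat_lit 1282))
 (.node (nat_lit 0x460c0e20c) (.leaf (nat_lit 0x46080220c) (nat_lit 1538))
 (.leaf (nat_lit 0x460c0e20c) (nat_lit 1280))
)) (.node (nat_lit 0x46140e10c) (.leaf (nat_lit 0x46100210c) (nat_lit 1794))
 (.node (nat_lit 0x47080a20c) (.leaf (nat_lit 0x46140e10c) (nat_lit 1537))
 (.leaf (nat_lit 0x47080a20c) (nat_lit 1536))
))))) (.node (nat_lit 0x831c06288) (.node (nat_lit 0x81180c088) (.node (nat_lit 0x47140a10c) (.node (nat_lit 0x47100610c) (.leaf (nat_lit 0x470c0620c) (nat_lit 1282))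
 (.leaf (nat_lit 0x47100610c) (nat_lit 1538))
) (.node (nat_lit 0x811004088) (.leaf (nat_lit 0x47140a10c) (nat_lit 1538))
 (.node (nat_lit 0x811404288) (.leaf (nat_lit 0x811004088) (nat_lit 1537))
 (.leaf (nat_lit 0x811404288) (nat_lit 1280))
))) (.node (nat_lit 0x831006088) (.node (nat_lit 0x811c0c288) (.leaf (nat_lit 0x81180c088) (nat_lit 1281))
 (.leaf (nat_lit 0x811c0c288) (nat_lit 1024))
) (.node (nat_lit 0x83140e288) (.leaf (nat_lit 0x831006088) (nat_lit 1537))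
 (.node (nat_lit 0x83180e088) (.leaf (nat_lit 0x83140e288) (nat_lit 1280))
 (.leaf (nat_lit 0x83180e088) (nat_lit 1537))
)))) (.node (nat_lit 0x85040420a) (.node (nat_lit 0x840c06202) (.node (nat_lit 0x840404202) (.leaf (nat_lit 0x831c06288) (nat_lit 1283))
 (.leaf (nat_lit 0x840404202) (nat_lit 770))
) (.node (nat_lit 0x841404282) (.leaf (nat_lit 0x840c06202) (nat_lit 1026))
 (.node (nat_lit 0x841c06282) (.leaf (nat_lit 0x841404282) (nat_lit 1026))
 (.leaf (nat_lit 0x841c06282) (nat_lit 1027))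
))) (.node (nat_lit 0x85180e08a) (.node (nat_lit 0x850c0e20a) (.leaf (nat_lit 0x85040420a) (nat_lit 1024))
 (.node (nat_lit 0x85100408a) (.leaf (nat_lit 0x850c0e20a) (nat_lit 1024))
 (.leaf (nat_lit 0x85100408a) (nat_lit 1281))
)) (.node (nat_lit 0x86040c202) (.leaf (nat_lit 0x85180e08a) (nat_lit 1281))
 (.node (nat_lit 0x860c0e202) (.leaf (nat_lit 0x86040c202) (nat_lit 514))
 (.leaf (nat_lit 0x860c0e202) (nat_lit 770))
)))))) (.node (nat_lit 0xc51c0a18e) (.node (nat_lit 0xc21002188) (.node (nat_lit 0x87180c08a) (.node (nat_lit 0x87040c20a) (.node (nat_lit 0x861c0c282) (.leaf (nat_lit 0x86140e282) (nat_lit 1026))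
 (.leaf (nat_lit 0x861c0c282) (nat_lit 770))
) (.node (nat_lit 0x870c0620a) (.leaf (nat_lit 0x87040c20a) (nat_lit 768))
 (.node (nat_lit 0x87100608a) (.leaf (nat_lit 0x870c0620a) (nat_lit 1280))
 (.leaf (nat_lit 0x87100608a) (nat_lit 1537))
))) (.node (nat_lit 0xc11404388) (.node (nat_lit 0xc11004188) (.leaf (nat_lit 0x87180c08a) (nat_lit 1025))
 (.leaf (nat_lit 0xc11004188) (nat_lit 1536))
) (.node (nat_lit 0xc1180c388) (.leaf (nat_lit 0xc11404388) (nat_lit 1536))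
 (.node (nat_lit 0xc11c0c188) (.leaf (nat_lit 0xc1180c388) (nat_lit 1280))
 (.leaf (nat_lit 0xc11c0c188) (nat_lit 1282))
)))) (.node (nat_lit 0xc40802206) (.node (nat_lit 0xc21802388) (.node (nat_lit 0xc2140a388) (.leaf (nat_lit 0xc21002188) (nat_lit 1793))
 (.leaf (nat_lit 0xc2140a388) (nat_lit 1536))
) (.node (nat_lit 0xc21c0a188) (.leaf (nat_lit 0xc21802388) (nat_lit 1539))
 (.node (nat_lit 0xc40404206) (.leaf (nat_lit 0xc21c0a188) (nat_lit 1539))
 (.leaf (nat_lit 0xc40404206) (nat_lit 1026))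
))) (.node (nat_lit 0xc5040420e) (.node (nat_lit 0xc41404386) (.leaf (nat_lit 0xc40802206) (nat_lit 1282))
 (.node (nat_lit 0xc41802386) (.leaf (nat_lit 0xc41404386) (nat_lit 1282))
 (.leaf (nat_lit 0xc41802386) (nat_lit 1283))
)) (.node (nat_lit 0xc5080a20e) (.leaf (nat_lit 0xc5040420e) (nat_lit 1026))
 (.node (nat_lit 0xc5100418e) (.leaf (nat_lit 0xc5080a20e) (nat_lit 1280))
 (.leaf (nat_lit 0xc5100418e) (nat_lit 1282))
))))) (.node (nat_lit 0x1010c08184) (.node (nat_lit 0xc7040c206) (.node (nat_lit 0xc6080220e) (.node (nat_lit 0xc6040c20e) (.leaf (nat_lit 0xc51c0a18e) (nat_lit 1537))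
 (.leaf (nat_lit 0xc6040c20e) (nat_lit 1024))
) (.node (nat_lit 0xc6100218e) (.leaf (nat_lit 0xc6080220e) (nat_lit 1536))
 (.node (nat_lit 0xc61c0c18e) (.leaf (nat_lit 0xc6100218e) (nat_lit 1539))
 (.leaf (nat_lit 0xc61c0c18e) (nat_lit 1281))
))) (.node (nat_lit 0xc7140a386) (.node (nat_lit 0xc7080a206) (.leaf (nat_lit 0xc7040c206) (nat_lit 770))
 (.leaf (nat_lit 0xc7080a206) (nat_lit 1026))
) (.node (nat_lit 0xc7180c386) (.leaf (nat_lit 0xc7140a386) (nat_lit 1282))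
 (.node (nat_lit 0x1010808084) (.leaf (nat_lit 0xc7180c386) (nat_lit 1026))
 (.leaf (nat_lit 0x1010808084) (nat_lit 768))
)))) (.node (nat_lit 0x102140a102) (.node (nat_lit 0x1011c0c184) (.node (nat_lit 0x101180c084) (.leaf (nat_lit 0x1010c08184) (nat_lit 512))
 (.leaf (nat_lit 0x101180c084) (nat_lit 1024))
) (.node (nat_lit 0x1020408102) (.leaf (nat_lit 0x1011c0c184) (nat_lit 768))
 (.node (nat_lit 0x1020c08182) (.leaf (nat_lit 0x1020408102) (nat_lit 0))
 (.leaf (nat_lit 0x1020c08182) (nat_lit 257))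
))) (.node (nat_lit 0x1030808086) (.node (nat_lit 0x1021c0a182) (.leaf (nat_lit 0x102140a102) (nat_lit 1027))
 (.node (nat_lit 0x1030408106) (.leaf (nat_lit 0x1021c0a182) (nat_lit 771))
 (.leaf (nat_lit 0x1030408106) (nat_lit 256))
)) (.node (nat_lit 0x103140e106) (.leaf (nat_lit 0x1030808086) (nat_lit 513))
 (.node (nat_lit 0x103180e086) (.leaf (nat_lit 0x103140e106) (nat_lit 1024))
 (.leaf (nat_lit 0x103180e086) (nat_lit 1027))
))))))) (.node (nat_lit 0x182140a382) (.node (nat_lit 0x143080828e) (.node (nat_lit 0x107140a106) (.node (nat_lit 0x1060c0e182) (.node (nat_lit 0x105180e084) (.node (nat_lit 0x1050c0e184) (.leaf (nat_lit 0x105080a084) (nat_lit 1027))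
 (.leaf (nat_lit 0x1050c0e184) (nat_lit 771))
) (.node (nat_lit 0x1051c0a184) (.leaf (nat_lit 0x105180e084) (nat_lit 1025))
 (.node (nat_lit 0x106040c102) (.leaf (nat_lit 0x1051c0a184) (nat_lit 1027))
 (.leaf (nat_lit 0x106040c102) (nat_lit 259))
))) (.node (nat_lit 0x1061c0c182) (.node (nat_lit 0x106140e102) (.leaf (nat_lit 0x1060c0e182) (nat_lit 515))
 (.leaf (nat_lit 0x106140e102) (nat_lit 769))
) (.node (nat_lit 0x107040c106) (.leaf (nat_lit 0x1061c0c182) (nat_lit 513))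
 (.node (nat_lit 0x107080a086) (.leaf (nat_lit 0x107040c106) (nat_lit 515))
 (.leaf (nat_lit 0x107080a086) (nat_lit 771))
)))) (.node (nat_lit 0x1411c0c284) (.node (nat_lit 0x1410808284) (.node (nat_lit 0x107180c086) (.leaf (nat_lit 0x107140a106) (nat_lit 1025))
 (.leaf (nat_lit 0x107180c086) (nat_lit 769))
) (.node (nat_lit 0x1410c08384) (.leaf (nat_lit 0x1410808284) (nat_lit 1026))
 (.node (nat_lit 0x141180c384) (.leaf (nat_lit 0x1410c08384) (nat_lit 770))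
 (.leaf (nat_lit 0x141180c384) (nat_lit 1282))
))) (.node (nat_lit 0x142100210a) (.node (nat_lit 0x142040810a) (.leaf (nat_lit 0x1411c0c284) (nat_lit 1026))
 (.node (nat_lit 0x1420c0838a) (.leaf (nat_lit 0x142040810a) (nat_lit 1026))
 (.leaf (nat_lit 0x1420c0838a) (nat_lit 1024))
)) (.node (nat_lit 0x142180238a) (.leaf (nat_lit 0x142100210a) (nat_lit 1794))
 (.node (nat_lit 0x143040810e) (.leaf (nat_lit 0x142180238a) (nat_lit 1539))
 (.leaf (nat_lit 0x143040810e) (nat_lit 770))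
))))) (.node (nat_lit 0x1461c0c28e) (.node (nat_lit 0x1441802384) (.node (nat_lit 0x1431c0628e) (.node (nat_lit 0x143100610e) (.leaf (nat_lit 0x143080828e) (nat_lit 1026))
 (.leaf (nat_lit 0x143100610e) (nat_lit 1538))
) (.node (nat_lit 0x1440802284) (.leaf (nat_lit 0x1431c0628e) (nat_lit 1536))
 (.node (nat_lit 0x1440c06384) (.leaf (nat_lit 0x1440802284) (nat_lit 1283))
 (.leaf (nat_lit 0x1440c06384) (nat_lit 1027))
))) (.node (nat_lit 0x146040c10e) (.node (nat_lit 0x1441c06284) (.leaf (nat_lit 0x1441802384) (nat_lit 1537))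
 (.leaf (nat_lit 0x1441c06284) (nat_lit 1281))
) (.node (nat_lit 0x146080228e) (.leaf (nat_lit 0x146040c10e) (nat_lit 1027))
 (.node (nat_lit 0x146100210e) (.leaf (nat_lit 0x146080228e) (nat_lit 1283))
 (.leaf (nat_lit 0x146100210e) (nat_lit 1537))
)))) (.node (nat_lit 0x181080808c) (.node (nat_lit 0x1470c0638a) (.node (nat_lit 0x147040c10a) (.leaf (nat_lit 0x1461c0c28e) (nat_lit 1281))
 (.leaf (nat_lit 0x147040c10a) (nat_lit 1026))
) (.node (nat_lit 0x147100610a) (.leaf (nat_lit 0x1470c0638a) (nat_lit 1283))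
 (.node (nat_lit 0x147180c38a) (.leaf (nat_lit 0x147100610a) (nat_lit 1537))
 (.leaf (nat_lit 0x147180c38a) (nat_lit 1282))
))) (.node (nat_lit 0x181140438c) (.node (nat_lit 0x1810c0838c) (.leaf (nat_lit 0x181080808c) (nat_lit 1025))
 (.node (nat_lit 0x181100408c) (.leaf (nat_lit 0x1810c0838c) (nat_lit 768))
 (.leaf (nat_lit 0x181100408c) (nat_lit 1280))
)) (.node (nat_lit 0x1820408302) (.leaf (nat_lit 0x181140438c) (nat_lit 1024))
 (.node (nat_lit 0x1820c08382) (.leaf (nat_lit 0x1820408302) (nat_lit 258))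
 (.leaf (nat_lit 0x1820c08382) (nat_lit 514))
)))))) (.node (nat_lit 0x1c1140428c) (.node (nat_lit 0x185040430e) (.node (nat_lit 0x1831c0630e) (.node (nat_lit 0x183040830e) (.node (nat_lit 0x1821c0a302) (.leaf (nat_lit 0x182140a382) (nat_lit 1027))
 (.leaf (nat_lit 0x1821c0a302) (nat_lit 1026))
) (.node (nat_lit 0x183080808e) (.leaf (nat_lit 0x183040830e) (nat_lit 512))
 (.node (nat_lit 0x183100608e) (.leaf (nat_lit 0x183080808e) (nat_lit 769))
 (.leaf (nat_lit 0x183100608e) (nat_lit 1283))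
))) (.node (nat_lit 0x1840c06382) (.node (nat_lit 0x1840404302) (.leaf (nat_lit 0x1831c0630e) (nat_lit 1280))
 (.leaf (nat_lit 0x1840404302) (nat_lit 515))
) (.node (nat_lit 0x1841404382) (.leaf (nat_lit 0x1840c06382) (nat_lit 771))
 (.node (nat_lit 0x1841c06302) (.leaf (nat_lit 0x1841404382) (nat_lit 769))
 (.leaf (nat_lit 0x1841c06302) (nat_lit 1025))
)))) (.node (nat_lit 0x1870c0638c) (.node (nat_lit 0x185100408e) (.node (nat_lit 0x185080a08e) (.leaf (nat_lit 0x185040430e) (nat_lit 771))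
 (.leaf (nat_lit 0x185080a08e) (nat_lit 1027))
) (.node (nat_lit 0x1851c0a30e) (.leaf (nat_lit 0x185100408e) (nat_lit 1025))
 (.node (nat_lit 0x187080a08c) (.leaf (nat_lit 0x1851c0a30e) (nat_lit 1281))
 (.leaf (nat_lit 0x187080a08c) (nat_lit 1283))
))) (.node (nat_lit 0x1c1080828c) (.node (nat_lit 0x187100608c) (.leaf (nat_lit 0x1870c0638c) (nat_lit 1027))
 (.node (nat_lit 0x187140a38c) (.leaf (nat_lit 0x187100608c) (nat_lit 1281))
 (.leaf (nat_lit 0x187140a38c) (nat_lit 1283))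
)) (.node (nat_lit 0x1c10c0818c) (.leaf (nat_lit 0x1c1080828c) (nat_lit 1024))
 (.node (nat_lit 0x1c1100418c) (.leaf (nat_lit 0x1c10c0818c) (nat_lit 1026))
 (.leaf (nat_lit 0x1c1100418c) (nat_lit 1536))
))))) (.node (nat_lit 0x1c40802286) (.node (nat_lit 0x1c30408306) (.node (nat_lit 0x1c20c0818a) (.node (nat_lit 0x1c2040830a) (.leaf (nat_lit 0x1c1140428c) (nat_lit 1280))
 (.leaf (nat_lit 0x1c2040830a) (nat_lit 768))
) (.node (nat_lit 0x1c2100218a) (.leaf (nat_lit 0x1c20c0818a) (nat_lit 1025))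
 (.node (nat_lit 0x1c2180230a) (.leaf (nat_lit 0x1c2100218a) (nat_lit 1539))
 (.leaf (nat_lit 0x1c2180230a) (nat_lit 1536))
))) (.node (nat_lit 0x1c3140e286) (.node (nat_lit 0x1c30808286) (.leaf (nat_lit 0x1c30408306) (nat_lit 514))
 (.leaf (nat_lit 0x1c30808286) (nat_lit 770))
) (.node (nat_lit 0x1c3180e306) (.leaf (nat_lit 0x1c3140e286) (nat_lit 1283))
 (.node (nat_lit 0x1c40404306) (.leaf (nat_lit 0x1c3180e306) (nat_lit 1282))
 (.leaf (nat_lit 0x1c40404306) (nat_lit 771))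
)))) (.node (nat_lit 0x1c5100418a) (.node (nat_lit 0x1c41802306) (.node (nat_lit 0x1c41404286) (.leaf (nat_lit 0x1c40802286) (nat_lit 1027))
 (.leaf (nat_lit 0x1c41404286) (nat_lit 1025))
) (.node (nat_lit 0x1c5040430a) (.leaf (nat_lit 0x1c41802306) (nat_lit 1281))
 (.node (nat_lit 0x1c50c0e18a) (.leaf (nat_lit 0x1c5040430a) (nat_lit 1027))
 (.leaf (nat_lit 0x1c50c0e18a) (nat_lit 1283))
))) (.node (nat_lit 0x1c60c0e18c) (.node (nat_lit 0x1c5180e30a) (.leaf (nat_lit 0x1c5100418a) (nat_lit 1281))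
 (.node (nat_lit 0x1c6080228c) (.leaf (nat_lit 0x1c5180e30a) (nat_lit 1537))
 (.leaf (nat_lit 0x1c6080228c) (nat_lit 1283))
)) (.node (nat_lit 0x1c6100218c) (.leaf (nat_lit 0x1c60c0e18c) (nat_lit 1283))
 (.node (nat_lit 0x1c6140e28c) (.leaf (nat_lit 0x1c6100218c) (nat_lit 1537))
 (.leaf (nat_lit 0x1c6140e28c) (nat_lit 1539))
))))))))

theorem L3_ok : genOK A2 [(nat_lit 0x1030408106), (nat_lit 0x1020c08182), (nat_lit 0x1820408302), (nat_lit 0x106040c102)] L3_t (nat_lit 168) = true := by decide +kernel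

noncomputable def K1_t : ST :=
(.node (nat_lit 0x10210da150) (.node (nat_lit 0xfdfbf7efc) (.node (nat_lit 0x7ff3d615c) (.node (nat_lit 0x3ef7c6102) (.node (nat_lit 0x2a16c2102) (.leaf (nat_lit 0x220440102) (nat_lit 1284))
 (.node (nat_lit 0x36c444102) (.leaf (nat_lit 0x2a16c2102) (nat_lit 2050))
 (.leaf (nat_lit 0x36c444102) (nat_lit 1541))
)) (.node (nat_lit 0x6a12d2158) (.node (nat_lit 0x62045015a) (.leaf (nat_lit 0x3ef7c6102) (nat_lit 1795))
 (.leaf (nat_lit 0x62045015a) (nat_lit 1027))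
) (.node (nat_lit 0x77c45415e) (.leaf (nat_lit 0x6a12d2158) (nat_lit 1794))
 (.leaf (nat_lit 0x77c45415e) (nat_lit 1285))
))) (.node (nat_lit 0xbcffe7a82) (.node (nat_lit 0xaa1ee3b82) (.node (nat_lit 0xa20461b02) (.leaf (nat_lit 0x7ff3d615c) (nat_lit 1539))
 (.leaf (nat_lit 0xa20461b02) (nat_lit 1025))
) (.node (nat_lit 0xb4c465a02) (.leaf (nat_lit 0xaa1ee3b82) (nat_lit 1797))
 (.leaf (nat_lit 0xb4c465a02) (nat_lit 1541))
)) (.node (nat_lit 0xea1af3ff8) (.node (nat_lit 0xe20471f7a) (.leaf (nat_lit 0xbcffe7a82) (nat_lit 1795))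
 (.leaf (nat_lit 0xe20471f7a) (nat_lit 769))
) (.node (nat_lit 0xf5c475e7e) (.leaf (nat_lit 0xea1af3ff8) (nat_lit 2050))
 (.leaf (nat_lit 0xf5c475e7e) (nat_lit 1285))
)))) (.node (nat_lit 0x1020408d32) (.node (nat_lit 0x1016988cb4) (.node (nat_lit 0x1006d88882) (.node (nat_lit 0x1004408802) (.leaf (nat_lit 0xfdfbf7efc) (nat_lit 1539))
 (.leaf (nat_lit 0x1004408802) (nat_lit 1540))
) (.node (nat_lit 0x1014408c36) (.leaf (nat_lit 0x1006d88882) (nat_lit 1796))
 (.leaf (nat_lit 0x1014408c36) (nat_lit 1284))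
)) (.node (nat_lit 0x1020408112) (.node (nat_lit 0x1020088110) (.leaf (nat_lit 0x1016988cb4) (nat_lit 2052))
 (.leaf (nat_lit 0x1020088110) (nat_lit 1794))
) (.node (nat_lit 0x1020408902) (.leaf (nat_lit 0x1020408112) (nat_lit 0))
 (.leaf (nat_lit 0x1020408902) (nat_lit 514))
))) (.node (nat_lit 0x1020479d72) (.node (nat_lit 0x1020458152) (.node (nat_lit 0x1020448102) (.leaf (nat_lit 0x1020408d32) (nat_lit 259))
 (.leaf (nat_lit 0x1020448102) (nat_lit 1028))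
) (.node (nat_lit 0x1020469902) (.leaf (nat_lit 0x1020458152) (nat_lit 771))
 (.leaf (nat_lit 0x1020469902) (nat_lit 773))
)) (.node (nat_lit 0x1020888db0) (.node (nat_lit 0x1020488102) (.leaf (nat_lit 0x1020479d72) (nat_lit 517))
 (.leaf (nat_lit 0x1020488102) (nat_lit 2562))
) (.node (nat_lit 0x1020c88982) (.leaf (nat_lit 0x1020888db0) (nat_lit 2050))
 (.leaf (nat_lit 0x1020c88982) (nat_lit 2309))
))))) (.node (nat_lit 0x1220408102) (.node (nat_lit 0x104446d802) (.node (nat_lit 0x1024408102) (.node (nat_lit 0x10218fbdf0) (.node (nat_lit 0x10214ca102) (.leaf (nat_lit 0x10210da150) (nat_lit 2050))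
 (.leaf (nat_lit 0x10214ca102) (nat_lit 2306))
) (.node (nat_lit 0x1021ceb982) (.leaf (nat_lit 0x10218fbdf0) (nat_lit 2306))
 (.leaf (nat_lit 0x1021ceb982) (nat_lit 2049))
)) (.node (nat_lit 0x1034408116) (.node (nat_lit 0x1026588102) (.leaf (nat_lit 0x1024408102) (nat_lit 2052))
 (.leaf (nat_lit 0x1026588102) (nat_lit 2308))
) (.node (nat_lit 0x1036188114) (.leaf (nat_lit 0x1034408116) (nat_lit 1796))
 (.leaf (nat_lit 0x1036188114) (nat_lit 1540))
))) (.node (nat_lit 0x106444c102) (.node (nat_lit 0x105447dc76) (.node (nat_lit 0x1047def882) (.leaf (nat_lit 0x104446d802) (nat_lit 1793))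
 (.leaf (nat_lit 0x1047def882) (nat_lit 2051))
) (.node (nat_lit 0x10579ffcf4) (.leaf (nat_lit 0x105447dc76) (nat_lit 1537))
 (.leaf (nat_lit 0x10579ffcf4) (nat_lit 1796))
)) (.node (nat_lit 0x107445c156) (.node (nat_lit 0x10675ce102) (.leaf (nat_lit 0x106444c102) (nat_lit 1796))
 (.leaf (nat_lit 0x10675ce102) (nat_lit 2052))
) (.node (nat_lit 0x10771de154) (.leaf (nat_lit 0x107445c156) (nat_lit 1540))
 (.leaf (nat_lit 0x10771de154) (nat_lit 1795))
)))) (.node (nat_lit 0x1a20408b02) (.node (nat_lit 0x162040811a) (.node (nat_lit 0x132c408102) (.node (nat_lit 0x12a0688102) (.leaf (nat_lit 0x1220408102) (nat_lit 1536))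
 (.leaf (nat_lit 0x12a0688102) (nat_lit 2306))
) (.node (nat_lit 0x13ae788102) (.leaf (nat_lit 0x132c408102) (nat_lit 1797))
 (.leaf (nat_lit 0x13ae788102) (nat_lit 2051))
)) (.node (nat_lit 0x173c40811e) (.node (nat_lit 0x16a0288118) (.leaf (nat_lit 0x162040811a) (nat_lit 1283))
 (.leaf (nat_lit 0x16a0288118) (nat_lit 1538))
) (.node (nat_lit 0x17be38811c) (.leaf (nat_lit 0x173c40811e) (nat_lit 1541))
 (.leaf (nat_lit 0x17be38811c) (nat_lit 1283))
))) (.node (nat_lit 0x1e20408f3a) (.node (nat_lit 0x1b0c408a02) (.node (nat_lit 0x1aa0e88b82) (.leaf (nat_lit 0x1a20408b02) (nat_lit 1280))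
 (.leaf (nat_lit 0x1aa0e88b82) (nat_lit 2053))
) (.node (nat_lit 0x1b8ef88a82) (.leaf (nat_lit 0x1b0c408a02) (nat_lit 1285))
 (.leaf (nat_lit 0x1b8ef88a82) (nat_lit 1539))
)) (.node (nat_lit 0x1f1c408e3e) (.node (nat_lit 0x1ea0a88fb8) (.leaf (nat_lit 0x1e20408f3a) (nat_lit 1024))
 (.leaf (nat_lit 0x1ea0a88fb8) (nat_lit 1794))
) (.node (nat_lit 0x1f9eb88ebc) (.leaf (nat_lit 0x1f1c408e3e) (nat_lit 1029))
 (.leaf (nat_lit 0x1f9eb88ebc) (nat_lit 1795))
))))))

theorem K1_ok : orbOK A2 [(nat_lit 0x1020448102), (nat_lit 0x1220408102), (nat_lit 0x1030408106), (nat_lit 0x1020c08182), (nat_lit 0x1820408302), (nat_lit 0x106040c102)] (nat_lit 0x1020408112) K1_t (nat_lit 63) = true := by decide +kernel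

noncomputable def K2_t : ST :=
(.node (nat_lit 0x1030418146) (.node (nat_lit 0x958414666) (.node (nat_lit 0x4f3b275ac) (.node (nat_lit 0x1bb312144) (.node (nat_lit 0x10b523002) (.node (nat_lit 0xe2314140) (.node (nat_lit 0xa1212140) (.node (nat_lit 0xa0a311c0) (.leaf (nat_lit 0xa0210140) (nat_lit 2048))
 (.leaf (nat_lit 0xa0a311c0) (nat_lit 2048))
) (.node (nat_lit 0xa1a331c0) (.leaf (nat_lit 0xa1212140) (nat_lit 1796))
 (.leaf (nat_lit 0xa1a331c0) (nat_lit 1793))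
)) (.node (nat_lit 0xe3316140) (.node (nat_lit 0xe2b351c0) (.leaf (nat_lit 0xe2314140) (nat_lit 2309))
 (.leaf (nat_lit 0xe2b351c0) (nat_lit 2053))
) (.node (nat_lit 0xe3b371c0) (.leaf (nat_lit 0xe3316140) (nat_lit 2053))
 (.node (nat_lit 0x108421002) (.leaf (nat_lit 0xe3b371c0) (nat_lit 2308))
 (.leaf (nat_lit 0x108421002) (nat_lit 2048))
)))) (.node (nat_lit 0x158435046) (.node (nat_lit 0x11b533046) (.node (nat_lit 0x118431046) (.leaf (nat_lit 0x10b523002) (nat_lit 2818))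
 (.leaf (nat_lit 0x118431046) (nat_lit 1792))
) (.node (nat_lit 0x148425002) (.leaf (nat_lit 0x11b533046) (nat_lit 2307))
 (.node (nat_lit 0x14b527002) (.leaf (nat_lit 0x148425002) (nat_lit 1793))
 (.leaf (nat_lit 0x14b527002) (nat_lit 2563))
))) (.node (nat_lit 0x188e21082) (.node (nat_lit 0x15b537046) (.leaf (nat_lit 0x158435046) (nat_lit 1537))
 (.leaf (nat_lit 0x15b537046) (nat_lit 2564))
) (.node (nat_lit 0x18bf23082) (.leaf (nat_lit 0x188e21082) (nat_lit 2307))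
 (.node (nat_lit 0x1b8210144) (.leaf (nat_lit 0x18bf23082) (nat_lit 2565))
 (.leaf (nat_lit 0x1b8210144) (nat_lit 2051))
))))) (.node (nat_lit 0x47101614c) (.node (nat_lit 0x421002108) (.node (nat_lit 0x1caf25082) (.node (nat_lit 0x1c9e27082) (.leaf (nat_lit 0x1bb312144) (nat_lit 2053))
 (.leaf (nat_lit 0x1c9e27082) (nat_lit 2051))
) (.node (nat_lit 0x1f9216144) (.leaf (nat_lit 0x1caf25082) (nat_lit 2309))
 (.node (nat_lit 0x1fa314144) (.leaf (nat_lit 0x1f9216144) (nat_lit 1795))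
 (.leaf (nat_lit 0x1fa314144) (nat_lit 2309))
))) (.node (nat_lit 0x421023528) (.node (nat_lit 0x421012148) (.leaf (nat_lit 0x421002108) (nat_lit 1792))
 (.leaf (nat_lit 0x421012148) (nat_lit 1540))
) (.node (nat_lit 0x421033568) (.leaf (nat_lit 0x421023528) (nat_lit 1794))
 (.node (nat_lit 0x47100610c) (.leaf (nat_lit 0x421033568) (nat_lit 1538))
 (.leaf (nat_lit 0x47100610c) (nat_lit 1795))
)))) (.node (nat_lit 0x4a1202108) (.node (nat_lit 0x47103756c) (.node (nat_lit 0x47102752c) (.leaf (nat_lit 0x47101614c) (nat_lit 1539))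
 (.leaf (nat_lit 0x47102752c) (nat_lit 1283))
) (.node (nat_lit 0x4a0210148) (.leaf (nat_lit 0x47103756c) (nat_lit 1539))
 (.node (nat_lit 0x4a0a315e8) (.leaf (nat_lit 0x4a0210148) (nat_lit 2305))
 (.leaf (nat_lit 0x4a0a315e8) (nat_lit 2048))
))) (.node (nat_lit 0x4f231414c) (.node (nat_lit 0x4a1a235a8) (.leaf (nat_lit 0x4a1202108) (nat_lit 2049))
 (.leaf (nat_lit 0x4a1a235a8) (nat_lit 1793))
) (.node (nat_lit 0x4f2b355ec) (.leaf (nat_lit 0x4f231414c) (nat_lit 2561))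
 (.node (nat_lit 0x4f330610c) (.leaf (nat_lit 0x4f2b355ec) (nat_lit 2053))
 (.leaf (nat_lit 0x4f330610c) (nat_lit 2309))
)))))) (.node (nat_lit 0x840425202) (.node (nat_lit 0x588e214aa) (.node (nat_lit 0x53b11214c) (.node (nat_lit 0x51843146e) (.node (nat_lit 0x50842142a) (.leaf (nat_lit 0x4f3b275ac) (nat_lit 2309))
 (.leaf (nat_lit 0x50842142a) (nat_lit 1792))
) (.node (nat_lit 0x52b102108) (.leaf (nat_lit 0x51843146e) (nat_lit 1536))
 (.leaf (nat_lit 0x52b102108) (nat_lit 2561))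
)) (.node (nat_lit 0x55842542e) (.node (nat_lit 0x54843546a) (.leaf (nat_lit 0x53b11214c) (nat_lit 2305))
 (.leaf (nat_lit 0x54843546a) (nat_lit 1537))
) (.node (nat_lit 0x56b116148) (.leaf (nat_lit 0x55842542e) (nat_lit 1281))
 (.node (nat_lit 0x57b10610c) (.leaf (nat_lit 0x56b116148) (nat_lit 2305))
 (.leaf (nat_lit 0x57b10610c) (nat_lit 2560))
)))) (.node (nat_lit 0x5daf254ae) (.node (nat_lit 0x5ab302108) (.node (nat_lit 0x59bf334ee) (.leaf (nat_lit 0x588e214aa) (nat_lit 2307))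
 (.leaf (nat_lit 0x59bf334ee) (nat_lit 2565))
) (.node (nat_lit 0x5b821014c) (.leaf (nat_lit 0x5ab302108) (nat_lit 2309))
 (.node (nat_lit 0x5c9e374ea) (.leaf (nat_lit 0x5b821014c) (nat_lit 2308))
 (.leaf (nat_lit 0x5c9e374ea) (nat_lit 2051))
))) (.node (nat_lit 0x5f920610c) (.node (nat_lit 0x5ea314148) (.leaf (nat_lit 0x5daf254ae) (nat_lit 2309))
 (.leaf (nat_lit 0x5ea314148) (nat_lit 2308))
) (.node (nat_lit 0x840404202) (.leaf (nat_lit 0x5f920610c) (nat_lit 2051))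
 (.node (nat_lit 0x840414662) (.leaf (nat_lit 0x840404202) (nat_lit 1797))
 (.leaf (nat_lit 0x840414662) (nat_lit 1541))
))))) (.node (nat_lit 0x8c2704202) (.node (nat_lit 0x841c376e2) (.node (nat_lit 0x841c06282) (.node (nat_lit 0x840435662) (.leaf (nat_lit 0x840425202) (nat_lit 1541))
 (.leaf (nat_lit 0x840435662) (nat_lit 1285))
) (.node (nat_lit 0x841c166e2) (.leaf (nat_lit 0x841c06282) (nat_lit 2051))
 (.node (nat_lit 0x841c27282) (.leaf (nat_lit 0x841c166e2) (nat_lit 1539))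
 (.leaf (nat_lit 0x841c27282) (nat_lit 1795))
))) (.node (nat_lit 0x8a0a317e0) (.node (nat_lit 0x8a0210760) (.leaf (nat_lit 0x841c376e2) (nat_lit 1795))
 (.leaf (nat_lit 0x8a0210760) (nat_lit 2050))
) (.node (nat_lit 0x8a1233760) (.leaf (nat_lit 0x8a0a317e0) (nat_lit 1792))
 (.node (nat_lit 0x8a1a127e0) (.leaf (nat_lit 0x8a1233760) (nat_lit 1794))
 (.leaf (nat_lit 0x8a1a127e0) (nat_lit 1537))
)))) (.node (nat_lit 0x90bd23282) (.node (nat_lit 0x8c3727202) (.node (nat_lit 0x8c2f25282) (.leaf (nat_lit 0x8c2704202) (nat_lit 3077))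
 (.leaf (nat_lit 0x8c2f25282) (nat_lit 2565))
) (.node (nat_lit 0x8c3f06282) (.leaf (nat_lit 0x8c3727202) (nat_lit 2821))
 (.node (nat_lit 0x908421202) (.leaf (nat_lit 0x8c3f06282) (nat_lit 2821))
 (.leaf (nat_lit 0x908421202) (nat_lit 2306))
))) (.node (nat_lit 0x91bd336e6) (.node (nat_lit 0x918431666) (.leaf (nat_lit 0x90bd23282) (nat_lit 2306))
 (.leaf (nat_lit 0x918431666) (nat_lit 1792))
) (.node (nat_lit 0x948404202) (.leaf (nat_lit 0x91bd336e6) (nat_lit 2565))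
 (.node (nat_lit 0x94bd06282) (.leaf (nat_lit 0x948404202) (nat_lit 2049))
 (.leaf (nat_lit 0x94bd06282) (nat_lit 2562))
))))))) (.node (nat_lit 0xdda70420e) (.node (nat_lit 0xca0a313c8) (.node (nat_lit 0x9fab357e4) (.node (nat_lit 0x9b8210764) (.node (nat_lit 0x988e21282) (.node (nat_lit 0x95bd166e6) (.leaf (nat_lit 0x958414666) (nat_lit 1537))
 (.leaf (nat_lit 0x95bd166e6) (nat_lit 2307))
) (.node (nat_lit 0x98b723202) (.leaf (nat_lit 0x988e21282) (nat_lit 2563))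
 (.leaf (nat_lit 0x98b723202) (nat_lit 2565))
)) (.node (nat_lit 0x9c9e06282) (.node (nat_lit 0x9bbb127e4) (.leaf (nat_lit 0x9b8210764) (nat_lit 2051))
 (.leaf (nat_lit 0x9bbb127e4) (nat_lit 2309))
) (.node (nat_lit 0x9ca704202) (.leaf (nat_lit 0x9c9e06282) (nat_lit 2307))
 (.node (nat_lit 0x9f9237764) (.leaf (nat_lit 0x9ca704202) (nat_lit 2821))
 (.leaf (nat_lit 0x9f9237764) (nat_lit 1795))
)))) (.node (nat_lit 0xc5040420e) (.node (nat_lit 0xc218127e8) (.node (nat_lit 0xc21802388) (.leaf (nat_lit 0x9fab357e4) (nat_lit 2053))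
 (.leaf (nat_lit 0xc21802388) (nat_lit 1797))
) (.node (nat_lit 0xc218237a8) (.leaf (nat_lit 0xc218127e8) (nat_lit 1285))
 (.node (nat_lit 0xc218333c8) (.leaf (nat_lit 0xc218237a8) (nat_lit 1541))
 (.leaf (nat_lit 0xc218333c8) (nat_lit 1541))
))) (.node (nat_lit 0xc5042562e) (.node (nat_lit 0xc5041466e) (.leaf (nat_lit 0xc5040420e) (nat_lit 1541))
 (.leaf (nat_lit 0xc5041466e) (nat_lit 1285))
) (.node (nat_lit 0xc5043524e) (.leaf (nat_lit 0xc5042562e) (nat_lit 1029))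
 (.node (nat_lit 0xca0210768) (.leaf (nat_lit 0xc5043524e) (nat_lit 1285))
 (.leaf (nat_lit 0xca0210768) (nat_lit 2306))
))))) (.node (nat_lit 0xd3b9127ec) (.node (nat_lit 0xcd373724e) (.node (nat_lit 0xca1a02388) (.node (nat_lit 0xca1223728) (.leaf (nat_lit 0xca0a313c8) (nat_lit 2308))
 (.leaf (nat_lit 0xca1223728) (nat_lit 2050))
) (.node (nat_lit 0xcd270420e) (.leaf (nat_lit 0xca1a02388) (nat_lit 2049))
 (.node (nat_lit 0xcd2f256ae) (.leaf (nat_lit 0xcd270420e) (nat_lit 2563))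
 (.leaf (nat_lit 0xcd2f256ae) (nat_lit 2309))
))) (.node (nat_lit 0xd0842162a) (.node (nat_lit 0xcd3f166ee) (.leaf (nat_lit 0xcd373724e) (nat_lit 2565))
 (.leaf (nat_lit 0xcd3f166ee) (nat_lit 2307))
) (.node (nat_lit 0xd1843124e) (.leaf (nat_lit 0xd0842162a) (nat_lit 2048))
 (.node (nat_lit 0xd2b902388) (.leaf (nat_lit 0xd1843124e) (nat_lit 2052))
 (.leaf (nat_lit 0xd2b902388) (nat_lit 2304))
)))) (.node (nat_lit 0xd88e216aa) (.node (nat_lit 0xd5840420e) (.node (nat_lit 0xd4841466a) (.leaf (nat_lit 0xd3b9127ec) (nat_lit 2308))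
 (.leaf (nat_lit 0xd4841466a) (nat_lit 1793))
) (.node (nat_lit 0xd6b9373c8) (.leaf (nat_lit 0xd5840420e) (nat_lit 1793))
 (.node (nat_lit 0xd7b9277ac) (.leaf (nat_lit 0xd6b9373c8) (nat_lit 2052))
 (.leaf (nat_lit 0xd7b9277ac) (nat_lit 2308))
))) (.node (nat_lit 0xdabb02388) (.node (nat_lit 0xd9b73324e) (.leaf (nat_lit 0xd88e216aa) (nat_lit 2051))
 (.leaf (nat_lit 0xd9b73324e) (nat_lit 2565))
) (.node (nat_lit 0xdb821076c) (.leaf (nat_lit 0xdabb02388) (nat_lit 2565))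
 (.node (nat_lit 0xdc9e166ea) (.leaf (nat_lit 0xdb821076c) (nat_lit 1795))
 (.leaf (nat_lit 0xdc9e166ea) (nat_lit 1795))
)))))) (.node (nat_lit 0x1020439142) (.node (nat_lit 0x10108394e4) (.node (nat_lit 0x100312b420) (.node (nat_lit 0xdf922772c) (.node (nat_lit 0xdeab353c8) (.leaf (nat_lit 0xdda70420e) (nat_lit 2821))
 (.leaf (nat_lit 0xdeab353c8) (nat_lit 2309))
) (.node (nat_lit 0x1002108420) (.leaf (nat_lit 0xdf922772c) (nat_lit 1539))
 (.node (nat_lit 0x10029084a0) (.leaf (nat_lit 0x1002108420) (nat_lit 2564))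
 (.leaf (nat_lit 0x10029084a0) (nat_lit 2052))
))) (.node (nat_lit 0x1010808084) (.node (nat_lit 0x100392b4a0) (.leaf (nat_lit 0x100312b420) (nat_lit 2305))
 (.leaf (nat_lit 0x100392b4a0) (nat_lit 2308))
) (.node (nat_lit 0x10108084a4) (.leaf (nat_lit 0x1010808084) (nat_lit 1796))
 (.node (nat_lit 0x10108390c4) (.leaf (nat_lit 0x10108084a4) (nat_lit 1284))
 (.leaf (nat_lit 0x10108390c4) (nat_lit 1540))
)))) (.node (nat_lit 0x1020408522) (.node (nat_lit 0x1012908084) (.node (nat_lit 0x1012108424) (.leaf (nat_lit 0x10108394e4) (nat_lit 1539))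
 (.leaf (nat_lit 0x1012108424) (nat_lit 2563))
) (.node (nat_lit 0x101313b464) (.leaf (nat_lit 0x1012908084) (nat_lit 2564))
 (.node (nat_lit 0x101393b0c4) (.leaf (nat_lit 0x101313b464) (nat_lit 2561))
 (.leaf (nat_lit 0x101393b0c4) (nat_lit 2564))
))) (.node (nat_lit 0x1020418562) (.node (nat_lit 0x1020418142) (.leaf (nat_lit 0x1020408522) (nat_lit 0))
 (.leaf (nat_lit 0x1020418142) (nat_lit 516))
) (.node (nat_lit 0x1020429102) (.leaf (nat_lit 0x1020418562) (nat_lit 261))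
 (.node (nat_lit 0x1020429522) (.leaf (nat_lit 0x1020429102) (nat_lit 1026))
 (.leaf (nat_lit 0x1020429522) (nat_lit 770))
))))) (.node (nat_lit 0x1021c0a182) (.node (nat_lit 0x1020c295a2) (.node (nat_lit 0x1020c08182) (.node (nat_lit 0x1020439562) (.leaf (nat_lit 0x1020439142) (nat_lit 772))
 (.leaf (nat_lit 0x1020439562) (nat_lit 515))
) (.node (nat_lit 0x1020c085a2) (.leaf (nat_lit 0x1020c08182) (nat_lit 2050))
 (.node (nat_lit 0x1020c29182) (.leaf (nat_lit 0x1020c085a2) (nat_lit 1538))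
 (.leaf (nat_lit 0x1020c29182) (nat_lit 1794))
))) (.node (nat_lit 0x102141a142) (.node (nat_lit 0x102140a102) (.leaf (nat_lit 0x1020c295a2) (nat_lit 1794))
 (.leaf (nat_lit 0x102140a102) (nat_lit 2562))
) (.node (nat_lit 0x102142b102) (.leaf (nat_lit 0x102141a142) (nat_lit 2050))
 (.node (nat_lit 0x102143b142) (.leaf (nat_lit 0x102142b102) (nat_lit 2306))
 (.leaf (nat_lit 0x102143b142) (nat_lit 2052))
)))) (.node (nat_lit 0x1022d08182) (.node (nat_lit 0x1021c2b182) (.node (nat_lit 0x1021c1a5e2) (.leaf (nat_lit 0x1021c0a182) (nat_lit 2306))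
 (.leaf (nat_lit 0x1021c1a5e2) (nat_lit 1797))
) (.node (nat_lit 0x1021c3b5e2) (.leaf (nat_lit 0x1021c2b182) (nat_lit 2050))
 (.node (nat_lit 0x1022508102) (.leaf (nat_lit 0x1021c3b5e2) (nat_lit 1794))
 (.leaf (nat_lit 0x1022508102) (nat_lit 3588))
))) (.node (nat_lit 0x1023d0a182) (.node (nat_lit 0x102350a102) (.leaf (nat_lit 0x1022d08182) (nat_lit 2818))
 (.leaf (nat_lit 0x102350a102) (nat_lit 3330))
) (.node (nat_lit 0x1030408106) (.leaf (nat_lit 0x1023d0a182) (nat_lit 2818))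
 (.node (nat_lit 0x1030408526) (.leaf (nat_lit 0x1030408106) (nat_lit 1540))
 (.leaf (nat_lit 0x1030408526) (nat_lit 1028))
)))))))) (.node (nat_lit 0x151a10842c) (.node (nat_lit 0x10a0e08182) (.node (nat_lit 0x106041c142) (.node (nat_lit 0x104391e4e0) (.node (nat_lit 0x103351a146) (.node (nat_lit 0x1032508106) (.node (nat_lit 0x1030418566) (.leaf (nat_lit 0x1030418146) (nat_lit 1284))
 (.leaf (nat_lit 0x1030418566) (nat_lit 1281))
) (.node (nat_lit 0x1032d085a6) (.leaf (nat_lit 0x1032508106) (nat_lit 2820))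
 (.leaf (nat_lit 0x1032d085a6) (nat_lit 2306))
)) (.node (nat_lit 0x104211c460) (.node (nat_lit 0x1033d1a5e6) (.leaf (nat_lit 0x103351a146) (nat_lit 2820))
 (.leaf (nat_lit 0x1033d1a5e6) (nat_lit 2562))
) (.node (nat_lit 0x104293d4e0) (.leaf (nat_lit 0x104211c460) (nat_lit 2307))
 (.node (nat_lit 0x104313f460) (.leaf (nat_lit 0x104293d4e0) (nat_lit 2308))
 (.leaf (nat_lit 0x104313f460) (nat_lit 2049))
)))) (.node (nat_lit 0x105211c464) (.node (nat_lit 0x105181e4e4) (.node (nat_lit 0x105180e084) (.leaf (nat_lit 0x104391e4e0) (nat_lit 2308))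
 (.leaf (nat_lit 0x105180e084) (nat_lit 2052))
) (.node (nat_lit 0x105182f4a4) (.leaf (nat_lit 0x105181e4e4) (nat_lit 1541))
 (.node (nat_lit 0x105183f0c4) (.leaf (nat_lit 0x105182f4a4) (nat_lit 1540))
 (.leaf (nat_lit 0x105183f0c4) (nat_lit 1796))
))) (.node (nat_lit 0x105312f424) (.node (nat_lit 0x105293d0c4) (.leaf (nat_lit 0x105211c464) (nat_lit 2819))
 (.leaf (nat_lit 0x105293d0c4) (nat_lit 2308))
) (.node (nat_lit 0x105390e084) (.leaf (nat_lit 0x105312f424) (nat_lit 2305))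
 (.node (nat_lit 0x106040c102) (.leaf (nat_lit 0x105390e084) (nat_lit 2564))
 (.leaf (nat_lit 0x106040c102) (nat_lit 2052))
))))) (.node (nat_lit 0x1063d2f182) (.node (nat_lit 0x106142f102) (.node (nat_lit 0x106043d142) (.node (nat_lit 0x106042d102) (.leaf (nat_lit 0x106041c142) (nat_lit 1796))
 (.leaf (nat_lit 0x106042d102) (nat_lit 1794))
) (.node (nat_lit 0x106140e102) (.leaf (nat_lit 0x106043d142) (nat_lit 1540))
 (.node (nat_lit 0x106141e142) (.leaf (nat_lit 0x106140e102) (nat_lit 2308))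
 (.leaf (nat_lit 0x106141e142) (nat_lit 1796))
))) (.node (nat_lit 0x106250c102) (.node (nat_lit 0x106143f142) (.leaf (nat_lit 0x106142f102) (nat_lit 2051))
 (.leaf (nat_lit 0x106143f142) (nat_lit 2052))
) (.node (nat_lit 0x1062d2d182) (.leaf (nat_lit 0x106250c102) (nat_lit 3332))
 (.node (nat_lit 0x106350e102) (.leaf (nat_lit 0x1062d2d182) (nat_lit 2562))
 (.leaf (nat_lit 0x106350e102) (nat_lit 3076))
)))) (.node (nat_lit 0x107250c106) (.node (nat_lit 0x107041c146) (.node (nat_lit 0x107040c106) (.leaf (nat_lit 0x1063d2f182) (nat_lit 2818))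
 (.leaf (nat_lit 0x107040c106) (nat_lit 1796))
) (.node (nat_lit 0x107042d526) (.leaf (nat_lit 0x107041c146) (nat_lit 1540))
 (.node (nat_lit 0x107043d566) (.leaf (nat_lit 0x107042d526) (nat_lit 1284))
 (.leaf (nat_lit 0x107043d566) (nat_lit 1540))
))) (.node (nat_lit 0x107351e146) (.node (nat_lit 0x1072d2d5a6) (.leaf (nat_lit 0x107250c106) (nat_lit 2820))
 (.leaf (nat_lit 0x1072d2d5a6) (nat_lit 2563))
) (.node (nat_lit 0x1073d3f5e6) (.leaf (nat_lit 0x107351e146) (nat_lit 2564))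
 (.node (nat_lit 0x10a0608102) (.leaf (nat_lit 0x1073d3f5e6) (nat_lit 2561))
 (.leaf (nat_lit 0x10a0608102) (nat_lit 3074))
)))))) (.node (nat_lit 0x11dbb0e084) (.node (nat_lit 0x113a508106) (.node (nat_lit 0x10a370a102) (.node (nat_lit 0x10a1e0a182) (.node (nat_lit 0x10a160a102) (.leaf (nat_lit 0x10a0e08182) (nat_lit 2818))
 (.leaf (nat_lit 0x10a160a102) (nat_lit 2818))
) (.node (nat_lit 0x10a2708102) (.leaf (nat_lit 0x10a1e0a182) (nat_lit 2562))
 (.node (nat_lit 0x10a2f08182) (.leaf (nat_lit 0x10a2708102) (nat_lit 3333))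
 (.leaf (nat_lit 0x10a2f08182) (nat_lit 2821))
))) (.node (nat_lit 0x1128408102) (.node (nat_lit 0x10a3f0a182) (.leaf (nat_lit 0x10a370a102) (nat_lit 3077))
 (.leaf (nat_lit 0x10a3f0a182) (nat_lit 3077))
) (.node (nat_lit 0x112a508102) (.leaf (nat_lit 0x1128408102) (nat_lit 2560))
 (.node (nat_lit 0x1138408106) (.leaf (nat_lit 0x112a508102) (nat_lit 3328))
 (.leaf (nat_lit 0x1138408106) (nat_lit 2308))
)))) (.node (nat_lit 0x1198a08084) (.node (nat_lit 0x116a50c102) (.node (nat_lit 0x116840c102) (.leaf (nat_lit 0x113a508106) (nat_lit 2820))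
 (.leaf (nat_lit 0x116840c102) (nat_lit 2308))
) (.node (nat_lit 0x117840c106) (.leaf (nat_lit 0x116a50c102) (nat_lit 3076))
 (.node (nat_lit 0x117a50c106) (.leaf (nat_lit 0x117840c106) (nat_lit 2052))
 (.leaf (nat_lit 0x117a50c106) (nat_lit 3076))
))) (.node (nat_lit 0x11a8608102) (.node (nat_lit 0x119ab08084) (.leaf (nat_lit 0x1198a08084) (nat_lit 2564))
 (.leaf (nat_lit 0x119ab08084) (nat_lit 2565))
) (.node (nat_lit 0x11aa708102) (.leaf (nat_lit 0x11a8608102) (nat_lit 2816))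
 (.node (nat_lit 0x11d9a0e084) (.leaf (nat_lit 0x11aa708102) (nat_lit 3077))
 (.leaf (nat_lit 0x11d9a0e084) (nat_lit 2308))
))))) (.node (nat_lit 0x143041856e) (.node (nat_lit 0x142041814a) (.node (nat_lit 0x11eb70e102) (.node (nat_lit 0x11e960e102) (.leaf (nat_lit 0x11dbb0e084) (nat_lit 2821))
 (.leaf (nat_lit 0x11e960e102) (nat_lit 2564))
) (.node (nat_lit 0x142040810a) (.leaf (nat_lit 0x11eb70e102) (nat_lit 2821))
 (.node (nat_lit 0x142040852a) (.leaf (nat_lit 0x142040810a) (nat_lit 1024))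
 (.leaf (nat_lit 0x142040852a) (nat_lit 768))
))) (.node (nat_lit 0x143040810e) (.node (nat_lit 0x142041856a) (.leaf (nat_lit 0x142041814a) (nat_lit 772))
 (.leaf (nat_lit 0x142041856a) (nat_lit 513))
) (.node (nat_lit 0x143040852e) (.leaf (nat_lit 0x143040810e) (nat_lit 1285))
 (.node (nat_lit 0x143041814e) (.leaf (nat_lit 0x143040852e) (nat_lit 773))
 (.leaf (nat_lit 0x143041814e) (nat_lit 1029))
)))) (.node (nat_lit 0x14b270810e) (.node (nat_lit 0x14a0e085aa) (.node (nat_lit 0x14a060810a) (.leaf (nat_lit 0x143041856e) (nat_lit 1029))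
 (.leaf (nat_lit 0x14a060810a) (nat_lit 2562))
) (.node (nat_lit 0x14a161a14a) (.leaf (nat_lit 0x14a0e085aa) (nat_lit 2304))
 (.node (nat_lit 0x14a1e1a5ea) (.leaf (nat_lit 0x14a161a14a) (nat_lit 2306))
 (.leaf (nat_lit 0x14a1e1a5ea) (nat_lit 2049))
))) (.node (nat_lit 0x14b371a14e) (.node (nat_lit 0x14b2f085ae) (.leaf (nat_lit 0x14b270810e) (nat_lit 2563))
 (.leaf (nat_lit 0x14b2f085ae) (nat_lit 2309))
) (.node (nat_lit 0x14b3f1a5ee) (.leaf (nat_lit 0x14b371a14e) (nat_lit 2565))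
 (.node (nat_lit 0x150a108428) (.leaf (nat_lit 0x14b3f1a5ee) (nat_lit 2563))
 (.leaf (nat_lit 0x150a108428) (nat_lit 2307))
))))))) (.node (nat_lit 0x1998a086a4) (.node (nat_lit 0x1820c08382) (.node (nat_lit 0x15a860810a) (.node (nat_lit 0x155a11c46c) (.node (nat_lit 0x153840810e) (.node (nat_lit 0x152840810a) (.leaf (nat_lit 0x151a10842c) (nat_lit 2307))
 (.leaf (nat_lit 0x152840810a) (nat_lit 2304))
) (.node (nat_lit 0x154a11c468) (.leaf (nat_lit 0x153840810e) (nat_lit 2048))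
 (.leaf (nat_lit 0x154a11c468) (nat_lit 2051))
)) (.node (nat_lit 0x157841c14e) (.node (nat_lit 0x156841c14a) (.leaf (nat_lit 0x155a11c46c) (nat_lit 2563))
 (.leaf (nat_lit 0x156841c14a) (nat_lit 2052))
) (.node (nat_lit 0x158ab084a8) (.leaf (nat_lit 0x157841c14e) (nat_lit 1796))
 (.node (nat_lit 0x1598a084ac) (.leaf (nat_lit 0x158ab084a8) (nat_lit 2053))
 (.leaf (nat_lit 0x1598a084ac) (nat_lit 2048))
)))) (.node (nat_lit 0x15fb71e14e) (.node (nat_lit 0x15cbb1e4e8) (.node (nat_lit 0x15ba70810e) (.leaf (nat_lit 0x15a860810a) (nat_lit 2304))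
 (.leaf (nat_lit 0x15ba70810e) (nat_lit 2565))
) (.node (nat_lit 0x15d9a1e4ec) (.leaf (nat_lit 0x15cbb1e4e8) (nat_lit 2309))
 (.node (nat_lit 0x15e961e14a) (.leaf (nat_lit 0x15d9a1e4ec) (nat_lit 1793))
 (.leaf (nat_lit 0x15e961e14a) (nat_lit 2052))
))) (.node (nat_lit 0x1820408722) (.node (nat_lit 0x1820408302) (.leaf (nat_lit 0x15fb71e14e) (nat_lit 2309))
 (.leaf (nat_lit 0x1820408302) (nat_lit 1538))
) (.node (nat_lit 0x1820429302) (.leaf (nat_lit 0x1820408722) (nat_lit 1282))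
 (.node (nat_lit 0x1820429722) (.leaf (nat_lit 0x1820429302) (nat_lit 1282))
 (.leaf (nat_lit 0x1820429722) (nat_lit 1026))
))))) (.node (nat_lit 0x18a162b302) (.node (nat_lit 0x1882b086a0) (.node (nat_lit 0x1820c29382) (.node (nat_lit 0x1820c087a2) (.leaf (nat_lit 0x1820c08382) (nat_lit 1794))
 (.leaf (nat_lit 0x1820c087a2) (nat_lit 1282))
) (.node (nat_lit 0x1820c297a2) (.leaf (nat_lit 0x1820c29382) (nat_lit 1538))
 (.node (nat_lit 0x1882308620) (.leaf (nat_lit 0x1820c297a2) (nat_lit 1538))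
 (.leaf (nat_lit 0x1882308620) (nat_lit 2309))
))) (.node (nat_lit 0x1883b2b6a0) (.node (nat_lit 0x188332b620) (.leaf (nat_lit 0x1882b086a0) (nat_lit 1797))
 (.leaf (nat_lit 0x188332b620) (nat_lit 2053))
) (.node (nat_lit 0x18a0608302) (.leaf (nat_lit 0x1883b2b6a0) (nat_lit 2053))
 (.node (nat_lit 0x18a0e08382) (.leaf (nat_lit 0x18a0608302) (nat_lit 2818))
 (.leaf (nat_lit 0x18a0e08382) (nat_lit 2562))
)))) (.node (nat_lit 0x193ad087a6) (.node (nat_lit 0x1928408302) (.node (nat_lit 0x18a1e2b382) (.leaf (nat_lit 0x18a162b302) (nat_lit 2562))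
 (.leaf (nat_lit 0x18a1e2b382) (nat_lit 2306))
) (.node (nat_lit 0x192ad08382) (.leaf (nat_lit 0x1928408302) (nat_lit 2306))
 (.node (nat_lit 0x1938408726) (.leaf (nat_lit 0x192ad08382) (nat_lit 2819))
 (.leaf (nat_lit 0x1938408726) (nat_lit 1797))
))) (.node (nat_lit 0x196ad2d382) (.node (nat_lit 0x196842d302) (.leaf (nat_lit 0x193ad087a6) (nat_lit 2308))
 (.leaf (nat_lit 0x196842d302) (nat_lit 2050))
) (.node (nat_lit 0x197842d726) (.leaf (nat_lit 0x196ad2d382) (nat_lit 2564))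
 (.node (nat_lit 0x197ad2d7a6) (.leaf (nat_lit 0x197842d726) (nat_lit 1540))
 (.leaf (nat_lit 0x197ad2d7a6) (nat_lit 2307))
)))))) (.node (nat_lit 0x1ca060830a) (.node (nat_lit 0x1c108392cc) (.node (nat_lit 0x19db32f624) (.node (nat_lit 0x19a8608302) (.node (nat_lit 0x199a308624) (.leaf (nat_lit 0x1998a086a4) (nat_lit 2051))
 (.leaf (nat_lit 0x199a308624) (nat_lit 2309))
) (.node (nat_lit 0x19aaf08382) (.leaf (nat_lit 0x19a8608302) (nat_lit 2563))
 (.node (nat_lit 0x19d9a2f6a4) (.leaf (nat_lit 0x19aaf08382) (nat_lit 2565))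
 (.leaf (nat_lit 0x19d9a2f6a4) (nat_lit 1796))
))) (.node (nat_lit 0x19ebf2f382) (.node (nat_lit 0x19e962f302) (.leaf (nat_lit 0x19db32f624) (nat_lit 2053))
 (.leaf (nat_lit 0x19e962f302) (nat_lit 2307))
) (.node (nat_lit 0x1c1080828c) (.leaf (nat_lit 0x19ebf2f382) (nat_lit 2821))
 (.node (nat_lit 0x1c108086ac) (.leaf (nat_lit 0x1c1080828c) (nat_lit 1539))
 (.leaf (nat_lit 0x1c108086ac) (nat_lit 1027))
)))) (.node (nat_lit 0x1c2043976a) (.node (nat_lit 0x1c2040830a) (.node (nat_lit 0x1c108396ec) (.leaf (nat_lit 0x1c108392cc) (nat_lit 1283))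
 (.leaf (nat_lit 0x1c108396ec) (nat_lit 1283))
) (.node (nat_lit 0x1c2040872a) (.leaf (nat_lit 0x1c2040830a) (nat_lit 1280))
 (.node (nat_lit 0x1c2043934a) (.leaf (nat_lit 0x1c2040872a) (nat_lit 1027))
 (.leaf (nat_lit 0x1c2043934a) (nat_lit 1028))
))) (.node (nat_lit 0x1c92b0828c) (.node (nat_lit 0x1c9230862c) (.leaf (nat_lit 0x1c2043976a) (nat_lit 771))
 (.leaf (nat_lit 0x1c9230862c) (nat_lit 2565))
) (.node (nat_lit 0x1c9333b66c) (.leaf (nat_lit 0x1c92b0828c) (nat_lit 2309))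
 (.node (nat_lit 0x1c93b3b2cc) (.leaf (nat_lit 0x1c9333b66c) (nat_lit 2309))
 (.leaf (nat_lit 0x1c93b3b2cc) (nat_lit 2565))
))))) (.node (nat_lit 0x1d6843d34a) (.node (nat_lit 0x1d1a90828c) (.node (nat_lit 0x1ca163b34a) (.node (nat_lit 0x1ca0e087aa) (.leaf (nat_lit 0x1ca060830a) (nat_lit 2560))
 (.leaf (nat_lit 0x1ca0e087aa) (nat_lit 2306))
) (.node (nat_lit 0x1ca1e3b7ea) (.leaf (nat_lit 0x1ca163b34a) (nat_lit 2308))
 (.node (nat_lit 0x1d0a9086a8) (.leaf (nat_lit 0x1ca1e3b7ea) (nat_lit 2050))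
 (.leaf (nat_lit 0x1d0a9086a8) (nat_lit 2307))
))) (.node (nat_lit 0x1d3840872e) (.node (nat_lit 0x1d2840830a) (.leaf (nat_lit 0x1d1a90828c) (nat_lit 2560))
 (.leaf (nat_lit 0x1d2840830a) (nat_lit 2048))
) (.node (nat_lit 0x1d4a93d6e8) (.leaf (nat_lit 0x1d3840872e) (nat_lit 2053))
 (.node (nat_lit 0x1d5a93d2cc) (.leaf (nat_lit 0x1d4a93d6e8) (nat_lit 2564))
 (.leaf (nat_lit 0x1d5a93d2cc) (nat_lit 2308))
)))) (.node (nat_lit 0x1dbaf087ae) (.node (nat_lit 0x1d8a308628) (.node (nat_lit 0x1d7843d76e) (.leaf (nat_lit 0x1d6843d34a) (nat_lit 1796))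
 (.leaf (nat_lit 0x1d7843d76e) (nat_lit 1796))
) (.node (nat_lit 0x1d98a0828c) (.leaf (nat_lit 0x1d8a308628) (nat_lit 2053))
 (.node (nat_lit 0x1da860830a) (.leaf (nat_lit 0x1d98a0828c) (nat_lit 2304))
 (.leaf (nat_lit 0x1da860830a) (nat_lit 2560))
))) (.node (nat_lit 0x1dd9a3f2cc) (.node (nat_lit 0x1dcb33f668) (.leaf (nat_lit 0x1dbaf087ae) (nat_lit 2053))
 (.leaf (nat_lit 0x1dcb33f668) (nat_lit 1797))
) (.node (nat_lit 0x1de963f34a) (.leaf (nat_lit 0x1dd9a3f2cc) (nat_lit 2052))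
 (.node (nat_lit 0x1dfbf3f7ee) (.leaf (nat_lit 0x1de963f34a) (nat_lit 2308))
 (.leaf (nat_lit 0x1dfbf3f7ee) (nat_lit 2309))
)))))))))

theorem K2_ok : orbOK A2 [(nat_lit 0x1020448102), (nat_lit 0x1220408102), (nat_lit 0x1030408106), (nat_lit 0x1020c08182), (nat_lit 0x1820408302), (nat_lit 0x106040c102)] (nat_lit 0x1020408522) K2_t (nat_lit 315) = true := by decide +kernel

noncomputable def K3_t : ST :=
(.node (nat_lit 0x1026908db0) (.node (nat_lit 0xae5ea7b82) (.node (nat_lit 0x62045014a) (.node (nat_lit 0x36a5c4102) (.node (nat_lit 0x220440112) (.node (nat_lit 0x15c475046) (.node (nat_lit 0xe3bf71c0) (.node (nat_lit 0xa1af31c0) (.node (nat_lit 0xa0af11c0) (.leaf (nat_lit 0xa02d0140) (nat_lit 2308))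
 (.node (nat_lit 0xa12d2140) (.leaf (nat_lit 0xa0af11c0) (nat_lit 2305))
 (.leaf (nat_lit 0xa12d2140) (nat_lit 2560))
)) (.node (nat_lit 0xe2bf51c0) (.node (nat_lit 0xe23d4140) (.leaf (nat_lit 0xa1af31c0) (nat_lit 2560))
 (.leaf (nat_lit 0xe23d4140) (nat_lit 2565))
) (.node (nat_lit 0xe33d6140) (.leaf (nat_lit 0xe2bf51c0) (nat_lit 2820))
 (.leaf (nat_lit 0xe33d6140) (nat_lit 2821))
))) (.node (nat_lit 0x11c471046) (.node (nat_lit 0x10c461002) (.leaf (nat_lit 0xe3bf71c0) (nat_lit 2565))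
 (.node (nat_lit 0x10f563002) (.leaf (nat_lit 0x10c461002) (nat_lit 2305))
 (.leaf (nat_lit 0x10f563002) (nat_lit 3075))
)) (.node (nat_lit 0x14c465002) (.node (nat_lit 0x11f573046) (.leaf (nat_lit 0x11c471046) (nat_lit 2049))
 (.leaf (nat_lit 0x11f573046) (nat_lit 2564))
) (.node (nat_lit 0x14f567002) (.leaf (nat_lit 0x14c465002) (nat_lit 2560))
 (.leaf (nat_lit 0x14f567002) (nat_lit 2818))
)))) (.node (nat_lit 0x1cffe7082) (.node (nat_lit 0x18efe1082) (.node (nat_lit 0x15f577046) (.leaf (nat_lit 0x15c475046) (nat_lit 2304))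
 (.node (nat_lit 0x18dee3082) (.leaf (nat_lit 0x15f577046) (nat_lit 2819))
 (.leaf (nat_lit 0x18dee3082) (nat_lit 2821))
)) (.node (nat_lit 0x1be3d0144) (.node (nat_lit 0x1bd2d2144) (.leaf (nat_lit 0x18efe1082) (nat_lit 2563))
 (.leaf (nat_lit 0x1bd2d2144) (nat_lit 2821))
) (.node (nat_lit 0x1ccee5082) (.leaf (nat_lit 0x1be3d0144) (nat_lit 2307))
 (.leaf (nat_lit 0x1ccee5082) (nat_lit 3077))
))) (.node (nat_lit 0x206dc0882) (.node (nat_lit 0x1ff3d6144) (.node (nat_lit 0x1fc2d4144) (.leaf (nat_lit 0x1cffe7082) (nat_lit 2819))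
 (.leaf (nat_lit 0x1fc2d4144) (nat_lit 2565))
) (.node (nat_lit 0x204440802) (.leaf (nat_lit 0x1ff3d6144) (nat_lit 2563))
 (.leaf (nat_lit 0x204440802) (nat_lit 2306))
)) (.node (nat_lit 0x2169c0cb4) (.node (nat_lit 0x214440c36) (.leaf (nat_lit 0x206dc0882) (nat_lit 2563))
 (.leaf (nat_lit 0x214440c36) (nat_lit 2052))
) (.node (nat_lit 0x2200c0110) (.leaf (nat_lit 0x2169c0cb4) (nat_lit 2307))
 (.leaf (nat_lit 0x2200c0110) (nat_lit 2562))
))))) (.node (nat_lit 0x2a1692152) (.node (nat_lit 0x2265c0102) (.node (nat_lit 0x2204c0102) (.node (nat_lit 0x220440902) (.leaf (nat_lit 0x220440112) (nat_lit 1028))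
 (.node (nat_lit 0x220440d32) (.leaf (nat_lit 0x220440902) (nat_lit 1538))
 (.leaf (nat_lit 0x220440d32) (nat_lit 1284))
)) (.node (nat_lit 0x220cc0982) (.node (nat_lit 0x2208c0db0) (.leaf (nat_lit 0x2204c0102) (nat_lit 3074))
 (.leaf (nat_lit 0x2208c0db0) (nat_lit 2564))
) (.node (nat_lit 0x224440102) (.leaf (nat_lit 0x220cc0982) (nat_lit 2562))
 (.leaf (nat_lit 0x224440102) (nat_lit 2564))
))) (.node (nat_lit 0x287f42882) (.node (nat_lit 0x2361c0114) (.node (nat_lit 0x234440116) (.leaf (nat_lit 0x2265c0102) (nat_lit 2820))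
 (.leaf (nat_lit 0x234440116) (nat_lit 2053))
) (.node (nat_lit 0x2856c2802) (.leaf (nat_lit 0x2361c0114) (nat_lit 2308))
 (.leaf (nat_lit 0x2856c2802) (nat_lit 2818))
)) (.node (nat_lit 0x2a0a31df0) (.node (nat_lit 0x2a0210150) (.leaf (nat_lit 0x287f42882) (nat_lit 2821))
 (.leaf (nat_lit 0x2a0210150) (nat_lit 2305))
) (.node (nat_lit 0x2a1642102) (.leaf (nat_lit 0x2a0a31df0) (nat_lit 2308))
 (.leaf (nat_lit 0x2a1642102) (nat_lit 2818))
)))) (.node (nat_lit 0x2d6b35cf4) (.node (nat_lit 0x2a1e42982) (.node (nat_lit 0x2a16b3d72) (.leaf (nat_lit 0x2a1692152) (nat_lit 1796))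
 (.node (nat_lit 0x2a16c2902) (.leaf (nat_lit 0x2a16b3d72) (nat_lit 1797))
 (.leaf (nat_lit 0x2a16c2902) (nat_lit 1794))
)) (.node (nat_lit 0x2a7742102) (.node (nat_lit 0x2a56c2102) (.leaf (nat_lit 0x2a1e42982) (nat_lit 2306))
 (.leaf (nat_lit 0x2a56c2102) (nat_lit 3075))
) (.node (nat_lit 0x2d56b7c76) (.leaf (nat_lit 0x2a7742102) (nat_lit 2821))
 (.leaf (nat_lit 0x2d56b7c76) (nat_lit 2308))
))) (.node (nat_lit 0x30bda3882) (.node (nat_lit 0x2f6314154) (.node (nat_lit 0x2f5696156) (.leaf (nat_lit 0x2d6b35cf4) (nat_lit 2309))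
 (.leaf (nat_lit 0x2f5696156) (nat_lit 2561))
) (.node (nat_lit 0x308421802) (.leaf (nat_lit 0x2f6314154) (nat_lit 2564))
 (.leaf (nat_lit 0x308421802) (nat_lit 2306))
)) (.node (nat_lit 0x31b9b3cf4) (.node (nat_lit 0x318431c76) (.leaf (nat_lit 0x30bda3882) (nat_lit 2821))
 (.leaf (nat_lit 0x318431c76) (nat_lit 2052))
) (.node (nat_lit 0x368444102) (.leaf (nat_lit 0x31b9b3cf4) (nat_lit 2565))
 (.leaf (nat_lit 0x368444102) (nat_lit 2308))
)))))) (.node (nat_lit 0x47104611c) (.node (nat_lit 0x3d9a46cb4) (.node (nat_lit 0x36dca7982) (.node (nat_lit 0x36c435d72) (.node (nat_lit 0x36c0c4110) (.leaf (nat_lit 0x36a5c4102) (nat_lit 3077))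
 (.node (nat_lit 0x36c425902) (.leaf (nat_lit 0x36c0c4110) (nat_lit 2821))
 (.leaf (nat_lit 0x36c425902) (nat_lit 1797))
)) (.node (nat_lit 0x36c4c4102) (.node (nat_lit 0x36c444112) (.leaf (nat_lit 0x36c435d72) (nat_lit 1541))
 (.leaf (nat_lit 0x36c444112) (nat_lit 1285))
) (.node (nat_lit 0x36d8b7df0) (.leaf (nat_lit 0x36c4c4102) (nat_lit 3333))
 (.leaf (nat_lit 0x36d8b7df0) (nat_lit 2821))
))) (.node (nat_lit 0x388e21882) (.node (nat_lit 0x378444116) (.leaf (nat_lit 0x36dca7982) (nat_lit 2819))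
 (.node (nat_lit 0x37a1c4114) (.leaf (nat_lit 0x378444116) (nat_lit 1796))
 (.leaf (nat_lit 0x37a1c4114) (nat_lit 2565))
)) (.node (nat_lit 0x3b8210154) (.node (nat_lit 0x38b7a3802) (.leaf (nat_lit 0x388e21882) (nat_lit 2563))
 (.leaf (nat_lit 0x38b7a3802) (nat_lit 2562))
) (.node (nat_lit 0x3bb792156) (.leaf (nat_lit 0x3b8210154) (nat_lit 2308))
 (.leaf (nat_lit 0x3bb792156) (nat_lit 2561))
)))) (.node (nat_lit 0x3ef796152) (.node (nat_lit 0x3eb7c6102) (.node (nat_lit 0x3db7c6c36) (.leaf (nat_lit 0x3d9a46cb4) (nat_lit 2052))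
 (.node (nat_lit 0x3e9646102) (.leaf (nat_lit 0x3db7c6c36) (nat_lit 2564))
 (.leaf (nat_lit 0x3e9646102) (nat_lit 2564))
)) (.node (nat_lit 0x3eef25982) (.node (nat_lit 0x3ee314150) (.leaf (nat_lit 0x3eb7c6102) (nat_lit 3076))
 (.leaf (nat_lit 0x3ee314150) (nat_lit 2561))
) (.node (nat_lit 0x3ef746102) (.leaf (nat_lit 0x3eef25982) (nat_lit 2565))
 (.leaf (nat_lit 0x3ef746102) (nat_lit 3077))
))) (.node (nat_lit 0x421042118) (.node (nat_lit 0x3ef7c6d32) (.node (nat_lit 0x3ef7a7902) (.leaf (nat_lit 0x3ef796152) (nat_lit 1795))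
 (.leaf (nat_lit 0x3ef7a7902) (nat_lit 2051))
) (.node (nat_lit 0x3efb46db0) (.leaf (nat_lit 0x3ef7c6d32) (nat_lit 1539))
 (.leaf (nat_lit 0x3efb46db0) (nat_lit 2565))
)) (.node (nat_lit 0x421063538) (.node (nat_lit 0x421052158) (.leaf (nat_lit 0x421042118) (nat_lit 1540))
 (.leaf (nat_lit 0x421052158) (nat_lit 1792))
) (.node (nat_lit 0x421073578) (.leaf (nat_lit 0x421063538) (nat_lit 1538))
 (.leaf (nat_lit 0x421073578) (nat_lit 1794))
))))) (.node (nat_lit 0x53f14211c) (.node (nat_lit 0x4a1ee35ba) (.node (nat_lit 0x47107757c) (.node (nat_lit 0x47105615c) (.leaf (nat_lit 0x47104611c) (nat_lit 1539))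
 (.node (nat_lit 0x47106753c) (.leaf (nat_lit 0x47105615c) (nat_lit 1795))
 (.leaf (nat_lit 0x47106753c) (nat_lit 1539))
)) (.node (nat_lit 0x4a0ef15fa) (.node (nat_lit 0x4a06d015a) (.leaf (nat_lit 0x47107757c) (nat_lit 1283))
 (.leaf (nat_lit 0x4a06d015a) (nat_lit 2305))
) (.node (nat_lit 0x4a16c211a) (.leaf (nat_lit 0x4a0ef15fa) (nat_lit 2049))
 (.leaf (nat_lit 0x4a16c211a) (nat_lit 2561))
))) (.node (nat_lit 0x4f3fe75be) (.node (nat_lit 0x4f2ff55fe) (.node (nat_lit 0x4f27d415e) (.leaf (nat_lit 0x4a1ee35ba) (nat_lit 2304))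
 (.leaf (nat_lit 0x4f27d415e) (nat_lit 2565))
) (.node (nat_lit 0x4f37c611e) (.leaf (nat_lit 0x4f2ff55fe) (nat_lit 2565))
 (.leaf (nat_lit 0x4f37c611e) (nat_lit 2562))
)) (.node (nat_lit 0x51c46143e) (.node (nat_lit 0x50c47147a) (.leaf (nat_lit 0x4f3fe75be) (nat_lit 2309))
 (.leaf (nat_lit 0x50c47147a) (nat_lit 1537))
) (.node (nat_lit 0x52f152158) (.leaf (nat_lit 0x51c46143e) (nat_lit 1793))
 (.leaf (nat_lit 0x52f152158) (nat_lit 2560))
)))) (.node (nat_lit 0x5ae7d015a) (.node (nat_lit 0x56f146118) (.node (nat_lit 0x54c46543a) (.leaf (nat_lit 0x53f14211c) (nat_lit 2305))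
 (.node (nat_lit 0x55c47547e) (.leaf (nat_lit 0x54c46543a) (nat_lit 1792))
 (.leaf (nat_lit 0x55c47547e) (nat_lit 2048))
)) (.node (nat_lit 0x58daf34f8) (.node (nat_lit 0x57f15615c) (.leaf (nat_lit 0x56f146118) (nat_lit 2305))
 (.leaf (nat_lit 0x57f15615c) (nat_lit 2561))
) (.node (nat_lit 0x59ebe14bc) (.leaf (nat_lit 0x58daf34f8) (nat_lit 2309))
 (.leaf (nat_lit 0x59ebe14bc) (nat_lit 2051))
))) (.node (nat_lit 0x5ef7c611a) (.node (nat_lit 0x5ccae54b8) (.node (nat_lit 0x5bd6c211e) (.leaf (nat_lit 0x5ae7d015a) (nat_lit 2307))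
 (.leaf (nat_lit 0x5bd6c211e) (nat_lit 2308))
) (.node (nat_lit 0x5dfbf74fc) (.leaf (nat_lit 0x5ccae54b8) (nat_lit 2564))
 (.leaf (nat_lit 0x5dfbf74fc) (nat_lit 2307))
)) (.node (nat_lit 0x60445085a) (.node (nat_lit 0x5fc6d415e) (.leaf (nat_lit 0x5ef7c611a) (nat_lit 2308))
 (.leaf (nat_lit 0x5fc6d415e) (nat_lit 2565))
) (.node (nat_lit 0x614450c6e) (.leaf (nat_lit 0x60445085a) (nat_lit 1796))
 (.leaf (nat_lit 0x614450c6e) (nat_lit 2050))
))))))) (.node (nat_lit 0x840454e62) (.node (nat_lit 0x71843185e) (.node (nat_lit 0x697f52cee) (.node (nat_lit 0x62445015a) (.node (nat_lit 0x621082108) (.node (nat_lit 0x62045095a) (.leaf (nat_lit 0x62045014a) (nat_lit 1284))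
 (.node (nat_lit 0x620450d6a) (.leaf (nat_lit 0x62045095a) (nat_lit 1025))
 (.leaf (nat_lit 0x620450d6a) (nat_lit 1283))
)) (.node (nat_lit 0x6218a3da8) (.node (nat_lit 0x62149215a) (.leaf (nat_lit 0x621082108) (nat_lit 2561))
 (.leaf (nat_lit 0x62149215a) (nat_lit 2052))
) (.node (nat_lit 0x621cb39da) (.leaf (nat_lit 0x6218a3da8) (nat_lit 2306))
 (.leaf (nat_lit 0x621cb39da) (nat_lit 2049))
))) (.node (nat_lit 0x6579a7cac) (.node (nat_lit 0x63445014e) (.leaf (nat_lit 0x62445015a) (nat_lit 2308))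
 (.node (nat_lit 0x647db78da) (.leaf (nat_lit 0x63445014e) (nat_lit 2308))
 (.leaf (nat_lit 0x647db78da) (nat_lit 2051))
)) (.node (nat_lit 0x67718610c) (.node (nat_lit 0x66759615a) (.leaf (nat_lit 0x6579a7cac) (nat_lit 2051))
 (.leaf (nat_lit 0x66759615a) (nat_lit 2051))
) (.node (nat_lit 0x6852d2858) (.leaf (nat_lit 0x67718610c) (nat_lit 2563))
 (.leaf (nat_lit 0x6852d2858) (nat_lit 2307))
)))) (.node (nat_lit 0x6a1e52dea) (.node (nat_lit 0x6a1282108) (.node (nat_lit 0x6a0210158) (.leaf (nat_lit 0x697f52cee) (nat_lit 2309))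
 (.node (nat_lit 0x6a0a319d8) (.leaf (nat_lit 0x6a0210158) (nat_lit 2048))
 (.leaf (nat_lit 0x6a0a319d8) (nat_lit 1792))
)) (.node (nat_lit 0x6a12d2958) (.node (nat_lit 0x6a12a3d28) (.leaf (nat_lit 0x6a1282108) (nat_lit 2304))
 (.leaf (nat_lit 0x6a12a3d28) (nat_lit 2053))
) (.node (nat_lit 0x6a165214a) (.leaf (nat_lit 0x6a12d2958) (nat_lit 2050))
 (.leaf (nat_lit 0x6a165214a) (nat_lit 2306))
))) (.node (nat_lit 0x6d52a7c2c) (.node (nat_lit 0x6b775214e) (.node (nat_lit 0x6a52d2158) (.leaf (nat_lit 0x6a1e52dea) (nat_lit 2050))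
 (.leaf (nat_lit 0x6a52d2158) (nat_lit 3075))
) (.node (nat_lit 0x6c6b358d8) (.leaf (nat_lit 0x6b775214e) (nat_lit 2309))
 (.leaf (nat_lit 0x6c6b358d8) (nat_lit 2053))
)) (.node (nat_lit 0x6f528610c) (.node (nat_lit 0x6e6314158) (.leaf (nat_lit 0x6d52a7c2c) (nat_lit 2563))
 (.leaf (nat_lit 0x6e6314158) (nat_lit 2309))
) (.node (nat_lit 0x708421c2a) (.leaf (nat_lit 0x6f528610c) (nat_lit 3072))
 (.leaf (nat_lit 0x708421c2a) (nat_lit 2048))
))))) (.node (nat_lit 0x79b3b385c) (.node (nat_lit 0x77c425d2e) (.node (nat_lit 0x74a9d4ce8) (.node (nat_lit 0x72b182108) (.leaf (nat_lit 0x71843185e) (nat_lit 1792))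
 (.node (nat_lit 0x73b59215e) (.leaf (nat_lit 0x72b182108) (nat_lit 2821))
 (.leaf (nat_lit 0x73b59215e) (nat_lit 2309))
)) (.node (nat_lit 0x76845414a) (.node (nat_lit 0x75add48de) (.leaf (nat_lit 0x74a9d4ce8) (nat_lit 2309))
 (.leaf (nat_lit 0x75add48de) (nat_lit 2309))
) (.node (nat_lit 0x77845415e) (.leaf (nat_lit 0x76845414a) (nat_lit 2052))
 (.leaf (nat_lit 0x77845415e) (nat_lit 2052))
))) (.node (nat_lit 0x77ccd49de) (.node (nat_lit 0x77c45414e) (.node (nat_lit 0x77c43595e) (.leaf (nat_lit 0x77c425d2e) (nat_lit 1541))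
 (.leaf (nat_lit 0x77c43595e) (nat_lit 1285))
) (.node (nat_lit 0x77c8d4dec) (.leaf (nat_lit 0x77c45414e) (nat_lit 1541))
 (.leaf (nat_lit 0x77c8d4dec) (nat_lit 2565))
)) (.node (nat_lit 0x77d49615e) (.node (nat_lit 0x77d08610c) (.leaf (nat_lit 0x77ccd49de) (nat_lit 2309))
 (.leaf (nat_lit 0x77d08610c) (nat_lit 2821))
) (.node (nat_lit 0x788e21caa) (.leaf (nat_lit 0x77d49615e) (nat_lit 2309))
 (.leaf (nat_lit 0x788e21caa) (nat_lit 2051))
)))) (.node (nat_lit 0x7fe31415c) (.node (nat_lit 0x7cb3d6c68) (.node (nat_lit 0x7ab382108) (.leaf (nat_lit 0x79b3b385c) (nat_lit 2565))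
 (.node (nat_lit 0x7b821015c) (.leaf (nat_lit 0x7ab382108) (nat_lit 3073))
 (.leaf (nat_lit 0x7b821015c) (nat_lit 2051))
)) (.node (nat_lit 0x7e965614a) (.node (nat_lit 0x7d9a568dc) (.leaf (nat_lit 0x7cb3d6c68) (nat_lit 2562))
 (.leaf (nat_lit 0x7d9a568dc) (nat_lit 1796))
) (.node (nat_lit 0x7fb3d615c) (.leaf (nat_lit 0x7e965614a) (nat_lit 2052))
 (.leaf (nat_lit 0x7fb3d615c) (nat_lit 3076))
))) (.node (nat_lit 0x7ff3d6d6c) (.node (nat_lit 0x7ff38610c) (.node (nat_lit 0x7fef25dae) (.leaf (nat_lit 0x7fe31415c) (nat_lit 2309))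
 (.leaf (nat_lit 0x7fef25dae) (nat_lit 2309))
) (.node (nat_lit 0x7ff3b795c) (.leaf (nat_lit 0x7ff38610c) (nat_lit 2307))
 (.leaf (nat_lit 0x7ff3b795c) (nat_lit 2051))
)) (.node (nat_lit 0x7ffb569dc) (.node (nat_lit 0x7ff75614e) (.leaf (nat_lit 0x7ff3d6d6c) (nat_lit 1795))
 (.leaf (nat_lit 0x7ff75614e) (nat_lit 2565))
) (.node (nat_lit 0x840444a02) (.leaf (nat_lit 0x7ffb569dc) (nat_lit 2053))
 (.leaf (nat_lit 0x840444a02) (nat_lit 1541))
)))))) (.node (nat_lit 0x9ecec4b82) (.node (nat_lit 0x8c3fe7a82) (.node (nat_lit 0x8a02f1f60) (.node (nat_lit 0x841c46a82) (.node (nat_lit 0x840465a02) (.leaf (nat_lit 0x840454e62) (nat_lit 1285))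
 (.node (nat_lit 0x840475e62) (.leaf (nat_lit 0x840465a02) (nat_lit 1797))
 (.leaf (nat_lit 0x840475e62) (nat_lit 1541))
)) (.node (nat_lit 0x841c67a82) (.node (nat_lit 0x841c56ee2) (.leaf (nat_lit 0x841c46a82) (nat_lit 1795))
 (.leaf (nat_lit 0x841c56ee2) (nat_lit 1795))
) (.node (nat_lit 0x841c77ee2) (.leaf (nat_lit 0x841c67a82) (nat_lit 2051))
 (.leaf (nat_lit 0x841c77ee2) (nat_lit 1539))
))) (.node (nat_lit 0x8a1af3fe0) (.node (nat_lit 0x8a0ad0fe0) (.leaf (nat_lit 0x8a02f1f60) (nat_lit 2049))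
 (.node (nat_lit 0x8a12d2f60) (.leaf (nat_lit 0x8a0ad0fe0) (nat_lit 2050))
 (.leaf (nat_lit 0x8a12d2f60) (nat_lit 2304))
)) (.node (nat_lit 0x8c2fc4a82) (.node (nat_lit 0x8c27e5a02) (.leaf (nat_lit 0x8a1af3fe0) (nat_lit 2306))
 (.leaf (nat_lit 0x8c27e5a02) (nat_lit 3077))
) (.node (nat_lit 0x8c37c6a02) (.leaf (nat_lit 0x8c2fc4a82) (nat_lit 2818))
 (.leaf (nat_lit 0x8c37c6a02) (nat_lit 2821))
)))) (.node (nat_lit 0x97c454f66) (.node (nat_lit 0x93c471f66) (.node (nat_lit 0x92c461b02) (.leaf (nat_lit 0x8c3fe7a82) (nat_lit 3073))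
 (.node (nat_lit 0x92fd63b82) (.leaf (nat_lit 0x92c461b02) (nat_lit 2305))
 (.leaf (nat_lit 0x92fd63b82) (nat_lit 2562))
)) (.node (nat_lit 0x96c444b02) (.node (nat_lit 0x93fd73fe6) (.leaf (nat_lit 0x93c471f66) (nat_lit 2049))
 (.leaf (nat_lit 0x93fd73fe6) (nat_lit 2564))
) (.node (nat_lit 0x96fd46b82) (.leaf (nat_lit 0x96c444b02) (nat_lit 2306))
 (.leaf (nat_lit 0x96fd46b82) (nat_lit 2306))
))) (.node (nat_lit 0x9adee3b82) (.node (nat_lit 0x99d2d2e64) (.node (nat_lit 0x97fd56fe6) (.leaf (nat_lit 0x97c454f66) (nat_lit 2304))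
 (.leaf (nat_lit 0x97fd56fe6) (nat_lit 2562))
) (.node (nat_lit 0x99ebd0ee4) (.leaf (nat_lit 0x99d2d2e64) (nat_lit 2565))
 (.leaf (nat_lit 0x99ebd0ee4) (nat_lit 2307))
)) (.node (nat_lit 0x9dc2f5e64) (.node (nat_lit 0x9ae7e1b02) (.leaf (nat_lit 0x9adee3b82) (nat_lit 2819))
 (.leaf (nat_lit 0x9ae7e1b02) (nat_lit 2563))
) (.node (nat_lit 0x9dfbf7ee4) (.leaf (nat_lit 0x9dc2f5e64) (nat_lit 2821))
 (.leaf (nat_lit 0x9dfbf7ee4) (nat_lit 2563))
))))) (.node (nat_lit 0xa74435b56) (.node (nat_lit 0xa208e17b0) (.node (nat_lit 0xa20461302) (.node (nat_lit 0x9ef7c6b02) (.leaf (nat_lit 0x9ecec4b82) (nat_lit 2563))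
 (.node (nat_lit 0xa200e1b10) (.leaf (nat_lit 0x9ef7c6b02) (nat_lit 2563))
 (.leaf (nat_lit 0xa200e1b10) (nat_lit 2561))
)) (.node (nat_lit 0xa20461b12) (.node (nat_lit 0xa20461732) (.leaf (nat_lit 0xa20461302) (nat_lit 1794))
 (.leaf (nat_lit 0xa20461732) (nat_lit 1027))
) (.node (nat_lit 0xa204e1b02) (.leaf (nat_lit 0xa20461b12) (nat_lit 769))
 (.leaf (nat_lit 0xa204e1b02) (nat_lit 2818))
))) (.node (nat_lit 0xa54414676) (.node (nat_lit 0xa44404202) (.node (nat_lit 0xa20ce1382) (.leaf (nat_lit 0xa208e17b0) (nat_lit 2306))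
 (.leaf (nat_lit 0xa20ce1382) (nat_lit 2818))
) (.node (nat_lit 0xa47d86282) (.leaf (nat_lit 0xa44404202) (nat_lit 2561))
 (.leaf (nat_lit 0xa47d86282) (nat_lit 2819))
)) (.node (nat_lit 0xa64425b02) (.node (nat_lit 0xa579966f4) (.leaf (nat_lit 0xa54414676) (nat_lit 2049))
 (.leaf (nat_lit 0xa579966f4) (nat_lit 1795))
) (.node (nat_lit 0xa675a7b02) (.leaf (nat_lit 0xa64425b02) (nat_lit 2049))
 (.leaf (nat_lit 0xa675a7b02) (nat_lit 2307))
)))) (.node (nat_lit 0xaa1e63b82) (.node (nat_lit 0xa97363634) (.node (nat_lit 0xa771b7b54) (.leaf (nat_lit 0xa74435b56) (nat_lit 1541))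
 (.node (nat_lit 0xa95ee36b6) (.leaf (nat_lit 0xa771b7b54) (nat_lit 2307))
 (.leaf (nat_lit 0xa95ee36b6) (nat_lit 2563))
)) (.node (nat_lit 0xaa0a31bd0) (.node (nat_lit 0xaa0210770) (.leaf (nat_lit 0xa97363634) (nat_lit 1797))
 (.leaf (nat_lit 0xaa0210770) (nat_lit 2306))
) (.node (nat_lit 0xaa1663302) (.leaf (nat_lit 0xaa0a31bd0) (nat_lit 2048))
 (.leaf (nat_lit 0xaa1663302) (nat_lit 2562))
))) (.node (nat_lit 0xab5ee3b96) (.node (nat_lit 0xaa1eb3bd2) (.node (nat_lit 0xaa1e927f2) (.leaf (nat_lit 0xaa1e63b82) (nat_lit 2562))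
 (.leaf (nat_lit 0xaa1e927f2) (nat_lit 1541))
) (.node (nat_lit 0xaa1ee3382) (.leaf (nat_lit 0xaa1eb3bd2) (nat_lit 1797))
 (.leaf (nat_lit 0xaa1ee3382) (nat_lit 2050))
)) (.node (nat_lit 0xac5e86282) (.node (nat_lit 0xab7b63b94) (.leaf (nat_lit 0xab5ee3b96) (nat_lit 2051))
 (.leaf (nat_lit 0xab7b63b94) (nat_lit 2309))
) (.node (nat_lit 0xac6704202) (.leaf (nat_lit 0xac5e86282) (nat_lit 3074))
 (.leaf (nat_lit 0xac6704202) (nat_lit 2821))
)))))))) (.node (nat_lit 0xfdfb966fc) (.node (nat_lit 0xdbe3e1b1c) (.node (nat_lit 0xbdbfe7a96) (.node (nat_lit 0xb6ade5382) (.node (nat_lit 0xb4c404202) (.node (nat_lit 0xb0b5a3a02) (.node (nat_lit 0xae6f25b82) (.leaf (nat_lit 0xae5ea7b82) (nat_lit 2563))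
 (.node (nat_lit 0xb08421a02) (.leaf (nat_lit 0xae6f25b82) (nat_lit 2309))
 (.leaf (nat_lit 0xb08421a02) (nat_lit 2048))
)) (.node (nat_lit 0xb1b1b3a54) (.node (nat_lit 0xb18431a56) (.leaf (nat_lit 0xb0b5a3a02) (nat_lit 2821))
 (.leaf (nat_lit 0xb18431a56) (nat_lit 1536))
) (.node (nat_lit 0xb4c0e5a10) (.leaf (nat_lit 0xb1b1b3a54) (nat_lit 2565))
 (.leaf (nat_lit 0xb4c0e5a10) (nat_lit 2563))
))) (.node (nat_lit 0xb4c4e5a02) (.node (nat_lit 0xb4c414672) (.leaf (nat_lit 0xb4c404202) (nat_lit 2309))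
 (.node (nat_lit 0xb4c465a12) (.leaf (nat_lit 0xb4c414672) (nat_lit 1541))
 (.leaf (nat_lit 0xb4c465a12) (nat_lit 1285))
)) (.node (nat_lit 0xb4dc86282) (.node (nat_lit 0xb4d8966f0) (.leaf (nat_lit 0xb4c4e5a02) (nat_lit 3333))
 (.leaf (nat_lit 0xb4d8966f0) (nat_lit 2307))
) (.node (nat_lit 0xb68465302) (.leaf (nat_lit 0xb4dc86282) (nat_lit 3333))
 (.leaf (nat_lit 0xb68465302) (nat_lit 2050))
)))) (.node (nat_lit 0xbce704202) (.node (nat_lit 0xb88e21a82) (.node (nat_lit 0xb78465736) (.leaf (nat_lit 0xb6ade5382) (nat_lit 2821))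
 (.node (nat_lit 0xb7a9e57b4) (.leaf (nat_lit 0xb78465736) (nat_lit 1796))
 (.leaf (nat_lit 0xb7a9e57b4) (nat_lit 2309))
)) (.node (nat_lit 0xbb8210774) (.node (nat_lit 0xb8bfa3a82) (.leaf (nat_lit 0xb88e21a82) (nat_lit 2307))
 (.leaf (nat_lit 0xb8bfa3a82) (nat_lit 2818))
) (.node (nat_lit 0xbbbf927f6) (.leaf (nat_lit 0xbb8210774) (nat_lit 1795))
 (.leaf (nat_lit 0xbbbf927f6) (nat_lit 2564))
))) (.node (nat_lit 0xbcff86282) (.node (nat_lit 0xbcf367630) (.node (nat_lit 0xbceb35ad0) (.leaf (nat_lit 0xbce704202) (nat_lit 3077))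
 (.leaf (nat_lit 0xbceb35ad0) (nat_lit 2053))
) (.node (nat_lit 0xbcff67a82) (.leaf (nat_lit 0xbcf367630) (nat_lit 2309))
 (.leaf (nat_lit 0xbcff67a82) (nat_lit 3077))
)) (.node (nat_lit 0xbcffe76b2) (.node (nat_lit 0xbcffb7ad2) (.leaf (nat_lit 0xbcff86282) (nat_lit 2563))
 (.leaf (nat_lit 0xbcffb7ad2) (nat_lit 1795))
) (.node (nat_lit 0xbd9a67a94) (.leaf (nat_lit 0xbcffe76b2) (nat_lit 1539))
 (.leaf (nat_lit 0xbd9a67a94) (nat_lit 1793))
))))) (.node (nat_lit 0xcd23e5a1c) (.node (nat_lit 0xc50444e3e) (.node (nat_lit 0xc21842fb8) (.node (nat_lit 0xbe9667302) (.leaf (nat_lit 0xbdbfe7a96) (nat_lit 2565))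
 (.node (nat_lit 0xbebfe7382) (.leaf (nat_lit 0xbe9667302) (nat_lit 2307))
 (.leaf (nat_lit 0xbebfe7382) (nat_lit 2820))
)) (.node (nat_lit 0xc21863b98) (.node (nat_lit 0xc21852bd8) (.leaf (nat_lit 0xc21842fb8) (nat_lit 1541))
 (.leaf (nat_lit 0xc21852bd8) (nat_lit 1541))
) (.node (nat_lit 0xc21873ff8) (.leaf (nat_lit 0xc21863b98) (nat_lit 1285))
 (.leaf (nat_lit 0xc21873ff8) (nat_lit 1797))
))) (.node (nat_lit 0xca06f1f7a) (.node (nat_lit 0xc50465a1e) (.node (nat_lit 0xc50454a5e) (.leaf (nat_lit 0xc50444e3e) (nat_lit 1285))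
 (.leaf (nat_lit 0xc50454a5e) (nat_lit 1029))
) (.node (nat_lit 0xc50475e7e) (.leaf (nat_lit 0xc50465a1e) (nat_lit 1285))
 (.leaf (nat_lit 0xc50475e7e) (nat_lit 1541))
)) (.node (nat_lit 0xca16c2f3a) (.node (nat_lit 0xca0ed0bda) (.leaf (nat_lit 0xca06f1f7a) (nat_lit 2305))
 (.leaf (nat_lit 0xca0ed0bda) (nat_lit 2305))
) (.node (nat_lit 0xca1ee3b9a) (.leaf (nat_lit 0xca16c2f3a) (nat_lit 2564))
 (.leaf (nat_lit 0xca1ee3b9a) (nat_lit 2560))
)))) (.node (nat_lit 0xd3c461b1e) (.node (nat_lit 0xcd3bf7efc) (.node (nat_lit 0xcd2bc4ebc) (.leaf (nat_lit 0xcd23e5a1c) (nat_lit 2563))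
 (.node (nat_lit 0xcd33d6a5c) (.leaf (nat_lit 0xcd2bc4ebc) (nat_lit 2820))
 (.leaf (nat_lit 0xcd33d6a5c) (nat_lit 2821))
)) (.node (nat_lit 0xd1f942ebc) (.node (nat_lit 0xd0f952ad8) (.leaf (nat_lit 0xcd3bf7efc) (nat_lit 2819))
 (.leaf (nat_lit 0xd0f952ad8) (nat_lit 2308))
) (.node (nat_lit 0xd2c471f7a) (.leaf (nat_lit 0xd1f942ebc) (nat_lit 2052))
 (.leaf (nat_lit 0xd2c471f7a) (nat_lit 2049))
))) (.node (nat_lit 0xd7c454b5e) (.node (nat_lit 0xd5f977efc) (.node (nat_lit 0xd4f967a98) (.leaf (nat_lit 0xd3c461b1e) (nat_lit 1793))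
 (.leaf (nat_lit 0xd4f967a98) (nat_lit 2308))
) (.node (nat_lit 0xd6c444f3a) (.leaf (nat_lit 0xd5f977efc) (nat_lit 2304))
 (.leaf (nat_lit 0xd6c444f3a) (nat_lit 2052))
)) (.node (nat_lit 0xd9d6c2e3e) (.node (nat_lit 0xd8efd0ada) (.leaf (nat_lit 0xd7c454b5e) (nat_lit 2049))
 (.leaf (nat_lit 0xd8efd0ada) (nat_lit 1795))
) (.node (nat_lit 0xdadaf3ff8) (.leaf (nat_lit 0xd9d6c2e3e) (nat_lit 2565))
 (.leaf (nat_lit 0xdadaf3ff8) (nat_lit 2819))
)))))) (.node (nat_lit 0xea7b73ff8) (.node (nat_lit 0xe265f1f7a) (.node (nat_lit 0xe2047134a) (.node (nat_lit 0xdecac4fb8) (.node (nat_lit 0xdcffe7a9a) (.leaf (nat_lit 0xdbe3e1b1c) (nat_lit 2051))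
 (.node (nat_lit 0xddc6f5e7e) (.leaf (nat_lit 0xdcffe7a9a) (nat_lit 2051))
 (.leaf (nat_lit 0xddc6f5e7e) (nat_lit 2821))
)) (.node (nat_lit 0xe06df16fa) (.node (nat_lit 0xdff3d6b5c) (.leaf (nat_lit 0xdecac4fb8) (nat_lit 2563))
 (.leaf (nat_lit 0xdff3d6b5c) (nat_lit 2307))
) (.node (nat_lit 0xe169f12cc) (.leaf (nat_lit 0xe06df16fa) (nat_lit 2052))
 (.leaf (nat_lit 0xe169f12cc) (nat_lit 2564))
))) (.node (nat_lit 0xe210a3f28) (.node (nat_lit 0xe2047177a) (.leaf (nat_lit 0xe2047134a) (nat_lit 1540))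
 (.node (nat_lit 0xe20471f6a) (.leaf (nat_lit 0xe2047177a) (nat_lit 1282))
 (.leaf (nat_lit 0xe20471f6a) (nat_lit 1025))
)) (.node (nat_lit 0xe21882388) (.node (nat_lit 0xe214b3f7a) (.leaf (nat_lit 0xe210a3f28) (nat_lit 2305))
 (.leaf (nat_lit 0xe214b3f7a) (nat_lit 2049))
) (.node (nat_lit 0xe21c927fa) (.leaf (nat_lit 0xe21882388) (nat_lit 2561))
 (.leaf (nat_lit 0xe21c927fa) (nat_lit 1793))
)))) (.node (nat_lit 0xe95af32cc) (.node (nat_lit 0xe5440420e) (.node (nat_lit 0xe361f1f6c) (.leaf (nat_lit 0xe265f1f7a) (nat_lit 2564))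
 (.node (nat_lit 0xe4441467a) (.leaf (nat_lit 0xe361f1f6c) (nat_lit 2305))
 (.leaf (nat_lit 0xe4441467a) (nat_lit 1793))
)) (.node (nat_lit 0xe74425f2e) (.node (nat_lit 0xe64435f7a) (.leaf (nat_lit 0xe5440420e) (nat_lit 2305))
 (.leaf (nat_lit 0xe64435f7a) (nat_lit 1793))
) (.node (nat_lit 0xe87373678) (.leaf (nat_lit 0xe74425f2e) (nat_lit 1793))
 (.leaf (nat_lit 0xe87373678) (nat_lit 2053))
))) (.node (nat_lit 0xea1a82388) (.node (nat_lit 0xea0a31ff8) (.node (nat_lit 0xea0210778) (.leaf (nat_lit 0xe95af32cc) (nat_lit 2563))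
 (.leaf (nat_lit 0xea0210778) (nat_lit 2050))
) (.node (nat_lit 0xea167334a) (.leaf (nat_lit 0xea0a31ff8) (nat_lit 2048))
 (.leaf (nat_lit 0xea167334a) (nat_lit 2308))
)) (.node (nat_lit 0xea1af37f8) (.node (nat_lit 0xea1aa3fa8) (.leaf (nat_lit 0xea1a82388) (nat_lit 2309))
 (.leaf (nat_lit 0xea1aa3fa8) (nat_lit 2050))
) (.node (nat_lit 0xea1e73fea) (.leaf (nat_lit 0xea1af37f8) (nat_lit 1794))
 (.leaf (nat_lit 0xea1e73fea) (nat_lit 2049))
))))) (.node (nat_lit 0xf5c8f52cc) (.node (nat_lit 0xf18431e7e) (.node (nat_lit 0xed670420e) (.node (nat_lit 0xeb5af3fec) (.leaf (nat_lit 0xea7b73ff8) (nat_lit 2821))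
 (.node (nat_lit 0xec5a966f8) (.leaf (nat_lit 0xeb5af3fec) (nat_lit 2563))
 (.leaf (nat_lit 0xec5a966f8) (nat_lit 2307))
)) (.node (nat_lit 0xef6f25fae) (.node (nat_lit 0xee5ab7ff8) (.leaf (nat_lit 0xed670420e) (nat_lit 2821))
 (.leaf (nat_lit 0xee5ab7ff8) (nat_lit 2563))
) (.node (nat_lit 0xf08421e2a) (.leaf (nat_lit 0xef6f25fae) (nat_lit 2309))
 (.leaf (nat_lit 0xf08421e2a) (nat_lit 1792))
))) (.node (nat_lit 0xf5a5f5e7e) (.node (nat_lit 0xf3bd927fe) (.node (nat_lit 0xf2b982388) (.leaf (nat_lit 0xf18431e7e) (nat_lit 1792))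
 (.leaf (nat_lit 0xf2b982388) (nat_lit 3077))
) (.node (nat_lit 0xf4a1f5e68) (.leaf (nat_lit 0xf3bd927fe) (nat_lit 2309))
 (.leaf (nat_lit 0xf4a1f5e68) (nat_lit 2565))
)) (.node (nat_lit 0xf5c41467e) (.node (nat_lit 0xf5c40420e) (.leaf (nat_lit 0xf5a5f5e7e) (nat_lit 3077))
 (.leaf (nat_lit 0xf5c40420e) (nat_lit 2053))
) (.node (nat_lit 0xf5c475e6e) (.leaf (nat_lit 0xf5c41467e) (nat_lit 1797))
 (.leaf (nat_lit 0xf5c475e6e) (nat_lit 1541))
)))) (.node (nat_lit 0xf9bbb3efc) (.node (nat_lit 0xf5d4b7e7e) (.node (nat_lit 0xf5ccf56fe) (.leaf (nat_lit 0xf5c8f52cc) (nat_lit 2819))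
 (.node (nat_lit 0xf5d0a7e2c) (.leaf (nat_lit 0xf5ccf56fe) (nat_lit 2309))
 (.leaf (nat_lit 0xf5d0a7e2c) (nat_lit 2563))
)) (.node (nat_lit 0xf7847577e) (.node (nat_lit 0xf6847534a) (.leaf (nat_lit 0xf5d4b7e7e) (nat_lit 2564))
 (.leaf (nat_lit 0xf6847534a) (nat_lit 1796))
) (.node (nat_lit 0xf88e21eaa) (.leaf (nat_lit 0xf7847577e) (nat_lit 1540))
 (.leaf (nat_lit 0xf88e21eaa) (nat_lit 2307))
))) (.node (nat_lit 0xfd9a77efc) (.node (nat_lit 0xfb821077c) (.node (nat_lit 0xfabb82388) (.leaf (nat_lit 0xf9bbb3efc) (nat_lit 2563))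
 (.leaf (nat_lit 0xfabb82388) (nat_lit 2816))
) (.node (nat_lit 0xfcbbf7ee8) (.leaf (nat_lit 0xfb821077c) (nat_lit 2051))
 (.leaf (nat_lit 0xfcbbf7ee8) (nat_lit 2306))
)) (.node (nat_lit 0xfdeb35efc) (.node (nat_lit 0xfde70420e) (.leaf (nat_lit 0xfd9a77efc) (nat_lit 2308))
 (.leaf (nat_lit 0xfde70420e) (nat_lit 2821))
) (.node (nat_lit 0xfdf37767c) (.leaf (nat_lit 0xfdeb35efc) (nat_lit 2053))
 (.leaf (nat_lit 0xfdf37767c) (nat_lit 2053))
))))))) (.node (nat_lit 0x1020448902) (.node (nat_lit 0x1012d88896) (.node (nat_lit 0x1004488802) (.node (nat_lit 0x1002988ca0) (.node (nat_lit 0xfdff77eee) (.node (nat_lit 0xfdfba7eac) (.leaf (nat_lit 0xfdfb966fc) (nat_lit 1539))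
 (.node (nat_lit 0xfdfbf72cc) (.leaf (nat_lit 0xfdfba7eac) (nat_lit 1795))
 (.leaf (nat_lit 0xfdfbf72cc) (nat_lit 1795))
)) (.node (nat_lit 0xffbbf77fc) (.node (nat_lit 0xfe967734a) (.leaf (nat_lit 0xfdff77eee) (nat_lit 2565))
 (.leaf (nat_lit 0xfe967734a) (nat_lit 2308))
) (.node (nat_lit 0x1002188c20) (.leaf (nat_lit 0xffbbf77fc) (nat_lit 2563))
 (.leaf (nat_lit 0x1002188c20) (nat_lit 2564))
))) (.node (nat_lit 0x1004088810) (.node (nat_lit 0x10031abc20) (.leaf (nat_lit 0x1002988ca0) (nat_lit 2820))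
 (.node (nat_lit 0x10039abca0) (.leaf (nat_lit 0x10031abc20) (nat_lit 2564))
 (.leaf (nat_lit 0x10039abca0) (nat_lit 2561))
)) (.node (nat_lit 0x1004448802) (.node (nat_lit 0x1004408812) (.leaf (nat_lit 0x1004088810) (nat_lit 2818))
 (.leaf (nat_lit 0x1004408812) (nat_lit 1284))
) (.node (nat_lit 0x1004458852) (.leaf (nat_lit 0x1004448802) (nat_lit 2050))
 (.leaf (nat_lit 0x1004458852) (nat_lit 1540))
)))) (.node (nat_lit 0x1006df94f2) (.node (nat_lit 0x1006108430) (.node (nat_lit 0x10050da850) (.leaf (nat_lit 0x1004488802) (nat_lit 3074))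
 (.node (nat_lit 0x10054ca802) (.leaf (nat_lit 0x10050da850) (nat_lit 2563))
 (.leaf (nat_lit 0x10054ca802) (nat_lit 2818))
)) (.node (nat_lit 0x1006d884b2) (.node (nat_lit 0x1006d08882) (.leaf (nat_lit 0x1006108430) (nat_lit 2820))
 (.leaf (nat_lit 0x1006d08882) (nat_lit 2818))
) (.node (nat_lit 0x1006dc8882) (.leaf (nat_lit 0x1006d884b2) (nat_lit 1540))
 (.leaf (nat_lit 0x1006dc8882) (nat_lit 2307))
))) (.node (nat_lit 0x1010808cb4) (.node (nat_lit 0x1007d4a882) (.node (nat_lit 0x100717b470) (.leaf (nat_lit 0x1006df94f2) (nat_lit 1796))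
 (.leaf (nat_lit 0x100717b470) (nat_lit 2305))
) (.node (nat_lit 0x1010808894) (.leaf (nat_lit 0x1007d4a882) (nat_lit 2818))
 (.leaf (nat_lit 0x1010808894) (nat_lit 1284))
)) (.node (nat_lit 0x1010839cf4) (.node (nat_lit 0x10108398d4) (.leaf (nat_lit 0x1010808cb4) (nat_lit 1796))
 (.leaf (nat_lit 0x10108398d4) (nat_lit 1539))
) (.node (nat_lit 0x1012588c36) (.leaf (nat_lit 0x1010839cf4) (nat_lit 1540))
 (.leaf (nat_lit 0x1012588c36) (nat_lit 2820))
))))) (.node (nat_lit 0x101716b434) (.node (nat_lit 0x1014c884b6) (.node (nat_lit 0x1014408c26) (.node (nat_lit 0x10135bbc76) (.leaf (nat_lit 0x1012d88896) (nat_lit 2819))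
 (.node (nat_lit 0x1013dbb8d6) (.leaf (nat_lit 0x10135bbc76) (nat_lit 2820))
 (.leaf (nat_lit 0x1013dbb8d6) (nat_lit 2821))
)) (.node (nat_lit 0x1014458c66) (.node (nat_lit 0x1014448c36) (.leaf (nat_lit 0x1014408c26) (nat_lit 1540))
 (.leaf (nat_lit 0x1014448c36) (nat_lit 1796))
) (.node (nat_lit 0x1014888084) (.leaf (nat_lit 0x1014458c66) (nat_lit 1794))
 (.leaf (nat_lit 0x1014888084) (nat_lit 3076))
))) (.node (nat_lit 0x1016988084) (.node (nat_lit 0x1015ceb4b6) (.node (nat_lit 0x10158fb0c4) (.leaf (nat_lit 0x1014c884b6) (nat_lit 2308))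
 (.leaf (nat_lit 0x10158fb0c4) (nat_lit 2820))
) (.node (nat_lit 0x1016108434) (.leaf (nat_lit 0x1015ceb4b6) (nat_lit 2564))
 (.leaf (nat_lit 0x1016108434) (nat_lit 2564))
)) (.node (nat_lit 0x10169f90c4) (.node (nat_lit 0x10169c8cb4) (.leaf (nat_lit 0x1016988084) (nat_lit 2308))
 (.leaf (nat_lit 0x10169c8cb4) (nat_lit 2052))
) (.node (nat_lit 0x1016d08ca6) (.leaf (nat_lit 0x10169f90c4) (nat_lit 2308))
 (.leaf (nat_lit 0x1016d08ca6) (nat_lit 2306))
)))) (.node (nat_lit 0x1020408d22) (.node (nat_lit 0x10200c8110) (.node (nat_lit 0x1017d5ace6) (.leaf (nat_lit 0x101716b434) (nat_lit 2049))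
 (.node (nat_lit 0x1020088910) (.leaf (nat_lit 0x1017d5ace6) (nat_lit 2561))
 (.leaf (nat_lit 0x1020088910) (nat_lit 2050))
)) (.node (nat_lit 0x1020408532) (.node (nat_lit 0x10200e9910) (.leaf (nat_lit 0x10200c8110) (nat_lit 2306))
 (.leaf (nat_lit 0x10200e9910) (nat_lit 2309))
) (.node (nat_lit 0x1020408912) (.leaf (nat_lit 0x1020408532) (nat_lit 0))
 (.leaf (nat_lit 0x1020408912) (nat_lit 259))
))) (.node (nat_lit 0x1020429d22) (.node (nat_lit 0x1020418572) (.node (nat_lit 0x1020418152) (.leaf (nat_lit 0x1020408d22) (nat_lit 514))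
 (.leaf (nat_lit 0x1020418152) (nat_lit 516))
) (.node (nat_lit 0x1020429902) (.leaf (nat_lit 0x1020418572) (nat_lit 261))
 (.leaf (nat_lit 0x1020429902) (nat_lit 1026))
)) (.node (nat_lit 0x1020439d72) (.node (nat_lit 0x1020439952) (.leaf (nat_lit 0x1020429d22) (nat_lit 770))
 (.leaf (nat_lit 0x1020439952) (nat_lit 515))
) (.node (nat_lit 0x1020448112) (.leaf (nat_lit 0x1020439d72) (nat_lit 772))
 (.leaf (nat_lit 0x1020448112) (nat_lit 772))
)))))) (.node (nat_lit 0x102146b102) (.node (nat_lit 0x10208885b0) (.node (nat_lit 0x1020469912) (.node (nat_lit 0x1020458952) (.node (nat_lit 0x1020448d32) (.leaf (nat_lit 0x1020448902) (nat_lit 1282))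
 (.node (nat_lit 0x1020458142) (.leaf (nat_lit 0x1020448d32) (nat_lit 1028))
 (.leaf (nat_lit 0x1020458142) (nat_lit 1028))
)) (.node (nat_lit 0x1020469102) (.node (nat_lit 0x1020458d62) (.leaf (nat_lit 0x1020458952) (nat_lit 773))
 (.leaf (nat_lit 0x1020458d62) (nat_lit 1027))
) (.node (nat_lit 0x1020469532) (.leaf (nat_lit 0x1020469102) (nat_lit 1538))
 (.leaf (nat_lit 0x1020469532) (nat_lit 771))
))) (.node (nat_lit 0x1020479d62) (.node (nat_lit 0x1020479142) (.leaf (nat_lit 0x1020469912) (nat_lit 517))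
 (.node (nat_lit 0x1020479572) (.leaf (nat_lit 0x1020479142) (nat_lit 1284))
 (.leaf (nat_lit 0x1020479572) (nat_lit 1026))
)) (.node (nat_lit 0x10204c8102) (.node (nat_lit 0x1020488902) (.leaf (nat_lit 0x1020479d62) (nat_lit 773))
 (.leaf (nat_lit 0x1020488902) (nat_lit 2306))
) (.node (nat_lit 0x10204e9902) (.leaf (nat_lit 0x10204c8102) (nat_lit 2818))
 (.leaf (nat_lit 0x10204e9902) (nat_lit 2562))
)))) (.node (nat_lit 0x1020c88182) (.node (nat_lit 0x1020c08982) (.node (nat_lit 0x10208c8db0) (.leaf (nat_lit 0x10208885b0) (nat_lit 1794))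
 (.node (nat_lit 0x10208e95b0) (.leaf (nat_lit 0x10208c8db0) (nat_lit 2308))
 (.leaf (nat_lit 0x10208e95b0) (nat_lit 2050))
)) (.node (nat_lit 0x1020c29982) (.node (nat_lit 0x1020c08da2) (.leaf (nat_lit 0x1020c08982) (nat_lit 2050))
 (.leaf (nat_lit 0x1020c08da2) (nat_lit 1538))
) (.node (nat_lit 0x1020c29da2) (.leaf (nat_lit 0x1020c29982) (nat_lit 1794))
 (.leaf (nat_lit 0x1020c29da2) (nat_lit 1794))
))) (.node (nat_lit 0x10210bb950) (.node (nat_lit 0x1020ce9182) (.node (nat_lit 0x1020cc8982) (.leaf (nat_lit 0x1020c88182) (nat_lit 2562))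
 (.leaf (nat_lit 0x1020cc8982) (nat_lit 2306))
) (.node (nat_lit 0x102109a150) (.leaf (nat_lit 0x1020ce9182) (nat_lit 2562))
 (.leaf (nat_lit 0x102109a150) (nat_lit 2050))
)) (.node (nat_lit 0x102144a102) (.node (nat_lit 0x10210da950) (.leaf (nat_lit 0x10210bb950) (nat_lit 2306))
 (.leaf (nat_lit 0x10210da950) (nat_lit 2306))
) (.node (nat_lit 0x102145a142) (.leaf (nat_lit 0x102144a102) (nat_lit 2562))
 (.leaf (nat_lit 0x102145a142) (nat_lit 2050))
))))) (.node (nat_lit 0x1022588102) (.node (nat_lit 0x10218fb5f0) (.node (nat_lit 0x10214ab902) (.node (nat_lit 0x102147b142) (.leaf (nat_lit 0x102146b102) (nat_lit 2306))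
 (.node (nat_lit 0x102148a102) (.leaf (nat_lit 0x102147b142) (nat_lit 2052))
 (.leaf (nat_lit 0x102148a102) (nat_lit 3074))
)) (.node (nat_lit 0x102189a5f0) (.node (nat_lit 0x10214ca902) (.leaf (nat_lit 0x10214ab902) (nat_lit 2306))
 (.leaf (nat_lit 0x10214ca902) (nat_lit 2050))
) (.node (nat_lit 0x10218bbdf0) (.leaf (nat_lit 0x102189a5f0) (nat_lit 2053))
 (.leaf (nat_lit 0x10218bbdf0) (nat_lit 2307))
))) (.node (nat_lit 0x1021c7bde2) (.node (nat_lit 0x1021c5ade2) (.node (nat_lit 0x1021c4a982) (.leaf (nat_lit 0x10218fb5f0) (nat_lit 2050))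
 (.leaf (nat_lit 0x1021c4a982) (nat_lit 2050))
) (.node (nat_lit 0x1021c6b982) (.leaf (nat_lit 0x1021c5ade2) (nat_lit 1794))
 (.leaf (nat_lit 0x1021c6b982) (nat_lit 2306))
)) (.node (nat_lit 0x1021cab982) (.node (nat_lit 0x1021c8a182) (.leaf (nat_lit 0x1021c7bde2) (nat_lit 1797))
 (.leaf (nat_lit 0x1021c8a182) (nat_lit 2818))
) (.node (nat_lit 0x1021ceb182) (.leaf (nat_lit 0x1021cab982) (nat_lit 2562))
 (.leaf (nat_lit 0x1021ceb182) (nat_lit 2306))
)))) (.node (nat_lit 0x1024458152) (.node (nat_lit 0x1023d8a182) (.node (nat_lit 0x1022d88182) (.leaf (nat_lit 0x1022588102) (nat_lit 4100))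
 (.node (nat_lit 0x102358a102) (.leaf (nat_lit 0x1022d88182) (nat_lit 3330))
 (.leaf (nat_lit 0x102358a102) (nat_lit 3842))
)) (.node (nat_lit 0x1024408112) (.node (nat_lit 0x1024088110) (.leaf (nat_lit 0x1023d8a182) (nat_lit 3330))
 (.leaf (nat_lit 0x1024088110) (nat_lit 2820))
) (.node (nat_lit 0x1024448102) (.leaf (nat_lit 0x1024408112) (nat_lit 1796))
 (.leaf (nat_lit 0x1024448102) (nat_lit 2308))
))) (.node (nat_lit 0x1026508102) (.node (nat_lit 0x10250da150) (.node (nat_lit 0x1024488102) (.leaf (nat_lit 0x1024458152) (nat_lit 2052))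
 (.leaf (nat_lit 0x1024488102) (nat_lit 3844))
) (.node (nat_lit 0x10254ca102) (.leaf (nat_lit 0x10250da150) (nat_lit 2820))
 (.leaf (nat_lit 0x10254ca102) (nat_lit 3332))
)) (.node (nat_lit 0x10265c8102) (.node (nat_lit 0x1026588d32) (.leaf (nat_lit 0x1026508102) (nat_lit 3588))
 (.leaf (nat_lit 0x1026588d32) (nat_lit 2052))
) (.node (nat_lit 0x10265f9d72) (.leaf (nat_lit 0x10265c8102) (nat_lit 2564))
 (.leaf (nat_lit 0x10265f9d72) (nat_lit 2308))
))))))))) (.node (nat_lit 0x16218fbde8) (.node (nat_lit 0x10a2f88182) (.node (nat_lit 0x1056d2dca6) (.node (nat_lit 0x10440ed810) (.node (nat_lit 0x1034888da4) (.node (nat_lit 0x1032188114) (.node (nat_lit 0x1030408116) (.node (nat_lit 0x102754a102) (.leaf (nat_lit 0x1026908db0) (nat_lit 2564))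
 (.node (nat_lit 0x102797bdf0) (.leaf (nat_lit 0x102754a102) (nat_lit 3076))
 (.leaf (nat_lit 0x102797bdf0) (nat_lit 2564))
)) (.node (nat_lit 0x1030418156) (.node (nat_lit 0x1030408536) (.leaf (nat_lit 0x1030408116) (nat_lit 1540))
 (.leaf (nat_lit 0x1030408536) (nat_lit 1028))
) (.node (nat_lit 0x1030418576) (.leaf (nat_lit 0x1030418156) (nat_lit 1284))
 (.leaf (nat_lit 0x1030418576) (nat_lit 1281))
))) (.node (nat_lit 0x103399a5f4) (.node (nat_lit 0x10329885b4) (.leaf (nat_lit 0x1032188114) (nat_lit 3076))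
 (.node (nat_lit 0x103319a154) (.leaf (nat_lit 0x10329885b4) (nat_lit 2562))
 (.leaf (nat_lit 0x103319a154) (nat_lit 2818))
)) (.node (nat_lit 0x1034448116) (.node (nat_lit 0x1034408106) (.leaf (nat_lit 0x103399a5f4) (nat_lit 2818))
 (.leaf (nat_lit 0x1034408106) (nat_lit 2052))
) (.node (nat_lit 0x1034458146) (.leaf (nat_lit 0x1034448116) (nat_lit 1796))
 (.leaf (nat_lit 0x1034458146) (nat_lit 2052))
)))) (.node (nat_lit 0x1036508106) (.node (nat_lit 0x1035ceb996) (.node (nat_lit 0x1034c88996) (.leaf (nat_lit 0x1034888da4) (nat_lit 2563))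
 (.node (nat_lit 0x10358fbde4) (.leaf (nat_lit 0x1034c88996) (nat_lit 2565))
 (.leaf (nat_lit 0x10358fbde4) (nat_lit 2819))
)) (.node (nat_lit 0x10361c8114) (.node (nat_lit 0x1036188d24) (.leaf (nat_lit 0x1035ceb996) (nat_lit 2307))
 (.leaf (nat_lit 0x1036188d24) (nat_lit 1796))
) (.node (nat_lit 0x10361f9d64) (.leaf (nat_lit 0x10361c8114) (nat_lit 2052))
 (.leaf (nat_lit 0x10361f9d64) (nat_lit 2053))
))) (.node (nat_lit 0x10421fdc60) (.node (nat_lit 0x103755a146) (.node (nat_lit 0x1036908994) (.leaf (nat_lit 0x1036508106) (nat_lit 3076))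
 (.leaf (nat_lit 0x1036908994) (nat_lit 2052))
) (.node (nat_lit 0x103796b994) (.leaf (nat_lit 0x103755a146) (nat_lit 2561))
 (.leaf (nat_lit 0x103796b994) (nat_lit 2308))
)) (.node (nat_lit 0x10431dec60) (.node (nat_lit 0x10429dcce0) (.leaf (nat_lit 0x10421fdc60) (nat_lit 2820))
 (.leaf (nat_lit 0x10429dcce0) (nat_lit 2561))
) (.node (nat_lit 0x10439ffce0) (.leaf (nat_lit 0x10431dec60) (nat_lit 2820))
 (.leaf (nat_lit 0x10439ffce0) (nat_lit 2562))
))))) (.node (nat_lit 0x105185e8d4) (.node (nat_lit 0x104611c470) (.node (nat_lit 0x104446d812) (.node (nat_lit 0x104442d802) (.leaf (nat_lit 0x10440ed810) (nat_lit 2819))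
 (.node (nat_lit 0x104443d852) (.leaf (nat_lit 0x104442d802) (nat_lit 1794))
 (.leaf (nat_lit 0x104443d852) (nat_lit 1796))
)) (.node (nat_lit 0x10450bf850) (.node (nat_lit 0x10444ed802) (.leaf (nat_lit 0x104446d812) (nat_lit 1537))
 (.leaf (nat_lit 0x10444ed802) (nat_lit 3074))
) (.node (nat_lit 0x10454af802) (.leaf (nat_lit 0x10450bf850) (nat_lit 2817))
 (.leaf (nat_lit 0x10454af802) (nat_lit 2819))
))) (.node (nat_lit 0x1047d9e4f2) (.node (nat_lit 0x104716f430) (.node (nat_lit 0x1046d2d882) (.leaf (nat_lit 0x104611c470) (nat_lit 2820))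
 (.leaf (nat_lit 0x1046d2d882) (nat_lit 2562))
) (.node (nat_lit 0x1047d6f882) (.leaf (nat_lit 0x104716f430) (nat_lit 2561))
 (.leaf (nat_lit 0x1047d6f882) (nat_lit 2818))
)) (.node (nat_lit 0x1047def4b2) (.node (nat_lit 0x1047daf882) (.leaf (nat_lit 0x1047d9e4f2) (nat_lit 1797))
 (.leaf (nat_lit 0x1047daf882) (nat_lit 2051))
) (.node (nat_lit 0x105184ecb4) (.leaf (nat_lit 0x1047def4b2) (nat_lit 1795))
 (.leaf (nat_lit 0x105184ecb4) (nat_lit 1796))
)))) (.node (nat_lit 0x105442dc26) (.node (nat_lit 0x10525fdc76) (.node (nat_lit 0x105186f894) (.leaf (nat_lit 0x105185e8d4) (nat_lit 1540))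
 (.node (nat_lit 0x105187fcf4) (.leaf (nat_lit 0x105186f894) (nat_lit 1541))
 (.leaf (nat_lit 0x105187fcf4) (nat_lit 2052))
)) (.node (nat_lit 0x10535cec36) (.node (nat_lit 0x1052ddc8d6) (.leaf (nat_lit 0x10525fdc76) (nat_lit 2820))
 (.leaf (nat_lit 0x1052ddc8d6) (nat_lit 2561))
) (.node (nat_lit 0x1053def896) (.leaf (nat_lit 0x10535cec36) (nat_lit 2564))
 (.leaf (nat_lit 0x1053def896) (nat_lit 2817))
))) (.node (nat_lit 0x1054cfd4f6) (.node (nat_lit 0x105447dc66) (.node (nat_lit 0x105443dc76) (.leaf (nat_lit 0x105442dc26) (nat_lit 1796))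
 (.leaf (nat_lit 0x105443dc76) (nat_lit 1540))
) (.node (nat_lit 0x10548fd0c4) (.leaf (nat_lit 0x105447dc66) (nat_lit 1793))
 (.leaf (nat_lit 0x10548fd0c4) (nat_lit 2820))
)) (.node (nat_lit 0x1055c9e4f6) (.node (nat_lit 0x105588e084) (.leaf (nat_lit 0x1054cfd4f6) (nat_lit 2564))
 (.leaf (nat_lit 0x105588e084) (nat_lit 3076))
) (.node (nat_lit 0x105611c474) (.leaf (nat_lit 0x1055c9e4f6) (nat_lit 2564))
 (.leaf (nat_lit 0x105611c474) (nat_lit 2563))
)))))) (.node (nat_lit 0x10675bfd72) (.node (nat_lit 0x10625cc102) (.node (nat_lit 0x106045c142) (.node (nat_lit 0x10579bfcf4) (.node (nat_lit 0x105717f474) (.leaf (nat_lit 0x1056d2dca6) (nat_lit 2564))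
 (.node (nat_lit 0x105798e084) (.leaf (nat_lit 0x105717f474) (nat_lit 2305))
 (.leaf (nat_lit 0x105798e084) (nat_lit 2564))
)) (.node (nat_lit 0x1057d7fce6) (.node (nat_lit 0x10579ff0c4) (.leaf (nat_lit 0x10579bfcf4) (nat_lit 2308))
 (.leaf (nat_lit 0x10579ff0c4) (nat_lit 2052))
) (.node (nat_lit 0x106044c102) (.leaf (nat_lit 0x1057d7fce6) (nat_lit 2562))
 (.leaf (nat_lit 0x106044c102) (nat_lit 2052))
))) (.node (nat_lit 0x106144e102) (.node (nat_lit 0x106046d102) (.leaf (nat_lit 0x106045c142) (nat_lit 1796))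
 (.node (nat_lit 0x106047d142) (.leaf (nat_lit 0x106046d102) (nat_lit 1794))
 (.leaf (nat_lit 0x106047d142) (nat_lit 1540))
)) (.node (nat_lit 0x106146f102) (.node (nat_lit 0x106145e142) (.leaf (nat_lit 0x106144e102) (nat_lit 2308))
 (.leaf (nat_lit 0x106145e142) (nat_lit 1796))
) (.node (nat_lit 0x106147f142) (.leaf (nat_lit 0x106146f102) (nat_lit 2051))
 (.leaf (nat_lit 0x106147f142) (nat_lit 2052))
)))) (.node (nat_lit 0x106444c112) (.node (nat_lit 0x1063def182) (.node (nat_lit 0x1062ded182) (.leaf (nat_lit 0x10625cc102) (nat_lit 3332))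
 (.node (nat_lit 0x10635ce102) (.leaf (nat_lit 0x1062ded182) (nat_lit 3074))
 (.leaf (nat_lit 0x10635ce102) (nat_lit 3332))
)) (.node (nat_lit 0x106440c102) (.node (nat_lit 0x10640cc110) (.leaf (nat_lit 0x1063def182) (nat_lit 3074))
 (.leaf (nat_lit 0x10640cc110) (nat_lit 2820))
) (.node (nat_lit 0x106441c152) (.leaf (nat_lit 0x106440c102) (nat_lit 2564))
 (.leaf (nat_lit 0x106441c152) (nat_lit 1796))
))) (.node (nat_lit 0x106650c102) (.node (nat_lit 0x106509e150) (.node (nat_lit 0x10644cc102) (.leaf (nat_lit 0x106444c112) (nat_lit 1540))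
 (.leaf (nat_lit 0x10644cc102) (nat_lit 3586))
) (.node (nat_lit 0x106548e102) (.leaf (nat_lit 0x106509e150) (nat_lit 2564))
 (.leaf (nat_lit 0x106548e102) (nat_lit 3588))
)) (.node (nat_lit 0x106754e102) (.node (nat_lit 0x106693ddf0) (.leaf (nat_lit 0x106650c102) (nat_lit 3332))
 (.leaf (nat_lit 0x106693ddf0) (nat_lit 2308))
) (.node (nat_lit 0x106758e102) (.leaf (nat_lit 0x106754e102) (nat_lit 3330))
 (.leaf (nat_lit 0x106758e102) (nat_lit 2820))
))))) (.node (nat_lit 0x1074cdc9d6) (.node (nat_lit 0x10721cc114) (.node (nat_lit 0x107044c116) (.node (nat_lit 0x10675ced32) (.leaf (nat_lit 0x10675bfd72) (nat_lit 2052))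
 (.node (nat_lit 0x106794edb0) (.leaf (nat_lit 0x10675ced32) (nat_lit 1796))
 (.leaf (nat_lit 0x106794edb0) (nat_lit 2564))
)) (.node (nat_lit 0x107046d536) (.node (nat_lit 0x107045c156) (.leaf (nat_lit 0x107044c116) (nat_lit 1540))
 (.leaf (nat_lit 0x107045c156) (nat_lit 1796))
) (.node (nat_lit 0x107047d576) (.leaf (nat_lit 0x107046d536) (nat_lit 1540))
 (.leaf (nat_lit 0x107047d576) (nat_lit 1284))
))) (.node (nat_lit 0x107440c106) (.node (nat_lit 0x10731de154) (.node (nat_lit 0x10729ed5b4) (.leaf (nat_lit 0x10721cc114) (nat_lit 2820))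
 (.leaf (nat_lit 0x10729ed5b4) (nat_lit 2561))
) (.node (nat_lit 0x10739ff5f4) (.leaf (nat_lit 0x10731de154) (nat_lit 3076))
 (.leaf (nat_lit 0x10739ff5f4) (nat_lit 2819))
)) (.node (nat_lit 0x107445c146) (.node (nat_lit 0x107441c156) (.leaf (nat_lit 0x107440c106) (nat_lit 2308))
 (.leaf (nat_lit 0x107441c156) (nat_lit 2052))
) (.node (nat_lit 0x10748dcde4) (.leaf (nat_lit 0x107445c146) (nat_lit 1796))
 (.leaf (nat_lit 0x10748dcde4) (nat_lit 2817))
)))) (.node (nat_lit 0x10771ded64) (.node (nat_lit 0x107650c106) (.node (nat_lit 0x10758afda4) (.leaf (nat_lit 0x1074cdc9d6) (nat_lit 2565))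
 (.node (nat_lit 0x1075cbf9d6) (.leaf (nat_lit 0x10758afda4) (nat_lit 2817))
 (.leaf (nat_lit 0x1075cbf9d6) (nat_lit 2305))
)) (.node (nat_lit 0x107719e154) (.node (nat_lit 0x107693d9d4) (.leaf (nat_lit 0x107650c106) (nat_lit 3076))
 (.leaf (nat_lit 0x107693d9d4) (nat_lit 2308))
) (.node (nat_lit 0x10771afd24) (.leaf (nat_lit 0x107719e154) (nat_lit 1796))
 (.leaf (nat_lit 0x10771afd24) (nat_lit 2052))
))) (.node (nat_lit 0x10a0e88182) (.node (nat_lit 0x107795e9d4) (.node (nat_lit 0x107755e146) (.leaf (nat_lit 0x10771ded64) (nat_lit 2051))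
 (.leaf (nat_lit 0x107755e146) (nat_lit 2817))
) (.node (nat_lit 0x10a0688102) (.leaf (nat_lit 0x107795e9d4) (nat_lit 2308))
 (.leaf (nat_lit 0x10a0688102) (nat_lit 3586))
)) (.node (nat_lit 0x10a1e8a182) (.node (nat_lit 0x10a168a102) (.leaf (nat_lit 0x10a0e88182) (nat_lit 3330))
 (.leaf (nat_lit 0x10a168a102) (nat_lit 3330))
) (.node (nat_lit 0x10a2788102) (.leaf (nat_lit 0x10a1e8a182) (nat_lit 3074))
 (.leaf (nat_lit 0x10a2788102) (nat_lit 3845))
))))))) (.node (nat_lit 0x133a188114) (.node (nat_lit 0x1220c88982) (.node (nat_lit 0x11ae788102) (.node (nat_lit 0x116c40c102) (.node (nat_lit 0x112c408102) (.node (nat_lit 0x10a378a102) (.leaf (nat_lit 0x10a2f88182) (nat_lit 3333))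
 (.node (nat_lit 0x10a3f8a182) (.leaf (nat_lit 0x10a378a102) (nat_lit 3589))
 (.leaf (nat_lit 0x10a3f8a182) (nat_lit 3589))
)) (.node (nat_lit 0x113c408106) (.node (nat_lit 0x112e508102) (.leaf (nat_lit 0x112c408102) (nat_lit 3072))
 (.leaf (nat_lit 0x112e508102) (nat_lit 3328))
) (.node (nat_lit 0x113e508106) (.leaf (nat_lit 0x113c408106) (nat_lit 2820))
 (.leaf (nat_lit 0x113e508106) (nat_lit 2820))
))) (.node (nat_lit 0x117e50c106) (.node (nat_lit 0x116e50c102) (.leaf (nat_lit 0x116c40c102) (nat_lit 2820))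
 (.node (nat_lit 0x117c40c106) (.leaf (nat_lit 0x116e50c102) (nat_lit 3076))
 (.leaf (nat_lit 0x117c40c106) (nat_lit 2564))
)) (.node (nat_lit 0x119eb88084) (.node (nat_lit 0x119ca88084) (.leaf (nat_lit 0x117e50c106) (nat_lit 3076))
 (.leaf (nat_lit 0x119ca88084) (nat_lit 3077))
) (.node (nat_lit 0x11ac688102) (.leaf (nat_lit 0x119eb88084) (nat_lit 3076))
 (.leaf (nat_lit 0x11ac688102) (nat_lit 3589))
)))) (.node (nat_lit 0x1214408c36) (.node (nat_lit 0x11ed68e102) (.node (nat_lit 0x11dda8e084) (.leaf (nat_lit 0x11ae788102) (nat_lit 3328))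
 (.node (nat_lit 0x11dfb8e084) (.leaf (nat_lit 0x11dda8e084) (nat_lit 3333))
 (.leaf (nat_lit 0x11dfb8e084) (nat_lit 2820))
)) (.node (nat_lit 0x1204408802) (.node (nat_lit 0x11ef78e102) (.leaf (nat_lit 0x11ed68e102) (nat_lit 3333))
 (.leaf (nat_lit 0x11ef78e102) (nat_lit 3076))
) (.node (nat_lit 0x1206d88882) (.leaf (nat_lit 0x1204408802) (nat_lit 2309))
 (.leaf (nat_lit 0x1206d88882) (nat_lit 2563))
))) (.node (nat_lit 0x1220408902) (.node (nat_lit 0x1220088110) (.node (nat_lit 0x1216988cb4) (.leaf (nat_lit 0x1214408c36) (nat_lit 2053))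
 (.leaf (nat_lit 0x1216988cb4) (nat_lit 2563))
) (.node (nat_lit 0x1220408112) (.leaf (nat_lit 0x1220088110) (nat_lit 2562))
 (.leaf (nat_lit 0x1220408112) (nat_lit 1280))
)) (.node (nat_lit 0x1220488102) (.node (nat_lit 0x1220408d32) (.leaf (nat_lit 0x1220408902) (nat_lit 1794))
 (.leaf (nat_lit 0x1220408d32) (nat_lit 1536))
) (.node (nat_lit 0x1220888db0) (.leaf (nat_lit 0x1220488102) (nat_lit 3330))
 (.leaf (nat_lit 0x1220888db0) (nat_lit 2816))
))))) (.node (nat_lit 0x12a6708102) (.node (nat_lit 0x12a0608102) (.node (nat_lit 0x1234408116) (.node (nat_lit 0x1224408102) (.leaf (nat_lit 0x1220c88982) (nat_lit 2818))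
 (.node (nat_lit 0x1226588102) (.leaf (nat_lit 0x1224408102) (nat_lit 2816))
 (.leaf (nat_lit 0x1226588102) (nat_lit 3072))
)) (.node (nat_lit 0x1284688802) (.node (nat_lit 0x1236188114) (.leaf (nat_lit 0x1234408116) (nat_lit 2309))
 (.leaf (nat_lit 0x1236188114) (nat_lit 2307))
) (.node (nat_lit 0x1286f08882) (.leaf (nat_lit 0x1284688802) (nat_lit 2819))
 (.leaf (nat_lit 0x1286f08882) (nat_lit 2565))
))) (.node (nat_lit 0x12a0e08982) (.node (nat_lit 0x12a06d8152) (.node (nat_lit 0x12a0688902) (.leaf (nat_lit 0x12a0608102) (nat_lit 3074))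
 (.leaf (nat_lit 0x12a0688902) (nat_lit 2050))
) (.node (nat_lit 0x12a06f9d72) (.leaf (nat_lit 0x12a06d8152) (nat_lit 2048))
 (.leaf (nat_lit 0x12a06f9d72) (nat_lit 2053))
)) (.node (nat_lit 0x12a1a7bdf0) (.node (nat_lit 0x12a125a150) (.leaf (nat_lit 0x12a0e08982) (nat_lit 2562))
 (.leaf (nat_lit 0x12a125a150) (nat_lit 2049))
) (.node (nat_lit 0x12a4688102) (.leaf (nat_lit 0x12a1a7bdf0) (nat_lit 2049))
 (.leaf (nat_lit 0x12a4688102) (nat_lit 3331))
)))) (.node (nat_lit 0x132c088110) (.node (nat_lit 0x12f46dc156) (.node (nat_lit 0x12d46fdc76) (.leaf (nat_lit 0x12a6708102) (nat_lit 3077))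
 (.node (nat_lit 0x12d7b7fcf4) (.leaf (nat_lit 0x12d46fdc76) (nat_lit 2560))
 (.leaf (nat_lit 0x12d7b7fcf4) (nat_lit 2565))
)) (.node (nat_lit 0x1328408102) (.node (nat_lit 0x12f735e154) (.leaf (nat_lit 0x12f46dc156) (nat_lit 2817))
 (.leaf (nat_lit 0x12f735e154) (nat_lit 2309))
) (.node (nat_lit 0x132a588102) (.leaf (nat_lit 0x1328408102) (nat_lit 2560))
 (.leaf (nat_lit 0x132a588102) (nat_lit 3333))
))) (.node (nat_lit 0x132c488102) (.node (nat_lit 0x132c469902) (.node (nat_lit 0x132c408112) (.leaf (nat_lit 0x132c088110) (nat_lit 2563))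
 (.leaf (nat_lit 0x132c408112) (nat_lit 1541))
) (.node (nat_lit 0x132c479d72) (.leaf (nat_lit 0x132c469902) (nat_lit 2053))
 (.leaf (nat_lit 0x132c479d72) (nat_lit 1797))
)) (.node (nat_lit 0x132dceb982) (.node (nat_lit 0x132d8fbdf0) (.leaf (nat_lit 0x132c488102) (nat_lit 3589))
 (.leaf (nat_lit 0x132d8fbdf0) (nat_lit 2563))
) (.node (nat_lit 0x1338408116) (.leaf (nat_lit 0x132dceb982) (nat_lit 3075))
 (.leaf (nat_lit 0x1338408116) (nat_lit 2048))
)))))) (.node (nat_lit 0x14a0a885b8) (.node (nat_lit 0x13af35a150) (.node (nat_lit 0x13a8608102) (.node (nat_lit 0x135847dc76) (.node (nat_lit 0x134846d802) (.leaf (nat_lit 0x133a188114) (nat_lit 2565))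
 (.node (nat_lit 0x134bdef882) (.leaf (nat_lit 0x134846d802) (nat_lit 2049))
 (.leaf (nat_lit 0x134bdef882) (nat_lit 2821))
)) (.node (nat_lit 0x1398a08cb4) (.node (nat_lit 0x135b9ffcf4) (.leaf (nat_lit 0x135847dc76) (nat_lit 1793))
 (.leaf (nat_lit 0x135b9ffcf4) (nat_lit 2821))
) (.node (nat_lit 0x139a788c36) (.leaf (nat_lit 0x1398a08cb4) (nat_lit 2304))
 (.leaf (nat_lit 0x139a788c36) (nat_lit 2816))
))) (.node (nat_lit 0x13ae788d32) (.node (nat_lit 0x13aa788102) (.leaf (nat_lit 0x13a8608102) (nat_lit 2816))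
 (.node (nat_lit 0x13ae708102) (.leaf (nat_lit 0x13aa788102) (nat_lit 3328))
 (.leaf (nat_lit 0x13ae708102) (nat_lit 3333))
)) (.node (nat_lit 0x13ae7e9902) (.node (nat_lit 0x13ae7d8152) (.leaf (nat_lit 0x13ae788d32) (nat_lit 1795))
 (.leaf (nat_lit 0x13ae7d8152) (nat_lit 2051))
) (.node (nat_lit 0x13aeb08db0) (.leaf (nat_lit 0x13ae7e9902) (nat_lit 2307))
 (.leaf (nat_lit 0x13aeb08db0) (nat_lit 2309))
)))) (.node (nat_lit 0x142040853a) (.node (nat_lit 0x13ca7ed802) (.node (nat_lit 0x13aff6b982) (.leaf (nat_lit 0x13af35a150) (nat_lit 2309))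
 (.node (nat_lit 0x13c9e6f882) (.leaf (nat_lit 0x13aff6b982) (nat_lit 2821))
 (.leaf (nat_lit 0x13c9e6f882) (nat_lit 2307))
)) (.node (nat_lit 0x13fa7dc156) (.node (nat_lit 0x13f925e154) (.leaf (nat_lit 0x13ca7ed802) (nat_lit 2818))
 (.leaf (nat_lit 0x13f925e154) (nat_lit 2051))
) (.node (nat_lit 0x142040811a) (.leaf (nat_lit 0x13fa7dc156) (nat_lit 2816))
 (.leaf (nat_lit 0x142040811a) (nat_lit 1024))
))) (.node (nat_lit 0x143040853e) (.node (nat_lit 0x142041857a) (.node (nat_lit 0x142041815a) (.leaf (nat_lit 0x142040853a) (nat_lit 768))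
 (.leaf (nat_lit 0x142041815a) (nat_lit 772))
) (.node (nat_lit 0x143040811e) (.leaf (nat_lit 0x142041857a) (nat_lit 513))
 (.leaf (nat_lit 0x143040811e) (nat_lit 1285))
)) (.node (nat_lit 0x143041857e) (.node (nat_lit 0x143041815e) (.leaf (nat_lit 0x143040853e) (nat_lit 773))
 (.leaf (nat_lit 0x143041815e) (nat_lit 1029))
) (.node (nat_lit 0x14a0288118) (.leaf (nat_lit 0x143041857e) (nat_lit 1029))
 (.leaf (nat_lit 0x14a0288118) (nat_lit 2562))
))))) (.node (nat_lit 0x158ef884ba) (.node (nat_lit 0x150e108438) (.node (nat_lit 0x14b238811c) (.node (nat_lit 0x14a129a158) (.leaf (nat_lit 0x14a0a885b8) (nat_lit 2560))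
 (.node (nat_lit 0x14a1a9a5f8) (.leaf (nat_lit 0x14a129a158) (nat_lit 2306))
 (.leaf (nat_lit 0x14a1a9a5f8) (nat_lit 2305))
)) (.node (nat_lit 0x14b339a15c) (.node (nat_lit 0x14b2b885bc) (.leaf (nat_lit 0x14b238811c) (nat_lit 2819))
 (.leaf (nat_lit 0x14b2b885bc) (nat_lit 2565))
) (.node (nat_lit 0x14b3b9a5fc) (.leaf (nat_lit 0x14b339a15c) (nat_lit 2565))
 (.leaf (nat_lit 0x14b3b9a5fc) (nat_lit 2819))
))) (.node (nat_lit 0x154e11c478) (.node (nat_lit 0x152c40811a) (.node (nat_lit 0x151e10843c) (.leaf (nat_lit 0x150e108438) (nat_lit 2563))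
 (.leaf (nat_lit 0x151e10843c) (nat_lit 2308))
) (.node (nat_lit 0x153c40811e) (.leaf (nat_lit 0x152c40811a) (nat_lit 2304))
 (.leaf (nat_lit 0x153c40811e) (nat_lit 2560))
)) (.node (nat_lit 0x156c41c15a) (.node (nat_lit 0x155e11c47c) (.leaf (nat_lit 0x154e11c478) (nat_lit 2564))
 (.leaf (nat_lit 0x155e11c47c) (nat_lit 2307))
) (.node (nat_lit 0x157c41c15e) (.leaf (nat_lit 0x156c41c15a) (nat_lit 2052))
 (.leaf (nat_lit 0x157c41c15e) (nat_lit 2308))
)))) (.node (nat_lit 0x15ff39e15c) (.node (nat_lit 0x15be38811c) (.node (nat_lit 0x159ce884be) (.leaf (nat_lit 0x158ef884ba) (nat_lit 2304))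
 (.node (nat_lit 0x15ac288118) (.leaf (nat_lit 0x159ce884be) (nat_lit 2309))
 (.leaf (nat_lit 0x15ac288118) (nat_lit 2565))
)) (.node (nat_lit 0x15dde9e4fe) (.node (nat_lit 0x15cff9e4fa) (.leaf (nat_lit 0x15be38811c) (nat_lit 2304))
 (.leaf (nat_lit 0x15cff9e4fa) (nat_lit 2049))
) (.node (nat_lit 0x15ed29e158) (.leaf (nat_lit 0x15dde9e4fe) (nat_lit 2565))
 (.leaf (nat_lit 0x15ed29e158) (nat_lit 2309))
))) (.node (nat_lit 0x162040891a) (.node (nat_lit 0x1614408c2e) (.node (nat_lit 0x160440881a) (.leaf (nat_lit 0x15ff39e15c) (nat_lit 2052))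
 (.leaf (nat_lit 0x160440881a) (nat_lit 1797))
) (.node (nat_lit 0x162040810a) (.leaf (nat_lit 0x1614408c2e) (nat_lit 2053))
 (.leaf (nat_lit 0x162040810a) (nat_lit 1536))
)) (.node (nat_lit 0x16210da148) (.node (nat_lit 0x1620408d2a) (.leaf (nat_lit 0x162040891a) (nat_lit 1280))
 (.leaf (nat_lit 0x1620408d2a) (nat_lit 1539))
) (.node (nat_lit 0x16214ca11a) (.leaf (nat_lit 0x16210da148) (nat_lit 2562))
 (.leaf (nat_lit 0x16214ca11a) (nat_lit 2304))
)))))))) (.node (nat_lit 0x1b0c479672) (.node (nat_lit 0x1820c29b82) (.node (nat_lit 0x173c479d6e) (.node (nat_lit 0x16a0e08daa) (.node (nat_lit 0x16771de14c) (.node (nat_lit 0x163440810e) (.node (nat_lit 0x1621ceb99a) (.leaf (nat_lit 0x16218fbde8) (nat_lit 2306))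
 (.node (nat_lit 0x162440811a) (.leaf (nat_lit 0x1621ceb99a) (nat_lit 2304))
 (.leaf (nat_lit 0x162440811a) (nat_lit 2564))
)) (.node (nat_lit 0x16579ffcec) (.node (nat_lit 0x1647def89a) (.leaf (nat_lit 0x163440810e) (nat_lit 2560))
 (.leaf (nat_lit 0x1647def89a) (nat_lit 2051))
) (.node (nat_lit 0x16675ce11a) (.leaf (nat_lit 0x16579ffcec) (nat_lit 2307))
 (.leaf (nat_lit 0x16675ce11a) (nat_lit 2307))
))) (.node (nat_lit 0x16a0288918) (.node (nat_lit 0x1684288818) (.leaf (nat_lit 0x16771de14c) (nat_lit 2307))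
 (.node (nat_lit 0x1696f08cae) (.leaf (nat_lit 0x1684288818) (nat_lit 2564))
 (.leaf (nat_lit 0x1696f08cae) (nat_lit 2053))
)) (.node (nat_lit 0x16a02f9d68) (.node (nat_lit 0x16a02d8148) (.leaf (nat_lit 0x16a0288918) (nat_lit 1794))
 (.leaf (nat_lit 0x16a02d8148) (nat_lit 2052))
) (.node (nat_lit 0x16a060810a) (.leaf (nat_lit 0x16a02f9d68) (nat_lit 1797))
 (.leaf (nat_lit 0x16a060810a) (nat_lit 2562))
)))) (.node (nat_lit 0x16e734e118) (.node (nat_lit 0x16a4288118) (.node (nat_lit 0x16a124a118) (.leaf (nat_lit 0x16a0e08daa) (nat_lit 2306))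
 (.node (nat_lit 0x16a1a6b998) (.leaf (nat_lit 0x16a124a118) (nat_lit 1796))
 (.leaf (nat_lit 0x16a1a6b998) (nat_lit 1537))
)) (.node (nat_lit 0x16c7b6f898) (.node (nat_lit 0x16b670810e) (.leaf (nat_lit 0x16a4288118) (nat_lit 2819))
 (.leaf (nat_lit 0x16b670810e) (nat_lit 2565))
) (.node (nat_lit 0x16d42fdc6c) (.leaf (nat_lit 0x16c7b6f898) (nat_lit 2309))
 (.leaf (nat_lit 0x16d42fdc6c) (nat_lit 2820))
))) (.node (nat_lit 0x172840810a) (.node (nat_lit 0x170a988ca8) (.node (nat_lit 0x16f42dc14c) (.leaf (nat_lit 0x16e734e118) (nat_lit 2053))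
 (.leaf (nat_lit 0x16f42dc14c) (nat_lit 2817))
) (.node (nat_lit 0x171ad8889e) (.leaf (nat_lit 0x170a988ca8) (nat_lit 2565))
 (.leaf (nat_lit 0x171ad8889e) (nat_lit 2309))
)) (.node (nat_lit 0x173c40810e) (.node (nat_lit 0x173840811e) (.leaf (nat_lit 0x172840810a) (nat_lit 2304))
 (.leaf (nat_lit 0x173840811e) (nat_lit 2308))
) (.node (nat_lit 0x173c46991e) (.leaf (nat_lit 0x173c40810e) (nat_lit 1797))
 (.leaf (nat_lit 0x173c46991e) (nat_lit 1541))
))))) (.node (nat_lit 0x17be3e991c) (.node (nat_lit 0x176b1de148) (.node (nat_lit 0x173d0da14c) (.node (nat_lit 0x173c888dac) (.leaf (nat_lit 0x173c479d6e) (nat_lit 1797))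
 (.node (nat_lit 0x173cc8899e) (.leaf (nat_lit 0x173c888dac) (nat_lit 2565))
 (.leaf (nat_lit 0x173cc8899e) (nat_lit 2565))
)) (.node (nat_lit 0x174847dc6a) (.node (nat_lit 0x173d4ca11e) (.leaf (nat_lit 0x173d0da14c) (nat_lit 2821))
 (.leaf (nat_lit 0x173d4ca11e) (nat_lit 2565))
) (.node (nat_lit 0x175846d81e) (.leaf (nat_lit 0x174847dc6a) (nat_lit 1793))
 (.leaf (nat_lit 0x175846d81e) (nat_lit 1537))
))) (.node (nat_lit 0x17a860810a) (.node (nat_lit 0x178a388c28) (.node (nat_lit 0x177b5ce11e) (.leaf (nat_lit 0x176b1de148) (nat_lit 2565))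
 (.leaf (nat_lit 0x177b5ce11e) (nat_lit 2565))
) (.node (nat_lit 0x1798a0889c) (.leaf (nat_lit 0x178a388c28) (nat_lit 2819))
 (.leaf (nat_lit 0x1798a0889c) (nat_lit 2048))
)) (.node (nat_lit 0x17be388d2c) (.node (nat_lit 0x17ba38811c) (.leaf (nat_lit 0x17a860810a) (nat_lit 2304))
 (.leaf (nat_lit 0x17ba38811c) (nat_lit 2820))
) (.node (nat_lit 0x17be3d814c) (.leaf (nat_lit 0x17be388d2c) (nat_lit 1539))
 (.leaf (nat_lit 0x17be3d814c) (nat_lit 2051))
)))) (.node (nat_lit 0x17ea3dc148) (.node (nat_lit 0x17bf34a11c) (.node (nat_lit 0x17be70810e) (.leaf (nat_lit 0x17be3e991c) (nat_lit 1795))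
 (.node (nat_lit 0x17beb0899c) (.leaf (nat_lit 0x17be70810e) (nat_lit 2821))
 (.leaf (nat_lit 0x17beb0899c) (nat_lit 1797))
)) (.node (nat_lit 0x17c9e7fcea) (.node (nat_lit 0x17bff7bdee) (.leaf (nat_lit 0x17bf34a11c) (nat_lit 2053))
 (.leaf (nat_lit 0x17bff7bdee) (nat_lit 2565))
) (.node (nat_lit 0x17da3ed81c) (.leaf (nat_lit 0x17c9e7fcea) (nat_lit 1795))
 (.leaf (nat_lit 0x17da3ed81c) (nat_lit 2563))
))) (.node (nat_lit 0x1820429b02) (.node (nat_lit 0x1820408b02) (.node (nat_lit 0x17f924e11c) (.leaf (nat_lit 0x17ea3dc148) (nat_lit 2817))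
 (.leaf (nat_lit 0x17f924e11c) (nat_lit 1795))
) (.node (nat_lit 0x1820408f22) (.leaf (nat_lit 0x1820408b02) (nat_lit 1538))
 (.leaf (nat_lit 0x1820408f22) (nat_lit 1282))
)) (.node (nat_lit 0x1820c08b82) (.node (nat_lit 0x1820429f22) (.leaf (nat_lit 0x1820429b02) (nat_lit 1282))
 (.leaf (nat_lit 0x1820429f22) (nat_lit 1026))
) (.node (nat_lit 0x1820c08fa2) (.leaf (nat_lit 0x1820c08b82) (nat_lit 1794))
 (.leaf (nat_lit 0x1820c08fa2) (nat_lit 1282))
)))))) (.node (nat_lit 0x1a20408b12) (.node (nat_lit 0x194c42da02) (.node (nat_lit 0x18a0e88b82) (.node (nat_lit 0x1882b88ea0) (.node (nat_lit 0x1820c29fa2) (.leaf (nat_lit 0x1820c29b82) (nat_lit 1538))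
 (.node (nat_lit 0x1882388e20) (.leaf (nat_lit 0x1820c29fa2) (nat_lit 1538))
 (.leaf (nat_lit 0x1882388e20) (nat_lit 2309))
)) (.node (nat_lit 0x1883babea0) (.node (nat_lit 0x18833abe20) (.leaf (nat_lit 0x1882b88ea0) (nat_lit 2565))
 (.leaf (nat_lit 0x18833abe20) (nat_lit 2565))
) (.node (nat_lit 0x18a0688b02) (.leaf (nat_lit 0x1883babea0) (nat_lit 2309))
 (.leaf (nat_lit 0x18a0688b02) (nat_lit 2818))
))) (.node (nat_lit 0x190c408a02) (.node (nat_lit 0x18a16abb02) (.leaf (nat_lit 0x18a0e88b82) (nat_lit 3074))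
 (.node (nat_lit 0x18a1eabb82) (.leaf (nat_lit 0x18a16abb02) (nat_lit 2562))
 (.leaf (nat_lit 0x18a1eabb82) (nat_lit 2818))
)) (.node (nat_lit 0x191c408e26) (.node (nat_lit 0x190ed08a82) (.leaf (nat_lit 0x190c408a02) (nat_lit 2306))
 (.leaf (nat_lit 0x190ed08a82) (nat_lit 2820))
) (.node (nat_lit 0x191ed08ea6) (.leaf (nat_lit 0x191c408e26) (nat_lit 2309))
 (.leaf (nat_lit 0x191ed08ea6) (nat_lit 2308))
)))) (.node (nat_lit 0x19be388f24) (.node (nat_lit 0x195ed2dea6) (.node (nat_lit 0x194ed2da82) (.leaf (nat_lit 0x194c42da02) (nat_lit 2050))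
 (.node (nat_lit 0x195c42de26) (.leaf (nat_lit 0x194ed2da82) (nat_lit 2564))
 (.leaf (nat_lit 0x195c42de26) (nat_lit 2052))
)) (.node (nat_lit 0x198ef88a82) (.node (nat_lit 0x198c688a02) (.leaf (nat_lit 0x195ed2dea6) (nat_lit 2564))
 (.leaf (nat_lit 0x198c688a02) (nat_lit 2821))
) (.node (nat_lit 0x19bca88fa4) (.leaf (nat_lit 0x198ef88a82) (nat_lit 2563))
 (.leaf (nat_lit 0x19bca88fa4) (nat_lit 2564))
))) (.node (nat_lit 0x19ff3aff24) (.node (nat_lit 0x19cffafa82) (.node (nat_lit 0x19cd6afa02) (.leaf (nat_lit 0x19be388f24) (nat_lit 2563))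
 (.leaf (nat_lit 0x19cd6afa02) (nat_lit 2820))
) (.node (nat_lit 0x19fdaaffa4) (.leaf (nat_lit 0x19cffafa82) (nat_lit 2307))
 (.leaf (nat_lit 0x19fdaaffa4) (nat_lit 2565))
)) (.node (nat_lit 0x1a20408302) (.node (nat_lit 0x1a20088b10) (.leaf (nat_lit 0x19ff3aff24) (nat_lit 2308))
 (.leaf (nat_lit 0x1a20088b10) (nat_lit 2562))
) (.node (nat_lit 0x1a20408732) (.leaf (nat_lit 0x1a20408302) (nat_lit 2050))
 (.leaf (nat_lit 0x1a20408732) (nat_lit 1283))
))))) (.node (nat_lit 0x1aa0e08b82) (.node (nat_lit 0x1a579ff6f4) (.node (nat_lit 0x1a20c88382) (.node (nat_lit 0x1a20488b02) (.leaf (nat_lit 0x1a20408b12) (nat_lit 1024))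
 (.node (nat_lit 0x1a208887b0) (.leaf (nat_lit 0x1a20488b02) (nat_lit 3074))
 (.leaf (nat_lit 0x1a208887b0) (nat_lit 2306))
)) (.node (nat_lit 0x1a47def282) (.node (nat_lit 0x1a4446d202) (.leaf (nat_lit 0x1a20c88382) (nat_lit 3074))
 (.leaf (nat_lit 0x1a4446d202) (nat_lit 2309))
) (.node (nat_lit 0x1a5447d676) (.leaf (nat_lit 0x1a47def282) (nat_lit 2563))
 (.leaf (nat_lit 0x1a5447d676) (nat_lit 2053))
))) (.node (nat_lit 0x1a771deb54) (.node (nat_lit 0x1a675ceb02) (.node (nat_lit 0x1a6444cb02) (.leaf (nat_lit 0x1a579ff6f4) (nat_lit 2051))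
 (.leaf (nat_lit 0x1a6444cb02) (nat_lit 2304))
) (.node (nat_lit 0x1a7445cb56) (.leaf (nat_lit 0x1a675ceb02) (nat_lit 2563))
 (.leaf (nat_lit 0x1a7445cb56) (nat_lit 1797))
)) (.node (nat_lit 0x1a96308634) (.node (nat_lit 0x1a94e886b6) (.leaf (nat_lit 0x1a771deb54) (nat_lit 2307))
 (.leaf (nat_lit 0x1a94e886b6) (nat_lit 2307))
) (.node (nat_lit 0x1aa0608302) (.leaf (nat_lit 0x1a96308634) (nat_lit 2053))
 (.leaf (nat_lit 0x1aa0608302) (nat_lit 2818))
)))) (.node (nat_lit 0x1ab6b08b94) (.node (nat_lit 0x1aa0ef97f2) (.node (nat_lit 0x1aa0e88382) (.leaf (nat_lit 0x1aa0e08b82) (nat_lit 2818))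
 (.node (nat_lit 0x1aa0ed8bd2) (.leaf (nat_lit 0x1aa0e88382) (nat_lit 2306))
 (.leaf (nat_lit 0x1aa0ed8bd2) (nat_lit 2053))
)) (.node (nat_lit 0x1aa1a5abd0) (.node (nat_lit 0x1aa127b770) (.leaf (nat_lit 0x1aa0ef97f2) (nat_lit 1797))
 (.leaf (nat_lit 0x1aa127b770) (nat_lit 2050))
) (.node (nat_lit 0x1ab4e88b96) (.leaf (nat_lit 0x1aa1a5abd0) (nat_lit 1793))
 (.leaf (nat_lit 0x1ab4e88b96) (nat_lit 2307))
))) (.node (nat_lit 0x1ae7f4eb82) (.node (nat_lit 0x1ac776f202) (.node (nat_lit 0x1ac4eed282) (.leaf (nat_lit 0x1ab6b08b94) (nat_lit 2053))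
 (.leaf (nat_lit 0x1ac4eed282) (nat_lit 2818))
) (.node (nat_lit 0x1ae4eccb82) (.leaf (nat_lit 0x1ac776f202) (nat_lit 2565))
 (.leaf (nat_lit 0x1ae4eccb82) (nat_lit 2819))
)) (.node (nat_lit 0x1b0c408a12) (.node (nat_lit 0x1b0c088a10) (.leaf (nat_lit 0x1ae7f4eb82) (nat_lit 2565))
 (.leaf (nat_lit 0x1b0c088a10) (nat_lit 2821))
) (.node (nat_lit 0x1b0c469202) (.leaf (nat_lit 0x1b0c408a12) (nat_lit 1029))
 (.leaf (nat_lit 0x1b0c469202) (nat_lit 2053))
))))))) (.node (nat_lit 0x1e06d886ba) (.node (nat_lit 0x1c10839adc) (.node (nat_lit 0x1b8ef886b2) (.node (nat_lit 0x1b3a9887b4) (.node (nat_lit 0x1b0dceb282) (.node (nat_lit 0x1b0c488a02) (.leaf (nat_lit 0x1b0c479672) (nat_lit 1285))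
 (.node (nat_lit 0x1b0d8fb6f0) (.leaf (nat_lit 0x1b0c488a02) (nat_lit 3077))
 (.leaf (nat_lit 0x1b0d8fb6f0) (nat_lit 2565))
)) (.node (nat_lit 0x1b2ad88382) (.node (nat_lit 0x1b28408302) (.leaf (nat_lit 0x1b0dceb282) (nat_lit 3077))
 (.leaf (nat_lit 0x1b28408302) (nat_lit 2306))
) (.node (nat_lit 0x1b38408736) (.leaf (nat_lit 0x1b2ad88382) (nat_lit 3077))
 (.leaf (nat_lit 0x1b38408736) (nat_lit 2048))
))) (.node (nat_lit 0x1b5845ca56) (.node (nat_lit 0x1b4844ca02) (.leaf (nat_lit 0x1b3a9887b4) (nat_lit 2053))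
 (.node (nat_lit 0x1b4b5cea02) (.leaf (nat_lit 0x1b4844ca02) (nat_lit 1793))
 (.leaf (nat_lit 0x1b4b5cea02) (nat_lit 2565))
)) (.node (nat_lit 0x1b8e308630) (.node (nat_lit 0x1b5b1dea54) (.leaf (nat_lit 0x1b5845ca56) (nat_lit 1281))
 (.leaf (nat_lit 0x1b5b1dea54) (nat_lit 2565))
) (.node (nat_lit 0x1b8ef08a82) (.leaf (nat_lit 0x1b8e308630) (nat_lit 2565))
 (.leaf (nat_lit 0x1b8ef08a82) (nat_lit 2821))
)))) (.node (nat_lit 0x1ba8608302) (.node (nat_lit 0x1b8f76b202) (.node (nat_lit 0x1b8efd8ad2) (.leaf (nat_lit 0x1b8ef886b2) (nat_lit 1283))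
 (.node (nat_lit 0x1b8efe9282) (.leaf (nat_lit 0x1b8efd8ad2) (nat_lit 1539))
 (.leaf (nat_lit 0x1b8efe9282) (nat_lit 2307))
)) (.node (nat_lit 0x1b98a08a94) (.node (nat_lit 0x1b8fb5aad0) (.leaf (nat_lit 0x1b8f76b202) (nat_lit 2821))
 (.leaf (nat_lit 0x1b8fb5aad0) (nat_lit 2309))
) (.node (nat_lit 0x1b9af88a96) (.leaf (nat_lit 0x1b98a08a94) (nat_lit 2048))
 (.leaf (nat_lit 0x1b9af88a96) (nat_lit 2309))
))) (.node (nat_lit 0x1bf927f774) (.node (nat_lit 0x1bc9e4ea82) (.node (nat_lit 0x1baaf88382) (.leaf (nat_lit 0x1ba8608302) (nat_lit 2563))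
 (.leaf (nat_lit 0x1baaf88382) (nat_lit 3072))
) (.node (nat_lit 0x1bcafcca82) (.leaf (nat_lit 0x1bc9e4ea82) (nat_lit 2051))
 (.leaf (nat_lit 0x1bcafcca82) (nat_lit 2562))
)) (.node (nat_lit 0x1c10808a9c) (.node (nat_lit 0x1bfaffd7f6) (.leaf (nat_lit 0x1bf927f774) (nat_lit 1539))
 (.leaf (nat_lit 0x1bfaffd7f6) (nat_lit 2564))
) (.node (nat_lit 0x1c10808ebc) (.leaf (nat_lit 0x1c10808a9c) (nat_lit 1027))
 (.leaf (nat_lit 0x1c10808ebc) (nat_lit 1539))
))))) (.node (nat_lit 0x1d1c408e3e) (.node (nat_lit 0x1c92f88a9e) (.node (nat_lit 0x1c20408f3a) (.node (nat_lit 0x1c10839efc) (.leaf (nat_lit 0x1c10839adc) (nat_lit 1283))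
 (.node (nat_lit 0x1c20408b1a) (.leaf (nat_lit 0x1c10839efc) (nat_lit 1283))
 (.leaf (nat_lit 0x1c20408b1a) (nat_lit 1027))
)) (.node (nat_lit 0x1c20439f7a) (.node (nat_lit 0x1c20439b5a) (.leaf (nat_lit 0x1c20408f3a) (nat_lit 1280))
 (.leaf (nat_lit 0x1c20439b5a) (nat_lit 771))
) (.node (nat_lit 0x1c92788e3e) (.leaf (nat_lit 0x1c20439f7a) (nat_lit 1028))
 (.leaf (nat_lit 0x1c92788e3e) (nat_lit 2565))
))) (.node (nat_lit 0x1ca0a88fb8) (.node (nat_lit 0x1c93fbbade) (.node (nat_lit 0x1c937bbe7e) (.leaf (nat_lit 0x1c92f88a9e) (nat_lit 2821))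
 (.leaf (nat_lit 0x1c937bbe7e) (nat_lit 2821))
) (.node (nat_lit 0x1ca0288b18) (.leaf (nat_lit 0x1c93fbbade) (nat_lit 2565))
 (.leaf (nat_lit 0x1ca0288b18) (nat_lit 2818))
)) (.node (nat_lit 0x1ca1abbff8) (.node (nat_lit 0x1ca12bbb58) (.leaf (nat_lit 0x1ca0a88fb8) (nat_lit 2819))
 (.leaf (nat_lit 0x1ca12bbb58) (nat_lit 2562))
) (.node (nat_lit 0x1d0c408a1a) (.leaf (nat_lit 0x1ca1abbff8) (nat_lit 2563))
 (.leaf (nat_lit 0x1d0c408a1a) (nat_lit 2052))
)))) (.node (nat_lit 0x1d8c288a18) (.node (nat_lit 0x1d4c43da5a) (.node (nat_lit 0x1d2e908fb8) (.leaf (nat_lit 0x1d1c408e3e) (nat_lit 2048))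
 (.node (nat_lit 0x1d3e908b9c) (.leaf (nat_lit 0x1d2e908fb8) (nat_lit 2560))
 (.leaf (nat_lit 0x1d3e908b9c) (nat_lit 2308))
)) (.node (nat_lit 0x1d6e93dff8) (.node (nat_lit 0x1d5c43de7e) (.leaf (nat_lit 0x1d4c43da5a) (nat_lit 2052))
 (.leaf (nat_lit 0x1d5c43de7e) (nat_lit 1796))
) (.node (nat_lit 0x1d7e93dbdc) (.leaf (nat_lit 0x1d6e93dff8) (nat_lit 2308))
 (.leaf (nat_lit 0x1d7e93dbdc) (nat_lit 2564))
))) (.node (nat_lit 0x1dcd2bfa58) (.node (nat_lit 0x1dae788f3a) (.node (nat_lit 0x1d9eb88ebc) (.leaf (nat_lit 0x1d8c288a18) (nat_lit 2309))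
 (.leaf (nat_lit 0x1d9eb88ebc) (nat_lit 2816))
) (.node (nat_lit 0x1dbce88b9e) (.leaf (nat_lit 0x1dae788f3a) (nat_lit 2560))
 (.leaf (nat_lit 0x1dbce88b9e) (nat_lit 2309))
)) (.node (nat_lit 0x1def7bff7a) (.node (nat_lit 0x1ddfbbfefc) (.leaf (nat_lit 0x1dcd2bfa58) (nat_lit 2565))
 (.leaf (nat_lit 0x1ddfbbfefc) (nat_lit 2564))
) (.node (nat_lit 0x1dfdebfbde) (.leaf (nat_lit 0x1def7bff7a) (nat_lit 2308))
 (.leaf (nat_lit 0x1dfdebfbde) (nat_lit 2053))
)))))) (.node (nat_lit 0x1f0a188e28) (.node (nat_lit 0x1e86308638) (.node (nat_lit 0x1e218fb3c8) (.node (nat_lit 0x1e2040873a) (.node (nat_lit 0x1e1698828c) (.leaf (nat_lit 0x1e06d886ba) (nat_lit 2051))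
 (.node (nat_lit 0x1e2040830a) (.leaf (nat_lit 0x1e1698828c) (nat_lit 2816))
 (.leaf (nat_lit 0x1e2040830a) (nat_lit 1792))
)) (.node (nat_lit 0x1e210daf68) (.node (nat_lit 0x1e20408f2a) (.leaf (nat_lit 0x1e2040873a) (nat_lit 1538))
 (.leaf (nat_lit 0x1e20408f2a) (nat_lit 1280))
) (.node (nat_lit 0x1e214caf3a) (.leaf (nat_lit 0x1e210daf68) (nat_lit 2560))
 (.leaf (nat_lit 0x1e214caf3a) (nat_lit 2304))
))) (.node (nat_lit 0x1e4446d63a) (.node (nat_lit 0x1e26588f3a) (.node (nat_lit 0x1e21ceb7ba) (.leaf (nat_lit 0x1e218fb3c8) (nat_lit 2820))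
 (.leaf (nat_lit 0x1e21ceb7ba) (nat_lit 2048))
) (.node (nat_lit 0x1e36188f2c) (.leaf (nat_lit 0x1e26588f3a) (nat_lit 2820))
 (.leaf (nat_lit 0x1e36188f2c) (nat_lit 2307))
)) (.node (nat_lit 0x1e6444cf3a) (.node (nat_lit 0x1e5447d24e) (.leaf (nat_lit 0x1e4446d63a) (nat_lit 1797))
 (.leaf (nat_lit 0x1e5447d24e) (nat_lit 2053))
) (.node (nat_lit 0x1e7445cf6e) (.leaf (nat_lit 0x1e6444cf3a) (nat_lit 2048))
 (.leaf (nat_lit 0x1e7445cf6e) (nat_lit 2048))
)))) (.node (nat_lit 0x1ea126b738) (.node (nat_lit 0x1ea0a887b8) (.node (nat_lit 0x1e94a8828c) (.leaf (nat_lit 0x1e86308638) (nat_lit 2309))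
 (.node (nat_lit 0x1ea060830a) (.leaf (nat_lit 0x1e94a8828c) (nat_lit 2819))
 (.leaf (nat_lit 0x1ea060830a) (nat_lit 2560))
)) (.node (nat_lit 0x1ea0af93c8) (.node (nat_lit 0x1ea0ad8fe8) (.leaf (nat_lit 0x1ea0a887b8) (nat_lit 1538))
 (.leaf (nat_lit 0x1ea0ad8fe8) (nat_lit 1794))
) (.node (nat_lit 0x1ea0e08faa) (.leaf (nat_lit 0x1ea0af93c8) (nat_lit 2053))
 (.leaf (nat_lit 0x1ea0e08faa) (nat_lit 2304))
))) (.node (nat_lit 0x1ec4aed6b8) (.node (nat_lit 0x1ea6b08fb8) (.node (nat_lit 0x1ea1a4afb8) (.leaf (nat_lit 0x1ea126b738) (nat_lit 1794))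
 (.leaf (nat_lit 0x1ea1a4afb8) (nat_lit 1793))
) (.node (nat_lit 0x1eb4a88fac) (.leaf (nat_lit 0x1ea6b08fb8) (nat_lit 2565))
 (.leaf (nat_lit 0x1eb4a88fac) (nat_lit 2307))
)) (.node (nat_lit 0x1ee4accfb8) (.node (nat_lit 0x1ed777f24e) (.leaf (nat_lit 0x1ec4aed6b8) (nat_lit 2563))
 (.leaf (nat_lit 0x1ed777f24e) (nat_lit 2565))
) (.node (nat_lit 0x1ef7f5efee) (.leaf (nat_lit 0x1ee4accfb8) (nat_lit 2307))
 (.leaf (nat_lit 0x1ef7f5efee) (nat_lit 2565))
))))) (.node (nat_lit 0x1f8ab88ea8) (.node (nat_lit 0x1f1d0dae6c) (.node (nat_lit 0x1f1c46963e) (.node (nat_lit 0x1f1a588e3e) (.leaf (nat_lit 0x1f0a188e28) (nat_lit 2565))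
 (.node (nat_lit 0x1f1c408e2e) (.leaf (nat_lit 0x1f1a588e3e) (nat_lit 2821))
 (.leaf (nat_lit 0x1f1c408e2e) (nat_lit 1285))
)) (.node (nat_lit 0x1f1c88828c) (.node (nat_lit 0x1f1c47924e) (.leaf (nat_lit 0x1f1c46963e) (nat_lit 1541))
 (.leaf (nat_lit 0x1f1c47924e) (nat_lit 1797))
) (.node (nat_lit 0x1f1cc886be) (.leaf (nat_lit 0x1f1c88828c) (nat_lit 2821))
 (.leaf (nat_lit 0x1f1cc886be) (nat_lit 2053))
))) (.node (nat_lit 0x1f4845ce6a) (.node (nat_lit 0x1f2840830a) (.node (nat_lit 0x1f1d4cae3e) (.leaf (nat_lit 0x1f1d0dae6c) (nat_lit 2565))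
 (.leaf (nat_lit 0x1f1d4cae3e) (nat_lit 2309))
) (.node (nat_lit 0x1f3840873e) (.leaf (nat_lit 0x1f2840830a) (nat_lit 2048))
 (.leaf (nat_lit 0x1f3840873e) (nat_lit 1792))
)) (.node (nat_lit 0x1f6b9ff3c8) (.node (nat_lit 0x1f5844ce3e) (.leaf (nat_lit 0x1f4845ce6a) (nat_lit 1537))
 (.leaf (nat_lit 0x1f5844ce3e) (nat_lit 1537))
) (.node (nat_lit 0x1f7bdef7be) (.leaf (nat_lit 0x1f6b9ff3c8) (nat_lit 2821))
 (.leaf (nat_lit 0x1f7bdef7be) (nat_lit 2309))
)))) (.node (nat_lit 0x1f9f77b24e) (.node (nat_lit 0x1f9eb8828c) (.node (nat_lit 0x1f98a08ebc) (.leaf (nat_lit 0x1f8ab88ea8) (nat_lit 2562))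
 (.node (nat_lit 0x1f9e30863c) (.leaf (nat_lit 0x1f98a08ebc) (nat_lit 2564))
 (.leaf (nat_lit 0x1f9e30863c) (nat_lit 2309))
)) (.node (nat_lit 0x1f9ebe96bc) (.node (nat_lit 0x1f9ebd8eec) (.leaf (nat_lit 0x1f9eb8828c) (nat_lit 2051))
 (.leaf (nat_lit 0x1f9ebd8eec) (nat_lit 2051))
) (.node (nat_lit 0x1f9ef08eae) (.leaf (nat_lit 0x1f9ebe96bc) (nat_lit 1795))
 (.leaf (nat_lit 0x1f9ef08eae) (nat_lit 2309))
))) (.node (nat_lit 0x1fc9e5eeea) (.node (nat_lit 0x1fa860830a) (.node (nat_lit 0x1f9fb4aebc) (.leaf (nat_lit 0x1f9f77b24e) (nat_lit 2565))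
 (.leaf (nat_lit 0x1f9fb4aebc) (nat_lit 2308))
) (.node (nat_lit 0x1fbab887bc) (.leaf (nat_lit 0x1fa860830a) (nat_lit 2560))
 (.leaf (nat_lit 0x1fbab887bc) (nat_lit 2308))
)) (.node (nat_lit 0x1feabfd3c8) (.node (nat_lit 0x1fdabccebc) (.leaf (nat_lit 0x1fc9e5eeea) (nat_lit 2051))
 (.leaf (nat_lit 0x1fdabccebc) (nat_lit 2564))
) (.node (nat_lit 0x1ff926f73c) (.leaf (nat_lit 0x1feabfd3c8) (nat_lit 2564))
 (.leaf (nat_lit 0x1ff926f73c) (nat_lit 1795))
))))))))))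

theorem K3_ok : orbOK A2 [(nat_lit 0x1020448102), (nat_lit 0x1220408102), (nat_lit 0x1030408106), (nat_lit 0x1020c08182), (nat_lit 0x1820408302), (nat_lit 0x106040c102)] (nat_lit 0x1020408532) K3_t (nat_lit 945) = true := by decide +kernel

end Cfsg.Agent.SF6
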