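import Mathlib
import Cfsg.Agent.SF6.Ar

/-! Generated by tools/rec: parabolic subgroups -/

set_option autoImplicit false
set_option maxRecDepth 100000
set_option linter.unusedVariables false
set_option exponentiation.threshold 100000

namespace Cfsg.Agent.SF6

open Cfsg.Agent.Spor Cfsg.Agent.Rec

universe u

noncomputable def P12_t : ST :=
(.node (nat_lit 0x142040810a) (.node (nat_lit 0xe20441142) (.node (nat_lit 0x630440146) (.node (nat_lit 0x23046030e) (.node (nat_lit 0x22047030a) (.node (nat_lit 0x22045810a) (.node (nat_lit 0x220448902) (.node (nat_lit 0x220440d22) (.node (nat_lit 0x220440532) (.node (nat_lit 0x220440112) (.leaf (nat_lit 0x220440102) (nat_lit 768))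
 (.node (nat_lit 0x220440522) (.leaf (nat_lit 0x220440112) (nat_lit 3331))
 (.leaf (nat_lit 0x220440522) (nat_lit 3331))
)) (.node (nat_lit 0x220440902) (.leaf (nat_lit 0x220440532) (nat_lit 1796))
 (.node (nat_lit 0x220440912) (.leaf (nat_lit 0x220440902) (nat_lit 1028))
 (.leaf (nat_lit 0x220440912) (nat_lit 3587))
))) (.node (nat_lit 0x220448112) (.node (nat_lit 0x220440d32) (.leaf (nat_lit 0x220440d22) (nat_lit 3588))
 (.node (nat_lit 0x220448102) (.leaf (nat_lit 0x220440d32) (nat_lit 1538))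
 (.leaf (nat_lit 0x220448102) (nat_lit 513))
)) (.node (nat_lit 0x220448522) (.leaf (nat_lit 0x220448112) (nat_lit 3587))
 (.node (nat_lit 0x220448532) (.leaf (nat_lit 0x220448522) (nat_lit 3075))
 (.leaf (nat_lit 0x220448532) (nat_lit 1540))
)))) (.node (nat_lit 0x22045052a) (.node (nat_lit 0x220448d32) (.node (nat_lit 0x220448912) (.leaf (nat_lit 0x220448902) (nat_lit 772))
 (.node (nat_lit 0x220448d22) (.leaf (nat_lit 0x220448912) (nat_lit 3331))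
 (.leaf (nat_lit 0x220448d22) (nat_lit 3332))
)) (.node (nat_lit 0x22045010a) (.leaf (nat_lit 0x220448d32) (nat_lit 1282))
 (.node (nat_lit 0x22045011a) (.leaf (nat_lit 0x22045010a) (nat_lit 1793))
 (.leaf (nat_lit 0x22045011a) (nat_lit 2307))
))) (.node (nat_lit 0x22045091a) (.node (nat_lit 0x22045053a) (.leaf (nat_lit 0x22045052a) (nat_lit 2820))
 (.node (nat_lit 0x22045090a) (.leaf (nat_lit 0x22045053a) (nat_lit 2308))
 (.leaf (nat_lit 0x22045090a) (nat_lit 2052))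
)) (.node (nat_lit 0x220450d2a) (.leaf (nat_lit 0x22045091a) (nat_lit 2564))
 (.node (nat_lit 0x220450d3a) (.leaf (nat_lit 0x220450d2a) (nat_lit 2563))
 (.leaf (nat_lit 0x220450d3a) (nat_lit 2049))
))))) (.node (nat_lit 0x220460b02) (.node (nat_lit 0x220458d2a) (.node (nat_lit 0x22045853a) (.node (nat_lit 0x22045811a) (.leaf (nat_lit 0x22045810a) (nat_lit 1537))
 (.node (nat_lit 0x22045852a) (.leaf (nat_lit 0x22045811a) (nat_lit 2563))
 (.leaf (nat_lit 0x22045852a) (nat_lit 2563))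
)) (.node (nat_lit 0x22045890a) (.leaf (nat_lit 0x22045853a) (nat_lit 2052))
 (.node (nat_lit 0x22045891a) (.leaf (nat_lit 0x22045890a) (nat_lit 1796))
 (.leaf (nat_lit 0x22045891a) (nat_lit 2820))
))) (.node (nat_lit 0x220460312) (.node (nat_lit 0x220458d3a) (.leaf (nat_lit 0x220458d2a) (nat_lit 2819))
 (.node (nat_lit 0x220460302) (.leaf (nat_lit 0x220458d3a) (nat_lit 1793))
 (.leaf (nat_lit 0x220460302) (nat_lit 1025))
)) (.node (nat_lit 0x220460722) (.leaf (nat_lit 0x220460312) (nat_lit 3075))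
 (.node (nat_lit 0x220460732) (.leaf (nat_lit 0x220460722) (nat_lit 3074))
 (.leaf (nat_lit 0x220460732) (nat_lit 2051))
)))) (.node (nat_lit 0x220468722) (.node (nat_lit 0x220460f32) (.node (nat_lit 0x220460b12) (.leaf (nat_lit 0x220460b02) (nat_lit 1283))
 (.node (nat_lit 0x220460f22) (.leaf (nat_lit 0x220460b12) (nat_lit 3330))
 (.leaf (nat_lit 0x220460f22) (nat_lit 3331))
)) (.node (nat_lit 0x220468302) (.leaf (nat_lit 0x220460f32) (nat_lit 1793))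
 (.node (nat_lit 0x220468312) (.leaf (nat_lit 0x220468302) (nat_lit 769))
 (.leaf (nat_lit 0x220468312) (nat_lit 3331))
))) (.node (nat_lit 0x220468b12) (.node (nat_lit 0x220468732) (.leaf (nat_lit 0x220468722) (nat_lit 2818))
 (.node (nat_lit 0x220468b02) (.leaf (nat_lit 0x220468732) (nat_lit 1796))
 (.leaf (nat_lit 0x220468b02) (nat_lit 1028))
)) (.node (nat_lit 0x220468f22) (.leaf (nat_lit 0x220468b12) (nat_lit 3074))
 (.node (nat_lit 0x220468f32) (.leaf (nat_lit 0x220468f22) (nat_lit 3075))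
 (.leaf (nat_lit 0x220468f32) (nat_lit 1537))
)))))) (.node (nat_lit 0x230448106) (.node (nat_lit 0x220478b0a) (.node (nat_lit 0x220470f2a) (.node (nat_lit 0x22047073a) (.node (nat_lit 0x22047031a) (.leaf (nat_lit 0x22047030a) (nat_lit 1538))
 (.node (nat_lit 0x22047072a) (.leaf (nat_lit 0x22047031a) (nat_lit 2563))
 (.leaf (nat_lit 0x22047072a) (nat_lit 2560))
)) (.node (nat_lit 0x220470b0a) (.leaf (nat_lit 0x22047073a) (nat_lit 2052))
 (.node (nat_lit 0x220470b1a) (.leaf (nat_lit 0x220470b0a) (nat_lit 1796))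
 (.leaf (nat_lit 0x220470b1a) (nat_lit 2819))
))) (.node (nat_lit 0x22047831a) (.node (nat_lit 0x220470f3a) (.leaf (nat_lit 0x220470f2a) (nat_lit 2819))
 (.node (nat_lit 0x22047830a) (.leaf (nat_lit 0x220470f3a) (nat_lit 1794))
 (.leaf (nat_lit 0x22047830a) (nat_lit 1282))
)) (.node (nat_lit 0x22047872a) (.leaf (nat_lit 0x22047831a) (nat_lit 2820))
 (.node (nat_lit 0x22047873a) (.leaf (nat_lit 0x22047872a) (nat_lit 2307))
 (.leaf (nat_lit 0x22047873a) (nat_lit 1796))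
)))) (.node (nat_lit 0x230440526) (.node (nat_lit 0x220478f3a) (.node (nat_lit 0x220478b1a) (.leaf (nat_lit 0x220478b0a) (nat_lit 1540))
 (.node (nat_lit 0x220478f2a) (.leaf (nat_lit 0x220478b1a) (nat_lit 2563))
 (.leaf (nat_lit 0x220478f2a) (nat_lit 2564))
)) (.node (nat_lit 0x230440106) (.leaf (nat_lit 0x220478f3a) (nat_lit 1538))
 (.node (nat_lit 0x230440116) (.leaf (nat_lit 0x230440106) (nat_lit 1026))
 (.leaf (nat_lit 0x230440116) (nat_lit 3075))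
))) (.node (nat_lit 0x230440936) (.node (nat_lit 0x230440536) (.leaf (nat_lit 0x230440526) (nat_lit 1540))
 (.node (nat_lit 0x230440926) (.leaf (nat_lit 0x230440536) (nat_lit 3075))
 (.leaf (nat_lit 0x230440926) (nat_lit 1282))
)) (.node (nat_lit 0x230440d06) (.leaf (nat_lit 0x230440936) (nat_lit 3332))
 (.node (nat_lit 0x230440d16) (.leaf (nat_lit 0x230440d06) (nat_lit 1284))
 (.leaf (nat_lit 0x230440d16) (nat_lit 3331))
))))) (.node (nat_lit 0x23045092e) (.node (nat_lit 0x230448d06) (.node (nat_lit 0x230448536) (.node (nat_lit 0x230448116) (.leaf (nat_lit 0x230448106) (nat_lit 770))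
 (.node (nat_lit 0x230448526) (.leaf (nat_lit 0x230448116) (nat_lit 3331))
 (.leaf (nat_lit 0x230448526) (nat_lit 1284))
)) (.node (nat_lit 0x230448926) (.leaf (nat_lit 0x230448536) (nat_lit 2819))
 (.node (nat_lit 0x230448936) (.leaf (nat_lit 0x230448926) (nat_lit 1026))
 (.leaf (nat_lit 0x230448936) (nat_lit 3076))
))) (.node (nat_lit 0x23045011e) (.node (nat_lit 0x230448d16) (.leaf (nat_lit 0x230448d06) (nat_lit 1028))
 (.node (nat_lit 0x23045010e) (.leaf (nat_lit 0x230448d16) (nat_lit 3075))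
 (.leaf (nat_lit 0x23045010e) (nat_lit 1537))
)) (.node (nat_lit 0x23045052e) (.leaf (nat_lit 0x23045011e) (nat_lit 2563))
 (.node (nat_lit 0x23045053e) (.leaf (nat_lit 0x23045052e) (nat_lit 2052))
 (.leaf (nat_lit 0x23045053e) (nat_lit 3076))
)))) (.node (nat_lit 0x23045852e) (.node (nat_lit 0x230450d1e) (.node (nat_lit 0x23045093e) (.leaf (nat_lit 0x23045092e) (nat_lit 1793))
 (.node (nat_lit 0x230450d0e) (.leaf (nat_lit 0x23045093e) (nat_lit 2819))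
 (.leaf (nat_lit 0x230450d0e) (nat_lit 1796))
)) (.node (nat_lit 0x23045810e) (.leaf (nat_lit 0x230450d1e) (nat_lit 2820))
 (.node (nat_lit 0x23045811e) (.leaf (nat_lit 0x23045810e) (nat_lit 1281))
 (.leaf (nat_lit 0x23045811e) (nat_lit 2819))
))) (.node (nat_lit 0x23045893e) (.node (nat_lit 0x23045853e) (.leaf (nat_lit 0x23045852e) (nat_lit 1796))
 (.node (nat_lit 0x23045892e) (.leaf (nat_lit 0x23045853e) (nat_lit 2819))
 (.leaf (nat_lit 0x23045892e) (nat_lit 1537))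
)) (.node (nat_lit 0x230458d0e) (.leaf (nat_lit 0x23045893e) (nat_lit 3075))
 (.node (nat_lit 0x230458d1e) (.leaf (nat_lit 0x230458d0e) (nat_lit 1540))
 (.leaf (nat_lit 0x230458d1e) (nat_lit 3076))
))))))) (.node (nat_lit 0x62045014a) (.node (nat_lit 0x230478306) (.node (nat_lit 0x230468b2e) (.node (nat_lit 0x230460f0e) (.node (nat_lit 0x23046073e) (.node (nat_lit 0x23046031e) (.leaf (nat_lit 0x23046030e) (nat_lit 1282))
 (.node (nat_lit 0x23046072e) (.leaf (nat_lit 0x23046031e) (nat_lit 2819))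
 (.leaf (nat_lit 0x23046072e) (nat_lit 1796))
)) (.node (nat_lit 0x230460b2e) (.leaf (nat_lit 0x23046073e) (nat_lit 2816))
 (.node (nat_lit 0x230460b3e) (.leaf (nat_lit 0x230460b2e) (nat_lit 1538))
 (.leaf (nat_lit 0x230460b3e) (nat_lit 3075))
))) (.node (nat_lit 0x23046831e) (.node (nat_lit 0x230460f1e) (.leaf (nat_lit 0x230460f0e) (nat_lit 1540))
 (.node (nat_lit 0x23046830e) (.leaf (nat_lit 0x230460f1e) (nat_lit 3075))
 (.leaf (nat_lit 0x23046830e) (nat_lit 1026))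
)) (.node (nat_lit 0x23046872e) (.leaf (nat_lit 0x23046831e) (nat_lit 3076))
 (.node (nat_lit 0x23046873e) (.leaf (nat_lit 0x23046872e) (nat_lit 1540))
 (.leaf (nat_lit 0x23046873e) (nat_lit 2563))
)))) (.node (nat_lit 0x230470726) (.node (nat_lit 0x230468f1e) (.node (nat_lit 0x230468b3e) (.leaf (nat_lit 0x230468b2e) (nat_lit 1282))
 (.node (nat_lit 0x230468f0e) (.leaf (nat_lit 0x230468b3e) (nat_lit 2820))
 (.leaf (nat_lit 0x230468f0e) (nat_lit 1284))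
)) (.node (nat_lit 0x230470306) (.leaf (nat_lit 0x230468f1e) (nat_lit 2819))
 (.node (nat_lit 0x230470316) (.leaf (nat_lit 0x230470306) (nat_lit 1281))
 (.leaf (nat_lit 0x230470316) (nat_lit 2819))
))) (.node (nat_lit 0x230470b36) (.node (nat_lit 0x230470736) (.leaf (nat_lit 0x230470726) (nat_lit 1795))
 (.node (nat_lit 0x230470b26) (.leaf (nat_lit 0x230470736) (nat_lit 2818))
 (.leaf (nat_lit 0x230470b26) (nat_lit 1537))
)) (.node (nat_lit 0x230470f06) (.leaf (nat_lit 0x230470b36) (nat_lit 3075))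
 (.node (nat_lit 0x230470f16) (.leaf (nat_lit 0x230470f06) (nat_lit 1539))
 (.leaf (nat_lit 0x230470f16) (nat_lit 3074))
))))) (.node (nat_lit 0x620440942) (.node (nat_lit 0x230478f06) (.node (nat_lit 0x230478736) (.node (nat_lit 0x230478316) (.leaf (nat_lit 0x230478306) (nat_lit 1025))
 (.node (nat_lit 0x230478726) (.leaf (nat_lit 0x230478316) (nat_lit 3075))
 (.leaf (nat_lit 0x230478726) (nat_lit 1540))
)) (.node (nat_lit 0x230478b26) (.leaf (nat_lit 0x230478736) (nat_lit 2562))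
 (.node (nat_lit 0x230478b36) (.leaf (nat_lit 0x230478b26) (nat_lit 1281))
 (.leaf (nat_lit 0x230478b36) (nat_lit 2819))
))) (.node (nat_lit 0x620440152) (.node (nat_lit 0x230478f16) (.leaf (nat_lit 0x230478f06) (nat_lit 1284))
 (.node (nat_lit 0x620440142) (.leaf (nat_lit 0x230478f16) (nat_lit 2818))
 (.leaf (nat_lit 0x620440142) (nat_lit 1795))
)) (.node (nat_lit 0x620440562) (.leaf (nat_lit 0x620440152) (nat_lit 2304))
 (.node (nat_lit 0x620440572) (.leaf (nat_lit 0x620440562) (nat_lit 2819))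
 (.leaf (nat_lit 0x620440572) (nat_lit 2308))
)))) (.node (nat_lit 0x62044856a) (.node (nat_lit 0x620440d72) (.node (nat_lit 0x620440952) (.leaf (nat_lit 0x620440942) (nat_lit 2052))
 (.node (nat_lit 0x620440d62) (.leaf (nat_lit 0x620440952) (nat_lit 2564))
 (.leaf (nat_lit 0x620440d62) (nat_lit 2560))
)) (.node (nat_lit 0x62044814a) (.leaf (nat_lit 0x620440d72) (nat_lit 2051))
 (.node (nat_lit 0x62044815a) (.leaf (nat_lit 0x62044814a) (nat_lit 1539))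
 (.leaf (nat_lit 0x62044815a) (nat_lit 2560))
))) (.node (nat_lit 0x62044895a) (.node (nat_lit 0x62044857a) (.leaf (nat_lit 0x62044856a) (nat_lit 2564))
 (.node (nat_lit 0x62044894a) (.leaf (nat_lit 0x62044857a) (nat_lit 2052))
 (.leaf (nat_lit 0x62044894a) (nat_lit 1796))
)) (.node (nat_lit 0x620448d6a) (.leaf (nat_lit 0x62044895a) (nat_lit 2820))
 (.node (nat_lit 0x620448d7a) (.leaf (nat_lit 0x620448d6a) (nat_lit 2304))
 (.leaf (nat_lit 0x620448d7a) (nat_lit 1795))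
)))))) (.node (nat_lit 0x62046836a) (.node (nat_lit 0x620458942) (.node (nat_lit 0x620450d6a) (.node (nat_lit 0x62045057a) (.node (nat_lit 0x62045015a) (.leaf (nat_lit 0x62045014a) (nat_lit 1792))
 (.node (nat_lit 0x62045056a) (.leaf (nat_lit 0x62045015a) (nat_lit 2307))
 (.leaf (nat_lit 0x62045056a) (nat_lit 2308))
)) (.node (nat_lit 0x62045094a) (.leaf (nat_lit 0x62045057a) (nat_lit 2308))
 (.node (nat_lit 0x62045095a) (.leaf (nat_lit 0x62045094a) (nat_lit 2052))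
 (.leaf (nat_lit 0x62045095a) (nat_lit 2564))
))) (.node (nat_lit 0x620458152) (.node (nat_lit 0x620450d7a) (.leaf (nat_lit 0x620450d6a) (nat_lit 2051))
 (.node (nat_lit 0x620458142) (.leaf (nat_lit 0x620450d7a) (nat_lit 2048))
 (.leaf (nat_lit 0x620458142) (nat_lit 2048))
)) (.node (nat_lit 0x620458562) (.leaf (nat_lit 0x620458152) (nat_lit 2051))
 (.node (nat_lit 0x620458572) (.leaf (nat_lit 0x620458562) (nat_lit 2563))
 (.leaf (nat_lit 0x620458572) (nat_lit 2564))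
)))) (.node (nat_lit 0x620460742) (.node (nat_lit 0x620458d72) (.node (nat_lit 0x620458952) (.leaf (nat_lit 0x620458942) (nat_lit 2308))
 (.node (nat_lit 0x620458d62) (.leaf (nat_lit 0x620458952) (nat_lit 2308))
 (.leaf (nat_lit 0x620458d62) (nat_lit 2307))
)) (.node (nat_lit 0x620460362) (.leaf (nat_lit 0x620458d72) (nat_lit 2304))
 (.node (nat_lit 0x620460372) (.leaf (nat_lit 0x620460362) (nat_lit 2052))
 (.leaf (nat_lit 0x620460372) (nat_lit 2048))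
))) (.node (nat_lit 0x620460b72) (.node (nat_lit 0x620460752) (.leaf (nat_lit 0x620460742) (nat_lit 2564))
 (.node (nat_lit 0x620460b62) (.leaf (nat_lit 0x620460752) (nat_lit 2050))
 (.leaf (nat_lit 0x620460b62) (nat_lit 1794))
)) (.node (nat_lit 0x620460f42) (.leaf (nat_lit 0x620460b72) (nat_lit 2308))
 (.node (nat_lit 0x620460f52) (.leaf (nat_lit 0x620460f42) (nat_lit 2304))
 (.leaf (nat_lit 0x620460f52) (nat_lit 2308))
))))) (.node (nat_lit 0x620470b6a) (.node (nat_lit 0x620468f4a) (.node (nat_lit 0x62046875a) (.node (nat_lit 0x62046837a) (.leaf (nat_lit 0x62046836a) (nat_lit 1795))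
 (.node (nat_lit 0x62046874a) (.leaf (nat_lit 0x62046837a) (nat_lit 2304))
 (.leaf (nat_lit 0x62046874a) (nat_lit 2308))
)) (.node (nat_lit 0x620468b6a) (.leaf (nat_lit 0x62046875a) (nat_lit 2306))
 (.node (nat_lit 0x620468b7a) (.leaf (nat_lit 0x620468b6a) (nat_lit 2050))
 (.leaf (nat_lit 0x620468b7a) (nat_lit 2564))
))) (.node (nat_lit 0x62047037a) (.node (nat_lit 0x620468f5a) (.leaf (nat_lit 0x620468f4a) (nat_lit 2048))
 (.node (nat_lit 0x62047036a) (.leaf (nat_lit 0x620468f5a) (nat_lit 2051))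
 (.leaf (nat_lit 0x62047036a) (nat_lit 2048))
)) (.node (nat_lit 0x62047074a) (.leaf (nat_lit 0x62047037a) (nat_lit 2051))
 (.node (nat_lit 0x62047075a) (.leaf (nat_lit 0x62047074a) (nat_lit 2052))
 (.leaf (nat_lit 0x62047075a) (nat_lit 2562))
)))) (.node (nat_lit 0x620478742) (.node (nat_lit 0x620470f5a) (.node (nat_lit 0x620470b7a) (.leaf (nat_lit 0x620470b6a) (nat_lit 2306))
 (.node (nat_lit 0x620470f4a) (.leaf (nat_lit 0x620470b7a) (nat_lit 2308))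
 (.leaf (nat_lit 0x620470f4a) (nat_lit 1795))
)) (.node (nat_lit 0x620478362) (.leaf (nat_lit 0x620470f5a) (nat_lit 2304))
 (.node (nat_lit 0x620478372) (.leaf (nat_lit 0x620478362) (nat_lit 2308))
 (.leaf (nat_lit 0x620478372) (nat_lit 1795))
))) (.node (nat_lit 0x620478b72) (.node (nat_lit 0x620478752) (.leaf (nat_lit 0x620478742) (nat_lit 2308))
 (.node (nat_lit 0x620478b62) (.leaf (nat_lit 0x620478752) (nat_lit 2306))
 (.leaf (nat_lit 0x620478b62) (nat_lit 2050))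
)) (.node (nat_lit 0x620478f42) (.leaf (nat_lit 0x620478b72) (nat_lit 2052))
 (.node (nat_lit 0x620478f52) (.leaf (nat_lit 0x620478f42) (nat_lit 2051))
 (.leaf (nat_lit 0x620478f52) (nat_lit 2564))
)))))))) (.node (nat_lit 0xa20461302) (.node (nat_lit 0x630470366) (.node (nat_lit 0x630458146) (.node (nat_lit 0x63044896e) (.node (nat_lit 0x630440d46) (.node (nat_lit 0x630440576) (.node (nat_lit 0x630440156) (.leaf (nat_lit 0x630440146) (nat_lit 1539))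
 (.node (nat_lit 0x630440566) (.leaf (nat_lit 0x630440156) (nat_lit 2560))
 (.leaf (nat_lit 0x630440566) (nat_lit 2052))
)) (.node (nat_lit 0x630440966) (.leaf (nat_lit 0x630440576) (nat_lit 3075))
 (.node (nat_lit 0x630440976) (.leaf (nat_lit 0x630440966) (nat_lit 1795))
 (.leaf (nat_lit 0x630440976) (nat_lit 2816))
))) (.node (nat_lit 0x63044815e) (.node (nat_lit 0x630440d56) (.leaf (nat_lit 0x630440d46) (nat_lit 1796))
 (.node (nat_lit 0x63044814e) (.leaf (nat_lit 0x630440d56) (nat_lit 2818))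
 (.leaf (nat_lit 0x63044814e) (nat_lit 1283))
)) (.node (nat_lit 0x63044856e) (.leaf (nat_lit 0x63044815e) (nat_lit 2816))
 (.node (nat_lit 0x63044857e) (.leaf (nat_lit 0x63044856e) (nat_lit 1796))
 (.leaf (nat_lit 0x63044857e) (nat_lit 2820))
)))) (.node (nat_lit 0x63045056e) (.node (nat_lit 0x630448d5e) (.node (nat_lit 0x63044897e) (.leaf (nat_lit 0x63044896e) (nat_lit 1539))
 (.node (nat_lit 0x630448d4e) (.leaf (nat_lit 0x63044897e) (nat_lit 2560))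
 (.leaf (nat_lit 0x630448d4e) (nat_lit 1540))
)) (.node (nat_lit 0x63045014e) (.leaf (nat_lit 0x630448d5e) (nat_lit 2562))
 (.node (nat_lit 0x63045015e) (.leaf (nat_lit 0x63045014e) (nat_lit 1536))
 (.leaf (nat_lit 0x63045015e) (nat_lit 2563))
))) (.node (nat_lit 0x63045097e) (.node (nat_lit 0x63045057e) (.leaf (nat_lit 0x63045056e) (nat_lit 2052))
 (.node (nat_lit 0x63045096e) (.leaf (nat_lit 0x63045057e) (nat_lit 2564))
 (.leaf (nat_lit 0x63045096e) (nat_lit 1792))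
)) (.node (nat_lit 0x630450d4e) (.leaf (nat_lit 0x63045097e) (nat_lit 2307))
 (.node (nat_lit 0x630450d5e) (.leaf (nat_lit 0x630450d4e) (nat_lit 1796))
 (.leaf (nat_lit 0x630450d5e) (nat_lit 2306))
))))) (.node (nat_lit 0x630460b4e) (.node (nat_lit 0x630458d46) (.node (nat_lit 0x630458576) (.node (nat_lit 0x630458156) (.leaf (nat_lit 0x630458146) (nat_lit 1792))
 (.node (nat_lit 0x630458566) (.leaf (nat_lit 0x630458156) (nat_lit 2307))
 (.leaf (nat_lit 0x630458566) (nat_lit 2308))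
)) (.node (nat_lit 0x630458966) (.leaf (nat_lit 0x630458576) (nat_lit 2819))
 (.node (nat_lit 0x630458976) (.leaf (nat_lit 0x630458966) (nat_lit 2048))
 (.leaf (nat_lit 0x630458976) (nat_lit 2563))
))) (.node (nat_lit 0x63046037e) (.node (nat_lit 0x630458d56) (.leaf (nat_lit 0x630458d46) (nat_lit 2052))
 (.node (nat_lit 0x63046036e) (.leaf (nat_lit 0x630458d56) (nat_lit 2562))
 (.leaf (nat_lit 0x63046036e) (nat_lit 1795))
)) (.node (nat_lit 0x63046074e) (.leaf (nat_lit 0x63046037e) (nat_lit 2304))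
 (.node (nat_lit 0x63046075e) (.leaf (nat_lit 0x63046074e) (nat_lit 1796))
 (.leaf (nat_lit 0x63046075e) (nat_lit 2818))
)))) (.node (nat_lit 0x630468746) (.node (nat_lit 0x630460f7e) (.node (nat_lit 0x630460b5e) (.leaf (nat_lit 0x630460b4e) (nat_lit 1539))
 (.node (nat_lit 0x630460f6e) (.leaf (nat_lit 0x630460b5e) (nat_lit 2560))
 (.leaf (nat_lit 0x630460f6e) (nat_lit 2052))
)) (.node (nat_lit 0x630468366) (.leaf (nat_lit 0x630460f7e) (nat_lit 2562))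
 (.node (nat_lit 0x630468376) (.leaf (nat_lit 0x630468366) (nat_lit 1539))
 (.leaf (nat_lit 0x630468376) (nat_lit 2564))
))) (.node (nat_lit 0x630468b56) (.node (nat_lit 0x630468756) (.leaf (nat_lit 0x630468746) (nat_lit 2052))
 (.node (nat_lit 0x630468b46) (.leaf (nat_lit 0x630468756) (nat_lit 2562))
 (.leaf (nat_lit 0x630468b46) (nat_lit 1795))
)) (.node (nat_lit 0x630468f66) (.leaf (nat_lit 0x630468b56) (nat_lit 2820))
 (.node (nat_lit 0x630468f76) (.leaf (nat_lit 0x630468f66) (nat_lit 1796))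
 (.leaf (nat_lit 0x630468f76) (nat_lit 2306))
)))))) (.node (nat_lit 0xa20449302) (.node (nat_lit 0x630478b4e) (.node (nat_lit 0x630470f66) (.node (nat_lit 0x630470756) (.node (nat_lit 0x630470376) (.leaf (nat_lit 0x630470366) (nat_lit 1792))
 (.node (nat_lit 0x630470746) (.leaf (nat_lit 0x630470376) (nat_lit 2308))
 (.leaf (nat_lit 0x630470746) (nat_lit 2308))
)) (.node (nat_lit 0x630470b46) (.leaf (nat_lit 0x630470756) (nat_lit 2306))
 (.node (nat_lit 0x630470b56) (.leaf (nat_lit 0x630470b46) (nat_lit 2048))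
 (.leaf (nat_lit 0x630470b56) (nat_lit 2564))
))) (.node (nat_lit 0x63047837e) (.node (nat_lit 0x630470f76) (.leaf (nat_lit 0x630470f66) (nat_lit 2052))
 (.node (nat_lit 0x63047836e) (.leaf (nat_lit 0x630470f76) (nat_lit 2050))
 (.leaf (nat_lit 0x63047836e) (nat_lit 2048))
)) (.node (nat_lit 0x63047874e) (.leaf (nat_lit 0x63047837e) (nat_lit 2051))
 (.node (nat_lit 0x63047875e) (.leaf (nat_lit 0x63047874e) (nat_lit 2052))
 (.leaf (nat_lit 0x63047875e) (nat_lit 2562))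
)))) (.node (nat_lit 0xa20441522) (.node (nat_lit 0x630478f7e) (.node (nat_lit 0x630478b5e) (.leaf (nat_lit 0x630478b4e) (nat_lit 1792))
 (.node (nat_lit 0x630478f6e) (.leaf (nat_lit 0x630478b5e) (nat_lit 2307))
 (.leaf (nat_lit 0x630478f6e) (nat_lit 2308))
)) (.node (nat_lit 0xa20441102) (.leaf (nat_lit 0x630478f7e) (nat_lit 2306))
 (.node (nat_lit 0xa20441112) (.leaf (nat_lit 0xa20441102) (nat_lit 1027))
 (.leaf (nat_lit 0xa20441112) (nat_lit 3074))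
))) (.node (nat_lit 0xa20441912) (.node (nat_lit 0xa20441532) (.leaf (nat_lit 0xa20441522) (nat_lit 3074))
 (.node (nat_lit 0xa20441902) (.leaf (nat_lit 0xa20441532) (nat_lit 2052))
 (.leaf (nat_lit 0xa20441902) (nat_lit 1284))
)) (.node (nat_lit 0xa20441d22) (.leaf (nat_lit 0xa20441912) (nat_lit 3330))
 (.node (nat_lit 0xa20441d32) (.leaf (nat_lit 0xa20441d22) (nat_lit 3332))
 (.leaf (nat_lit 0xa20441d32) (nat_lit 1795))
))))) (.node (nat_lit 0xa2045192a) (.node (nat_lit 0xa20449f22) (.node (nat_lit 0xa20449732) (.node (nat_lit 0xa20449312) (.leaf (nat_lit 0xa20449302) (nat_lit 771))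
 (.node (nat_lit 0xa20449722) (.leaf (nat_lit 0xa20449312) (nat_lit 3330))
 (.leaf (nat_lit 0xa20449722) (nat_lit 2818))
)) (.node (nat_lit 0xa20449b02) (.leaf (nat_lit 0xa20449732) (nat_lit 1796))
 (.node (nat_lit 0xa20449b12) (.leaf (nat_lit 0xa20449b02) (nat_lit 1028))
 (.leaf (nat_lit 0xa20449b12) (nat_lit 3074))
))) (.node (nat_lit 0xa2045113a) (.node (nat_lit 0xa20449f32) (.leaf (nat_lit 0xa20449f22) (nat_lit 3076))
 (.node (nat_lit 0xa2045112a) (.leaf (nat_lit 0xa20449f32) (nat_lit 1539))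
 (.leaf (nat_lit 0xa2045112a) (nat_lit 2564))
)) (.node (nat_lit 0xa2045150a) (.leaf (nat_lit 0xa2045113a) (nat_lit 2048))
 (.node (nat_lit 0xa2045151a) (.leaf (nat_lit 0xa2045150a) (nat_lit 2051))
 (.leaf (nat_lit 0xa2045151a) (nat_lit 2050))
)))) (.node (nat_lit 0xa2045970a) (.node (nat_lit 0xa20451d1a) (.node (nat_lit 0xa2045193a) (.leaf (nat_lit 0xa2045192a) (nat_lit 2306))
 (.node (nat_lit 0xa20451d0a) (.leaf (nat_lit 0xa2045193a) (nat_lit 2307))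
 (.leaf (nat_lit 0xa20451d0a) (nat_lit 1792))
)) (.node (nat_lit 0xa2045932a) (.leaf (nat_lit 0xa20451d1a) (nat_lit 2308))
 (.node (nat_lit 0xa2045933a) (.leaf (nat_lit 0xa2045932a) (nat_lit 2305))
 (.leaf (nat_lit 0xa2045933a) (nat_lit 2304))
))) (.node (nat_lit 0xa20459b3a) (.node (nat_lit 0xa2045971a) (.leaf (nat_lit 0xa2045970a) (nat_lit 1795))
 (.node (nat_lit 0xa20459b2a) (.leaf (nat_lit 0xa2045971a) (nat_lit 2306))
 (.leaf (nat_lit 0xa20459b2a) (nat_lit 2562))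
)) (.node (nat_lit 0xa20459f0a) (.leaf (nat_lit 0xa20459b3a) (nat_lit 2051))
 (.node (nat_lit 0xa20459f1a) (.leaf (nat_lit 0xa20459f0a) (nat_lit 2048))
 (.leaf (nat_lit 0xa20459f1a) (nat_lit 2564))
))))))) (.node (nat_lit 0xa3045116e) (.node (nat_lit 0xa2047912a) (.node (nat_lit 0xa20469902) (.node (nat_lit 0xa20461f22) (.node (nat_lit 0xa20461732) (.node (nat_lit 0xa20461312) (.leaf (nat_lit 0xa20461302) (nat_lit 1024))
 (.node (nat_lit 0xa20461722) (.leaf (nat_lit 0xa20461312) (nat_lit 3076))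
 (.leaf (nat_lit 0xa20461722) (nat_lit 3074))
)) (.node (nat_lit 0xa20461b02) (.leaf (nat_lit 0xa20461732) (nat_lit 2052))
 (.node (nat_lit 0xa20461b12) (.leaf (nat_lit 0xa20461b02) (nat_lit 1284))
 (.leaf (nat_lit 0xa20461b12) (nat_lit 2818))
))) (.node (nat_lit 0xa20469112) (.node (nat_lit 0xa20461f32) (.leaf (nat_lit 0xa20461f22) (nat_lit 3332))
 (.node (nat_lit 0xa20469102) (.leaf (nat_lit 0xa20461f32) (nat_lit 1792))
 (.leaf (nat_lit 0xa20469102) (nat_lit 1280))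
)) (.node (nat_lit 0xa20469522) (.leaf (nat_lit 0xa20469112) (nat_lit 3332))
 (.node (nat_lit 0xa20469532) (.leaf (nat_lit 0xa20469522) (nat_lit 2818))
 (.leaf (nat_lit 0xa20469532) (nat_lit 1795))
)))) (.node (nat_lit 0xa2047170a) (.node (nat_lit 0xa20469d32) (.node (nat_lit 0xa20469912) (.leaf (nat_lit 0xa20469902) (nat_lit 1027))
 (.node (nat_lit 0xa20469d22) (.leaf (nat_lit 0xa20469912) (nat_lit 3074))
 (.leaf (nat_lit 0xa20469d22) (nat_lit 3076))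
)) (.node (nat_lit 0xa2047132a) (.leaf (nat_lit 0xa20469d32) (nat_lit 2048))
 (.node (nat_lit 0xa2047133a) (.leaf (nat_lit 0xa2047132a) (nat_lit 2561))
 (.leaf (nat_lit 0xa2047133a) (nat_lit 2051))
))) (.node (nat_lit 0xa20471b3a) (.node (nat_lit 0xa2047171a) (.leaf (nat_lit 0xa2047170a) (nat_lit 2052))
 (.node (nat_lit 0xa20471b2a) (.leaf (nat_lit 0xa2047171a) (nat_lit 2562))
 (.leaf (nat_lit 0xa20471b2a) (nat_lit 2306))
)) (.node (nat_lit 0xa20471f0a) (.leaf (nat_lit 0xa20471b3a) (nat_lit 2308))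
 (.node (nat_lit 0xa20471f1a) (.leaf (nat_lit 0xa20471f0a) (nat_lit 1795))
 (.leaf (nat_lit 0xa20471f1a) (nat_lit 2306))
))))) (.node (nat_lit 0xa30441966) (.node (nat_lit 0xa20479d0a) (.node (nat_lit 0xa2047951a) (.node (nat_lit 0xa2047913a) (.leaf (nat_lit 0xa2047912a) (nat_lit 2308))
 (.node (nat_lit 0xa2047950a) (.leaf (nat_lit 0xa2047913a) (nat_lit 1795))
 (.leaf (nat_lit 0xa2047950a) (nat_lit 1796))
)) (.node (nat_lit 0xa2047992a) (.leaf (nat_lit 0xa2047951a) (nat_lit 2306))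
 (.node (nat_lit 0xa2047993a) (.leaf (nat_lit 0xa2047992a) (nat_lit 2050))
 (.leaf (nat_lit 0xa2047993a) (nat_lit 2052))
))) (.node (nat_lit 0xa30441156) (.node (nat_lit 0xa20479d1a) (.leaf (nat_lit 0xa20479d0a) (nat_lit 1539))
 (.node (nat_lit 0xa30441146) (.leaf (nat_lit 0xa20479d1a) (nat_lit 2564))
 (.leaf (nat_lit 0xa30441146) (nat_lit 1282))
)) (.node (nat_lit 0xa30441566) (.leaf (nat_lit 0xa30441156) (nat_lit 2819))
 (.node (nat_lit 0xa30441576) (.leaf (nat_lit 0xa30441566) (nat_lit 1796))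
 (.leaf (nat_lit 0xa30441576) (nat_lit 2816))
)))) (.node (nat_lit 0xa3044976e) (.node (nat_lit 0xa30441d56) (.node (nat_lit 0xa30441976) (.leaf (nat_lit 0xa30441966) (nat_lit 1538))
 (.node (nat_lit 0xa30441d46) (.leaf (nat_lit 0xa30441976) (nat_lit 3076))
 (.leaf (nat_lit 0xa30441d46) (nat_lit 1540))
)) (.node (nat_lit 0xa3044934e) (.leaf (nat_lit 0xa30441d56) (nat_lit 3072))
 (.node (nat_lit 0xa3044935e) (.leaf (nat_lit 0xa3044934e) (nat_lit 1026))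
 (.leaf (nat_lit 0xa3044935e) (nat_lit 3075))
))) (.node (nat_lit 0xa30449b7e) (.node (nat_lit 0xa3044977e) (.leaf (nat_lit 0xa3044976e) (nat_lit 1540))
 (.node (nat_lit 0xa30449b6e) (.leaf (nat_lit 0xa3044977e) (nat_lit 2561))
 (.leaf (nat_lit 0xa30449b6e) (nat_lit 1282))
)) (.node (nat_lit 0xa30449f4e) (.leaf (nat_lit 0xa30449b7e) (nat_lit 2819))
 (.node (nat_lit 0xa30449f5e) (.leaf (nat_lit 0xa30449f4e) (nat_lit 1284))
 (.leaf (nat_lit 0xa30449f5e) (nat_lit 2817))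
)))))) (.node (nat_lit 0xa30469146) (.node (nat_lit 0xa30459b46) (.node (nat_lit 0xa30451d6e) (.node (nat_lit 0xa3045155e) (.node (nat_lit 0xa3045117e) (.leaf (nat_lit 0xa3045116e) (nat_lit 2308))
 (.node (nat_lit 0xa3045154e) (.leaf (nat_lit 0xa3045117e) (nat_lit 2308))
 (.leaf (nat_lit 0xa3045154e) (nat_lit 1795))
)) (.node (nat_lit 0xa3045194e) (.leaf (nat_lit 0xa3045155e) (nat_lit 2306))
 (.node (nat_lit 0xa3045195e) (.leaf (nat_lit 0xa3045194e) (nat_lit 2052))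
 (.leaf (nat_lit 0xa3045195e) (nat_lit 2564))
))) (.node (nat_lit 0xa30459376) (.node (nat_lit 0xa30451d7e) (.leaf (nat_lit 0xa30451d6e) (nat_lit 2051))
 (.node (nat_lit 0xa30459366) (.leaf (nat_lit 0xa30451d7e) (nat_lit 2050))
 (.leaf (nat_lit 0xa30459366) (nat_lit 2049))
)) (.node (nat_lit 0xa30459746) (.leaf (nat_lit 0xa30459376) (nat_lit 2560))
 (.node (nat_lit 0xa30459756) (.leaf (nat_lit 0xa30459746) (nat_lit 2051))
 (.leaf (nat_lit 0xa30459756) (nat_lit 2050))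
)))) (.node (nat_lit 0xa3046176e) (.node (nat_lit 0xa30459f76) (.node (nat_lit 0xa30459b56) (.leaf (nat_lit 0xa30459b46) (nat_lit 2308))
 (.node (nat_lit 0xa30459f66) (.leaf (nat_lit 0xa30459b56) (nat_lit 2308))
 (.leaf (nat_lit 0xa30459f66) (nat_lit 2307))
)) (.node (nat_lit 0xa3046134e) (.leaf (nat_lit 0xa30459f76) (nat_lit 2306))
 (.node (nat_lit 0xa3046135e) (.leaf (nat_lit 0xa3046134e) (nat_lit 1282))
 (.leaf (nat_lit 0xa3046135e) (nat_lit 2819))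
))) (.node (nat_lit 0xa30461b7e) (.node (nat_lit 0xa3046177e) (.leaf (nat_lit 0xa3046176e) (nat_lit 1796))
 (.node (nat_lit 0xa30461b6e) (.leaf (nat_lit 0xa3046177e) (nat_lit 2819))
 (.leaf (nat_lit 0xa30461b6e) (nat_lit 1538))
)) (.node (nat_lit 0xa30461f4e) (.leaf (nat_lit 0xa30461b7e) (nat_lit 2563))
 (.node (nat_lit 0xa30461f5e) (.leaf (nat_lit 0xa30461f4e) (nat_lit 1540))
 (.leaf (nat_lit 0xa30461f5e) (nat_lit 3075))
))))) (.node (nat_lit 0xa30471b46) (.node (nat_lit 0xa30469d46) (.node (nat_lit 0xa30469576) (.node (nat_lit 0xa30469156) (.leaf (nat_lit 0xa30469146) (nat_lit 1538))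
 (.node (nat_lit 0xa30469566) (.leaf (nat_lit 0xa30469156) (nat_lit 3076))
 (.leaf (nat_lit 0xa30469566) (nat_lit 1540))
)) (.node (nat_lit 0xa30469966) (.leaf (nat_lit 0xa30469576) (nat_lit 2563))
 (.node (nat_lit 0xa30469976) (.leaf (nat_lit 0xa30469966) (nat_lit 1282))
 (.leaf (nat_lit 0xa30469976) (nat_lit 2820))
))) (.node (nat_lit 0xa30471376) (.node (nat_lit 0xa30469d56) (.leaf (nat_lit 0xa30469d46) (nat_lit 1796))
 (.node (nat_lit 0xa30471366) (.leaf (nat_lit 0xa30469d56) (nat_lit 2819))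
 (.leaf (nat_lit 0xa30471366) (nat_lit 2305))
)) (.node (nat_lit 0xa30471746) (.leaf (nat_lit 0xa30471376) (nat_lit 2307))
 (.node (nat_lit 0xa30471756) (.leaf (nat_lit 0xa30471746) (nat_lit 2307))
 (.leaf (nat_lit 0xa30471756) (nat_lit 2306))
)))) (.node (nat_lit 0xa3047954e) (.node (nat_lit 0xa30471f76) (.node (nat_lit 0xa30471b56) (.leaf (nat_lit 0xa30471b46) (nat_lit 2049))
 (.node (nat_lit 0xa30471f66) (.leaf (nat_lit 0xa30471b56) (nat_lit 2563))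
 (.leaf (nat_lit 0xa30471f66) (nat_lit 2051))
)) (.node (nat_lit 0xa3047916e) (.leaf (nat_lit 0xa30471f76) (nat_lit 2050))
 (.node (nat_lit 0xa3047917e) (.leaf (nat_lit 0xa3047916e) (nat_lit 2049))
 (.leaf (nat_lit 0xa3047917e) (nat_lit 2052))
))) (.node (nat_lit 0xa3047995e) (.node (nat_lit 0xa3047955e) (.leaf (nat_lit 0xa3047954e) (nat_lit 2051))
 (.node (nat_lit 0xa3047994e) (.leaf (nat_lit 0xa3047955e) (nat_lit 2050))
 (.leaf (nat_lit 0xa3047994e) (nat_lit 1793))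
)) (.node (nat_lit 0xa30479d6e) (.leaf (nat_lit 0xa3047995e) (nat_lit 2308))
 (.node (nat_lit 0xa30479d7e) (.leaf (nat_lit 0xa30479d6e) (nat_lit 2307))
 (.leaf (nat_lit 0xa30479d7e) (nat_lit 1794))
))))))))) (.node (nat_lit 0x1030408106) (.node (nat_lit 0xe3046132e) (.node (nat_lit 0xe2047134a) (.node (nat_lit 0xe20459362) (.node (nat_lit 0xe20449b4a) (.node (nat_lit 0xe20441d62) (.node (nat_lit 0xe20441572) (.node (nat_lit 0xe20441152) (.leaf (nat_lit 0xe20441142) (nat_lit 1538))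
 (.node (nat_lit 0xe20441562) (.leaf (nat_lit 0xe20441152) (nat_lit 2563))
 (.leaf (nat_lit 0xe20441562) (nat_lit 2560))
)) (.node (nat_lit 0xe20441942) (.leaf (nat_lit 0xe20441572) (nat_lit 2052))
 (.node (nat_lit 0xe20441952) (.leaf (nat_lit 0xe20441942) (nat_lit 1796))
 (.leaf (nat_lit 0xe20441952) (nat_lit 2816))
))) (.node (nat_lit 0xe2044935a) (.node (nat_lit 0xe20441d72) (.leaf (nat_lit 0xe20441d62) (nat_lit 2820))
 (.node (nat_lit 0xe2044934a) (.leaf (nat_lit 0xe20441d72) (nat_lit 1794))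
 (.leaf (nat_lit 0xe2044934a) (nat_lit 1282))
)) (.node (nat_lit 0xe2044976a) (.leaf (nat_lit 0xe2044935a) (nat_lit 2819))
 (.node (nat_lit 0xe2044977a) (.leaf (nat_lit 0xe2044976a) (nat_lit 2305))
 (.leaf (nat_lit 0xe2044977a) (nat_lit 1796))
)))) (.node (nat_lit 0xe2045154a) (.node (nat_lit 0xe20449f7a) (.node (nat_lit 0xe20449b5a) (.leaf (nat_lit 0xe20449b4a) (nat_lit 1540))
 (.node (nat_lit 0xe20449f6a) (.leaf (nat_lit 0xe20449b5a) (nat_lit 2561))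
 (.leaf (nat_lit 0xe20449f6a) (nat_lit 2563))
)) (.node (nat_lit 0xe2045116a) (.leaf (nat_lit 0xe20449f7a) (nat_lit 1538))
 (.node (nat_lit 0xe2045117a) (.leaf (nat_lit 0xe2045116a) (nat_lit 2052))
 (.leaf (nat_lit 0xe2045117a) (nat_lit 2564))
))) (.node (nat_lit 0xe2045197a) (.node (nat_lit 0xe2045155a) (.leaf (nat_lit 0xe2045154a) (nat_lit 2051))
 (.node (nat_lit 0xe2045196a) (.leaf (nat_lit 0xe2045155a) (nat_lit 2050))
 (.leaf (nat_lit 0xe2045196a) (nat_lit 1794))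
)) (.node (nat_lit 0xe20451d4a) (.leaf (nat_lit 0xe2045197a) (nat_lit 2307))
 (.node (nat_lit 0xe20451d5a) (.leaf (nat_lit 0xe20451d4a) (nat_lit 2308))
 (.leaf (nat_lit 0xe20451d5a) (nat_lit 2308))
))))) (.node (nat_lit 0xe20461b62) (.node (nat_lit 0xe20459f42) (.node (nat_lit 0xe20459752) (.node (nat_lit 0xe20459372) (.leaf (nat_lit 0xe20459362) (nat_lit 2304))
 (.node (nat_lit 0xe20459742) (.leaf (nat_lit 0xe20459372) (nat_lit 2305))
 (.leaf (nat_lit 0xe20459742) (nat_lit 2307))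
)) (.node (nat_lit 0xe20459b62) (.leaf (nat_lit 0xe20459752) (nat_lit 1794))
 (.node (nat_lit 0xe20459b72) (.leaf (nat_lit 0xe20459b62) (nat_lit 2050))
 (.leaf (nat_lit 0xe20459b72) (nat_lit 2563))
))) (.node (nat_lit 0xe20461372) (.node (nat_lit 0xe20459f52) (.leaf (nat_lit 0xe20459f42) (nat_lit 2564))
 (.node (nat_lit 0xe20461362) (.leaf (nat_lit 0xe20459f52) (nat_lit 2052))
 (.leaf (nat_lit 0xe20461362) (nat_lit 2051))
)) (.node (nat_lit 0xe20461742) (.leaf (nat_lit 0xe20461372) (nat_lit 2561))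
 (.node (nat_lit 0xe20461752) (.leaf (nat_lit 0xe20461742) (nat_lit 2563))
 (.leaf (nat_lit 0xe20461752) (nat_lit 2050))
)))) (.node (nat_lit 0xe2046954a) (.node (nat_lit 0xe20461f52) (.node (nat_lit 0xe20461b72) (.leaf (nat_lit 0xe20461b62) (nat_lit 1794))
 (.node (nat_lit 0xe20461f42) (.leaf (nat_lit 0xe20461b72) (nat_lit 2307))
 (.leaf (nat_lit 0xe20461f42) (nat_lit 2305))
)) (.node (nat_lit 0xe2046916a) (.leaf (nat_lit 0xe20461f52) (nat_lit 2307))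
 (.node (nat_lit 0xe2046917a) (.leaf (nat_lit 0xe2046916a) (nat_lit 1796))
 (.leaf (nat_lit 0xe2046917a) (nat_lit 2305))
))) (.node (nat_lit 0xe2046997a) (.node (nat_lit 0xe2046955a) (.leaf (nat_lit 0xe2046954a) (nat_lit 2307))
 (.node (nat_lit 0xe2046996a) (.leaf (nat_lit 0xe2046955a) (nat_lit 1794))
 (.leaf (nat_lit 0xe2046996a) (nat_lit 1538))
)) (.node (nat_lit 0xe20469d4a) (.leaf (nat_lit 0xe2046997a) (nat_lit 2563))
 (.node (nat_lit 0xe20469d5a) (.leaf (nat_lit 0xe20469d4a) (nat_lit 2049))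
 (.leaf (nat_lit 0xe20469d5a) (nat_lit 2052))
)))))) (.node (nat_lit 0xe30449306) (.node (nat_lit 0xe20479942) (.node (nat_lit 0xe20471f6a) (.node (nat_lit 0xe2047177a) (.node (nat_lit 0xe2047135a) (.leaf (nat_lit 0xe2047134a) (nat_lit 1538))
 (.node (nat_lit 0xe2047176a) (.leaf (nat_lit 0xe2047135a) (nat_lit 2563))
 (.leaf (nat_lit 0xe2047176a) (nat_lit 2563))
)) (.node (nat_lit 0xe20471b4a) (.leaf (nat_lit 0xe2047177a) (nat_lit 2052))
 (.node (nat_lit 0xe20471b5a) (.leaf (nat_lit 0xe20471b4a) (nat_lit 1796))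
 (.leaf (nat_lit 0xe20471b5a) (nat_lit 2819))
))) (.node (nat_lit 0xe20479152) (.node (nat_lit 0xe20471f7a) (.leaf (nat_lit 0xe20471f6a) (nat_lit 2307))
 (.node (nat_lit 0xe20479142) (.leaf (nat_lit 0xe20471f7a) (nat_lit 1794))
 (.leaf (nat_lit 0xe20479142) (nat_lit 1794))
)) (.node (nat_lit 0xe20479562) (.leaf (nat_lit 0xe20479152) (nat_lit 2820))
 (.node (nat_lit 0xe20479572) (.leaf (nat_lit 0xe20479562) (nat_lit 2307))
 (.leaf (nat_lit 0xe20479572) (nat_lit 1796))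
)))) (.node (nat_lit 0xe30441526) (.node (nat_lit 0xe20479d72) (.node (nat_lit 0xe20479952) (.leaf (nat_lit 0xe20479942) (nat_lit 2052))
 (.node (nat_lit 0xe20479d62) (.leaf (nat_lit 0xe20479952) (nat_lit 2563))
 (.leaf (nat_lit 0xe20479d62) (nat_lit 2564))
)) (.node (nat_lit 0xe30441106) (.leaf (nat_lit 0xe20479d72) (nat_lit 1538))
 (.node (nat_lit 0xe30441116) (.leaf (nat_lit 0xe30441106) (nat_lit 1283))
 (.leaf (nat_lit 0xe30441116) (nat_lit 2818))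
))) (.node (nat_lit 0xe30441936) (.node (nat_lit 0xe30441536) (.leaf (nat_lit 0xe30441526) (nat_lit 1796))
 (.node (nat_lit 0xe30441926) (.leaf (nat_lit 0xe30441536) (nat_lit 2818))
 (.leaf (nat_lit 0xe30441926) (nat_lit 1539))
)) (.node (nat_lit 0xe30441d06) (.leaf (nat_lit 0xe30441936) (nat_lit 3076))
 (.node (nat_lit 0xe30441d16) (.leaf (nat_lit 0xe30441d06) (nat_lit 1540))
 (.leaf (nat_lit 0xe30441d16) (nat_lit 3074))
))))) (.node (nat_lit 0xe3045190e) (.node (nat_lit 0xe30449f06) (.node (nat_lit 0xe30449736) (.node (nat_lit 0xe30449316) (.leaf (nat_lit 0xe30449306) (nat_lit 1027))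
 (.node (nat_lit 0xe30449726) (.leaf (nat_lit 0xe30449316) (nat_lit 3074))
 (.leaf (nat_lit 0xe30449726) (nat_lit 1540))
)) (.node (nat_lit 0xe30449b26) (.leaf (nat_lit 0xe30449736) (nat_lit 2562))
 (.node (nat_lit 0xe30449b36) (.leaf (nat_lit 0xe30449b26) (nat_lit 1283))
 (.leaf (nat_lit 0xe30449b36) (nat_lit 2820))
))) (.node (nat_lit 0xe3045113e) (.node (nat_lit 0xe30449f16) (.leaf (nat_lit 0xe30449f06) (nat_lit 1284))
 (.node (nat_lit 0xe3045112e) (.leaf (nat_lit 0xe30449f16) (nat_lit 2818))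
 (.leaf (nat_lit 0xe3045112e) (nat_lit 1792))
)) (.node (nat_lit 0xe3045150e) (.leaf (nat_lit 0xe3045113e) (nat_lit 2820))
 (.node (nat_lit 0xe3045151e) (.leaf (nat_lit 0xe3045150e) (nat_lit 1795))
 (.leaf (nat_lit 0xe3045151e) (nat_lit 2306))
)))) (.node (nat_lit 0xe3045970e) (.node (nat_lit 0xe30451d3e) (.node (nat_lit 0xe3045191e) (.leaf (nat_lit 0xe3045190e) (nat_lit 1536))
 (.node (nat_lit 0xe30451d2e) (.leaf (nat_lit 0xe3045191e) (nat_lit 2564))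
 (.leaf (nat_lit 0xe30451d2e) (nat_lit 2051))
)) (.node (nat_lit 0xe3045932e) (.leaf (nat_lit 0xe30451d3e) (nat_lit 2562))
 (.node (nat_lit 0xe3045933e) (.leaf (nat_lit 0xe3045932e) (nat_lit 2048))
 (.leaf (nat_lit 0xe3045933e) (nat_lit 2561))
))) (.node (nat_lit 0xe30459b1e) (.node (nat_lit 0xe3045971e) (.leaf (nat_lit 0xe3045970e) (nat_lit 1539))
 (.node (nat_lit 0xe30459b0e) (.leaf (nat_lit 0xe3045971e) (nat_lit 2562))
 (.leaf (nat_lit 0xe30459b0e) (nat_lit 1792))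
)) (.node (nat_lit 0xe30459f2e) (.leaf (nat_lit 0xe30459b1e) (nat_lit 2820))
 (.node (nat_lit 0xe30459f3e) (.leaf (nat_lit 0xe30459f2e) (nat_lit 1795))
 (.leaf (nat_lit 0xe30459f3e) (nat_lit 2818))
))))))) (.node (nat_lit 0x1020429102) (.node (nat_lit 0xe30479106) (.node (nat_lit 0xe3046990e) (.node (nat_lit 0xe30461f2e) (.node (nat_lit 0xe3046171e) (.node (nat_lit 0xe3046133e) (.leaf (nat_lit 0xe3046132e) (nat_lit 1795))
 (.node (nat_lit 0xe3046170e) (.leaf (nat_lit 0xe3046133e) (nat_lit 2817))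
 (.leaf (nat_lit 0xe3046170e) (nat_lit 1796))
)) (.node (nat_lit 0xe30461b0e) (.leaf (nat_lit 0xe3046171e) (nat_lit 2818))
 (.node (nat_lit 0xe30461b1e) (.leaf (nat_lit 0xe30461b0e) (nat_lit 1539))
 (.leaf (nat_lit 0xe30461b1e) (nat_lit 2562))
))) (.node (nat_lit 0xe3046913e) (.node (nat_lit 0xe30461f3e) (.leaf (nat_lit 0xe30461f2e) (nat_lit 2052))
 (.node (nat_lit 0xe3046912e) (.leaf (nat_lit 0xe30461f3e) (nat_lit 2562))
 (.leaf (nat_lit 0xe3046912e) (nat_lit 1539))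
)) (.node (nat_lit 0xe3046950e) (.leaf (nat_lit 0xe3046913e) (nat_lit 2564))
 (.node (nat_lit 0xe3046951e) (.leaf (nat_lit 0xe3046950e) (nat_lit 1540))
 (.leaf (nat_lit 0xe3046951e) (nat_lit 2562))
)))) (.node (nat_lit 0xe30471726) (.node (nat_lit 0xe30469d3e) (.node (nat_lit 0xe3046991e) (.leaf (nat_lit 0xe3046990e) (nat_lit 1283))
 (.node (nat_lit 0xe30469d2e) (.leaf (nat_lit 0xe3046991e) (nat_lit 2820))
 (.leaf (nat_lit 0xe30469d2e) (nat_lit 1796))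
)) (.node (nat_lit 0xe30471306) (.leaf (nat_lit 0xe30469d3e) (nat_lit 2306))
 (.node (nat_lit 0xe30471316) (.leaf (nat_lit 0xe30471306) (nat_lit 1280))
 (.leaf (nat_lit 0xe30471316) (nat_lit 2820))
))) (.node (nat_lit 0xe30471b36) (.node (nat_lit 0xe30471736) (.leaf (nat_lit 0xe30471726) (nat_lit 1796))
 (.node (nat_lit 0xe30471b26) (.leaf (nat_lit 0xe30471736) (nat_lit 2818))
 (.leaf (nat_lit 0xe30471b26) (nat_lit 1536))
)) (.node (nat_lit 0xe30471f06) (.leaf (nat_lit 0xe30471b36) (nat_lit 3076))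
 (.node (nat_lit 0xe30471f16) (.leaf (nat_lit 0xe30471f06) (nat_lit 1540))
 (.leaf (nat_lit 0xe30471f16) (nat_lit 2562))
))))) (.node (nat_lit 0x1020408902) (.node (nat_lit 0xe30479d06) (.node (nat_lit 0xe30479536) (.node (nat_lit 0xe30479116) (.leaf (nat_lit 0xe30479106) (nat_lit 1536))
 (.node (nat_lit 0xe30479526) (.leaf (nat_lit 0xe30479116) (nat_lit 3076))
 (.leaf (nat_lit 0xe30479526) (nat_lit 1539))
)) (.node (nat_lit 0xe30479926) (.leaf (nat_lit 0xe30479536) (nat_lit 2562))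
 (.node (nat_lit 0xe30479936) (.leaf (nat_lit 0xe30479926) (nat_lit 1792))
 (.leaf (nat_lit 0xe30479936) (nat_lit 2820))
))) (.node (nat_lit 0x1020408112) (.node (nat_lit 0xe30479d16) (.leaf (nat_lit 0xe30479d06) (nat_lit 1283))
 (.node (nat_lit 0x1020408102) (.leaf (nat_lit 0xe30479d16) (nat_lit 2818))
 (.leaf (nat_lit 0x1020408102) (nat_lit 0))
)) (.node (nat_lit 0x1020408522) (.leaf (nat_lit 0x1020408112) (nat_lit 3588))
 (.node (nat_lit 0x1020408532) (.leaf (nat_lit 0x1020408522) (nat_lit 3075))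
 (.leaf (nat_lit 0x1020408532) (nat_lit 1028))
)))) (.node (nat_lit 0x1020418562) (.node (nat_lit 0x1020408d32) (.node (nat_lit 0x1020408912) (.leaf (nat_lit 0x1020408902) (nat_lit 260))
 (.node (nat_lit 0x1020408d22) (.leaf (nat_lit 0x1020408912) (nat_lit 3331))
 (.leaf (nat_lit 0x1020408d22) (nat_lit 3332))
)) (.node (nat_lit 0x1020418142) (.leaf (nat_lit 0x1020408d32) (nat_lit 770))
 (.node (nat_lit 0x1020418152) (.leaf (nat_lit 0x1020418142) (nat_lit 2049))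
 (.leaf (nat_lit 0x1020418152) (nat_lit 2051))
))) (.node (nat_lit 0x1020418952) (.node (nat_lit 0x1020418572) (.leaf (nat_lit 0x1020418562) (nat_lit 2564))
 (.node (nat_lit 0x1020418942) (.leaf (nat_lit 0x1020418572) (nat_lit 2051))
 (.leaf (nat_lit 0x1020418942) (nat_lit 2308))
)) (.node (nat_lit 0x1020418d62) (.leaf (nat_lit 0x1020418952) (nat_lit 2308))
 (.node (nat_lit 0x1020418d72) (.leaf (nat_lit 0x1020418d62) (nat_lit 2307))
 (.leaf (nat_lit 0x1020418d72) (nat_lit 2305))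
)))))) (.node (nat_lit 0x1020458142) (.node (nat_lit 0x1020439942) (.node (nat_lit 0x1020429d22) (.node (nat_lit 0x1020429532) (.node (nat_lit 0x1020429112) (.leaf (nat_lit 0x1020429102) (nat_lit 1284))
 (.node (nat_lit 0x1020429522) (.leaf (nat_lit 0x1020429112) (nat_lit 2819))
 (.leaf (nat_lit 0x1020429522) (nat_lit 2818))
)) (.node (nat_lit 0x1020429902) (.leaf (nat_lit 0x1020429532) (nat_lit 1795))
 (.node (nat_lit 0x1020429912) (.leaf (nat_lit 0x1020429902) (nat_lit 1027))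
 (.leaf (nat_lit 0x1020429912) (nat_lit 3074))
))) (.node (nat_lit 0x1020439152) (.node (nat_lit 0x1020429d32) (.leaf (nat_lit 0x1020429d22) (nat_lit 2563))
 (.node (nat_lit 0x1020439142) (.leaf (nat_lit 0x1020429d32) (nat_lit 2052))
 (.leaf (nat_lit 0x1020439142) (nat_lit 1794))
)) (.node (nat_lit 0x1020439562) (.leaf (nat_lit 0x1020439152) (nat_lit 2308))
 (.node (nat_lit 0x1020439572) (.leaf (nat_lit 0x1020439562) (nat_lit 2307))
 (.leaf (nat_lit 0x1020439572) (nat_lit 1796))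
)))) (.node (nat_lit 0x1020448522) (.node (nat_lit 0x1020439d72) (.node (nat_lit 0x1020439952) (.leaf (nat_lit 0x1020439942) (nat_lit 2052))
 (.node (nat_lit 0x1020439d62) (.leaf (nat_lit 0x1020439952) (nat_lit 2051))
 (.leaf (nat_lit 0x1020439d62) (nat_lit 2564))
)) (.node (nat_lit 0x1020448102) (.leaf (nat_lit 0x1020439d72) (nat_lit 1538))
 (.node (nat_lit 0x1020448112) (.leaf (nat_lit 0x1020448102) (nat_lit 256))
 (.leaf (nat_lit 0x1020448112) (nat_lit 3332))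
))) (.node (nat_lit 0x1020448912) (.node (nat_lit 0x1020448532) (.leaf (nat_lit 0x1020448522) (nat_lit 2819))
 (.node (nat_lit 0x1020448902) (.leaf (nat_lit 0x1020448532) (nat_lit 1284))
 (.leaf (nat_lit 0x1020448902) (nat_lit 516))
)) (.node (nat_lit 0x1020448d22) (.leaf (nat_lit 0x1020448912) (nat_lit 3075))
 (.node (nat_lit 0x1020448d32) (.leaf (nat_lit 0x1020448d22) (nat_lit 3076))
 (.leaf (nat_lit 0x1020448d32) (nat_lit 1026))
))))) (.node (nat_lit 0x1020469902) (.node (nat_lit 0x1020458d62) (.node (nat_lit 0x1020458572) (.node (nat_lit 0x1020458152) (.leaf (nat_lit 0x1020458142) (nat_lit 2305))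
 (.node (nat_lit 0x1020458562) (.leaf (nat_lit 0x1020458152) (nat_lit 1795))
 (.leaf (nat_lit 0x1020458562) (nat_lit 2308))
)) (.node (nat_lit 0x1020458942) (.leaf (nat_lit 0x1020458572) (nat_lit 2307))
 (.node (nat_lit 0x1020458952) (.leaf (nat_lit 0x1020458942) (nat_lit 2564))
 (.leaf (nat_lit 0x1020458952) (nat_lit 2052))
))) (.node (nat_lit 0x1020469112) (.node (nat_lit 0x1020458d72) (.leaf (nat_lit 0x1020458d62) (nat_lit 2051))
 (.node (nat_lit 0x1020469102) (.leaf (nat_lit 0x1020458d72) (nat_lit 2561))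
 (.leaf (nat_lit 0x1020469102) (nat_lit 1028))
)) (.node (nat_lit 0x1020469522) (.leaf (nat_lit 0x1020469112) (nat_lit 3075))
 (.node (nat_lit 0x1020469532) (.leaf (nat_lit 0x1020469522) (nat_lit 3074))
 (.leaf (nat_lit 0x1020469532) (nat_lit 1539))
)))) (.node (nat_lit 0x1020479562) (.node (nat_lit 0x1020469d32) (.node (nat_lit 0x1020469912) (.leaf (nat_lit 0x1020469902) (nat_lit 771))
 (.node (nat_lit 0x1020469d22) (.leaf (nat_lit 0x1020469912) (nat_lit 3330))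
 (.leaf (nat_lit 0x1020469d22) (nat_lit 2819))
)) (.node (nat_lit 0x1020479142) (.leaf (nat_lit 0x1020469d32) (nat_lit 1796))
 (.node (nat_lit 0x1020479152) (.leaf (nat_lit 0x1020479142) (nat_lit 1538))
 (.leaf (nat_lit 0x1020479152) (nat_lit 2564))
))) (.node (nat_lit 0x1020479952) (.node (nat_lit 0x1020479572) (.leaf (nat_lit 0x1020479562) (nat_lit 2563))
 (.node (nat_lit 0x1020479942) (.leaf (nat_lit 0x1020479572) (nat_lit 1540))
 (.leaf (nat_lit 0x1020479942) (nat_lit 1796))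
)) (.node (nat_lit 0x1020479d62) (.leaf (nat_lit 0x1020479952) (nat_lit 2307))
 (.node (nat_lit 0x1020479d72) (.leaf (nat_lit 0x1020479d62) (nat_lit 2820))
 (.leaf (nat_lit 0x1020479d72) (nat_lit 1282))
)))))))) (.node (nat_lit 0x1220440102) (.node (nat_lit 0x1030469146) (.node (nat_lit 0x1030439106) (.node (nat_lit 0x1030418966) (.node (nat_lit 0x1030408d06) (.node (nat_lit 0x1030408536) (.node (nat_lit 0x1030408116) (.leaf (nat_lit 0x1030408106) (nat_lit 258))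
 (.node (nat_lit 0x1030408526) (.leaf (nat_lit 0x1030408116) (nat_lit 3332))
 (.leaf (nat_lit 0x1030408526) (nat_lit 772))
)) (.node (nat_lit 0x1030408926) (.leaf (nat_lit 0x1030408536) (nat_lit 2819))
 (.node (nat_lit 0x1030408936) (.leaf (nat_lit 0x1030408926) (nat_lit 514))
 (.leaf (nat_lit 0x1030408936) (nat_lit 3076))
))) (.node (nat_lit 0x1030418156) (.node (nat_lit 0x1030408d16) (.leaf (nat_lit 0x1030408d06) (nat_lit 516))
 (.node (nat_lit 0x1030418146) (.leaf (nat_lit 0x1030408d16) (nat_lit 3075))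
 (.leaf (nat_lit 0x1030418146) (nat_lit 1793))
)) (.node (nat_lit 0x1030418566) (.leaf (nat_lit 0x1030418156) (nat_lit 2307))
 (.node (nat_lit 0x1030418576) (.leaf (nat_lit 0x1030418566) (nat_lit 1795))
 (.leaf (nat_lit 0x1030418576) (nat_lit 2820))
)))) (.node (nat_lit 0x1030429566) (.node (nat_lit 0x1030418d56) (.node (nat_lit 0x1030418976) (.leaf (nat_lit 0x1030418966) (nat_lit 2049))
 (.node (nat_lit 0x1030418d46) (.leaf (nat_lit 0x1030418976) (nat_lit 2563))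
 (.leaf (nat_lit 0x1030418d46) (nat_lit 2052))
)) (.node (nat_lit 0x1030429146) (.leaf (nat_lit 0x1030418d56) (nat_lit 2564))
 (.node (nat_lit 0x1030429156) (.leaf (nat_lit 0x1030429146) (nat_lit 1538))
 (.leaf (nat_lit 0x1030429156) (nat_lit 2564))
))) (.node (nat_lit 0x1030429976) (.node (nat_lit 0x1030429576) (.leaf (nat_lit 0x1030429566) (nat_lit 1540))
 (.node (nat_lit 0x1030429966) (.leaf (nat_lit 0x1030429576) (nat_lit 2563))
 (.leaf (nat_lit 0x1030429966) (nat_lit 1282))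
)) (.node (nat_lit 0x1030429d46) (.leaf (nat_lit 0x1030429976) (nat_lit 2820))
 (.node (nat_lit 0x1030429d56) (.leaf (nat_lit 0x1030429d46) (nat_lit 1796))
 (.leaf (nat_lit 0x1030429d56) (nat_lit 2307))
))))) (.node (nat_lit 0x1030448926) (.node (nat_lit 0x1030439d06) (.node (nat_lit 0x1030439536) (.node (nat_lit 0x1030439116) (.leaf (nat_lit 0x1030439106) (nat_lit 1540))
 (.node (nat_lit 0x1030439526) (.leaf (nat_lit 0x1030439116) (nat_lit 2563))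
 (.leaf (nat_lit 0x1030439526) (nat_lit 1539))
)) (.node (nat_lit 0x1030439926) (.leaf (nat_lit 0x1030439536) (nat_lit 2562))
 (.node (nat_lit 0x1030439936) (.leaf (nat_lit 0x1030439926) (nat_lit 1796))
 (.leaf (nat_lit 0x1030439936) (nat_lit 2307))
))) (.node (nat_lit 0x1030448116) (.node (nat_lit 0x1030439d16) (.leaf (nat_lit 0x1030439d06) (nat_lit 1283))
 (.node (nat_lit 0x1030448106) (.leaf (nat_lit 0x1030439d16) (nat_lit 2818))
 (.leaf (nat_lit 0x1030448106) (nat_lit 514))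
)) (.node (nat_lit 0x1030448526) (.leaf (nat_lit 0x1030448116) (nat_lit 3076))
 (.node (nat_lit 0x1030448536) (.leaf (nat_lit 0x1030448526) (nat_lit 1028))
 (.leaf (nat_lit 0x1030448536) (nat_lit 2563))
)))) (.node (nat_lit 0x1030458566) (.node (nat_lit 0x1030448d16) (.node (nat_lit 0x1030448936) (.leaf (nat_lit 0x1030448926) (nat_lit 770))
 (.node (nat_lit 0x1030448d06) (.leaf (nat_lit 0x1030448936) (nat_lit 2820))
 (.leaf (nat_lit 0x1030448d06) (nat_lit 772))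
)) (.node (nat_lit 0x1030458146) (.leaf (nat_lit 0x1030448d16) (nat_lit 2819))
 (.node (nat_lit 0x1030458156) (.leaf (nat_lit 0x1030458146) (nat_lit 2049))
 (.leaf (nat_lit 0x1030458156) (nat_lit 2051))
))) (.node (nat_lit 0x1030458976) (.node (nat_lit 0x1030458576) (.leaf (nat_lit 0x1030458566) (nat_lit 2051))
 (.node (nat_lit 0x1030458966) (.leaf (nat_lit 0x1030458576) (nat_lit 2564))
 (.leaf (nat_lit 0x1030458966) (nat_lit 2305))
)) (.node (nat_lit 0x1030458d46) (.leaf (nat_lit 0x1030458976) (nat_lit 2307))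
 (.node (nat_lit 0x1030458d56) (.leaf (nat_lit 0x1030458d46) (nat_lit 2308))
 (.leaf (nat_lit 0x1030458d56) (nat_lit 2308))
)))))) (.node (nat_lit 0x122041814a) (.node (nat_lit 0x1030479926) (.node (nat_lit 0x1030469d46) (.node (nat_lit 0x1030469576) (.node (nat_lit 0x1030469156) (.leaf (nat_lit 0x1030469146) (nat_lit 1282))
 (.node (nat_lit 0x1030469566) (.leaf (nat_lit 0x1030469156) (nat_lit 2820))
 (.leaf (nat_lit 0x1030469566) (nat_lit 1284))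
)) (.node (nat_lit 0x1030469966) (.leaf (nat_lit 0x1030469576) (nat_lit 2819))
 (.node (nat_lit 0x1030469976) (.leaf (nat_lit 0x1030469966) (nat_lit 1026))
 (.leaf (nat_lit 0x1030469976) (nat_lit 3076))
))) (.node (nat_lit 0x1030479116) (.node (nat_lit 0x1030469d56) (.leaf (nat_lit 0x1030469d46) (nat_lit 1540))
 (.node (nat_lit 0x1030479106) (.leaf (nat_lit 0x1030469d56) (nat_lit 2563))
 (.leaf (nat_lit 0x1030479106) (nat_lit 1284))
)) (.node (nat_lit 0x1030479526) (.leaf (nat_lit 0x1030479116) (nat_lit 2819))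
 (.node (nat_lit 0x1030479536) (.leaf (nat_lit 0x1030479526) (nat_lit 1283))
 (.leaf (nat_lit 0x1030479536) (nat_lit 2818))
)))) (.node (nat_lit 0x1220408522) (.node (nat_lit 0x1030479d16) (.node (nat_lit 0x1030479936) (.leaf (nat_lit 0x1030479926) (nat_lit 1540))
 (.node (nat_lit 0x1030479d06) (.leaf (nat_lit 0x1030479936) (nat_lit 2563))
 (.leaf (nat_lit 0x1030479d06) (nat_lit 1027))
)) (.node (nat_lit 0x1220408102) (.leaf (nat_lit 0x1030479d16) (nat_lit 3074))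
 (.node (nat_lit 0x1220408112) (.leaf (nat_lit 0x1220408102) (nat_lit 257))
 (.leaf (nat_lit 0x1220408112) (nat_lit 3843))
))) (.node (nat_lit 0x1220408912) (.node (nat_lit 0x1220408532) (.leaf (nat_lit 0x1220408522) (nat_lit 3331))
 (.node (nat_lit 0x1220408902) (.leaf (nat_lit 0x1220408532) (nat_lit 1284))
 (.leaf (nat_lit 0x1220408902) (nat_lit 516))
)) (.node (nat_lit 0x1220408d22) (.leaf (nat_lit 0x1220408912) (nat_lit 3587))
 (.node (nat_lit 0x1220408d32) (.leaf (nat_lit 0x1220408d22) (nat_lit 3588))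
 (.leaf (nat_lit 0x1220408d32) (nat_lit 1026))
))))) (.node (nat_lit 0x1220429b02) (.node (nat_lit 0x1220418d6a) (.node (nat_lit 0x122041857a) (.node (nat_lit 0x122041815a) (.leaf (nat_lit 0x122041814a) (nat_lit 1793))
 (.node (nat_lit 0x122041856a) (.leaf (nat_lit 0x122041815a) (nat_lit 2307))
 (.leaf (nat_lit 0x122041856a) (nat_lit 2307))
)) (.node (nat_lit 0x122041894a) (.leaf (nat_lit 0x122041857a) (nat_lit 2308))
 (.node (nat_lit 0x122041895a) (.leaf (nat_lit 0x122041894a) (nat_lit 2052))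
 (.leaf (nat_lit 0x122041895a) (nat_lit 2564))
))) (.node (nat_lit 0x1220429312) (.node (nat_lit 0x1220418d7a) (.leaf (nat_lit 0x1220418d6a) (nat_lit 2563))
 (.node (nat_lit 0x1220429302) (.leaf (nat_lit 0x1220418d7a) (nat_lit 2049))
 (.leaf (nat_lit 0x1220429302) (nat_lit 1025))
)) (.node (nat_lit 0x1220429722) (.leaf (nat_lit 0x1220429312) (nat_lit 3075))
 (.node (nat_lit 0x1220429732) (.leaf (nat_lit 0x1220429722) (nat_lit 2562))
 (.leaf (nat_lit 0x1220429732) (nat_lit 2052))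
)))) (.node (nat_lit 0x122043976a) (.node (nat_lit 0x1220429f32) (.node (nat_lit 0x1220429b12) (.leaf (nat_lit 0x1220429b02) (nat_lit 1284))
 (.node (nat_lit 0x1220429f22) (.leaf (nat_lit 0x1220429b12) (nat_lit 2818))
 (.leaf (nat_lit 0x1220429f22) (nat_lit 2819))
)) (.node (nat_lit 0x122043934a) (.leaf (nat_lit 0x1220429f32) (nat_lit 1793))
 (.node (nat_lit 0x122043935a) (.leaf (nat_lit 0x122043934a) (nat_lit 1538))
 (.leaf (nat_lit 0x122043935a) (nat_lit 2564))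
))) (.node (nat_lit 0x1220439b5a) (.node (nat_lit 0x122043977a) (.leaf (nat_lit 0x122043976a) (nat_lit 2051))
 (.node (nat_lit 0x1220439b4a) (.leaf (nat_lit 0x122043977a) (nat_lit 2052))
 (.leaf (nat_lit 0x1220439b4a) (nat_lit 1796))
)) (.node (nat_lit 0x1220439f6a) (.leaf (nat_lit 0x1220439b5a) (nat_lit 2307))
 (.node (nat_lit 0x1220439f7a) (.leaf (nat_lit 0x1220439f6a) (nat_lit 2308))
 (.leaf (nat_lit 0x1220439f7a) (nat_lit 1794))
))))))) (.node (nat_lit 0x123042934e) (.node (nat_lit 0x122047134a) (.node (nat_lit 0x122045094a) (.node (nat_lit 0x1220440d22) (.node (nat_lit 0x1220440532) (.node (nat_lit 0x1220440112) (.leaf (nat_lit 0x1220440102) (nat_lit 512))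
 (.node (nat_lit 0x1220440522) (.leaf (nat_lit 0x1220440112) (nat_lit 3587))
 (.leaf (nat_lit 0x1220440522) (nat_lit 3075))
)) (.node (nat_lit 0x1220440902) (.leaf (nat_lit 0x1220440532) (nat_lit 1540))
 (.node (nat_lit 0x1220440912) (.leaf (nat_lit 0x1220440902) (nat_lit 772))
 (.leaf (nat_lit 0x1220440912) (nat_lit 3331))
))) (.node (nat_lit 0x122045015a) (.node (nat_lit 0x1220440d32) (.leaf (nat_lit 0x1220440d22) (nat_lit 3332))
 (.node (nat_lit 0x122045014a) (.leaf (nat_lit 0x1220440d32) (nat_lit 1282))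
 (.leaf (nat_lit 0x122045014a) (nat_lit 2049))
)) (.node (nat_lit 0x122045056a) (.leaf (nat_lit 0x122045015a) (nat_lit 2051))
 (.node (nat_lit 0x122045057a) (.leaf (nat_lit 0x122045056a) (nat_lit 2564))
 (.leaf (nat_lit 0x122045057a) (nat_lit 2564))
)))) (.node (nat_lit 0x1220461722) (.node (nat_lit 0x1220450d7a) (.node (nat_lit 0x122045095a) (.leaf (nat_lit 0x122045094a) (nat_lit 2308))
 (.node (nat_lit 0x1220450d6a) (.leaf (nat_lit 0x122045095a) (nat_lit 2308))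
 (.leaf (nat_lit 0x1220450d6a) (nat_lit 2307))
)) (.node (nat_lit 0x1220461302) (.leaf (nat_lit 0x1220450d7a) (nat_lit 2305))
 (.node (nat_lit 0x1220461312) (.leaf (nat_lit 0x1220461302) (nat_lit 1281))
 (.leaf (nat_lit 0x1220461312) (nat_lit 3331))
))) (.node (nat_lit 0x1220461b12) (.node (nat_lit 0x1220461732) (.leaf (nat_lit 0x1220461722) (nat_lit 2818))
 (.node (nat_lit 0x1220461b02) (.leaf (nat_lit 0x1220461732) (nat_lit 1795))
 (.leaf (nat_lit 0x1220461b02) (nat_lit 1027))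
)) (.node (nat_lit 0x1220461f22) (.leaf (nat_lit 0x1220461b12) (nat_lit 3074))
 (.node (nat_lit 0x1220461f32) (.leaf (nat_lit 0x1220461f22) (nat_lit 3075))
 (.leaf (nat_lit 0x1220461f32) (nat_lit 2049))
))))) (.node (nat_lit 0x1230408926) (.node (nat_lit 0x1220471f6a) (.node (nat_lit 0x122047177a) (.node (nat_lit 0x122047135a) (.leaf (nat_lit 0x122047134a) (nat_lit 1794))
 (.node (nat_lit 0x122047176a) (.leaf (nat_lit 0x122047135a) (nat_lit 2819))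
 (.leaf (nat_lit 0x122047176a) (nat_lit 2304))
)) (.node (nat_lit 0x1220471b4a) (.leaf (nat_lit 0x122047177a) (nat_lit 1796))
 (.node (nat_lit 0x1220471b5a) (.leaf (nat_lit 0x1220471b4a) (nat_lit 2052))
 (.leaf (nat_lit 0x1220471b5a) (nat_lit 2563))
))) (.node (nat_lit 0x1230408116) (.node (nat_lit 0x1220471f7a) (.leaf (nat_lit 0x1220471f6a) (nat_lit 2563))
 (.node (nat_lit 0x1230408106) (.leaf (nat_lit 0x1220471f7a) (nat_lit 1538))
 (.leaf (nat_lit 0x1230408106) (nat_lit 514))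
)) (.node (nat_lit 0x1230408526) (.leaf (nat_lit 0x1230408116) (nat_lit 3587))
 (.node (nat_lit 0x1230408536) (.leaf (nat_lit 0x1230408526) (nat_lit 1028))
 (.leaf (nat_lit 0x1230408536) (nat_lit 3075))
)))) (.node (nat_lit 0x123041856e) (.node (nat_lit 0x1230408d16) (.node (nat_lit 0x1230408936) (.leaf (nat_lit 0x1230408926) (nat_lit 770))
 (.node (nat_lit 0x1230408d06) (.leaf (nat_lit 0x1230408936) (nat_lit 3332))
 (.leaf (nat_lit 0x1230408d06) (nat_lit 772))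
)) (.node (nat_lit 0x123041814e) (.leaf (nat_lit 0x1230408d16) (nat_lit 3331))
 (.node (nat_lit 0x123041815e) (.leaf (nat_lit 0x123041814e) (nat_lit 1537))
 (.leaf (nat_lit 0x123041815e) (nat_lit 2563))
))) (.node (nat_lit 0x123041897e) (.node (nat_lit 0x123041857e) (.leaf (nat_lit 0x123041856e) (nat_lit 2052))
 (.node (nat_lit 0x123041896e) (.leaf (nat_lit 0x123041857e) (nat_lit 2563))
 (.leaf (nat_lit 0x123041896e) (nat_lit 1793))
)) (.node (nat_lit 0x1230418d4e) (.leaf (nat_lit 0x123041897e) (nat_lit 2819))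
 (.node (nat_lit 0x1230418d5e) (.leaf (nat_lit 0x1230418d4e) (nat_lit 1796))
 (.leaf (nat_lit 0x1230418d5e) (nat_lit 2820))
)))))) (.node (nat_lit 0x123045014e) (.node (nat_lit 0x1230439b26) (.node (nat_lit 0x1230429f4e) (.node (nat_lit 0x123042977e) (.node (nat_lit 0x123042935e) (.leaf (nat_lit 0x123042934e) (nat_lit 1282))
 (.node (nat_lit 0x123042976e) (.leaf (nat_lit 0x123042935e) (nat_lit 2820))
 (.leaf (nat_lit 0x123042976e) (nat_lit 1796))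
)) (.node (nat_lit 0x1230429b6e) (.leaf (nat_lit 0x123042977e) (nat_lit 2307))
 (.node (nat_lit 0x1230429b7e) (.leaf (nat_lit 0x1230429b6e) (nat_lit 1538))
 (.leaf (nat_lit 0x1230429b7e) (nat_lit 2564))
))) (.node (nat_lit 0x1230439316) (.node (nat_lit 0x1230429f5e) (.leaf (nat_lit 0x1230429f4e) (nat_lit 1540))
 (.node (nat_lit 0x1230439306) (.leaf (nat_lit 0x1230429f5e) (nat_lit 2563))
 (.leaf (nat_lit 0x1230439306) (nat_lit 1281))
)) (.node (nat_lit 0x1230439726) (.leaf (nat_lit 0x1230439316) (nat_lit 2819))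
 (.node (nat_lit 0x1230439736) (.leaf (nat_lit 0x1230439726) (nat_lit 1796))
 (.leaf (nat_lit 0x1230439736) (nat_lit 2306))
)))) (.node (nat_lit 0x1230440526) (.node (nat_lit 0x1230439f16) (.node (nat_lit 0x1230439b36) (.leaf (nat_lit 0x1230439b26) (nat_lit 1537))
 (.node (nat_lit 0x1230439f06) (.leaf (nat_lit 0x1230439b36) (nat_lit 2563))
 (.leaf (nat_lit 0x1230439f06) (nat_lit 1540))
)) (.node (nat_lit 0x1230440106) (.leaf (nat_lit 0x1230439f16) (nat_lit 2562))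
 (.node (nat_lit 0x1230440116) (.leaf (nat_lit 0x1230440106) (nat_lit 770))
 (.leaf (nat_lit 0x1230440116) (nat_lit 3331))
))) (.node (nat_lit 0x1230440936) (.node (nat_lit 0x1230440536) (.leaf (nat_lit 0x1230440526) (nat_lit 1284))
 (.node (nat_lit 0x1230440926) (.leaf (nat_lit 0x1230440536) (nat_lit 2819))
 (.leaf (nat_lit 0x1230440926) (nat_lit 1026))
)) (.node (nat_lit 0x1230440d06) (.leaf (nat_lit 0x1230440936) (nat_lit 3076))
 (.node (nat_lit 0x1230440d16) (.leaf (nat_lit 0x1230440d06) (nat_lit 1028))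
 (.leaf (nat_lit 0x1230440d16) (nat_lit 3075))
))))) (.node (nat_lit 0x1230461b6e) (.node (nat_lit 0x1230450d4e) (.node (nat_lit 0x123045057e) (.node (nat_lit 0x123045015e) (.leaf (nat_lit 0x123045014e) (nat_lit 1793))
 (.node (nat_lit 0x123045056e) (.leaf (nat_lit 0x123045015e) (nat_lit 2307))
 (.leaf (nat_lit 0x123045056e) (nat_lit 2308))
)) (.node (nat_lit 0x123045096e) (.leaf (nat_lit 0x123045057e) (nat_lit 2820))
 (.node (nat_lit 0x123045097e) (.leaf (nat_lit 0x123045096e) (nat_lit 2049))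
 (.leaf (nat_lit 0x123045097e) (nat_lit 2563))
))) (.node (nat_lit 0x123046135e) (.node (nat_lit 0x1230450d5e) (.leaf (nat_lit 0x1230450d4e) (nat_lit 2052))
 (.node (nat_lit 0x123046134e) (.leaf (nat_lit 0x1230450d5e) (nat_lit 2564))
 (.leaf (nat_lit 0x123046134e) (nat_lit 1538))
)) (.node (nat_lit 0x123046176e) (.leaf (nat_lit 0x123046135e) (nat_lit 3075))
 (.node (nat_lit 0x123046177e) (.leaf (nat_lit 0x123046176e) (nat_lit 1540))
 (.leaf (nat_lit 0x123046177e) (nat_lit 2560))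
)))) (.node (nat_lit 0x1230471726) (.node (nat_lit 0x1230461f5e) (.node (nat_lit 0x1230461b7e) (.leaf (nat_lit 0x1230461b6e) (nat_lit 1282))
 (.node (nat_lit 0x1230461f4e) (.leaf (nat_lit 0x1230461b7e) (nat_lit 2819))
 (.leaf (nat_lit 0x1230461f4e) (nat_lit 1796))
)) (.node (nat_lit 0x1230471306) (.leaf (nat_lit 0x1230461f5e) (nat_lit 2819))
 (.node (nat_lit 0x1230471316) (.leaf (nat_lit 0x1230471306) (nat_lit 1537))
 (.leaf (nat_lit 0x1230471316) (nat_lit 3075))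
))) (.node (nat_lit 0x1230471b36) (.node (nat_lit 0x1230471736) (.leaf (nat_lit 0x1230471726) (nat_lit 1539))
 (.node (nat_lit 0x1230471b26) (.leaf (nat_lit 0x1230471736) (nat_lit 2562))
 (.leaf (nat_lit 0x1230471b26) (nat_lit 1793))
)) (.node (nat_lit 0x1230471f06) (.leaf (nat_lit 0x1230471b36) (nat_lit 2819))
 (.node (nat_lit 0x1230471f16) (.leaf (nat_lit 0x1230471f06) (nat_lit 1283))
 (.leaf (nat_lit 0x1230471f16) (nat_lit 2818))
)))))))))) (.node (nat_lit 0x1a20408302) (.node (nat_lit 0x163040810e) (.node (nat_lit 0x143044814e) (.node (nat_lit 0x142046916a) (.node (nat_lit 0x142043916a) (.node (nat_lit 0x142041894a) (.node (nat_lit 0x1420408d2a) (.node (nat_lit 0x142040853a) (.node (nat_lit 0x142040811a) (.leaf (nat_lit 0x142040810a) (nat_lit 1027))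
 (.node (nat_lit 0x142040852a) (.leaf (nat_lit 0x142040811a) (nat_lit 3072))
 (.leaf (nat_lit 0x142040852a) (nat_lit 2563))
)) (.node (nat_lit 0x142040890a) (.leaf (nat_lit 0x142040853a) (nat_lit 1540))
 (.node (nat_lit 0x142040891a) (.leaf (nat_lit 0x142040890a) (nat_lit 1284))
 (.leaf (nat_lit 0x142040891a) (nat_lit 2819))
))) (.node (nat_lit 0x142041815a) (.node (nat_lit 0x1420408d3a) (.leaf (nat_lit 0x1420408d2a) (nat_lit 2817))
 (.node (nat_lit 0x142041814a) (.leaf (nat_lit 0x1420408d3a) (nat_lit 1283))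
 (.leaf (nat_lit 0x142041814a) (nat_lit 1536))
)) (.node (nat_lit 0x142041856a) (.leaf (nat_lit 0x142041815a) (nat_lit 2563))
 (.node (nat_lit 0x142041857a) (.leaf (nat_lit 0x142041856a) (nat_lit 2051))
 (.leaf (nat_lit 0x142041857a) (nat_lit 2052))
)))) (.node (nat_lit 0x142042950a) (.node (nat_lit 0x1420418d7a) (.node (nat_lit 0x142041895a) (.leaf (nat_lit 0x142041894a) (nat_lit 1796))
 (.node (nat_lit 0x1420418d6a) (.leaf (nat_lit 0x142041895a) (nat_lit 2307))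
 (.leaf (nat_lit 0x1420418d6a) (nat_lit 2308))
)) (.node (nat_lit 0x142042912a) (.leaf (nat_lit 0x1420418d7a) (nat_lit 1792))
 (.node (nat_lit 0x142042913a) (.leaf (nat_lit 0x142042912a) (nat_lit 1796))
 (.leaf (nat_lit 0x142042913a) (nat_lit 1792))
))) (.node (nat_lit 0x142042993a) (.node (nat_lit 0x142042951a) (.leaf (nat_lit 0x142042950a) (nat_lit 1796))
 (.node (nat_lit 0x142042992a) (.leaf (nat_lit 0x142042951a) (nat_lit 1794))
 (.leaf (nat_lit 0x142042992a) (nat_lit 1538))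
)) (.node (nat_lit 0x1420429d0a) (.leaf (nat_lit 0x142042993a) (nat_lit 2052))
 (.node (nat_lit 0x1420429d1a) (.leaf (nat_lit 0x1420429d0a) (nat_lit 1536))
 (.leaf (nat_lit 0x1420429d1a) (nat_lit 2052))
))))) (.node (nat_lit 0x142044894a) (.node (nat_lit 0x1420439d4a) (.node (nat_lit 0x142043955a) (.node (nat_lit 0x142043917a) (.leaf (nat_lit 0x142043916a) (nat_lit 1796))
 (.node (nat_lit 0x142043954a) (.leaf (nat_lit 0x142043917a) (nat_lit 1795))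
 (.leaf (nat_lit 0x142043954a) (nat_lit 1796))
)) (.node (nat_lit 0x142043996a) (.leaf (nat_lit 0x142043955a) (nat_lit 1794))
 (.node (nat_lit 0x142043997a) (.leaf (nat_lit 0x142043996a) (nat_lit 1538))
 (.leaf (nat_lit 0x142043997a) (nat_lit 2052))
))) (.node (nat_lit 0x142044815a) (.node (nat_lit 0x1420439d5a) (.leaf (nat_lit 0x1420439d4a) (nat_lit 1539))
 (.node (nat_lit 0x142044814a) (.leaf (nat_lit 0x1420439d5a) (nat_lit 2052))
 (.leaf (nat_lit 0x142044814a) (nat_lit 1283))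
)) (.node (nat_lit 0x142044856a) (.leaf (nat_lit 0x142044815a) (nat_lit 2816))
 (.node (nat_lit 0x142044857a) (.leaf (nat_lit 0x142044856a) (nat_lit 2307))
 (.leaf (nat_lit 0x142044857a) (nat_lit 1796))
)))) (.node (nat_lit 0x142045852a) (.node (nat_lit 0x1420448d7a) (.node (nat_lit 0x142044895a) (.leaf (nat_lit 0x142044894a) (nat_lit 1540))
 (.node (nat_lit 0x1420448d6a) (.leaf (nat_lit 0x142044895a) (nat_lit 2563))
 (.leaf (nat_lit 0x1420448d6a) (nat_lit 2561))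
)) (.node (nat_lit 0x142045810a) (.leaf (nat_lit 0x1420448d7a) (nat_lit 1539))
 (.node (nat_lit 0x142045811a) (.leaf (nat_lit 0x142045810a) (nat_lit 1280))
 (.leaf (nat_lit 0x142045811a) (nat_lit 2819))
))) (.node (nat_lit 0x142045891a) (.node (nat_lit 0x142045853a) (.leaf (nat_lit 0x142045852a) (nat_lit 2307))
 (.node (nat_lit 0x142045890a) (.leaf (nat_lit 0x142045853a) (nat_lit 1796))
 (.leaf (nat_lit 0x142045890a) (nat_lit 1540))
)) (.node (nat_lit 0x1420458d2a) (.leaf (nat_lit 0x142045891a) (nat_lit 2563))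
 (.node (nat_lit 0x1420458d3a) (.leaf (nat_lit 0x1420458d2a) (nat_lit 2564))
 (.leaf (nat_lit 0x1420458d3a) (nat_lit 1536))
)))))) (.node (nat_lit 0x143041814e) (.node (nat_lit 0x142047992a) (.node (nat_lit 0x1420469d4a) (.node (nat_lit 0x142046955a) (.node (nat_lit 0x142046917a) (.leaf (nat_lit 0x142046916a) (nat_lit 1540))
 (.node (nat_lit 0x142046954a) (.leaf (nat_lit 0x142046917a) (nat_lit 2048))
 (.leaf (nat_lit 0x142046954a) (nat_lit 2052))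
)) (.node (nat_lit 0x142046996a) (.leaf (nat_lit 0x142046955a) (nat_lit 1538))
 (.node (nat_lit 0x142046997a) (.leaf (nat_lit 0x142046996a) (nat_lit 1282))
 (.leaf (nat_lit 0x142046997a) (nat_lit 2308))
))) (.node (nat_lit 0x142047913a) (.node (nat_lit 0x1420469d5a) (.leaf (nat_lit 0x1420469d4a) (nat_lit 1792))
 (.node (nat_lit 0x142047912a) (.leaf (nat_lit 0x1420469d5a) (nat_lit 1796))
 (.leaf (nat_lit 0x142047912a) (nat_lit 2052))
)) (.node (nat_lit 0x142047950a) (.leaf (nat_lit 0x142047913a) (nat_lit 1539))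
 (.node (nat_lit 0x142047951a) (.leaf (nat_lit 0x142047950a) (nat_lit 1540))
 (.leaf (nat_lit 0x142047951a) (nat_lit 2050))
)))) (.node (nat_lit 0x143040852e) (.node (nat_lit 0x1420479d1a) (.node (nat_lit 0x142047993a) (.leaf (nat_lit 0x142047992a) (nat_lit 1794))
 (.node (nat_lit 0x1420479d0a) (.leaf (nat_lit 0x142047993a) (nat_lit 1796))
 (.leaf (nat_lit 0x1420479d0a) (nat_lit 1283))
)) (.node (nat_lit 0x143040810e) (.leaf (nat_lit 0x1420479d1a) (nat_lit 2308))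
 (.node (nat_lit 0x143040811e) (.leaf (nat_lit 0x143040810e) (nat_lit 771))
 (.leaf (nat_lit 0x143040811e) (nat_lit 3328))
))) (.node (nat_lit 0x143040893e) (.node (nat_lit 0x143040853e) (.leaf (nat_lit 0x143040852e) (nat_lit 1284))
 (.node (nat_lit 0x143040892e) (.leaf (nat_lit 0x143040853e) (nat_lit 2819))
 (.leaf (nat_lit 0x143040892e) (nat_lit 1027))
)) (.node (nat_lit 0x1430408d0e) (.leaf (nat_lit 0x143040893e) (nat_lit 3073))
 (.node (nat_lit 0x1430408d1e) (.leaf (nat_lit 0x1430408d0e) (nat_lit 1028))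
 (.leaf (nat_lit 0x1430408d1e) (nat_lit 3075))
))))) (.node (nat_lit 0x143042994e) (.node (nat_lit 0x1430418d4e) (.node (nat_lit 0x143041857e) (.node (nat_lit 0x143041815e) (.leaf (nat_lit 0x143041814e) (nat_lit 1280))
 (.node (nat_lit 0x143041856e) (.leaf (nat_lit 0x143041815e) (nat_lit 2819))
 (.leaf (nat_lit 0x143041856e) (nat_lit 1796))
)) (.node (nat_lit 0x143041896e) (.leaf (nat_lit 0x143041857e) (nat_lit 2307))
 (.node (nat_lit 0x143041897e) (.leaf (nat_lit 0x143041896e) (nat_lit 1536))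
 (.leaf (nat_lit 0x143041897e) (nat_lit 2564))
))) (.node (nat_lit 0x143042917e) (.node (nat_lit 0x1430418d5e) (.leaf (nat_lit 0x1430418d4e) (nat_lit 1540))
 (.node (nat_lit 0x143042916e) (.leaf (nat_lit 0x1430418d5e) (nat_lit 2563))
 (.leaf (nat_lit 0x143042916e) (nat_lit 1539))
)) (.node (nat_lit 0x143042954e) (.leaf (nat_lit 0x143042917e) (nat_lit 2052))
 (.node (nat_lit 0x143042955e) (.leaf (nat_lit 0x143042954e) (nat_lit 1540))
 (.leaf (nat_lit 0x143042955e) (nat_lit 2050))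
)))) (.node (nat_lit 0x143043950e) (.node (nat_lit 0x1430429d7e) (.node (nat_lit 0x143042995e) (.leaf (nat_lit 0x143042994e) (nat_lit 1283))
 (.node (nat_lit 0x1430429d6e) (.leaf (nat_lit 0x143042995e) (nat_lit 2308))
 (.leaf (nat_lit 0x1430429d6e) (nat_lit 1796))
)) (.node (nat_lit 0x143043912e) (.leaf (nat_lit 0x1430429d7e) (nat_lit 1794))
 (.node (nat_lit 0x143043913e) (.leaf (nat_lit 0x143043912e) (nat_lit 1536))
 (.leaf (nat_lit 0x143043913e) (nat_lit 2052))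
))) (.node (nat_lit 0x143043991e) (.node (nat_lit 0x143043951e) (.leaf (nat_lit 0x143043950e) (nat_lit 1540))
 (.node (nat_lit 0x143043990e) (.leaf (nat_lit 0x143043951e) (nat_lit 2050))
 (.leaf (nat_lit 0x143043990e) (nat_lit 1280))
)) (.node (nat_lit 0x1430439d2e) (.leaf (nat_lit 0x143043991e) (nat_lit 2308))
 (.node (nat_lit 0x1430439d3e) (.leaf (nat_lit 0x1430439d2e) (nat_lit 1796))
 (.leaf (nat_lit 0x1430439d3e) (nat_lit 1794))
))))))) (.node (nat_lit 0x162042932a) (.node (nat_lit 0x143047916e) (.node (nat_lit 0x143045892e) (.node (nat_lit 0x1430448d4e) (.node (nat_lit 0x143044857e) (.node (nat_lit 0x143044815e) (.leaf (nat_lit 0x143044814e) (nat_lit 1027))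
 (.node (nat_lit 0x143044856e) (.leaf (nat_lit 0x143044815e) (nat_lit 3072))
 (.leaf (nat_lit 0x143044856e) (nat_lit 1540))
)) (.node (nat_lit 0x143044896e) (.leaf (nat_lit 0x143044857e) (nat_lit 2563))
 (.node (nat_lit 0x143044897e) (.leaf (nat_lit 0x143044896e) (nat_lit 1283))
 (.leaf (nat_lit 0x143044897e) (nat_lit 2817))
))) (.node (nat_lit 0x143045811e) (.node (nat_lit 0x1430448d5e) (.leaf (nat_lit 0x1430448d4e) (nat_lit 1284))
 (.node (nat_lit 0x143045810e) (.leaf (nat_lit 0x1430448d5e) (nat_lit 2819))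
 (.leaf (nat_lit 0x143045810e) (nat_lit 1024))
)) (.node (nat_lit 0x143045852e) (.leaf (nat_lit 0x143045811e) (nat_lit 3075))
 (.node (nat_lit 0x143045853e) (.leaf (nat_lit 0x143045852e) (nat_lit 1540))
 (.leaf (nat_lit 0x143045853e) (nat_lit 2563))
)))) (.node (nat_lit 0x143046950e) (.node (nat_lit 0x1430458d1e) (.node (nat_lit 0x143045893e) (.leaf (nat_lit 0x143045892e) (nat_lit 1280))
 (.node (nat_lit 0x1430458d0e) (.leaf (nat_lit 0x143045893e) (nat_lit 2820))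
 (.leaf (nat_lit 0x1430458d0e) (nat_lit 1284))
)) (.node (nat_lit 0x143046912e) (.leaf (nat_lit 0x1430458d1e) (nat_lit 2819))
 (.node (nat_lit 0x143046913e) (.leaf (nat_lit 0x143046912e) (nat_lit 1283))
 (.leaf (nat_lit 0x143046913e) (nat_lit 2308))
))) (.node (nat_lit 0x143046991e) (.node (nat_lit 0x143046951e) (.leaf (nat_lit 0x143046950e) (nat_lit 1284))
 (.node (nat_lit 0x143046990e) (.leaf (nat_lit 0x143046951e) (nat_lit 2306))
 (.leaf (nat_lit 0x143046990e) (nat_lit 1027))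
)) (.node (nat_lit 0x1430469d2e) (.leaf (nat_lit 0x143046991e) (nat_lit 2564))
 (.node (nat_lit 0x1430469d3e) (.leaf (nat_lit 0x1430469d2e) (nat_lit 1540))
 (.leaf (nat_lit 0x1430469d3e) (nat_lit 2050))
))))) (.node (nat_lit 0x162040890a) (.node (nat_lit 0x1430479d6e) (.node (nat_lit 0x143047955e) (.node (nat_lit 0x143047917e) (.leaf (nat_lit 0x143047916e) (nat_lit 1792))
 (.node (nat_lit 0x143047954e) (.leaf (nat_lit 0x143047917e) (nat_lit 1796))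
 (.leaf (nat_lit 0x143047954e) (nat_lit 1796))
)) (.node (nat_lit 0x143047994e) (.leaf (nat_lit 0x143047955e) (nat_lit 1794))
 (.node (nat_lit 0x143047995e) (.leaf (nat_lit 0x143047994e) (nat_lit 1536))
 (.leaf (nat_lit 0x143047995e) (nat_lit 2052))
))) (.node (nat_lit 0x162040811a) (.node (nat_lit 0x1430479d7e) (.leaf (nat_lit 0x1430479d6e) (nat_lit 2052))
 (.node (nat_lit 0x162040810a) (.leaf (nat_lit 0x1430479d7e) (nat_lit 1538))
 (.leaf (nat_lit 0x162040810a) (nat_lit 1283))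
)) (.node (nat_lit 0x162040852a) (.leaf (nat_lit 0x162040811a) (nat_lit 2816))
 (.node (nat_lit 0x162040853a) (.leaf (nat_lit 0x162040852a) (nat_lit 2820))
 (.leaf (nat_lit 0x162040853a) (nat_lit 1796))
)))) (.node (nat_lit 0x1620418562) (.node (nat_lit 0x1620408d3a) (.node (nat_lit 0x162040891a) (.leaf (nat_lit 0x162040890a) (nat_lit 1540))
 (.node (nat_lit 0x1620408d2a) (.leaf (nat_lit 0x162040891a) (nat_lit 3076))
 (.leaf (nat_lit 0x1620408d2a) (nat_lit 2560))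
)) (.node (nat_lit 0x1620418142) (.leaf (nat_lit 0x1620408d3a) (nat_lit 1539))
 (.node (nat_lit 0x1620418152) (.leaf (nat_lit 0x1620418142) (nat_lit 1792))
 (.leaf (nat_lit 0x1620418152) (nat_lit 2307))
))) (.node (nat_lit 0x1620418952) (.node (nat_lit 0x1620418572) (.leaf (nat_lit 0x1620418562) (nat_lit 2307))
 (.node (nat_lit 0x1620418942) (.leaf (nat_lit 0x1620418572) (nat_lit 2308))
 (.leaf (nat_lit 0x1620418942) (nat_lit 2052))
)) (.node (nat_lit 0x1620418d62) (.leaf (nat_lit 0x1620418952) (nat_lit 2564))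
 (.node (nat_lit 0x1620418d72) (.leaf (nat_lit 0x1620418d62) (nat_lit 2563))
 (.leaf (nat_lit 0x1620418d72) (nat_lit 2048))
)))))) (.node (nat_lit 0x162045010a) (.node (nat_lit 0x1620439b62) (.node (nat_lit 0x1620429f0a) (.node (nat_lit 0x162042971a) (.node (nat_lit 0x162042933a) (.leaf (nat_lit 0x162042932a) (nat_lit 2051))
 (.node (nat_lit 0x162042970a) (.leaf (nat_lit 0x162042933a) (nat_lit 2048))
 (.leaf (nat_lit 0x162042970a) (nat_lit 2052))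
)) (.node (nat_lit 0x1620429b2a) (.leaf (nat_lit 0x162042971a) (nat_lit 2050))
 (.node (nat_lit 0x1620429b3a) (.leaf (nat_lit 0x1620429b2a) (nat_lit 1794))
 (.leaf (nat_lit 0x1620429b3a) (nat_lit 2308))
))) (.node (nat_lit 0x1620439372) (.node (nat_lit 0x1620429f1a) (.leaf (nat_lit 0x1620429f0a) (nat_lit 1792))
 (.node (nat_lit 0x1620439362) (.leaf (nat_lit 0x1620429f1a) (nat_lit 2307))
 (.leaf (nat_lit 0x1620439362) (nat_lit 2052))
)) (.node (nat_lit 0x1620439742) (.leaf (nat_lit 0x1620439372) (nat_lit 2051))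
 (.node (nat_lit 0x1620439752) (.leaf (nat_lit 0x1620439742) (nat_lit 2052))
 (.leaf (nat_lit 0x1620439752) (nat_lit 2050))
)))) (.node (nat_lit 0x1620440562) (.node (nat_lit 0x1620439f52) (.node (nat_lit 0x1620439b72) (.leaf (nat_lit 0x1620439b62) (nat_lit 1794))
 (.node (nat_lit 0x1620439f42) (.leaf (nat_lit 0x1620439b72) (nat_lit 2308))
 (.leaf (nat_lit 0x1620439f42) (nat_lit 1795))
)) (.node (nat_lit 0x1620440142) (.leaf (nat_lit 0x1620439f52) (nat_lit 2308))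
 (.node (nat_lit 0x1620440152) (.leaf (nat_lit 0x1620440142) (nat_lit 1539))
 (.leaf (nat_lit 0x1620440152) (nat_lit 2560))
))) (.node (nat_lit 0x1620440952) (.node (nat_lit 0x1620440572) (.leaf (nat_lit 0x1620440562) (nat_lit 2563))
 (.node (nat_lit 0x1620440942) (.leaf (nat_lit 0x1620440572) (nat_lit 2052))
 (.leaf (nat_lit 0x1620440942) (nat_lit 1796))
)) (.node (nat_lit 0x1620440d62) (.leaf (nat_lit 0x1620440952) (nat_lit 2820))
 (.node (nat_lit 0x1620440d72) (.leaf (nat_lit 0x1620440d62) (nat_lit 2816))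
 (.leaf (nat_lit 0x1620440d72) (nat_lit 1795))
))))) (.node (nat_lit 0x1620461b62) (.node (nat_lit 0x1620450d2a) (.node (nat_lit 0x162045053a) (.node (nat_lit 0x162045011a) (.leaf (nat_lit 0x162045010a) (nat_lit 1536))
 (.node (nat_lit 0x162045052a) (.leaf (nat_lit 0x162045011a) (nat_lit 2563))
 (.leaf (nat_lit 0x162045052a) (nat_lit 2564))
)) (.node (nat_lit 0x162045090a) (.leaf (nat_lit 0x162045053a) (nat_lit 2052))
 (.node (nat_lit 0x162045091a) (.leaf (nat_lit 0x162045090a) (nat_lit 1796))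
 (.leaf (nat_lit 0x162045091a) (nat_lit 2820))
))) (.node (nat_lit 0x1620461372) (.node (nat_lit 0x1620450d3a) (.leaf (nat_lit 0x1620450d2a) (nat_lit 2307))
 (.node (nat_lit 0x1620461362) (.leaf (nat_lit 0x1620450d3a) (nat_lit 1792))
 (.leaf (nat_lit 0x1620461362) (nat_lit 1796))
)) (.node (nat_lit 0x1620461742) (.leaf (nat_lit 0x1620461372) (nat_lit 2304))
 (.node (nat_lit 0x1620461752) (.leaf (nat_lit 0x1620461742) (nat_lit 2308))
 (.leaf (nat_lit 0x1620461752) (nat_lit 1794))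
)))) (.node (nat_lit 0x162047170a) (.node (nat_lit 0x1620461f52) (.node (nat_lit 0x1620461b72) (.leaf (nat_lit 0x1620461b62) (nat_lit 1538))
 (.node (nat_lit 0x1620461f42) (.leaf (nat_lit 0x1620461b72) (nat_lit 2564))
 (.leaf (nat_lit 0x1620461f42) (nat_lit 2048))
)) (.node (nat_lit 0x162047132a) (.leaf (nat_lit 0x1620461f52) (nat_lit 2052))
 (.node (nat_lit 0x162047133a) (.leaf (nat_lit 0x162047132a) (nat_lit 2304))
 (.leaf (nat_lit 0x162047133a) (nat_lit 1795))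
))) (.node (nat_lit 0x1620471b3a) (.node (nat_lit 0x162047171a) (.leaf (nat_lit 0x162047170a) (nat_lit 1796))
 (.node (nat_lit 0x1620471b2a) (.leaf (nat_lit 0x162047171a) (nat_lit 2306))
 (.leaf (nat_lit 0x1620471b2a) (nat_lit 2050))
)) (.node (nat_lit 0x1620471f0a) (.leaf (nat_lit 0x1620471b3a) (nat_lit 2052))
 (.node (nat_lit 0x1620471f1a) (.leaf (nat_lit 0x1620471f0a) (nat_lit 1539))
 (.leaf (nat_lit 0x1620471f1a) (nat_lit 2560))
)))))))) (.node (nat_lit 0x1820449302) (.node (nat_lit 0x163046132e) (.node (nat_lit 0x163043932e) (.node (nat_lit 0x1630418966) (.node (nat_lit 0x1630408d0e) (.node (nat_lit 0x163040853e) (.node (nat_lit 0x163040811e) (.leaf (nat_lit 0x163040810e) (nat_lit 1027))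
 (.node (nat_lit 0x163040852e) (.leaf (nat_lit 0x163040811e) (nat_lit 3072))
 (.leaf (nat_lit 0x163040852e) (nat_lit 1540))
)) (.node (nat_lit 0x163040892e) (.leaf (nat_lit 0x163040853e) (nat_lit 3076))
 (.node (nat_lit 0x163040893e) (.leaf (nat_lit 0x163040892e) (nat_lit 1283))
 (.leaf (nat_lit 0x163040893e) (nat_lit 2816))
))) (.node (nat_lit 0x1630418156) (.node (nat_lit 0x1630408d1e) (.leaf (nat_lit 0x1630408d0e) (nat_lit 1284))
 (.node (nat_lit 0x1630418146) (.leaf (nat_lit 0x1630408d1e) (nat_lit 2818))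
 (.leaf (nat_lit 0x1630418146) (nat_lit 1536))
)) (.node (nat_lit 0x1630418566) (.leaf (nat_lit 0x1630418156) (nat_lit 2563))
 (.node (nat_lit 0x1630418576) (.leaf (nat_lit 0x1630418566) (nat_lit 2052))
 (.leaf (nat_lit 0x1630418576) (nat_lit 2563))
)))) (.node (nat_lit 0x1630429746) (.node (nat_lit 0x1630418d56) (.node (nat_lit 0x1630418976) (.leaf (nat_lit 0x1630418966) (nat_lit 1792))
 (.node (nat_lit 0x1630418d46) (.leaf (nat_lit 0x1630418976) (nat_lit 2819))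
 (.leaf (nat_lit 0x1630418d46) (nat_lit 1796))
)) (.node (nat_lit 0x1630429366) (.leaf (nat_lit 0x1630418d56) (nat_lit 2818))
 (.node (nat_lit 0x1630429376) (.leaf (nat_lit 0x1630429366) (nat_lit 1795))
 (.leaf (nat_lit 0x1630429376) (nat_lit 2308))
))) (.node (nat_lit 0x1630429b56) (.node (nat_lit 0x1630429756) (.leaf (nat_lit 0x1630429746) (nat_lit 1796))
 (.node (nat_lit 0x1630429b46) (.leaf (nat_lit 0x1630429756) (nat_lit 2306))
 (.leaf (nat_lit 0x1630429b46) (nat_lit 1539))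
)) (.node (nat_lit 0x1630429f66) (.leaf (nat_lit 0x1630429b56) (nat_lit 2564))
 (.node (nat_lit 0x1630429f76) (.leaf (nat_lit 0x1630429f66) (nat_lit 2052))
 (.leaf (nat_lit 0x1630429f76) (nat_lit 2050))
))))) (.node (nat_lit 0x1630440966) (.node (nat_lit 0x1630439f2e) (.node (nat_lit 0x163043971e) (.node (nat_lit 0x163043933e) (.leaf (nat_lit 0x163043932e) (nat_lit 1792))
 (.node (nat_lit 0x163043970e) (.leaf (nat_lit 0x163043933e) (nat_lit 2307))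
 (.leaf (nat_lit 0x163043970e) (nat_lit 1796))
)) (.node (nat_lit 0x1630439b0e) (.leaf (nat_lit 0x163043971e) (nat_lit 2306))
 (.node (nat_lit 0x1630439b1e) (.leaf (nat_lit 0x1630439b0e) (nat_lit 1536))
 (.leaf (nat_lit 0x1630439b1e) (nat_lit 2563))
))) (.node (nat_lit 0x1630440156) (.node (nat_lit 0x1630439f3e) (.leaf (nat_lit 0x1630439f2e) (nat_lit 2052))
 (.node (nat_lit 0x1630440146) (.leaf (nat_lit 0x1630439f3e) (nat_lit 2050))
 (.leaf (nat_lit 0x1630440146) (nat_lit 1283))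
)) (.node (nat_lit 0x1630440566) (.leaf (nat_lit 0x1630440156) (nat_lit 2816))
 (.node (nat_lit 0x1630440576) (.leaf (nat_lit 0x1630440566) (nat_lit 1796))
 (.leaf (nat_lit 0x1630440576) (nat_lit 2819))
)))) (.node (nat_lit 0x163045052e) (.node (nat_lit 0x1630440d56) (.node (nat_lit 0x1630440976) (.leaf (nat_lit 0x1630440966) (nat_lit 1539))
 (.node (nat_lit 0x1630440d46) (.leaf (nat_lit 0x1630440976) (nat_lit 3072))
 (.leaf (nat_lit 0x1630440d46) (nat_lit 1540))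
)) (.node (nat_lit 0x163045010e) (.leaf (nat_lit 0x1630440d56) (nat_lit 3074))
 (.node (nat_lit 0x163045011e) (.leaf (nat_lit 0x163045010e) (nat_lit 1280))
 (.leaf (nat_lit 0x163045011e) (nat_lit 2819))
))) (.node (nat_lit 0x163045093e) (.node (nat_lit 0x163045053e) (.leaf (nat_lit 0x163045052e) (nat_lit 1796))
 (.node (nat_lit 0x163045092e) (.leaf (nat_lit 0x163045053e) (nat_lit 2820))
 (.leaf (nat_lit 0x163045092e) (nat_lit 1536))
)) (.node (nat_lit 0x1630450d0e) (.leaf (nat_lit 0x163045093e) (nat_lit 2563))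
 (.node (nat_lit 0x1630450d1e) (.leaf (nat_lit 0x1630450d0e) (nat_lit 1540))
 (.leaf (nat_lit 0x1630450d1e) (nat_lit 2562))
)))))) (.node (nat_lit 0x1820418362) (.node (nat_lit 0x1630471b46) (.node (nat_lit 0x1630461f2e) (.node (nat_lit 0x163046171e) (.node (nat_lit 0x163046133e) (.leaf (nat_lit 0x163046132e) (nat_lit 1539))
 (.node (nat_lit 0x163046170e) (.leaf (nat_lit 0x163046133e) (nat_lit 2560))
 (.leaf (nat_lit 0x163046170e) (nat_lit 1540))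
)) (.node (nat_lit 0x1630461b0e) (.leaf (nat_lit 0x163046171e) (nat_lit 2562))
 (.node (nat_lit 0x1630461b1e) (.leaf (nat_lit 0x1630461b0e) (nat_lit 1283))
 (.leaf (nat_lit 0x1630461b1e) (nat_lit 2816))
))) (.node (nat_lit 0x1630471376) (.node (nat_lit 0x1630461f3e) (.leaf (nat_lit 0x1630461f2e) (nat_lit 1796))
 (.node (nat_lit 0x1630471366) (.leaf (nat_lit 0x1630461f3e) (nat_lit 2306))
 (.leaf (nat_lit 0x1630471366) (nat_lit 2048))
)) (.node (nat_lit 0x1630471746) (.leaf (nat_lit 0x1630471376) (nat_lit 2052))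
 (.node (nat_lit 0x1630471756) (.leaf (nat_lit 0x1630471746) (nat_lit 2052))
 (.leaf (nat_lit 0x1630471756) (nat_lit 2050))
)))) (.node (nat_lit 0x1820408722) (.node (nat_lit 0x1630471f76) (.node (nat_lit 0x1630471b56) (.leaf (nat_lit 0x1630471b46) (nat_lit 1792))
 (.node (nat_lit 0x1630471f66) (.leaf (nat_lit 0x1630471b56) (nat_lit 2308))
 (.leaf (nat_lit 0x1630471f66) (nat_lit 2308))
)) (.node (nat_lit 0x1820408302) (.leaf (nat_lit 0x1630471f76) (nat_lit 1794))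
 (.node (nat_lit 0x1820408312) (.leaf (nat_lit 0x1820408302) (nat_lit 259))
 (.leaf (nat_lit 0x1820408312) (nat_lit 3332))
))) (.node (nat_lit 0x1820408b12) (.node (nat_lit 0x1820408732) (.leaf (nat_lit 0x1820408722) (nat_lit 2818))
 (.node (nat_lit 0x1820408b02) (.leaf (nat_lit 0x1820408732) (nat_lit 1284))
 (.leaf (nat_lit 0x1820408b02) (nat_lit 516))
)) (.node (nat_lit 0x1820408f22) (.leaf (nat_lit 0x1820408b12) (nat_lit 3074))
 (.node (nat_lit 0x1820408f32) (.leaf (nat_lit 0x1820408f22) (nat_lit 3076))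
 (.leaf (nat_lit 0x1820408f32) (nat_lit 1027))
))))) (.node (nat_lit 0x1820429b02) (.node (nat_lit 0x1820418f42) (.node (nat_lit 0x1820418752) (.node (nat_lit 0x1820418372) (.leaf (nat_lit 0x1820418362) (nat_lit 2308))
 (.node (nat_lit 0x1820418742) (.leaf (nat_lit 0x1820418372) (nat_lit 1792))
 (.leaf (nat_lit 0x1820418742) (nat_lit 2307))
)) (.node (nat_lit 0x1820418b62) (.leaf (nat_lit 0x1820418752) (nat_lit 1794))
 (.node (nat_lit 0x1820418b72) (.leaf (nat_lit 0x1820418b62) (nat_lit 2050))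
 (.leaf (nat_lit 0x1820418b72) (nat_lit 2052))
))) (.node (nat_lit 0x1820429312) (.node (nat_lit 0x1820418f52) (.leaf (nat_lit 0x1820418f42) (nat_lit 2048))
 (.node (nat_lit 0x1820429302) (.leaf (nat_lit 0x1820418f52) (nat_lit 2052))
 (.leaf (nat_lit 0x1820429302) (nat_lit 768))
)) (.node (nat_lit 0x1820429722) (.leaf (nat_lit 0x1820429312) (nat_lit 2820))
 (.node (nat_lit 0x1820429732) (.leaf (nat_lit 0x1820429722) (nat_lit 2306))
 (.leaf (nat_lit 0x1820429732) (nat_lit 1796))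
)))) (.node (nat_lit 0x1820439742) (.node (nat_lit 0x1820429f32) (.node (nat_lit 0x1820429b12) (.leaf (nat_lit 0x1820429b02) (nat_lit 1028))
 (.node (nat_lit 0x1820429f22) (.leaf (nat_lit 0x1820429b12) (nat_lit 2562))
 (.leaf (nat_lit 0x1820429f22) (nat_lit 2564))
)) (.node (nat_lit 0x1820439362) (.leaf (nat_lit 0x1820429f32) (nat_lit 1536))
 (.node (nat_lit 0x1820439372) (.leaf (nat_lit 0x1820439362) (nat_lit 2308))
 (.leaf (nat_lit 0x1820439372) (nat_lit 1795))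
))) (.node (nat_lit 0x1820439b72) (.node (nat_lit 0x1820439752) (.leaf (nat_lit 0x1820439742) (nat_lit 2308))
 (.node (nat_lit 0x1820439b62) (.leaf (nat_lit 0x1820439752) (nat_lit 1794))
 (.leaf (nat_lit 0x1820439b62) (nat_lit 2050))
)) (.node (nat_lit 0x1820439f42) (.leaf (nat_lit 0x1820439b72) (nat_lit 2052))
 (.node (nat_lit 0x1820439f52) (.leaf (nat_lit 0x1820439f42) (nat_lit 2051))
 (.leaf (nat_lit 0x1820439f52) (nat_lit 2052))
))))))) (.node (nat_lit 0x183042934e) (.node (nat_lit 0x1820478362) (.node (nat_lit 0x1820459b62) (.node (nat_lit 0x1820449f22) (.node (nat_lit 0x1820449732) (.node (nat_lit 0x1820449312) (.leaf (nat_lit 0x1820449302) (nat_lit 515))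
 (.node (nat_lit 0x1820449722) (.leaf (nat_lit 0x1820449312) (nat_lit 3076))
 (.leaf (nat_lit 0x1820449722) (nat_lit 2562))
)) (.node (nat_lit 0x1820449b02) (.leaf (nat_lit 0x1820449732) (nat_lit 1540))
 (.node (nat_lit 0x1820449b12) (.leaf (nat_lit 0x1820449b02) (nat_lit 772))
 (.leaf (nat_lit 0x1820449b12) (nat_lit 2818))
))) (.node (nat_lit 0x1820459372) (.node (nat_lit 0x1820449f32) (.leaf (nat_lit 0x1820449f22) (nat_lit 2820))
 (.node (nat_lit 0x1820459362) (.leaf (nat_lit 0x1820449f32) (nat_lit 1283))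
 (.leaf (nat_lit 0x1820459362) (nat_lit 2052))
)) (.node (nat_lit 0x1820459742) (.leaf (nat_lit 0x1820459372) (nat_lit 2048))
 (.node (nat_lit 0x1820459752) (.leaf (nat_lit 0x1820459742) (nat_lit 2563))
 (.leaf (nat_lit 0x1820459752) (nat_lit 1538))
)))) (.node (nat_lit 0x1820468722) (.node (nat_lit 0x1820459f52) (.node (nat_lit 0x1820459b72) (.leaf (nat_lit 0x1820459b62) (nat_lit 1794))
 (.node (nat_lit 0x1820459f42) (.leaf (nat_lit 0x1820459b72) (nat_lit 2308))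
 (.leaf (nat_lit 0x1820459f42) (nat_lit 2304))
)) (.node (nat_lit 0x1820468302) (.leaf (nat_lit 0x1820459f52) (nat_lit 1796))
 (.node (nat_lit 0x1820468312) (.leaf (nat_lit 0x1820468302) (nat_lit 512))
 (.leaf (nat_lit 0x1820468312) (nat_lit 3076))
))) (.node (nat_lit 0x1820468b12) (.node (nat_lit 0x1820468732) (.leaf (nat_lit 0x1820468722) (nat_lit 2562))
 (.node (nat_lit 0x1820468b02) (.leaf (nat_lit 0x1820468732) (nat_lit 1540))
 (.leaf (nat_lit 0x1820468b02) (nat_lit 772))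
)) (.node (nat_lit 0x1820468f22) (.leaf (nat_lit 0x1820468b12) (nat_lit 2818))
 (.node (nat_lit 0x1820468f32) (.leaf (nat_lit 0x1820468f22) (nat_lit 2820))
 (.leaf (nat_lit 0x1820468f32) (nat_lit 1280))
))))) (.node (nat_lit 0x1830408b2e) (.node (nat_lit 0x1820478f42) (.node (nat_lit 0x1820478752) (.node (nat_lit 0x1820478372) (.leaf (nat_lit 0x1820478362) (nat_lit 2564))
 (.node (nat_lit 0x1820478742) (.leaf (nat_lit 0x1820478372) (nat_lit 1539))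
 (.leaf (nat_lit 0x1820478742) (nat_lit 2052))
)) (.node (nat_lit 0x1820478b62) (.leaf (nat_lit 0x1820478752) (nat_lit 2050))
 (.node (nat_lit 0x1820478b72) (.leaf (nat_lit 0x1820478b62) (nat_lit 2306))
 (.leaf (nat_lit 0x1820478b72) (nat_lit 1796))
))) (.node (nat_lit 0x183040831e) (.node (nat_lit 0x1820478f52) (.leaf (nat_lit 0x1820478f42) (nat_lit 1795))
 (.node (nat_lit 0x183040830e) (.leaf (nat_lit 0x1820478f52) (nat_lit 2308))
 (.leaf (nat_lit 0x183040830e) (nat_lit 514))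
)) (.node (nat_lit 0x183040872e) (.leaf (nat_lit 0x183040831e) (nat_lit 3076))
 (.node (nat_lit 0x183040873e) (.leaf (nat_lit 0x183040872e) (nat_lit 1028))
 (.leaf (nat_lit 0x183040873e) (nat_lit 2560))
)))) (.node (nat_lit 0x183041874e) (.node (nat_lit 0x1830408f1e) (.node (nat_lit 0x1830408b3e) (.leaf (nat_lit 0x1830408b2e) (nat_lit 770))
 (.node (nat_lit 0x1830408f0e) (.leaf (nat_lit 0x1830408b3e) (nat_lit 2820))
 (.leaf (nat_lit 0x1830408f0e) (nat_lit 772))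
)) (.node (nat_lit 0x183041836e) (.leaf (nat_lit 0x1830408f1e) (nat_lit 2816))
 (.node (nat_lit 0x183041837e) (.leaf (nat_lit 0x183041836e) (nat_lit 2052))
 (.leaf (nat_lit 0x183041837e) (nat_lit 2048))
))) (.node (nat_lit 0x1830418b5e) (.node (nat_lit 0x183041875e) (.leaf (nat_lit 0x183041874e) (nat_lit 1539))
 (.node (nat_lit 0x1830418b4e) (.leaf (nat_lit 0x183041875e) (nat_lit 2562))
 (.leaf (nat_lit 0x1830418b4e) (nat_lit 1796))
)) (.node (nat_lit 0x1830418f6e) (.leaf (nat_lit 0x1830418b5e) (nat_lit 2304))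
 (.node (nat_lit 0x1830418f7e) (.leaf (nat_lit 0x1830418f6e) (nat_lit 1795))
 (.leaf (nat_lit 0x1830418f7e) (nat_lit 2308))
)))))) (.node (nat_lit 0x183045932e) (.node (nat_lit 0x1830439b0e) (.node (nat_lit 0x1830429f4e) (.node (nat_lit 0x183042977e) (.node (nat_lit 0x183042935e) (.leaf (nat_lit 0x183042934e) (nat_lit 1026))
 (.node (nat_lit 0x183042976e) (.leaf (nat_lit 0x183042935e) (nat_lit 2564))
 (.leaf (nat_lit 0x183042976e) (nat_lit 1540))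
)) (.node (nat_lit 0x1830429b6e) (.leaf (nat_lit 0x183042977e) (nat_lit 2051))
 (.node (nat_lit 0x1830429b7e) (.leaf (nat_lit 0x1830429b6e) (nat_lit 1282))
 (.leaf (nat_lit 0x1830429b7e) (nat_lit 2308))
))) (.node (nat_lit 0x183043933e) (.node (nat_lit 0x1830429f5e) (.leaf (nat_lit 0x1830429f4e) (nat_lit 1284))
 (.node (nat_lit 0x183043932e) (.leaf (nat_lit 0x1830429f5e) (nat_lit 2307))
 (.leaf (nat_lit 0x183043932e) (nat_lit 2049))
)) (.node (nat_lit 0x183043970e) (.leaf (nat_lit 0x183043933e) (nat_lit 2051))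
 (.node (nat_lit 0x183043971e) (.leaf (nat_lit 0x183043970e) (nat_lit 1539))
 (.leaf (nat_lit 0x183043971e) (nat_lit 2564))
)))) (.node (nat_lit 0x183044976e) (.node (nat_lit 0x1830439f3e) (.node (nat_lit 0x1830439b1e) (.leaf (nat_lit 0x1830439b0e) (nat_lit 1793))
 (.node (nat_lit 0x1830439f2e) (.leaf (nat_lit 0x1830439b1e) (nat_lit 2307))
 (.leaf (nat_lit 0x1830439f2e) (nat_lit 1795))
)) (.node (nat_lit 0x183044934e) (.leaf (nat_lit 0x1830439f3e) (nat_lit 2308))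
 (.node (nat_lit 0x183044935e) (.leaf (nat_lit 0x183044934e) (nat_lit 770))
 (.leaf (nat_lit 0x183044935e) (nat_lit 2820))
))) (.node (nat_lit 0x1830449b7e) (.node (nat_lit 0x183044977e) (.leaf (nat_lit 0x183044976e) (nat_lit 1284))
 (.node (nat_lit 0x1830449b6e) (.leaf (nat_lit 0x183044977e) (nat_lit 2304))
 (.leaf (nat_lit 0x1830449b6e) (nat_lit 1026))
)) (.node (nat_lit 0x1830449f4e) (.leaf (nat_lit 0x1830449b7e) (nat_lit 2564))
 (.node (nat_lit 0x1830449f5e) (.leaf (nat_lit 0x1830449f4e) (nat_lit 1028))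
 (.leaf (nat_lit 0x1830449f5e) (nat_lit 2560))
))))) (.node (nat_lit 0x1830468b2e) (.node (nat_lit 0x1830459f2e) (.node (nat_lit 0x183045971e) (.node (nat_lit 0x183045933e) (.leaf (nat_lit 0x183045932e) (nat_lit 1796))
 (.node (nat_lit 0x183045970e) (.leaf (nat_lit 0x183045933e) (nat_lit 2304))
 (.leaf (nat_lit 0x183045970e) (nat_lit 1283))
)) (.node (nat_lit 0x1830459b0e) (.leaf (nat_lit 0x183045971e) (nat_lit 2818))
 (.node (nat_lit 0x1830459b1e) (.leaf (nat_lit 0x1830459b0e) (nat_lit 1540))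
 (.leaf (nat_lit 0x1830459b1e) (nat_lit 2560))
))) (.node (nat_lit 0x183046831e) (.node (nat_lit 0x1830459f3e) (.leaf (nat_lit 0x1830459f2e) (nat_lit 1539))
 (.node (nat_lit 0x183046830e) (.leaf (nat_lit 0x1830459f3e) (nat_lit 2564))
 (.leaf (nat_lit 0x183046830e) (nat_lit 770))
)) (.node (nat_lit 0x183046872e) (.leaf (nat_lit 0x183046831e) (nat_lit 2820))
 (.node (nat_lit 0x183046873e) (.leaf (nat_lit 0x183046872e) (nat_lit 1284))
 (.leaf (nat_lit 0x183046873e) (nat_lit 2307))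
)))) (.node (nat_lit 0x183047874e) (.node (nat_lit 0x1830468f1e) (.node (nat_lit 0x1830468b3e) (.leaf (nat_lit 0x1830468b2e) (nat_lit 1026))
 (.node (nat_lit 0x1830468f0e) (.leaf (nat_lit 0x1830468b3e) (nat_lit 2564))
 (.leaf (nat_lit 0x1830468f0e) (nat_lit 1028))
)) (.node (nat_lit 0x183047836e) (.leaf (nat_lit 0x1830468f1e) (nat_lit 2563))
 (.node (nat_lit 0x183047837e) (.leaf (nat_lit 0x183047836e) (nat_lit 2305))
 (.leaf (nat_lit 0x183047837e) (nat_lit 1795))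
))) (.node (nat_lit 0x1830478b5e) (.node (nat_lit 0x183047875e) (.leaf (nat_lit 0x183047874e) (nat_lit 1795))
 (.node (nat_lit 0x1830478b4e) (.leaf (nat_lit 0x183047875e) (nat_lit 2308))
 (.leaf (nat_lit 0x1830478b4e) (nat_lit 2049))
)) (.node (nat_lit 0x1830478f6e) (.leaf (nat_lit 0x1830478b5e) (nat_lit 2051))
 (.node (nat_lit 0x1830478f7e) (.leaf (nat_lit 0x1830478f6e) (nat_lit 2051))
 (.leaf (nat_lit 0x1830478f7e) (nat_lit 2052))
))))))))) (.node (nat_lit 0x1c30408306) (.node (nat_lit 0x1a30441146) (.node (nat_lit 0x1a20460302) (.node (nat_lit 0x1a2043916a) (.node (nat_lit 0x1a20418b6a) (.node (nat_lit 0x1a20408f22) (.node (nat_lit 0x1a20408732) (.node (nat_lit 0x1a20408312) (.leaf (nat_lit 0x1a20408302) (nat_lit 515))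
 (.node (nat_lit 0x1a20408722) (.leaf (nat_lit 0x1a20408312) (nat_lit 3586))
 (.leaf (nat_lit 0x1a20408722) (nat_lit 3074))
)) (.node (nat_lit 0x1a20408b02) (.leaf (nat_lit 0x1a20408732) (nat_lit 1540))
 (.node (nat_lit 0x1a20408b12) (.leaf (nat_lit 0x1a20408b02) (nat_lit 772))
 (.leaf (nat_lit 0x1a20408b12) (nat_lit 3330))
))) (.node (nat_lit 0x1a2041837a) (.node (nat_lit 0x1a20408f32) (.leaf (nat_lit 0x1a20408f22) (nat_lit 3332))
 (.node (nat_lit 0x1a2041836a) (.leaf (nat_lit 0x1a20408f32) (nat_lit 1283))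
 (.leaf (nat_lit 0x1a2041836a) (nat_lit 2049))
)) (.node (nat_lit 0x1a2041874a) (.leaf (nat_lit 0x1a2041837a) (nat_lit 2048))
 (.node (nat_lit 0x1a2041875a) (.leaf (nat_lit 0x1a2041874a) (nat_lit 2051))
 (.leaf (nat_lit 0x1a2041875a) (nat_lit 2050))
)))) (.node (nat_lit 0x1a20429522) (.node (nat_lit 0x1a20418f5a) (.node (nat_lit 0x1a20418b7a) (.leaf (nat_lit 0x1a20418b6a) (nat_lit 2306))
 (.node (nat_lit 0x1a20418f4a) (.leaf (nat_lit 0x1a20418b7a) (nat_lit 2307))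
 (.leaf (nat_lit 0x1a20418f4a) (nat_lit 2304))
)) (.node (nat_lit 0x1a20429102) (.leaf (nat_lit 0x1a20418f5a) (nat_lit 2308))
 (.node (nat_lit 0x1a20429112) (.leaf (nat_lit 0x1a20429102) (nat_lit 1024))
 (.leaf (nat_lit 0x1a20429112) (nat_lit 3076))
))) (.node (nat_lit 0x1a20429912) (.node (nat_lit 0x1a20429532) (.leaf (nat_lit 0x1a20429522) (nat_lit 2562))
 (.node (nat_lit 0x1a20429902) (.leaf (nat_lit 0x1a20429532) (nat_lit 2051))
 (.leaf (nat_lit 0x1a20429902) (nat_lit 1283))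
)) (.node (nat_lit 0x1a20429d22) (.leaf (nat_lit 0x1a20429912) (nat_lit 2818))
 (.node (nat_lit 0x1a20429d32) (.leaf (nat_lit 0x1a20429d22) (nat_lit 2820))
 (.leaf (nat_lit 0x1a20429d32) (nat_lit 1792))
))))) (.node (nat_lit 0x1a20441902) (.node (nat_lit 0x1a20439d4a) (.node (nat_lit 0x1a2043955a) (.node (nat_lit 0x1a2043917a) (.leaf (nat_lit 0x1a2043916a) (nat_lit 2052))
 (.node (nat_lit 0x1a2043954a) (.leaf (nat_lit 0x1a2043917a) (nat_lit 2051))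
 (.leaf (nat_lit 0x1a2043954a) (nat_lit 2052))
)) (.node (nat_lit 0x1a2043996a) (.leaf (nat_lit 0x1a2043955a) (nat_lit 2050))
 (.node (nat_lit 0x1a2043997a) (.leaf (nat_lit 0x1a2043996a) (nat_lit 1794))
 (.leaf (nat_lit 0x1a2043997a) (nat_lit 2308))
))) (.node (nat_lit 0x1a20441112) (.node (nat_lit 0x1a20439d5a) (.leaf (nat_lit 0x1a20439d4a) (nat_lit 1795))
 (.node (nat_lit 0x1a20441102) (.leaf (nat_lit 0x1a20439d5a) (nat_lit 2308))
 (.leaf (nat_lit 0x1a20441102) (nat_lit 771))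
)) (.node (nat_lit 0x1a20441522) (.leaf (nat_lit 0x1a20441112) (nat_lit 3330))
 (.node (nat_lit 0x1a20441532) (.leaf (nat_lit 0x1a20441522) (nat_lit 2818))
 (.leaf (nat_lit 0x1a20441532) (nat_lit 1796))
)))) (.node (nat_lit 0x1a2045154a) (.node (nat_lit 0x1a20441d32) (.node (nat_lit 0x1a20441912) (.leaf (nat_lit 0x1a20441902) (nat_lit 1028))
 (.node (nat_lit 0x1a20441d22) (.leaf (nat_lit 0x1a20441912) (nat_lit 3074))
 (.leaf (nat_lit 0x1a20441d22) (nat_lit 3076))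
)) (.node (nat_lit 0x1a2045116a) (.leaf (nat_lit 0x1a20441d32) (nat_lit 1539))
 (.node (nat_lit 0x1a2045117a) (.leaf (nat_lit 0x1a2045116a) (nat_lit 2308))
 (.leaf (nat_lit 0x1a2045117a) (nat_lit 2304))
))) (.node (nat_lit 0x1a2045197a) (.node (nat_lit 0x1a2045155a) (.leaf (nat_lit 0x1a2045154a) (nat_lit 2307))
 (.node (nat_lit 0x1a2045196a) (.leaf (nat_lit 0x1a2045155a) (nat_lit 1794))
 (.leaf (nat_lit 0x1a2045196a) (nat_lit 2050))
)) (.node (nat_lit 0x1a20451d4a) (.leaf (nat_lit 0x1a2045197a) (nat_lit 2563))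
 (.node (nat_lit 0x1a20451d5a) (.leaf (nat_lit 0x1a20451d4a) (nat_lit 2048))
 (.leaf (nat_lit 0x1a20451d5a) (nat_lit 2052))
)))))) (.node (nat_lit 0x1a30418366) (.node (nat_lit 0x1a20470b6a) (.node (nat_lit 0x1a20460f22) (.node (nat_lit 0x1a20460732) (.node (nat_lit 0x1a20460312) (.leaf (nat_lit 0x1a20460302) (nat_lit 768))
 (.node (nat_lit 0x1a20460722) (.leaf (nat_lit 0x1a20460312) (nat_lit 3332))
 (.leaf (nat_lit 0x1a20460722) (nat_lit 2818))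
)) (.node (nat_lit 0x1a20460b02) (.leaf (nat_lit 0x1a20460732) (nat_lit 1796))
 (.node (nat_lit 0x1a20460b12) (.leaf (nat_lit 0x1a20460b02) (nat_lit 1028))
 (.leaf (nat_lit 0x1a20460b12) (nat_lit 3074))
))) (.node (nat_lit 0x1a2047037a) (.node (nat_lit 0x1a20460f32) (.leaf (nat_lit 0x1a20460f22) (nat_lit 3076))
 (.node (nat_lit 0x1a2047036a) (.leaf (nat_lit 0x1a20460f32) (nat_lit 1536))
 (.leaf (nat_lit 0x1a2047036a) (nat_lit 2305))
)) (.node (nat_lit 0x1a2047074a) (.leaf (nat_lit 0x1a2047037a) (nat_lit 1795))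
 (.node (nat_lit 0x1a2047075a) (.leaf (nat_lit 0x1a2047074a) (nat_lit 2308))
 (.leaf (nat_lit 0x1a2047075a) (nat_lit 2306))
)))) (.node (nat_lit 0x1a3040872e) (.node (nat_lit 0x1a20470f5a) (.node (nat_lit 0x1a20470b7a) (.leaf (nat_lit 0x1a20470b6a) (nat_lit 2562))
 (.node (nat_lit 0x1a20470f4a) (.leaf (nat_lit 0x1a20470b7a) (nat_lit 2052))
 (.leaf (nat_lit 0x1a20470f4a) (nat_lit 2051))
)) (.node (nat_lit 0x1a3040830e) (.leaf (nat_lit 0x1a20470f5a) (nat_lit 2562))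
 (.node (nat_lit 0x1a3040831e) (.leaf (nat_lit 0x1a3040830e) (nat_lit 770))
 (.leaf (nat_lit 0x1a3040831e) (nat_lit 3331))
))) (.node (nat_lit 0x1a30408b3e) (.node (nat_lit 0x1a3040873e) (.leaf (nat_lit 0x1a3040872e) (nat_lit 1284))
 (.node (nat_lit 0x1a30408b2e) (.leaf (nat_lit 0x1a3040873e) (nat_lit 2817))
 (.leaf (nat_lit 0x1a30408b2e) (nat_lit 1026))
)) (.node (nat_lit 0x1a30408f0e) (.leaf (nat_lit 0x1a30408b3e) (nat_lit 3075))
 (.node (nat_lit 0x1a30408f1e) (.leaf (nat_lit 0x1a30408f0e) (nat_lit 1028))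
 (.leaf (nat_lit 0x1a30408f1e) (nat_lit 3073))
))))) (.node (nat_lit 0x1a30429966) (.node (nat_lit 0x1a30418f66) (.node (nat_lit 0x1a30418756) (.node (nat_lit 0x1a30418376) (.leaf (nat_lit 0x1a30418366) (nat_lit 1793))
 (.node (nat_lit 0x1a30418746) (.leaf (nat_lit 0x1a30418376) (nat_lit 2304))
 (.leaf (nat_lit 0x1a30418746) (nat_lit 1795))
)) (.node (nat_lit 0x1a30418b46) (.leaf (nat_lit 0x1a30418756) (nat_lit 2306))
 (.node (nat_lit 0x1a30418b56) (.leaf (nat_lit 0x1a30418b46) (nat_lit 2052))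
 (.leaf (nat_lit 0x1a30418b56) (nat_lit 2564))
))) (.node (nat_lit 0x1a30429156) (.node (nat_lit 0x1a30418f76) (.leaf (nat_lit 0x1a30418f66) (nat_lit 2051))
 (.node (nat_lit 0x1a30429146) (.leaf (nat_lit 0x1a30418f76) (nat_lit 2562))
 (.leaf (nat_lit 0x1a30429146) (nat_lit 1282))
)) (.node (nat_lit 0x1a30429566) (.leaf (nat_lit 0x1a30429156) (nat_lit 2820))
 (.node (nat_lit 0x1a30429576) (.leaf (nat_lit 0x1a30429566) (nat_lit 1796))
 (.leaf (nat_lit 0x1a30429576) (nat_lit 2307))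
)))) (.node (nat_lit 0x1a3043950e) (.node (nat_lit 0x1a30429d56) (.node (nat_lit 0x1a30429976) (.leaf (nat_lit 0x1a30429966) (nat_lit 1538))
 (.node (nat_lit 0x1a30429d46) (.leaf (nat_lit 0x1a30429976) (nat_lit 2564))
 (.leaf (nat_lit 0x1a30429d46) (nat_lit 1540))
)) (.node (nat_lit 0x1a3043912e) (.leaf (nat_lit 0x1a30429d56) (nat_lit 2563))
 (.node (nat_lit 0x1a3043913e) (.leaf (nat_lit 0x1a3043912e) (nat_lit 1793))
 (.leaf (nat_lit 0x1a3043913e) (nat_lit 2308))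
))) (.node (nat_lit 0x1a3043991e) (.node (nat_lit 0x1a3043951e) (.leaf (nat_lit 0x1a3043950e) (nat_lit 1795))
 (.node (nat_lit 0x1a3043990e) (.leaf (nat_lit 0x1a3043951e) (nat_lit 2306))
 (.leaf (nat_lit 0x1a3043990e) (nat_lit 1537))
)) (.node (nat_lit 0x1a30439d2e) (.leaf (nat_lit 0x1a3043991e) (nat_lit 2564))
 (.node (nat_lit 0x1a30439d3e) (.leaf (nat_lit 0x1a30439d2e) (nat_lit 2051))
 (.leaf (nat_lit 0x1a30439d3e) (nat_lit 2050))
))))))) (.node (nat_lit 0x1c2042932a) (.node (nat_lit 0x1a30470366) (.node (nat_lit 0x1a3045190e) (.node (nat_lit 0x1a30441d46) (.node (nat_lit 0x1a30441576) (.node (nat_lit 0x1a30441156) (.leaf (nat_lit 0x1a30441146) (nat_lit 1026))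
 (.node (nat_lit 0x1a30441566) (.leaf (nat_lit 0x1a30441156) (nat_lit 3075))
 (.leaf (nat_lit 0x1a30441566) (nat_lit 1540))
)) (.node (nat_lit 0x1a30441966) (.leaf (nat_lit 0x1a30441576) (nat_lit 2560))
 (.node (nat_lit 0x1a30441976) (.leaf (nat_lit 0x1a30441966) (nat_lit 1282))
 (.leaf (nat_lit 0x1a30441976) (nat_lit 2820))
))) (.node (nat_lit 0x1a3045113e) (.node (nat_lit 0x1a30441d56) (.leaf (nat_lit 0x1a30441d46) (nat_lit 1284))
 (.node (nat_lit 0x1a3045112e) (.leaf (nat_lit 0x1a30441d56) (nat_lit 2816))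
 (.leaf (nat_lit 0x1a3045112e) (nat_lit 2052))
)) (.node (nat_lit 0x1a3045150e) (.leaf (nat_lit 0x1a3045113e) (nat_lit 2564))
 (.node (nat_lit 0x1a3045151e) (.leaf (nat_lit 0x1a3045150e) (nat_lit 1539))
 (.leaf (nat_lit 0x1a3045151e) (nat_lit 2562))
)))) (.node (nat_lit 0x1a3046072e) (.node (nat_lit 0x1a30451d3e) (.node (nat_lit 0x1a3045191e) (.leaf (nat_lit 0x1a3045190e) (nat_lit 1796))
 (.node (nat_lit 0x1a30451d2e) (.leaf (nat_lit 0x1a3045191e) (nat_lit 2820))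
 (.leaf (nat_lit 0x1a30451d2e) (nat_lit 1795))
)) (.node (nat_lit 0x1a3046030e) (.leaf (nat_lit 0x1a30451d3e) (nat_lit 2306))
 (.node (nat_lit 0x1a3046031e) (.leaf (nat_lit 0x1a3046030e) (nat_lit 1026))
 (.leaf (nat_lit 0x1a3046031e) (nat_lit 3075))
))) (.node (nat_lit 0x1a30460b3e) (.node (nat_lit 0x1a3046073e) (.leaf (nat_lit 0x1a3046072e) (nat_lit 1540))
 (.node (nat_lit 0x1a30460b2e) (.leaf (nat_lit 0x1a3046073e) (nat_lit 2563))
 (.leaf (nat_lit 0x1a30460b2e) (nat_lit 1282))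
)) (.node (nat_lit 0x1a30460f0e) (.leaf (nat_lit 0x1a30460b3e) (nat_lit 2819))
 (.node (nat_lit 0x1a30460f1e) (.leaf (nat_lit 0x1a30460f0e) (nat_lit 1284))
 (.leaf (nat_lit 0x1a30460f1e) (nat_lit 2819))
))))) (.node (nat_lit 0x1c20408b0a) (.node (nat_lit 0x1a30470f66) (.node (nat_lit 0x1a30470756) (.node (nat_lit 0x1a30470376) (.leaf (nat_lit 0x1a30470366) (nat_lit 2049))
 (.node (nat_lit 0x1a30470746) (.leaf (nat_lit 0x1a30470376) (nat_lit 2051))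
 (.leaf (nat_lit 0x1a30470746) (nat_lit 2051))
)) (.node (nat_lit 0x1a30470b46) (.leaf (nat_lit 0x1a30470756) (nat_lit 2562))
 (.node (nat_lit 0x1a30470b56) (.leaf (nat_lit 0x1a30470b46) (nat_lit 2305))
 (.leaf (nat_lit 0x1a30470b56) (nat_lit 2307))
))) (.node (nat_lit 0x1c2040831a) (.node (nat_lit 0x1a30470f76) (.leaf (nat_lit 0x1a30470f66) (nat_lit 2307))
 (.node (nat_lit 0x1c2040830a) (.leaf (nat_lit 0x1a30470f76) (nat_lit 2306))
 (.leaf (nat_lit 0x1c2040830a) (nat_lit 770))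
)) (.node (nat_lit 0x1c2040872a) (.leaf (nat_lit 0x1c2040831a) (nat_lit 2820))
 (.node (nat_lit 0x1c2040873a) (.leaf (nat_lit 0x1c2040872a) (nat_lit 2304))
 (.leaf (nat_lit 0x1c2040873a) (nat_lit 1284))
)))) (.node (nat_lit 0x1c2041874a) (.node (nat_lit 0x1c20408f3a) (.node (nat_lit 0x1c20408b1a) (.leaf (nat_lit 0x1c20408b0a) (nat_lit 1028))
 (.node (nat_lit 0x1c20408f2a) (.leaf (nat_lit 0x1c20408b1a) (nat_lit 2560))
 (.leaf (nat_lit 0x1c20408f2a) (nat_lit 2564))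
)) (.node (nat_lit 0x1c2041836a) (.leaf (nat_lit 0x1c20408f3a) (nat_lit 1026))
 (.node (nat_lit 0x1c2041837a) (.leaf (nat_lit 0x1c2041836a) (nat_lit 1792))
 (.leaf (nat_lit 0x1c2041837a) (nat_lit 2308))
))) (.node (nat_lit 0x1c20418b7a) (.node (nat_lit 0x1c2041875a) (.leaf (nat_lit 0x1c2041874a) (nat_lit 1795))
 (.node (nat_lit 0x1c20418b6a) (.leaf (nat_lit 0x1c2041875a) (nat_lit 2306))
 (.leaf (nat_lit 0x1c20418b6a) (nat_lit 2052))
)) (.node (nat_lit 0x1c20418f4a) (.leaf (nat_lit 0x1c20418b7a) (nat_lit 2051))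
 (.node (nat_lit 0x1c20418f5a) (.leaf (nat_lit 0x1c20418f4a) (nat_lit 2052))
 (.leaf (nat_lit 0x1c20418f5a) (nat_lit 2048))
)))))) (.node (nat_lit 0x1c2045932a) (.node (nat_lit 0x1c20439b4a) (.node (nat_lit 0x1c20429f0a) (.node (nat_lit 0x1c2042971a) (.node (nat_lit 0x1c2042933a) (.leaf (nat_lit 0x1c2042932a) (nat_lit 1795))
 (.node (nat_lit 0x1c2042970a) (.leaf (nat_lit 0x1c2042933a) (nat_lit 2305))
 (.leaf (nat_lit 0x1c2042970a) (nat_lit 1795))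
)) (.node (nat_lit 0x1c20429b2a) (.leaf (nat_lit 0x1c2042971a) (nat_lit 2308))
 (.node (nat_lit 0x1c20429b3a) (.leaf (nat_lit 0x1c20429b2a) (nat_lit 2052))
 (.leaf (nat_lit 0x1c20429b3a) (nat_lit 2051))
))) (.node (nat_lit 0x1c2043935a) (.node (nat_lit 0x1c20429f1a) (.leaf (nat_lit 0x1c20429f0a) (nat_lit 2049))
 (.node (nat_lit 0x1c2043934a) (.leaf (nat_lit 0x1c20429f1a) (nat_lit 2051))
 (.leaf (nat_lit 0x1c2043934a) (nat_lit 1282))
)) (.node (nat_lit 0x1c2043976a) (.leaf (nat_lit 0x1c2043935a) (nat_lit 2308))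
 (.node (nat_lit 0x1c2043977a) (.leaf (nat_lit 0x1c2043976a) (nat_lit 1795))
 (.leaf (nat_lit 0x1c2043977a) (nat_lit 1796))
)))) (.node (nat_lit 0x1c2044976a) (.node (nat_lit 0x1c20439f7a) (.node (nat_lit 0x1c20439b5a) (.leaf (nat_lit 0x1c20439b4a) (nat_lit 1540))
 (.node (nat_lit 0x1c20439f6a) (.leaf (nat_lit 0x1c20439b5a) (nat_lit 2051))
 (.leaf (nat_lit 0x1c20439f6a) (nat_lit 2052))
)) (.node (nat_lit 0x1c2044934a) (.leaf (nat_lit 0x1c20439f7a) (nat_lit 1538))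
 (.node (nat_lit 0x1c2044935a) (.leaf (nat_lit 0x1c2044934a) (nat_lit 1026))
 (.leaf (nat_lit 0x1c2044935a) (nat_lit 2564))
))) (.node (nat_lit 0x1c20449b5a) (.node (nat_lit 0x1c2044977a) (.leaf (nat_lit 0x1c2044976a) (nat_lit 2048))
 (.node (nat_lit 0x1c20449b4a) (.leaf (nat_lit 0x1c2044977a) (nat_lit 1540))
 (.leaf (nat_lit 0x1c20449b4a) (nat_lit 1284))
)) (.node (nat_lit 0x1c20449f6a) (.leaf (nat_lit 0x1c20449b5a) (nat_lit 2304))
 (.node (nat_lit 0x1c20449f7a) (.leaf (nat_lit 0x1c20449f6a) (nat_lit 2308))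
 (.leaf (nat_lit 0x1c20449f7a) (nat_lit 1282))
))))) (.node (nat_lit 0x1c20468b6a) (.node (nat_lit 0x1c20459f0a) (.node (nat_lit 0x1c2045971a) (.node (nat_lit 0x1c2045933a) (.leaf (nat_lit 0x1c2045932a) (nat_lit 2048))
 (.node (nat_lit 0x1c2045970a) (.leaf (nat_lit 0x1c2045933a) (nat_lit 2052))
 (.leaf (nat_lit 0x1c2045970a) (nat_lit 1539))
)) (.node (nat_lit 0x1c20459b2a) (.leaf (nat_lit 0x1c2045971a) (nat_lit 2562))
 (.node (nat_lit 0x1c20459b3a) (.leaf (nat_lit 0x1c20459b2a) (nat_lit 2308))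
 (.leaf (nat_lit 0x1c20459b3a) (nat_lit 1795))
))) (.node (nat_lit 0x1c2046837a) (.node (nat_lit 0x1c20459f1a) (.leaf (nat_lit 0x1c20459f0a) (nat_lit 1796))
 (.node (nat_lit 0x1c2046836a) (.leaf (nat_lit 0x1c20459f1a) (nat_lit 2304))
 (.leaf (nat_lit 0x1c2046836a) (nat_lit 1539))
)) (.node (nat_lit 0x1c2046874a) (.leaf (nat_lit 0x1c2046837a) (nat_lit 2561))
 (.node (nat_lit 0x1c2046875a) (.leaf (nat_lit 0x1c2046874a) (nat_lit 2051))
 (.leaf (nat_lit 0x1c2046875a) (nat_lit 2052))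
)))) (.node (nat_lit 0x1c2047872a) (.node (nat_lit 0x1c20468f5a) (.node (nat_lit 0x1c20468b7a) (.leaf (nat_lit 0x1c20468b6a) (nat_lit 1796))
 (.node (nat_lit 0x1c20468f4a) (.leaf (nat_lit 0x1c20468b7a) (nat_lit 2307))
 (.leaf (nat_lit 0x1c20468f4a) (nat_lit 2305))
)) (.node (nat_lit 0x1c2047830a) (.leaf (nat_lit 0x1c20468f5a) (nat_lit 1795))
 (.node (nat_lit 0x1c2047831a) (.leaf (nat_lit 0x1c2047830a) (nat_lit 1026))
 (.leaf (nat_lit 0x1c2047831a) (nat_lit 2564))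
))) (.node (nat_lit 0x1c20478b1a) (.node (nat_lit 0x1c2047873a) (.leaf (nat_lit 0x1c2047872a) (nat_lit 2051))
 (.node (nat_lit 0x1c20478b0a) (.leaf (nat_lit 0x1c2047873a) (nat_lit 1540))
 (.leaf (nat_lit 0x1c20478b0a) (nat_lit 1284))
)) (.node (nat_lit 0x1c20478f2a) (.leaf (nat_lit 0x1c20478b1a) (nat_lit 2307))
 (.node (nat_lit 0x1c20478f3a) (.leaf (nat_lit 0x1c20478f2a) (nat_lit 2308))
 (.leaf (nat_lit 0x1c20478f3a) (nat_lit 1282))
)))))))) (.node (nat_lit 0x1e20441142) (.node (nat_lit 0x1c30468366) (.node (nat_lit 0x1c30439306) (.node (nat_lit 0x1c30418b46) (.node (nat_lit 0x1c30408f06) (.node (nat_lit 0x1c30408736) (.node (nat_lit 0x1c30408316) (.leaf (nat_lit 0x1c30408306) (nat_lit 515))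
 (.node (nat_lit 0x1c30408726) (.leaf (nat_lit 0x1c30408316) (nat_lit 3076))
 (.leaf (nat_lit 0x1c30408726) (nat_lit 1028))
)) (.node (nat_lit 0x1c30408b26) (.leaf (nat_lit 0x1c30408736) (nat_lit 2562))
 (.node (nat_lit 0x1c30408b36) (.leaf (nat_lit 0x1c30408b26) (nat_lit 771))
 (.leaf (nat_lit 0x1c30408b36) (nat_lit 2820))
))) (.node (nat_lit 0x1c30418376) (.node (nat_lit 0x1c30408f16) (.leaf (nat_lit 0x1c30408f06) (nat_lit 772))
 (.node (nat_lit 0x1c30418366) (.leaf (nat_lit 0x1c30408f16) (nat_lit 2818))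
 (.leaf (nat_lit 0x1c30418366) (nat_lit 1536))
)) (.node (nat_lit 0x1c30418746) (.leaf (nat_lit 0x1c30418376) (nat_lit 2564))
 (.node (nat_lit 0x1c30418756) (.leaf (nat_lit 0x1c30418746) (nat_lit 2051))
 (.leaf (nat_lit 0x1c30418756) (nat_lit 2050))
)))) (.node (nat_lit 0x1c30429746) (.node (nat_lit 0x1c30418f76) (.node (nat_lit 0x1c30418b56) (.leaf (nat_lit 0x1c30418b46) (nat_lit 1792))
 (.node (nat_lit 0x1c30418f66) (.leaf (nat_lit 0x1c30418b56) (nat_lit 2308))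
 (.leaf (nat_lit 0x1c30418f66) (nat_lit 1796))
)) (.node (nat_lit 0x1c30429366) (.leaf (nat_lit 0x1c30418f76) (nat_lit 2306))
 (.node (nat_lit 0x1c30429376) (.leaf (nat_lit 0x1c30429366) (nat_lit 1539))
 (.leaf (nat_lit 0x1c30429376) (nat_lit 2564))
))) (.node (nat_lit 0x1c30429b56) (.node (nat_lit 0x1c30429756) (.leaf (nat_lit 0x1c30429746) (nat_lit 2052))
 (.node (nat_lit 0x1c30429b46) (.leaf (nat_lit 0x1c30429756) (nat_lit 2050))
 (.leaf (nat_lit 0x1c30429b46) (nat_lit 1795))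
)) (.node (nat_lit 0x1c30429f66) (.leaf (nat_lit 0x1c30429b56) (nat_lit 2308))
 (.node (nat_lit 0x1c30429f76) (.leaf (nat_lit 0x1c30429f66) (nat_lit 1796))
 (.leaf (nat_lit 0x1c30429f76) (nat_lit 2306))
))))) (.node (nat_lit 0x1c30449b26) (.node (nat_lit 0x1c30439f06) (.node (nat_lit 0x1c30439736) (.node (nat_lit 0x1c30439316) (.leaf (nat_lit 0x1c30439306) (nat_lit 1024))
 (.node (nat_lit 0x1c30439726) (.leaf (nat_lit 0x1c30439316) (nat_lit 2564))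
 (.leaf (nat_lit 0x1c30439726) (nat_lit 1540))
)) (.node (nat_lit 0x1c30439b26) (.leaf (nat_lit 0x1c30439736) (nat_lit 2050))
 (.node (nat_lit 0x1c30439b36) (.leaf (nat_lit 0x1c30439b26) (nat_lit 1280))
 (.leaf (nat_lit 0x1c30439b36) (nat_lit 2308))
))) (.node (nat_lit 0x1c30449316) (.node (nat_lit 0x1c30439f16) (.leaf (nat_lit 0x1c30439f06) (nat_lit 1284))
 (.node (nat_lit 0x1c30449306) (.leaf (nat_lit 0x1c30439f16) (nat_lit 2306))
 (.leaf (nat_lit 0x1c30449306) (nat_lit 771))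
)) (.node (nat_lit 0x1c30449726) (.leaf (nat_lit 0x1c30449316) (nat_lit 2820))
 (.node (nat_lit 0x1c30449736) (.leaf (nat_lit 0x1c30449726) (nat_lit 1284))
 (.leaf (nat_lit 0x1c30449736) (nat_lit 2306))
)))) (.node (nat_lit 0x1c30459746) (.node (nat_lit 0x1c30449f16) (.node (nat_lit 0x1c30449b36) (.leaf (nat_lit 0x1c30449b26) (nat_lit 1027))
 (.node (nat_lit 0x1c30449f06) (.leaf (nat_lit 0x1c30449b36) (nat_lit 2564))
 (.leaf (nat_lit 0x1c30449f06) (nat_lit 1028))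
)) (.node (nat_lit 0x1c30459366) (.leaf (nat_lit 0x1c30449f16) (nat_lit 2562))
 (.node (nat_lit 0x1c30459376) (.leaf (nat_lit 0x1c30459366) (nat_lit 1792))
 (.leaf (nat_lit 0x1c30459376) (nat_lit 2308))
))) (.node (nat_lit 0x1c30459b56) (.node (nat_lit 0x1c30459756) (.leaf (nat_lit 0x1c30459746) (nat_lit 2307))
 (.node (nat_lit 0x1c30459b46) (.leaf (nat_lit 0x1c30459756) (nat_lit 1794))
 (.leaf (nat_lit 0x1c30459b46) (nat_lit 2048))
)) (.node (nat_lit 0x1c30459f66) (.leaf (nat_lit 0x1c30459b56) (nat_lit 2052))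
 (.node (nat_lit 0x1c30459f76) (.leaf (nat_lit 0x1c30459f66) (nat_lit 2052))
 (.leaf (nat_lit 0x1c30459f76) (nat_lit 2050))
)))))) (.node (nat_lit 0x1e20418362) (.node (nat_lit 0x1c30478b26) (.node (nat_lit 0x1c30468f66) (.node (nat_lit 0x1c30468756) (.node (nat_lit 0x1c30468376) (.leaf (nat_lit 0x1c30468366) (nat_lit 1283))
 (.node (nat_lit 0x1c30468746) (.leaf (nat_lit 0x1c30468376) (nat_lit 2820))
 (.leaf (nat_lit 0x1c30468746) (nat_lit 1796))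
)) (.node (nat_lit 0x1c30468b46) (.leaf (nat_lit 0x1c30468756) (nat_lit 2306))
 (.node (nat_lit 0x1c30468b56) (.leaf (nat_lit 0x1c30468b46) (nat_lit 1539))
 (.leaf (nat_lit 0x1c30468b56) (nat_lit 2564))
))) (.node (nat_lit 0x1c30478316) (.node (nat_lit 0x1c30468f76) (.leaf (nat_lit 0x1c30468f66) (nat_lit 1540))
 (.node (nat_lit 0x1c30478306) (.leaf (nat_lit 0x1c30468f76) (nat_lit 2562))
 (.leaf (nat_lit 0x1c30478306) (nat_lit 768))
)) (.node (nat_lit 0x1c30478726) (.leaf (nat_lit 0x1c30478316) (nat_lit 2820))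
 (.node (nat_lit 0x1c30478736) (.leaf (nat_lit 0x1c30478726) (nat_lit 1284))
 (.leaf (nat_lit 0x1c30478736) (nat_lit 2306))
)))) (.node (nat_lit 0x1e2040872a) (.node (nat_lit 0x1c30478f16) (.node (nat_lit 0x1c30478b36) (.leaf (nat_lit 0x1c30478b26) (nat_lit 1024))
 (.node (nat_lit 0x1c30478f06) (.leaf (nat_lit 0x1c30478b36) (nat_lit 2564))
 (.leaf (nat_lit 0x1c30478f06) (nat_lit 1028))
)) (.node (nat_lit 0x1e2040830a) (.leaf (nat_lit 0x1c30478f16) (nat_lit 2562))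
 (.node (nat_lit 0x1e2040831a) (.leaf (nat_lit 0x1e2040830a) (nat_lit 1026))
 (.leaf (nat_lit 0x1e2040831a) (nat_lit 3075))
))) (.node (nat_lit 0x1e20408b1a) (.node (nat_lit 0x1e2040873a) (.leaf (nat_lit 0x1e2040872a) (nat_lit 2561))
 (.node (nat_lit 0x1e20408b0a) (.leaf (nat_lit 0x1e2040873a) (nat_lit 1540))
 (.leaf (nat_lit 0x1e20408b0a) (nat_lit 1284))
)) (.node (nat_lit 0x1e20408f2a) (.leaf (nat_lit 0x1e20408b1a) (nat_lit 2817))
 (.node (nat_lit 0x1e20408f3a) (.leaf (nat_lit 0x1e20408f2a) (nat_lit 2819))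
 (.leaf (nat_lit 0x1e20408f3a) (nat_lit 1282))
))))) (.node (nat_lit 0x1e2042992a) (.node (nat_lit 0x1e20418f42) (.node (nat_lit 0x1e20418752) (.node (nat_lit 0x1e20418372) (.leaf (nat_lit 0x1e20418362) (nat_lit 2048))
 (.node (nat_lit 0x1e20418742) (.leaf (nat_lit 0x1e20418372) (nat_lit 2049))
 (.leaf (nat_lit 0x1e20418742) (nat_lit 2051))
)) (.node (nat_lit 0x1e20418b62) (.leaf (nat_lit 0x1e20418752) (nat_lit 2050))
 (.node (nat_lit 0x1e20418b72) (.leaf (nat_lit 0x1e20418b62) (nat_lit 2306))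
 (.leaf (nat_lit 0x1e20418b72) (nat_lit 2307))
))) (.node (nat_lit 0x1e2042913a) (.node (nat_lit 0x1e20418f52) (.leaf (nat_lit 0x1e20418f42) (nat_lit 2308))
 (.node (nat_lit 0x1e2042912a) (.leaf (nat_lit 0x1e20418f52) (nat_lit 2308))
 (.leaf (nat_lit 0x1e2042912a) (nat_lit 2052))
)) (.node (nat_lit 0x1e2042950a) (.leaf (nat_lit 0x1e2042913a) (nat_lit 2049))
 (.node (nat_lit 0x1e2042951a) (.leaf (nat_lit 0x1e2042950a) (nat_lit 2051))
 (.leaf (nat_lit 0x1e2042951a) (nat_lit 2050))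
)))) (.node (nat_lit 0x1e20439562) (.node (nat_lit 0x1e20429d1a) (.node (nat_lit 0x1e2042993a) (.leaf (nat_lit 0x1e2042992a) (nat_lit 1794))
 (.node (nat_lit 0x1e20429d0a) (.leaf (nat_lit 0x1e2042993a) (nat_lit 2307))
 (.leaf (nat_lit 0x1e20429d0a) (nat_lit 1793))
)) (.node (nat_lit 0x1e20439142) (.leaf (nat_lit 0x1e20429d1a) (nat_lit 2308))
 (.node (nat_lit 0x1e20439152) (.leaf (nat_lit 0x1e20439142) (nat_lit 1538))
 (.leaf (nat_lit 0x1e20439152) (nat_lit 2564))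
))) (.node (nat_lit 0x1e20439952) (.node (nat_lit 0x1e20439572) (.leaf (nat_lit 0x1e20439562) (nat_lit 2051))
 (.node (nat_lit 0x1e20439942) (.leaf (nat_lit 0x1e20439572) (nat_lit 2052))
 (.leaf (nat_lit 0x1e20439942) (nat_lit 1796))
)) (.node (nat_lit 0x1e20439d62) (.leaf (nat_lit 0x1e20439952) (nat_lit 2307))
 (.node (nat_lit 0x1e20439d72) (.leaf (nat_lit 0x1e20439d62) (nat_lit 2308))
 (.leaf (nat_lit 0x1e20439d72) (nat_lit 1794))
))))))) (.node (nat_lit 0x1e3042916e) (.node (nat_lit 0x1e2047030a) (.node (nat_lit 0x1e2045192a) (.node (nat_lit 0x1e20441d62) (.node (nat_lit 0x1e20441572) (.node (nat_lit 0x1e20441152) (.leaf (nat_lit 0x1e20441142) (nat_lit 1282))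
 (.node (nat_lit 0x1e20441562) (.leaf (nat_lit 0x1e20441152) (nat_lit 2819))
 (.leaf (nat_lit 0x1e20441562) (nat_lit 2304))
)) (.node (nat_lit 0x1e20441942) (.leaf (nat_lit 0x1e20441572) (nat_lit 1796))
 (.node (nat_lit 0x1e20441952) (.leaf (nat_lit 0x1e20441942) (nat_lit 1540))
 (.leaf (nat_lit 0x1e20441952) (nat_lit 2560))
))) (.node (nat_lit 0x1e2045113a) (.node (nat_lit 0x1e20441d72) (.leaf (nat_lit 0x1e20441d62) (nat_lit 2564))
 (.node (nat_lit 0x1e2045112a) (.leaf (nat_lit 0x1e20441d72) (nat_lit 1538))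
 (.leaf (nat_lit 0x1e2045112a) (nat_lit 2308))
)) (.node (nat_lit 0x1e2045150a) (.leaf (nat_lit 0x1e2045113a) (nat_lit 2308))
 (.node (nat_lit 0x1e2045151a) (.leaf (nat_lit 0x1e2045150a) (nat_lit 1795))
 (.leaf (nat_lit 0x1e2045151a) (nat_lit 2306))
)))) (.node (nat_lit 0x1e20460742) (.node (nat_lit 0x1e20451d1a) (.node (nat_lit 0x1e2045193a) (.leaf (nat_lit 0x1e2045192a) (nat_lit 2050))
 (.node (nat_lit 0x1e20451d0a) (.leaf (nat_lit 0x1e2045193a) (nat_lit 2051))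
 (.leaf (nat_lit 0x1e20451d0a) (nat_lit 2052))
)) (.node (nat_lit 0x1e20460362) (.leaf (nat_lit 0x1e20451d1a) (nat_lit 2564))
 (.node (nat_lit 0x1e20460372) (.leaf (nat_lit 0x1e20460362) (nat_lit 1795))
 (.leaf (nat_lit 0x1e20460372) (nat_lit 2305))
))) (.node (nat_lit 0x1e20460b72) (.node (nat_lit 0x1e20460752) (.leaf (nat_lit 0x1e20460742) (nat_lit 2307))
 (.node (nat_lit 0x1e20460b62) (.leaf (nat_lit 0x1e20460752) (nat_lit 2306))
 (.leaf (nat_lit 0x1e20460b62) (nat_lit 2050))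
)) (.node (nat_lit 0x1e20460f42) (.leaf (nat_lit 0x1e20460b72) (nat_lit 2563))
 (.node (nat_lit 0x1e20460f52) (.leaf (nat_lit 0x1e20460f42) (nat_lit 2561))
 (.leaf (nat_lit 0x1e20460f52) (nat_lit 2051))
))))) (.node (nat_lit 0x1e30408b26) (.node (nat_lit 0x1e20470f2a) (.node (nat_lit 0x1e2047073a) (.node (nat_lit 0x1e2047031a) (.leaf (nat_lit 0x1e2047030a) (nat_lit 1282))
 (.node (nat_lit 0x1e2047072a) (.leaf (nat_lit 0x1e2047031a) (nat_lit 2819))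
 (.leaf (nat_lit 0x1e2047072a) (nat_lit 2307))
)) (.node (nat_lit 0x1e20470b0a) (.leaf (nat_lit 0x1e2047073a) (nat_lit 1796))
 (.node (nat_lit 0x1e20470b1a) (.leaf (nat_lit 0x1e20470b0a) (nat_lit 1540))
 (.leaf (nat_lit 0x1e20470b1a) (nat_lit 2563))
))) (.node (nat_lit 0x1e30408316) (.node (nat_lit 0x1e20470f3a) (.leaf (nat_lit 0x1e20470f2a) (nat_lit 2563))
 (.node (nat_lit 0x1e30408306) (.leaf (nat_lit 0x1e20470f3a) (nat_lit 1538))
 (.leaf (nat_lit 0x1e30408306) (nat_lit 771))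
)) (.node (nat_lit 0x1e30408726) (.leaf (nat_lit 0x1e30408316) (nat_lit 3330))
 (.node (nat_lit 0x1e30408736) (.leaf (nat_lit 0x1e30408726) (nat_lit 1284))
 (.leaf (nat_lit 0x1e30408736) (nat_lit 2818))
)))) (.node (nat_lit 0x1e3041874e) (.node (nat_lit 0x1e30408f16) (.node (nat_lit 0x1e30408b36) (.leaf (nat_lit 0x1e30408b26) (nat_lit 1027))
 (.node (nat_lit 0x1e30408f06) (.leaf (nat_lit 0x1e30408b36) (nat_lit 3076))
 (.leaf (nat_lit 0x1e30408f06) (nat_lit 1028))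
)) (.node (nat_lit 0x1e3041836e) (.leaf (nat_lit 0x1e30408f16) (nat_lit 3074))
 (.node (nat_lit 0x1e3041837e) (.leaf (nat_lit 0x1e3041836e) (nat_lit 1792))
 (.leaf (nat_lit 0x1e3041837e) (nat_lit 2305))
))) (.node (nat_lit 0x1e30418b5e) (.node (nat_lit 0x1e3041875e) (.leaf (nat_lit 0x1e3041874e) (nat_lit 1795))
 (.node (nat_lit 0x1e30418b4e) (.leaf (nat_lit 0x1e3041875e) (nat_lit 2306))
 (.leaf (nat_lit 0x1e30418b4e) (nat_lit 2048))
)) (.node (nat_lit 0x1e30418f6e) (.leaf (nat_lit 0x1e30418b5e) (nat_lit 2564))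
 (.node (nat_lit 0x1e30418f7e) (.leaf (nat_lit 0x1e30418f6e) (nat_lit 2051))
 (.leaf (nat_lit 0x1e30418f7e) (nat_lit 2562))
)))))) (.node (nat_lit 0x1e3045116e) (.node (nat_lit 0x1e30439926) (.node (nat_lit 0x1e30429d6e) (.node (nat_lit 0x1e3042955e) (.node (nat_lit 0x1e3042917e) (.leaf (nat_lit 0x1e3042916e) (nat_lit 1795))
 (.node (nat_lit 0x1e3042954e) (.leaf (nat_lit 0x1e3042917e) (nat_lit 2308))
 (.leaf (nat_lit 0x1e3042954e) (nat_lit 1796))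
)) (.node (nat_lit 0x1e3042994e) (.leaf (nat_lit 0x1e3042955e) (nat_lit 2306))
 (.node (nat_lit 0x1e3042995e) (.leaf (nat_lit 0x1e3042994e) (nat_lit 1539))
 (.leaf (nat_lit 0x1e3042995e) (nat_lit 2564))
))) (.node (nat_lit 0x1e30439116) (.node (nat_lit 0x1e30429d7e) (.leaf (nat_lit 0x1e30429d6e) (nat_lit 2052))
 (.node (nat_lit 0x1e30439106) (.leaf (nat_lit 0x1e30429d7e) (nat_lit 2050))
 (.leaf (nat_lit 0x1e30439106) (nat_lit 1280))
)) (.node (nat_lit 0x1e30439526) (.leaf (nat_lit 0x1e30439116) (nat_lit 2820))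
 (.node (nat_lit 0x1e30439536) (.leaf (nat_lit 0x1e30439526) (nat_lit 1795))
 (.leaf (nat_lit 0x1e30439536) (nat_lit 2306))
)))) (.node (nat_lit 0x1e30441526) (.node (nat_lit 0x1e30439d16) (.node (nat_lit 0x1e30439936) (.leaf (nat_lit 0x1e30439926) (nat_lit 1536))
 (.node (nat_lit 0x1e30439d06) (.leaf (nat_lit 0x1e30439936) (nat_lit 2564))
 (.leaf (nat_lit 0x1e30439d06) (nat_lit 1539))
)) (.node (nat_lit 0x1e30441106) (.leaf (nat_lit 0x1e30439d16) (nat_lit 2562))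
 (.node (nat_lit 0x1e30441116) (.leaf (nat_lit 0x1e30441106) (nat_lit 1027))
 (.leaf (nat_lit 0x1e30441116) (nat_lit 3074))
))) (.node (nat_lit 0x1e30441936) (.node (nat_lit 0x1e30441536) (.leaf (nat_lit 0x1e30441526) (nat_lit 1540))
 (.node (nat_lit 0x1e30441926) (.leaf (nat_lit 0x1e30441536) (nat_lit 2562))
 (.leaf (nat_lit 0x1e30441926) (nat_lit 1283))
)) (.node (nat_lit 0x1e30441d06) (.leaf (nat_lit 0x1e30441936) (nat_lit 2820))
 (.node (nat_lit 0x1e30441d16) (.leaf (nat_lit 0x1e30441d06) (nat_lit 1284))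
 (.leaf (nat_lit 0x1e30441d16) (nat_lit 2818))
))))) (.node (nat_lit 0x1e30460b4e) (.node (nat_lit 0x1e30451d6e) (.node (nat_lit 0x1e3045155e) (.node (nat_lit 0x1e3045117e) (.leaf (nat_lit 0x1e3045116e) (nat_lit 2048))
 (.node (nat_lit 0x1e3045154e) (.leaf (nat_lit 0x1e3045117e) (nat_lit 2564))
 (.leaf (nat_lit 0x1e3045154e) (nat_lit 2051))
)) (.node (nat_lit 0x1e3045194e) (.leaf (nat_lit 0x1e3045155e) (nat_lit 2050))
 (.node (nat_lit 0x1e3045195e) (.leaf (nat_lit 0x1e3045194e) (nat_lit 1792))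
 (.leaf (nat_lit 0x1e3045195e) (nat_lit 2308))
))) (.node (nat_lit 0x1e3046037e) (.node (nat_lit 0x1e30451d7e) (.leaf (nat_lit 0x1e30451d6e) (nat_lit 2307))
 (.node (nat_lit 0x1e3046036e) (.leaf (nat_lit 0x1e30451d7e) (nat_lit 2306))
 (.leaf (nat_lit 0x1e3046036e) (nat_lit 1539))
)) (.node (nat_lit 0x1e3046074e) (.leaf (nat_lit 0x1e3046037e) (nat_lit 2561))
 (.node (nat_lit 0x1e3046075e) (.leaf (nat_lit 0x1e3046074e) (nat_lit 2052))
 (.leaf (nat_lit 0x1e3046075e) (nat_lit 2562))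
)))) (.node (nat_lit 0x1e30470726) (.node (nat_lit 0x1e30460f7e) (.node (nat_lit 0x1e30460b5e) (.leaf (nat_lit 0x1e30460b4e) (nat_lit 1795))
 (.node (nat_lit 0x1e30460f6e) (.leaf (nat_lit 0x1e30460b5e) (nat_lit 2818))
 (.leaf (nat_lit 0x1e30460f6e) (nat_lit 1796))
)) (.node (nat_lit 0x1e30470306) (.leaf (nat_lit 0x1e30460f7e) (nat_lit 2818))
 (.node (nat_lit 0x1e30470316) (.leaf (nat_lit 0x1e30470306) (nat_lit 1024))
 (.leaf (nat_lit 0x1e30470316) (nat_lit 3076))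
))) (.node (nat_lit 0x1e30470b36) (.node (nat_lit 0x1e30470736) (.leaf (nat_lit 0x1e30470726) (nat_lit 1540))
 (.node (nat_lit 0x1e30470b26) (.leaf (nat_lit 0x1e30470736) (nat_lit 2562))
 (.leaf (nat_lit 0x1e30470b26) (nat_lit 1280))
)) (.node (nat_lit 0x1e30470f06) (.leaf (nat_lit 0x1e30470b36) (nat_lit 2820))
 (.node (nat_lit 0x1e30470f16) (.leaf (nat_lit 0x1e30470f06) (nat_lit 1284))
 (.leaf (nat_lit 0x1e30470f16) (nat_lit 2818))
)))))))))))

theorem P12_ok : genOK A2 [(nat_lit 0x1020448102), (nat_lit 0x1220408102), (nat_lit 0x1030408106), (nat_lit 0x1820408302), (nat_lit 0x1020408902)] P12_t (nat_lit 1536) = true := by decide +kernel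

noncomputable def P2_t : ST :=
(.node (nat_lit 0x1410808284) (.node (nat_lit 0xe108410c4) (.node (nat_lit 0x620c411c2) (.node (nat_lit 0x23046030e) (.node (nat_lit 0x22045010a) (.node (nat_lit 0x210c48184) (.node (nat_lit 0x21086089c) (.node (nat_lit 0x210850684) (.node (nat_lit 0x2108480a4) (.node (nat_lit 0x210840894) (.node (nat_lit 0x210840484) (.node (nat_lit 0x2108400a4) (.leaf (nat_lit 0x210840084) (nat_lit 1538))
 (.leaf (nat_lit 0x2108400a4) (nat_lit 2307))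
) (.node (nat_lit 0x2108404a4) (.leaf (nat_lit 0x210840484) (nat_lit 2308))
 (.leaf (nat_lit 0x2108404a4) (nat_lit 3586))
)) (.node (nat_lit 0x210840c94) (.node (nat_lit 0x2108408b4) (.leaf (nat_lit 0x210840894) (nat_lit 3588))
 (.leaf (nat_lit 0x2108408b4) (nat_lit 3332))
) (.node (nat_lit 0x210840cb4) (.leaf (nat_lit 0x210840c94) (nat_lit 3332))
 (.node (nat_lit 0x210848084) (.leaf (nat_lit 0x210840cb4) (nat_lit 2306))
 (.leaf (nat_lit 0x210848084) (nat_lit 1282))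
)))) (.node (nat_lit 0x2108488b4) (.node (nat_lit 0x2108484a4) (.node (nat_lit 0x210848484) (.leaf (nat_lit 0x2108480a4) (nat_lit 2563))
 (.leaf (nat_lit 0x210848484) (nat_lit 2564))
) (.node (nat_lit 0x210848894) (.leaf (nat_lit 0x2108484a4) (nat_lit 3332))
 (.leaf (nat_lit 0x210848894) (nat_lit 3332))
)) (.node (nat_lit 0x210848cb4) (.node (nat_lit 0x210848c94) (.leaf (nat_lit 0x2108488b4) (nat_lit 3076))
 (.leaf (nat_lit 0x210848c94) (nat_lit 3584))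
) (.node (nat_lit 0x210850284) (.leaf (nat_lit 0x210848cb4) (nat_lit 2562))
 (.node (nat_lit 0x2108502a4) (.leaf (nat_lit 0x210850284) (nat_lit 1793))
 (.leaf (nat_lit 0x2108502a4) (nat_lit 2819))
))))) (.node (nat_lit 0x2108586a4) (.node (nat_lit 0x210850e94) (.node (nat_lit 0x210850a94) (.node (nat_lit 0x2108506a4) (.leaf (nat_lit 0x210850684) (nat_lit 2052))
 (.leaf (nat_lit 0x2108506a4) (nat_lit 3076))
) (.node (nat_lit 0x210850ab4) (.leaf (nat_lit 0x210850a94) (nat_lit 3330))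
 (.leaf (nat_lit 0x210850ab4) (nat_lit 3076))
)) (.node (nat_lit 0x210858284) (.node (nat_lit 0x210850eb4) (.leaf (nat_lit 0x210850e94) (nat_lit 3074))
 (.leaf (nat_lit 0x210850eb4) (nat_lit 2306))
) (.node (nat_lit 0x2108582a4) (.leaf (nat_lit 0x210858284) (nat_lit 1537))
 (.node (nat_lit 0x210858684) (.leaf (nat_lit 0x2108582a4) (nat_lit 3075))
 (.leaf (nat_lit 0x210858684) (nat_lit 2308))
)))) (.node (nat_lit 0x210858eb4) (.node (nat_lit 0x210858ab4) (.node (nat_lit 0x210858a94) (.leaf (nat_lit 0x2108586a4) (nat_lit 2820))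
 (.leaf (nat_lit 0x210858a94) (nat_lit 3074))
) (.node (nat_lit 0x210858e94) (.leaf (nat_lit 0x210858ab4) (nat_lit 3076))
 (.leaf (nat_lit 0x210858e94) (nat_lit 2818))
)) (.node (nat_lit 0x2108600ac) (.node (nat_lit 0x21086008c) (.leaf (nat_lit 0x210858eb4) (nat_lit 2562))
 (.leaf (nat_lit 0x21086008c) (nat_lit 1795))
) (.node (nat_lit 0x21086048c) (.leaf (nat_lit 0x2108600ac) (nat_lit 2051))
 (.node (nat_lit 0x2108604ac) (.leaf (nat_lit 0x21086048c) (nat_lit 2308))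
 (.leaf (nat_lit 0x2108604ac) (nat_lit 3330))
)))))) (.node (nat_lit 0x210870e9c) (.node (nat_lit 0x2108688bc) (.node (nat_lit 0x21086808c) (.node (nat_lit 0x210860c9c) (.node (nat_lit 0x2108608bc) (.leaf (nat_lit 0x21086089c) (nat_lit 3330))
 (.leaf (nat_lit 0x2108608bc) (nat_lit 3076))
) (.node (nat_lit 0x210860cbc) (.leaf (nat_lit 0x210860c9c) (nat_lit 3076))
 (.leaf (nat_lit 0x210860cbc) (nat_lit 2562))
)) (.node (nat_lit 0x21086848c) (.node (nat_lit 0x2108680ac) (.leaf (nat_lit 0x21086808c) (nat_lit 1539))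
 (.leaf (nat_lit 0x2108680ac) (nat_lit 2307))
) (.node (nat_lit 0x2108684ac) (.leaf (nat_lit 0x21086848c) (nat_lit 2564))
 (.node (nat_lit 0x21086889c) (.leaf (nat_lit 0x2108684ac) (nat_lit 3586))
 (.leaf (nat_lit 0x21086889c) (nat_lit 3074))
)))) (.node (nat_lit 0x2108702ac) (.node (nat_lit 0x210868cbc) (.node (nat_lit 0x210868c9c) (.leaf (nat_lit 0x2108688bc) (nat_lit 2820))
 (.leaf (nat_lit 0x210868c9c) (nat_lit 3328))
) (.node (nat_lit 0x21087028c) (.leaf (nat_lit 0x210868cbc) (nat_lit 2818))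
 (.leaf (nat_lit 0x21087028c) (nat_lit 1794))
)) (.node (nat_lit 0x2108706ac) (.node (nat_lit 0x21087068c) (.leaf (nat_lit 0x2108702ac) (nat_lit 2819))
 (.leaf (nat_lit 0x21087068c) (nat_lit 2308))
) (.node (nat_lit 0x210870a9c) (.leaf (nat_lit 0x2108706ac) (nat_lit 2820))
 (.node (nat_lit 0x210870abc) (.leaf (nat_lit 0x210870a9c) (nat_lit 3072))
 (.leaf (nat_lit 0x210870abc) (nat_lit 3331))
))))) (.node (nat_lit 0x210878ebc) (.node (nat_lit 0x21087868c) (.node (nat_lit 0x21087828c) (.node (nat_lit 0x210870ebc) (.leaf (nat_lit 0x210870e9c) (nat_lit 3332))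
 (.leaf (nat_lit 0x210870ebc) (nat_lit 2050))
) (.node (nat_lit 0x2108782ac) (.leaf (nat_lit 0x21087828c) (nat_lit 1538))
 (.leaf (nat_lit 0x2108782ac) (nat_lit 3075))
)) (.node (nat_lit 0x210878a9c) (.node (nat_lit 0x2108786ac) (.leaf (nat_lit 0x21087868c) (nat_lit 2564))
 (.leaf (nat_lit 0x2108786ac) (nat_lit 2564))
) (.node (nat_lit 0x210878abc) (.leaf (nat_lit 0x210878a9c) (nat_lit 2820))
 (.node (nat_lit 0x210878e9c) (.leaf (nat_lit 0x210878abc) (nat_lit 3332))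
 (.leaf (nat_lit 0x210878e9c) (nat_lit 3074))
)))) (.node (nat_lit 0x210c405b4) (.node (nat_lit 0x210c401b4) (.node (nat_lit 0x210c40184) (.leaf (nat_lit 0x210878ebc) (nat_lit 2306))
 (.leaf (nat_lit 0x210c40184) (nat_lit 1282))
) (.node (nat_lit 0x210c40584) (.leaf (nat_lit 0x210c401b4) (nat_lit 2563))
 (.leaf (nat_lit 0x210c40584) (nat_lit 2052))
)) (.node (nat_lit 0x210c409a4) (.node (nat_lit 0x210c40994) (.leaf (nat_lit 0x210c405b4) (nat_lit 3332))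
 (.leaf (nat_lit 0x210c40994) (nat_lit 3588))
) (.node (nat_lit 0x210c40d94) (.leaf (nat_lit 0x210c409a4) (nat_lit 2050))
 (.node (nat_lit 0x210c40da4) (.leaf (nat_lit 0x210c40d94) (nat_lit 3332))
 (.leaf (nat_lit 0x210c40da4) (nat_lit 3588))
))))))) (.node (nat_lit 0x210c68b9c) (.node (nat_lit 0x210c58784) (.node (nat_lit 0x210c503b4) (.node (nat_lit 0x210c48994) (.node (nat_lit 0x210c48584) (.node (nat_lit 0x210c481b4) (.leaf (nat_lit 0x210c48184) (nat_lit 1026))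
 (.leaf (nat_lit 0x210c481b4) (nat_lit 2819))
) (.node (nat_lit 0x210c485b4) (.leaf (nat_lit 0x210c48584) (nat_lit 2308))
 (.leaf (nat_lit 0x210c485b4) (nat_lit 3076))
)) (.node (nat_lit 0x210c48d94) (.node (nat_lit 0x210c489a4) (.leaf (nat_lit 0x210c48994) (nat_lit 3586))
 (.leaf (nat_lit 0x210c489a4) (nat_lit 2306))
) (.node (nat_lit 0x210c48da4) (.leaf (nat_lit 0x210c48d94) (nat_lit 3076))
 (.node (nat_lit 0x210c50384) (.leaf (nat_lit 0x210c48da4) (nat_lit 3332))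
 (.leaf (nat_lit 0x210c50384) (nat_lit 1537))
)))) (.node (nat_lit 0x210c50ba4) (.node (nat_lit 0x210c507b4) (.node (nat_lit 0x210c50784) (.leaf (nat_lit 0x210c503b4) (nat_lit 2563))
 (.leaf (nat_lit 0x210c50784) (nat_lit 1796))
) (.node (nat_lit 0x210c50b94) (.leaf (nat_lit 0x210c507b4) (nat_lit 3074))
 (.leaf (nat_lit 0x210c50b94) (nat_lit 3330))
)) (.node (nat_lit 0x210c50fa4) (.node (nat_lit 0x210c50f94) (.leaf (nat_lit 0x210c50ba4) (nat_lit 2562))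
 (.leaf (nat_lit 0x210c50f94) (nat_lit 3074))
) (.node (nat_lit 0x210c58384) (.leaf (nat_lit 0x210c50fa4) (nat_lit 3076))
 (.node (nat_lit 0x210c583b4) (.leaf (nat_lit 0x210c58384) (nat_lit 1281))
 (.leaf (nat_lit 0x210c583b4) (nat_lit 2819))
))))) (.node (nat_lit 0x210c607bc) (.node (nat_lit 0x210c58f94) (.node (nat_lit 0x210c58b94) (.node (nat_lit 0x210c587b4) (.leaf (nat_lit 0x210c58784) (nat_lit 2052))
 (.leaf (nat_lit 0x210c587b4) (nat_lit 3076))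
) (.node (nat_lit 0x210c58ba4) (.leaf (nat_lit 0x210c58b94) (nat_lit 3074))
 (.leaf (nat_lit 0x210c58ba4) (nat_lit 2818))
)) (.node (nat_lit 0x210c6038c) (.node (nat_lit 0x210c58fa4) (.leaf (nat_lit 0x210c58f94) (nat_lit 2818))
 (.leaf (nat_lit 0x210c58fa4) (nat_lit 2820))
) (.node (nat_lit 0x210c603bc) (.leaf (nat_lit 0x210c6038c) (nat_lit 1538))
 (.node (nat_lit 0x210c6078c) (.leaf (nat_lit 0x210c603bc) (nat_lit 2819))
 (.leaf (nat_lit 0x210c6078c) (nat_lit 2308))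
)))) (.node (nat_lit 0x210c60fac) (.node (nat_lit 0x210c60bac) (.node (nat_lit 0x210c60b9c) (.leaf (nat_lit 0x210c607bc) (nat_lit 3076))
 (.leaf (nat_lit 0x210c60b9c) (nat_lit 3332))
) (.node (nat_lit 0x210c60f9c) (.leaf (nat_lit 0x210c60bac) (nat_lit 1794))
 (.leaf (nat_lit 0x210c60f9c) (nat_lit 3072))
)) (.node (nat_lit 0x210c683bc) (.node (nat_lit 0x210c6838c) (.leaf (nat_lit 0x210c60fac) (nat_lit 3587))
 (.leaf (nat_lit 0x210c6838c) (nat_lit 1282))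
) (.node (nat_lit 0x210c6878c) (.leaf (nat_lit 0x210c683bc) (nat_lit 3075))
 (.node (nat_lit 0x210c687bc) (.leaf (nat_lit 0x210c6878c) (nat_lit 2564))
 (.leaf (nat_lit 0x210c687bc) (nat_lit 2820))
)))))) (.node (nat_lit 0x210c78d9c) (.node (nat_lit 0x210c709ac) (.node (nat_lit 0x210c7018c) (.node (nat_lit 0x210c68f9c) (.node (nat_lit 0x210c68bac) (.leaf (nat_lit 0x210c68b9c) (nat_lit 3330))
 (.leaf (nat_lit 0x210c68bac) (nat_lit 2050))
) (.node (nat_lit 0x210c68fac) (.leaf (nat_lit 0x210c68f9c) (nat_lit 2820))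
 (.leaf (nat_lit 0x210c68fac) (nat_lit 3332))
)) (.node (nat_lit 0x210c7058c) (.node (nat_lit 0x210c701bc) (.leaf (nat_lit 0x210c7018c) (nat_lit 1793))
 (.leaf (nat_lit 0x210c701bc) (nat_lit 2307))
) (.node (nat_lit 0x210c705bc) (.leaf (nat_lit 0x210c7058c) (nat_lit 2052))
 (.node (nat_lit 0x210c7099c) (.leaf (nat_lit 0x210c705bc) (nat_lit 3074))
 (.leaf (nat_lit 0x210c7099c) (nat_lit 3076))
)))) (.node (nat_lit 0x210c781bc) (.node (nat_lit 0x210c70dac) (.node (nat_lit 0x210c70d9c) (.leaf (nat_lit 0x210c709ac) (nat_lit 2562))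
 (.leaf (nat_lit 0x210c70d9c) (nat_lit 3074))
) (.node (nat_lit 0x210c7818c) (.leaf (nat_lit 0x210c70dac) (nat_lit 2820))
 (.leaf (nat_lit 0x210c7818c) (nat_lit 1537))
)) (.node (nat_lit 0x210c785bc) (.node (nat_lit 0x210c7858c) (.leaf (nat_lit 0x210c781bc) (nat_lit 2563))
 (.leaf (nat_lit 0x210c7858c) (nat_lit 2308))
) (.node (nat_lit 0x210c7899c) (.leaf (nat_lit 0x210c785bc) (nat_lit 3330))
 (.node (nat_lit 0x210c789ac) (.leaf (nat_lit 0x210c7899c) (nat_lit 3328))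
 (.leaf (nat_lit 0x210c789ac) (nat_lit 2818))
))))) (.node (nat_lit 0x220440d32) (.node (nat_lit 0x220440522) (.node (nat_lit 0x220440102) (.node (nat_lit 0x210c78dac) (.leaf (nat_lit 0x210c78d9c) (nat_lit 2818))
 (.leaf (nat_lit 0x210c78dac) (nat_lit 2564))
) (.node (nat_lit 0x220440112) (.leaf (nat_lit 0x220440102) (nat_lit 768))
 (.leaf (nat_lit 0x220440112) (nat_lit 2563))
)) (.node (nat_lit 0x220440902) (.node (nat_lit 0x220440532) (.leaf (nat_lit 0x220440522) (nat_lit 3332))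
 (.leaf (nat_lit 0x220440532) (nat_lit 3332))
) (.node (nat_lit 0x220440912) (.leaf (nat_lit 0x220440902) (nat_lit 1540))
 (.node (nat_lit 0x220440d22) (.leaf (nat_lit 0x220440912) (nat_lit 3586))
 (.leaf (nat_lit 0x220440d22) (nat_lit 3588))
)))) (.node (nat_lit 0x220448532) (.node (nat_lit 0x220448112) (.node (nat_lit 0x220448102) (.leaf (nat_lit 0x220440d32) (nat_lit 2050))
 (.leaf (nat_lit 0x220448102) (nat_lit 513))
) (.node (nat_lit 0x220448522) (.leaf (nat_lit 0x220448112) (nat_lit 2819))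
 (.leaf (nat_lit 0x220448522) (nat_lit 3076))
)) (.node (nat_lit 0x220448912) (.node (nat_lit 0x220448902) (.leaf (nat_lit 0x220448532) (nat_lit 3076))
 (.leaf (nat_lit 0x220448902) (nat_lit 1796))
) (.node (nat_lit 0x220448d22) (.leaf (nat_lit 0x220448912) (nat_lit 3332))
 (.node (nat_lit 0x220448d32) (.leaf (nat_lit 0x220448d22) (nat_lit 3332))
 (.leaf (nat_lit 0x220448d32) (nat_lit 2306))
)))))))) (.node (nat_lit 0x220c5838a) (.node (nat_lit 0x220470b0a) (.node (nat_lit 0x220460722) (.node (nat_lit 0x22045811a) (.node (nat_lit 0x22045090a) (.node (nat_lit 0x22045052a) (.node (nat_lit 0x22045011a) (.leaf (nat_lit 0x22045010a) (nat_lit 1793))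
 (.leaf (nat_lit 0x22045011a) (nat_lit 2307))
) (.node (nat_lit 0x22045053a) (.leaf (nat_lit 0x22045052a) (nat_lit 2816))
 (.leaf (nat_lit 0x22045053a) (nat_lit 2820))
)) (.node (nat_lit 0x220450d2a) (.node (nat_lit 0x22045091a) (.leaf (nat_lit 0x22045090a) (nat_lit 2052))
 (.leaf (nat_lit 0x22045091a) (nat_lit 3074))
) (.node (nat_lit 0x220450d3a) (.leaf (nat_lit 0x220450d2a) (nat_lit 2564))
 (.node (nat_lit 0x22045810a) (.leaf (nat_lit 0x220450d3a) (nat_lit 2050))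
 (.leaf (nat_lit 0x22045810a) (nat_lit 1537))
)))) (.node (nat_lit 0x22045891a) (.node (nat_lit 0x22045853a) (.node (nat_lit 0x22045852a) (.leaf (nat_lit 0x22045811a) (nat_lit 2563))
 (.leaf (nat_lit 0x22045852a) (nat_lit 2564))
) (.node (nat_lit 0x22045890a) (.leaf (nat_lit 0x22045853a) (nat_lit 2564))
 (.leaf (nat_lit 0x22045890a) (nat_lit 2308))
)) (.node (nat_lit 0x220458d3a) (.node (nat_lit 0x220458d2a) (.leaf (nat_lit 0x22045891a) (nat_lit 2820))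
 (.leaf (nat_lit 0x220458d2a) (nat_lit 2816))
) (.node (nat_lit 0x220460302) (.leaf (nat_lit 0x220458d3a) (nat_lit 2306))
 (.node (nat_lit 0x220460312) (.leaf (nat_lit 0x220460302) (nat_lit 1025))
 (.leaf (nat_lit 0x220460312) (nat_lit 2819))
))))) (.node (nat_lit 0x220468732) (.node (nat_lit 0x220460f22) (.node (nat_lit 0x220460b02) (.node (nat_lit 0x220460732) (.leaf (nat_lit 0x220460722) (nat_lit 3074))
 (.leaf (nat_lit 0x220460732) (nat_lit 3076))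
) (.node (nat_lit 0x220460b12) (.leaf (nat_lit 0x220460b02) (nat_lit 1284))
 (.leaf (nat_lit 0x220460b12) (nat_lit 3330))
)) (.node (nat_lit 0x220468302) (.node (nat_lit 0x220460f32) (.leaf (nat_lit 0x220460f22) (nat_lit 3332))
 (.leaf (nat_lit 0x220460f32) (nat_lit 2306))
) (.node (nat_lit 0x220468312) (.leaf (nat_lit 0x220468302) (nat_lit 769))
 (.node (nat_lit 0x220468722) (.leaf (nat_lit 0x220468312) (nat_lit 3075))
 (.leaf (nat_lit 0x220468722) (nat_lit 2818))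
)))) (.node (nat_lit 0x220468f32) (.node (nat_lit 0x220468b12) (.node (nat_lit 0x220468b02) (.leaf (nat_lit 0x220468732) (nat_lit 2820))
 (.leaf (nat_lit 0x220468b02) (nat_lit 1540))
) (.node (nat_lit 0x220468f22) (.leaf (nat_lit 0x220468b12) (nat_lit 3332))
 (.leaf (nat_lit 0x220468f22) (nat_lit 3076))
)) (.node (nat_lit 0x22047031a) (.node (nat_lit 0x22047030a) (.leaf (nat_lit 0x220468f32) (nat_lit 2562))
 (.leaf (nat_lit 0x22047030a) (nat_lit 1538))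
) (.node (nat_lit 0x22047072a) (.leaf (nat_lit 0x22047031a) (nat_lit 2563))
 (.node (nat_lit 0x22047073a) (.leaf (nat_lit 0x22047072a) (nat_lit 2560))
 (.leaf (nat_lit 0x22047073a) (nat_lit 3076))
)))))) (.node (nat_lit 0x220c40d92) (.node (nat_lit 0x220478b1a) (.node (nat_lit 0x22047830a) (.node (nat_lit 0x220470f2a) (.node (nat_lit 0x220470b1a) (.leaf (nat_lit 0x220470b0a) (nat_lit 2308))
 (.leaf (nat_lit 0x220470b1a) (nat_lit 2820))
) (.node (nat_lit 0x220470f3a) (.leaf (nat_lit 0x220470f2a) (nat_lit 2820))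
 (.leaf (nat_lit 0x220470f3a) (nat_lit 1794))
)) (.node (nat_lit 0x22047872a) (.node (nat_lit 0x22047831a) (.leaf (nat_lit 0x22047830a) (nat_lit 1282))
 (.leaf (nat_lit 0x22047831a) (nat_lit 2819))
) (.node (nat_lit 0x22047873a) (.leaf (nat_lit 0x22047872a) (nat_lit 2308))
 (.node (nat_lit 0x220478b0a) (.leaf (nat_lit 0x22047873a) (nat_lit 2820))
 (.leaf (nat_lit 0x220478b0a) (nat_lit 2564))
)))) (.node (nat_lit 0x220c401b2) (.node (nat_lit 0x220478f3a) (.node (nat_lit 0x220478f2a) (.leaf (nat_lit 0x220478b1a) (nat_lit 2564))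
 (.leaf (nat_lit 0x220478f2a) (nat_lit 3072))
) (.node (nat_lit 0x220c40182) (.leaf (nat_lit 0x220478f3a) (nat_lit 2050))
 (.leaf (nat_lit 0x220c40182) (nat_lit 1027))
)) (.node (nat_lit 0x220c405a2) (.node (nat_lit 0x220c40592) (.leaf (nat_lit 0x220c401b2) (nat_lit 2307))
 (.leaf (nat_lit 0x220c40592) (nat_lit 2306))
) (.node (nat_lit 0x220c40982) (.leaf (nat_lit 0x220c405a2) (nat_lit 3588))
 (.node (nat_lit 0x220c409b2) (.leaf (nat_lit 0x220c40982) (nat_lit 1796))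
 (.leaf (nat_lit 0x220c409b2) (nat_lit 3588))
))))) (.node (nat_lit 0x220c48da2) (.node (nat_lit 0x220c48592) (.node (nat_lit 0x220c48182) (.node (nat_lit 0x220c40da2) (.leaf (nat_lit 0x220c40d92) (nat_lit 3588))
 (.leaf (nat_lit 0x220c40da2) (nat_lit 3588))
) (.node (nat_lit 0x220c481b2) (.leaf (nat_lit 0x220c48182) (nat_lit 771))
 (.leaf (nat_lit 0x220c481b2) (nat_lit 2563))
)) (.node (nat_lit 0x220c48982) (.node (nat_lit 0x220c485a2) (.leaf (nat_lit 0x220c48592) (nat_lit 2562))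
 (.leaf (nat_lit 0x220c485a2) (nat_lit 3330))
) (.node (nat_lit 0x220c489b2) (.leaf (nat_lit 0x220c48982) (nat_lit 2052))
 (.node (nat_lit 0x220c48d92) (.leaf (nat_lit 0x220c489b2) (nat_lit 3332))
 (.leaf (nat_lit 0x220c48d92) (nat_lit 3332))
)))) (.node (nat_lit 0x220c507aa) (.node (nat_lit 0x220c503ba) (.node (nat_lit 0x220c5038a) (.leaf (nat_lit 0x220c48da2) (nat_lit 3332))
 (.leaf (nat_lit 0x220c5038a) (nat_lit 1794))
) (.node (nat_lit 0x220c5079a) (.leaf (nat_lit 0x220c503ba) (nat_lit 2307))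
 (.leaf (nat_lit 0x220c5079a) (nat_lit 2050))
)) (.node (nat_lit 0x220c50bba) (.node (nat_lit 0x220c50b8a) (.leaf (nat_lit 0x220c507aa) (nat_lit 2820))
 (.leaf (nat_lit 0x220c50b8a) (nat_lit 2308))
) (.node (nat_lit 0x220c50f9a) (.leaf (nat_lit 0x220c50bba) (nat_lit 3076))
 (.node (nat_lit 0x220c50faa) (.leaf (nat_lit 0x220c50f9a) (nat_lit 3331))
 (.leaf (nat_lit 0x220c50faa) (nat_lit 2816))
))))))) (.node (nat_lit 0x220c7898a) (.node (nat_lit 0x220c68792) (.node (nat_lit 0x220c603b2) (.node (nat_lit 0x220c58b8a) (.node (nat_lit 0x220c5879a) (.node (nat_lit 0x220c583ba) (.leaf (nat_lit 0x220c5838a) (nat_lit 1538))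
 (.leaf (nat_lit 0x220c583ba) (nat_lit 2563))
) (.node (nat_lit 0x220c587aa) (.leaf (nat_lit 0x220c5879a) (nat_lit 2306))
 (.leaf (nat_lit 0x220c587aa) (nat_lit 3072))
)) (.node (nat_lit 0x220c58f9a) (.node (nat_lit 0x220c58bba) (.leaf (nat_lit 0x220c58b8a) (nat_lit 2564))
 (.leaf (nat_lit 0x220c58bba) (nat_lit 2820))
) (.node (nat_lit 0x220c58faa) (.leaf (nat_lit 0x220c58f9a) (nat_lit 3076))
 (.node (nat_lit 0x220c60382) (.leaf (nat_lit 0x220c58faa) (nat_lit 2564))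
 (.leaf (nat_lit 0x220c60382) (nat_lit 1281))
)))) (.node (nat_lit 0x220c60bb2) (.node (nat_lit 0x220c607a2) (.node (nat_lit 0x220c60792) (.leaf (nat_lit 0x220c603b2) (nat_lit 2563))
 (.leaf (nat_lit 0x220c60792) (nat_lit 2562))
) (.node (nat_lit 0x220c60b82) (.leaf (nat_lit 0x220c607a2) (nat_lit 3330))
 (.leaf (nat_lit 0x220c60b82) (nat_lit 1540))
)) (.node (nat_lit 0x220c60fa2) (.node (nat_lit 0x220c60f92) (.leaf (nat_lit 0x220c60bb2) (nat_lit 3332))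
 (.leaf (nat_lit 0x220c60f92) (nat_lit 3332))
) (.node (nat_lit 0x220c68382) (.leaf (nat_lit 0x220c60fa2) (nat_lit 3331))
 (.node (nat_lit 0x220c683b2) (.leaf (nat_lit 0x220c68382) (nat_lit 1025))
 (.leaf (nat_lit 0x220c683b2) (nat_lit 2819))
))))) (.node (nat_lit 0x220c705aa) (.node (nat_lit 0x220c68f92) (.node (nat_lit 0x220c68b82) (.node (nat_lit 0x220c687a2) (.leaf (nat_lit 0x220c68792) (nat_lit 2818))
 (.leaf (nat_lit 0x220c687a2) (nat_lit 3074))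
) (.node (nat_lit 0x220c68bb2) (.leaf (nat_lit 0x220c68b82) (nat_lit 1796))
 (.leaf (nat_lit 0x220c68bb2) (nat_lit 3076))
)) (.node (nat_lit 0x220c7018a) (.node (nat_lit 0x220c68fa2) (.leaf (nat_lit 0x220c68f92) (nat_lit 3076))
 (.leaf (nat_lit 0x220c68fa2) (nat_lit 3075))
) (.node (nat_lit 0x220c701ba) (.leaf (nat_lit 0x220c7018a) (nat_lit 1795))
 (.node (nat_lit 0x220c7059a) (.leaf (nat_lit 0x220c701ba) (nat_lit 2051))
 (.leaf (nat_lit 0x220c7059a) (nat_lit 2306))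
)))) (.node (nat_lit 0x220c70daa) (.node (nat_lit 0x220c709ba) (.node (nat_lit 0x220c7098a) (.leaf (nat_lit 0x220c705aa) (nat_lit 2820))
 (.leaf (nat_lit 0x220c7098a) (nat_lit 2308))
) (.node (nat_lit 0x220c70d9a) (.leaf (nat_lit 0x220c709ba) (nat_lit 3330))
 (.leaf (nat_lit 0x220c70d9a) (nat_lit 3076))
)) (.node (nat_lit 0x220c781ba) (.node (nat_lit 0x220c7818a) (.leaf (nat_lit 0x220c70daa) (nat_lit 2816))
 (.leaf (nat_lit 0x220c7818a) (nat_lit 1539))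
) (.node (nat_lit 0x220c7859a) (.leaf (nat_lit 0x220c781ba) (nat_lit 2307))
 (.node (nat_lit 0x220c785aa) (.leaf (nat_lit 0x220c7859a) (nat_lit 2562))
 (.leaf (nat_lit 0x220c785aa) (nat_lit 3072))
)))))) (.node (nat_lit 0x230448d06) (.node (nat_lit 0x230440936) (.node (nat_lit 0x230440106) (.node (nat_lit 0x220c78d9a) (.node (nat_lit 0x220c789ba) (.leaf (nat_lit 0x220c7898a) (nat_lit 2564))
 (.leaf (nat_lit 0x220c789ba) (nat_lit 3076))
) (.node (nat_lit 0x220c78daa) (.leaf (nat_lit 0x220c78d9a) (nat_lit 2820))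
 (.leaf (nat_lit 0x220c78daa) (nat_lit 2564))
)) (.node (nat_lit 0x230440526) (.node (nat_lit 0x230440116) (.leaf (nat_lit 0x230440106) (nat_lit 1026))
 (.leaf (nat_lit 0x230440116) (nat_lit 2819))
) (.node (nat_lit 0x230440536) (.leaf (nat_lit 0x230440526) (nat_lit 3588))
 (.node (nat_lit 0x230440926) (.leaf (nat_lit 0x230440536) (nat_lit 3076))
 (.leaf (nat_lit 0x230440926) (nat_lit 1794))
)))) (.node (nat_lit 0x230448116) (.node (nat_lit 0x230440d16) (.node (nat_lit 0x230440d06) (.leaf (nat_lit 0x230440936) (nat_lit 3332))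
 (.leaf (nat_lit 0x230440d06) (nat_lit 1796))
) (.node (nat_lit 0x230448106) (.leaf (nat_lit 0x230440d16) (nat_lit 3332))
 (.leaf (nat_lit 0x230448106) (nat_lit 770))
)) (.node (nat_lit 0x230448536) (.node (nat_lit 0x230448526) (.leaf (nat_lit 0x230448116) (nat_lit 3075))
 (.leaf (nat_lit 0x230448526) (nat_lit 3332))
) (.node (nat_lit 0x230448926) (.leaf (nat_lit 0x230448536) (nat_lit 2820))
 (.node (nat_lit 0x230448936) (.leaf (nat_lit 0x230448926) (nat_lit 2050))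
 (.leaf (nat_lit 0x230448936) (nat_lit 3588))
))))) (.node (nat_lit 0x230450d1e) (.node (nat_lit 0x23045052e) (.node (nat_lit 0x23045010e) (.node (nat_lit 0x230448d16) (.leaf (nat_lit 0x230448d06) (nat_lit 2052))
 (.leaf (nat_lit 0x230448d16) (nat_lit 3076))
) (.node (nat_lit 0x23045011e) (.leaf (nat_lit 0x23045010e) (nat_lit 1537))
 (.leaf (nat_lit 0x23045011e) (nat_lit 2563))
)) (.node (nat_lit 0x23045092e) (.node (nat_lit 0x23045053e) (.leaf (nat_lit 0x23045052e) (nat_lit 2564))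
 (.leaf (nat_lit 0x23045053e) (nat_lit 3072))
) (.node (nat_lit 0x23045093e) (.leaf (nat_lit 0x23045092e) (nat_lit 2306))
 (.node (nat_lit 0x230450d0e) (.leaf (nat_lit 0x23045093e) (nat_lit 2820))
 (.leaf (nat_lit 0x230450d0e) (nat_lit 1796))
)))) (.node (nat_lit 0x23045853e) (.node (nat_lit 0x23045811e) (.node (nat_lit 0x23045810e) (.leaf (nat_lit 0x230450d1e) (nat_lit 2818))
 (.leaf (nat_lit 0x23045810e) (nat_lit 1281))
) (.node (nat_lit 0x23045852e) (.leaf (nat_lit 0x23045811e) (nat_lit 2819))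
 (.leaf (nat_lit 0x23045852e) (nat_lit 2308))
)) (.node (nat_lit 0x23045893e) (.node (nat_lit 0x23045892e) (.leaf (nat_lit 0x23045853e) (nat_lit 2820))
 (.leaf (nat_lit 0x23045892e) (nat_lit 2562))
) (.node (nat_lit 0x230458d0e) (.leaf (nat_lit 0x23045893e) (nat_lit 3072))
 (.node (nat_lit 0x230458d1e) (.leaf (nat_lit 0x230458d0e) (nat_lit 2052))
 (.leaf (nat_lit 0x230458d1e) (nat_lit 3074))
))))))))) (.node (nat_lit 0x61087129c) (.node (nat_lit 0x23086808e) (.node (nat_lit 0x230840896) (.node (nat_lit 0x230470726) (.node (nat_lit 0x23046831e) (.node (nat_lit 0x230460b2e) (.node (nat_lit 0x23046072e) (.node (nat_lit 0x23046031e) (.leaf (nat_lit 0x23046030e) (nat_lit 1282))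
 (.leaf (nat_lit 0x23046031e) (nat_lit 2819))
) (.node (nat_lit 0x23046073e) (.leaf (nat_lit 0x23046072e) (nat_lit 3332))
 (.leaf (nat_lit 0x23046073e) (nat_lit 2816))
)) (.node (nat_lit 0x230460f0e) (.node (nat_lit 0x230460b3e) (.leaf (nat_lit 0x230460b2e) (nat_lit 1538))
 (.leaf (nat_lit 0x230460b3e) (nat_lit 3076))
) (.node (nat_lit 0x230460f1e) (.leaf (nat_lit 0x230460f0e) (nat_lit 2052))
 (.node (nat_lit 0x23046830e) (.leaf (nat_lit 0x230460f1e) (nat_lit 3076))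
 (.leaf (nat_lit 0x23046830e) (nat_lit 1026))
)))) (.node (nat_lit 0x230468b3e) (.node (nat_lit 0x23046873e) (.node (nat_lit 0x23046872e) (.leaf (nat_lit 0x23046831e) (nat_lit 3075))
 (.leaf (nat_lit 0x23046872e) (nat_lit 3076))
) (.node (nat_lit 0x230468b2e) (.leaf (nat_lit 0x23046873e) (nat_lit 2564))
 (.leaf (nat_lit 0x230468b2e) (nat_lit 1794))
)) (.node (nat_lit 0x230468f1e) (.node (nat_lit 0x230468f0e) (.leaf (nat_lit 0x230468b3e) (nat_lit 3328))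
 (.leaf (nat_lit 0x230468f0e) (nat_lit 2308))
) (.node (nat_lit 0x230470306) (.leaf (nat_lit 0x230468f1e) (nat_lit 2820))
 (.node (nat_lit 0x230470316) (.leaf (nat_lit 0x230470306) (nat_lit 1281))
 (.leaf (nat_lit 0x230470316) (nat_lit 2819))
))))) (.node (nat_lit 0x230478736) (.node (nat_lit 0x230470f06) (.node (nat_lit 0x230470b26) (.node (nat_lit 0x230470736) (.leaf (nat_lit 0x230470726) (nat_lit 2820))
 (.leaf (nat_lit 0x230470736) (nat_lit 2818))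
) (.node (nat_lit 0x230470b36) (.leaf (nat_lit 0x230470b26) (nat_lit 2562))
 (.leaf (nat_lit 0x230470b36) (nat_lit 3076))
)) (.node (nat_lit 0x230478306) (.node (nat_lit 0x230470f16) (.leaf (nat_lit 0x230470f06) (nat_lit 1540))
 (.leaf (nat_lit 0x230470f16) (nat_lit 3074))
) (.node (nat_lit 0x230478316) (.leaf (nat_lit 0x230478306) (nat_lit 1025))
 (.node (nat_lit 0x230478726) (.leaf (nat_lit 0x230478316) (nat_lit 3075))
 (.leaf (nat_lit 0x230478726) (nat_lit 2564))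
)))) (.node (nat_lit 0x230478f16) (.node (nat_lit 0x230478b36) (.node (nat_lit 0x230478b26) (.leaf (nat_lit 0x230478736) (nat_lit 2562))
 (.leaf (nat_lit 0x230478b26) (nat_lit 2818))
) (.node (nat_lit 0x230478f06) (.leaf (nat_lit 0x230478b36) (nat_lit 2820))
 (.leaf (nat_lit 0x230478f06) (nat_lit 1796))
)) (.node (nat_lit 0x2308400a6) (.node (nat_lit 0x230840086) (.leaf (nat_lit 0x230478f16) (nat_lit 3330))
 (.leaf (nat_lit 0x230840086) (nat_lit 1283))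
) (.node (nat_lit 0x230840496) (.leaf (nat_lit 0x2308400a6) (nat_lit 2051))
 (.node (nat_lit 0x2308404b6) (.leaf (nat_lit 0x230840496) (nat_lit 2562))
 (.leaf (nat_lit 0x2308404b6) (nat_lit 3332))
)))))) (.node (nat_lit 0x230850e8e) (.node (nat_lit 0x2308488b6) (.node (nat_lit 0x230848086) (.node (nat_lit 0x230840c86) (.node (nat_lit 0x2308408b6) (.leaf (nat_lit 0x230840896) (nat_lit 3588))
 (.leaf (nat_lit 0x2308408b6) (nat_lit 3332))
) (.node (nat_lit 0x230840ca6) (.leaf (nat_lit 0x230840c86) (nat_lit 2052))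
 (.leaf (nat_lit 0x230840ca6) (nat_lit 3586))
)) (.node (nat_lit 0x230848496) (.node (nat_lit 0x2308480a6) (.leaf (nat_lit 0x230848086) (nat_lit 1027))
 (.leaf (nat_lit 0x2308480a6) (nat_lit 2307))
) (.node (nat_lit 0x2308484b6) (.leaf (nat_lit 0x230848496) (nat_lit 2818))
 (.node (nat_lit 0x230848896) (.leaf (nat_lit 0x2308484b6) (nat_lit 3584))
 (.leaf (nat_lit 0x230848896) (nat_lit 3332))
)))) (.node (nat_lit 0x2308502ae) (.node (nat_lit 0x230848ca6) (.node (nat_lit 0x230848c86) (.leaf (nat_lit 0x2308488b6) (nat_lit 3076))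
 (.leaf (nat_lit 0x230848c86) (nat_lit 2308))
) (.node (nat_lit 0x23085028e) (.leaf (nat_lit 0x230848ca6) (nat_lit 3588))
 (.leaf (nat_lit 0x23085028e) (nat_lit 1793))
)) (.node (nat_lit 0x2308506be) (.node (nat_lit 0x23085069e) (.leaf (nat_lit 0x2308502ae) (nat_lit 2563))
 (.leaf (nat_lit 0x23085069e) (nat_lit 2306))
) (.node (nat_lit 0x230850a9e) (.leaf (nat_lit 0x2308506be) (nat_lit 3076))
 (.node (nat_lit 0x230850abe) (.leaf (nat_lit 0x230850a9e) (nat_lit 3075))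
 (.leaf (nat_lit 0x230850abe) (nat_lit 3072))
))))) (.node (nat_lit 0x230858eae) (.node (nat_lit 0x23085869e) (.node (nat_lit 0x23085828e) (.node (nat_lit 0x230850eae) (.leaf (nat_lit 0x230850e8e) (nat_lit 2052))
 (.leaf (nat_lit 0x230850eae) (nat_lit 2820))
) (.node (nat_lit 0x2308582ae) (.leaf (nat_lit 0x23085828e) (nat_lit 1537))
 (.leaf (nat_lit 0x2308582ae) (nat_lit 2819))
)) (.node (nat_lit 0x230858a9e) (.node (nat_lit 0x2308586be) (.leaf (nat_lit 0x23085869e) (nat_lit 2562))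
 (.leaf (nat_lit 0x2308586be) (nat_lit 3074))
) (.node (nat_lit 0x230858abe) (.leaf (nat_lit 0x230858a9e) (nat_lit 3331))
 (.node (nat_lit 0x230858e8e) (.leaf (nat_lit 0x230858abe) (nat_lit 2820))
 (.leaf (nat_lit 0x230858e8e) (nat_lit 2308))
)))) (.node (nat_lit 0x2308604be) (.node (nat_lit 0x2308600ae) (.node (nat_lit 0x23086008e) (.leaf (nat_lit 0x230858eae) (nat_lit 2564))
 (.leaf (nat_lit 0x23086008e) (nat_lit 1539))
) (.node (nat_lit 0x23086049e) (.leaf (nat_lit 0x2308600ae) (nat_lit 1795))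
 (.leaf (nat_lit 0x23086049e) (nat_lit 2562))
)) (.node (nat_lit 0x2308608be) (.node (nat_lit 0x23086089e) (.leaf (nat_lit 0x2308604be) (nat_lit 3076))
 (.leaf (nat_lit 0x23086089e) (nat_lit 3332))
) (.node (nat_lit 0x230860c8e) (.leaf (nat_lit 0x2308608be) (nat_lit 3072))
 (.node (nat_lit 0x230860cae) (.leaf (nat_lit 0x230860c8e) (nat_lit 2308))
 (.leaf (nat_lit 0x230860cae) (nat_lit 3330))
))))))) (.node (nat_lit 0x610849a94) (.node (nat_lit 0x230878696) (.node (nat_lit 0x2308702a6) (.node (nat_lit 0x23086889e) (.node (nat_lit 0x23086849e) (.node (nat_lit 0x2308680ae) (.leaf (nat_lit 0x23086808e) (nat_lit 1283))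
 (.leaf (nat_lit 0x2308680ae) (nat_lit 2051))
) (.node (nat_lit 0x2308684be) (.leaf (nat_lit 0x23086849e) (nat_lit 2818))
 (.leaf (nat_lit 0x2308684be) (nat_lit 3328))
)) (.node (nat_lit 0x230868c8e) (.node (nat_lit 0x2308688be) (.leaf (nat_lit 0x23086889e) (nat_lit 3076))
 (.leaf (nat_lit 0x2308688be) (nat_lit 2820))
) (.node (nat_lit 0x230868cae) (.leaf (nat_lit 0x230868c8e) (nat_lit 2564))
 (.node (nat_lit 0x230870286) (.leaf (nat_lit 0x230868cae) (nat_lit 3332))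
 (.leaf (nat_lit 0x230870286) (nat_lit 1537))
)))) (.node (nat_lit 0x230870ab6) (.node (nat_lit 0x2308706b6) (.node (nat_lit 0x230870696) (.leaf (nat_lit 0x2308702a6) (nat_lit 2819))
 (.leaf (nat_lit 0x230870696) (nat_lit 2562))
) (.node (nat_lit 0x230870a96) (.leaf (nat_lit 0x2308706b6) (nat_lit 3074))
 (.leaf (nat_lit 0x230870a96) (nat_lit 3332))
)) (.node (nat_lit 0x230870ea6) (.node (nat_lit 0x230870e86) (.leaf (nat_lit 0x230870ab6) (nat_lit 3075))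
 (.leaf (nat_lit 0x230870e86) (nat_lit 1796))
) (.node (nat_lit 0x230878286) (.leaf (nat_lit 0x230870ea6) (nat_lit 3076))
 (.node (nat_lit 0x2308782a6) (.leaf (nat_lit 0x230878286) (nat_lit 1281))
 (.leaf (nat_lit 0x2308782a6) (nat_lit 3075))
))))) (.node (nat_lit 0x6108414a4) (.node (nat_lit 0x230878e86) (.node (nat_lit 0x230878a96) (.node (nat_lit 0x2308786b6) (.leaf (nat_lit 0x230878696) (nat_lit 2818))
 (.leaf (nat_lit 0x2308786b6) (nat_lit 2818))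
) (.node (nat_lit 0x230878ab6) (.leaf (nat_lit 0x230878a96) (nat_lit 3332))
 (.leaf (nat_lit 0x230878ab6) (nat_lit 2819))
)) (.node (nat_lit 0x610841084) (.node (nat_lit 0x230878ea6) (.leaf (nat_lit 0x230878e86) (nat_lit 2052))
 (.leaf (nat_lit 0x230878ea6) (nat_lit 2820))
) (.node (nat_lit 0x6108410a4) (.leaf (nat_lit 0x610841084) (nat_lit 1796))
 (.node (nat_lit 0x610841484) (.leaf (nat_lit 0x6108410a4) (nat_lit 2306))
 (.leaf (nat_lit 0x610841484) (nat_lit 2048))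
)))) (.node (nat_lit 0x610841cb4) (.node (nat_lit 0x6108418b4) (.node (nat_lit 0x610841894) (.leaf (nat_lit 0x6108414a4) (nat_lit 3330))
 (.leaf (nat_lit 0x610841894) (nat_lit 3330))
) (.node (nat_lit 0x610841c94) (.leaf (nat_lit 0x6108418b4) (nat_lit 3072))
 (.leaf (nat_lit 0x610841c94) (nat_lit 3074))
)) (.node (nat_lit 0x6108492a4) (.node (nat_lit 0x610849284) (.leaf (nat_lit 0x610841cb4) (nat_lit 2564))
 (.leaf (nat_lit 0x610849284) (nat_lit 1540))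
) (.node (nat_lit 0x610849684) (.leaf (nat_lit 0x6108492a4) (nat_lit 2562))
 (.node (nat_lit 0x6108496a4) (.leaf (nat_lit 0x610849684) (nat_lit 2304))
 (.leaf (nat_lit 0x6108496a4) (nat_lit 3074))
)))))) (.node (nat_lit 0x610859c94) (.node (nat_lit 0x610851ab4) (.node (nat_lit 0x610851284) (.node (nat_lit 0x610849e94) (.node (nat_lit 0x610849ab4) (.leaf (nat_lit 0x610849a94) (nat_lit 3074))
 (.leaf (nat_lit 0x610849ab4) (nat_lit 2816))
) (.node (nat_lit 0x610849eb4) (.leaf (nat_lit 0x610849e94) (nat_lit 3330))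
 (.leaf (nat_lit 0x610849eb4) (nat_lit 2820))
)) (.node (nat_lit 0x610851684) (.node (nat_lit 0x6108512a4) (.leaf (nat_lit 0x610851284) (nat_lit 1792))
 (.leaf (nat_lit 0x6108512a4) (nat_lit 2818))
) (.node (nat_lit 0x6108516a4) (.leaf (nat_lit 0x610851684) (nat_lit 2052))
 (.node (nat_lit 0x610851a94) (.leaf (nat_lit 0x6108516a4) (nat_lit 2818))
 (.leaf (nat_lit 0x610851a94) (nat_lit 3330))
)))) (.node (nat_lit 0x6108590a4) (.node (nat_lit 0x610851eb4) (.node (nat_lit 0x610851e94) (.leaf (nat_lit 0x610851ab4) (nat_lit 2564))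
 (.leaf (nat_lit 0x610851e94) (nat_lit 3074))
) (.node (nat_lit 0x610859084) (.leaf (nat_lit 0x610851eb4) (nat_lit 2818))
 (.leaf (nat_lit 0x610859084) (nat_lit 2048))
)) (.node (nat_lit 0x6108594a4) (.node (nat_lit 0x610859484) (.leaf (nat_lit 0x6108590a4) (nat_lit 2562))
 (.leaf (nat_lit 0x610859484) (nat_lit 1796))
) (.node (nat_lit 0x610859894) (.leaf (nat_lit 0x6108594a4) (nat_lit 3074))
 (.node (nat_lit 0x6108598b4) (.leaf (nat_lit 0x610859894) (nat_lit 3074))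
 (.leaf (nat_lit 0x6108598b4) (nat_lit 2820))
))))) (.node (nat_lit 0x610861cac) (.node (nat_lit 0x61086149c) (.node (nat_lit 0x61086109c) (.node (nat_lit 0x610859cb4) (.leaf (nat_lit 0x610859c94) (nat_lit 2818))
 (.leaf (nat_lit 0x610859cb4) (nat_lit 2816))
) (.node (nat_lit 0x6108610bc) (.leaf (nat_lit 0x61086109c) (nat_lit 3075))
 (.leaf (nat_lit 0x6108610bc) (nat_lit 2816))
)) (.node (nat_lit 0x61086188c) (.node (nat_lit 0x6108614bc) (.leaf (nat_lit 0x61086149c) (nat_lit 2818))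
 (.leaf (nat_lit 0x6108614bc) (nat_lit 2820))
) (.node (nat_lit 0x6108618ac) (.leaf (nat_lit 0x61086188c) (nat_lit 2052))
 (.node (nat_lit 0x610861c8c) (.leaf (nat_lit 0x6108618ac) (nat_lit 2050))
 (.leaf (nat_lit 0x610861c8c) (nat_lit 2048))
)))) (.node (nat_lit 0x6108696bc) (.node (nat_lit 0x6108692bc) (.node (nat_lit 0x61086929c) (.leaf (nat_lit 0x610861cac) (nat_lit 3588))
 (.leaf (nat_lit 0x61086929c) (nat_lit 2819))
) (.node (nat_lit 0x61086969c) (.leaf (nat_lit 0x6108692bc) (nat_lit 2560))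
 (.leaf (nat_lit 0x61086969c) (nat_lit 3074))
)) (.node (nat_lit 0x610869aac) (.node (nat_lit 0x610869a8c) (.leaf (nat_lit 0x6108696bc) (nat_lit 3076))
 (.leaf (nat_lit 0x610869a8c) (nat_lit 1796))
) (.node (nat_lit 0x610869e8c) (.leaf (nat_lit 0x610869aac) (nat_lit 2306))
 (.node (nat_lit 0x610869eac) (.leaf (nat_lit 0x610869e8c) (nat_lit 2304))
 (.leaf (nat_lit 0x610869eac) (nat_lit 3330))
)))))))) (.node (nat_lit 0x610c7939c) (.node (nat_lit 0x610c51b94) (.node (nat_lit 0x610c41584) (.node (nat_lit 0x6108790bc) (.node (nat_lit 0x610871a8c) (.node (nat_lit 0x61087169c) (.node (nat_lit 0x6108712bc) (.leaf (nat_lit 0x61087129c) (nat_lit 3075))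
 (.leaf (nat_lit 0x6108712bc) (nat_lit 2308))
) (.node (nat_lit 0x6108716bc) (.leaf (nat_lit 0x61087169c) (nat_lit 2818))
 (.leaf (nat_lit 0x6108716bc) (nat_lit 3074))
)) (.node (nat_lit 0x610871e8c) (.node (nat_lit 0x610871aac) (.leaf (nat_lit 0x610871a8c) (nat_lit 2048))
 (.leaf (nat_lit 0x610871aac) (nat_lit 2562))
) (.node (nat_lit 0x610871eac) (.leaf (nat_lit 0x610871e8c) (nat_lit 2052))
 (.node (nat_lit 0x61087909c) (.leaf (nat_lit 0x610871eac) (nat_lit 3074))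
 (.leaf (nat_lit 0x61087909c) (nat_lit 3331))
)))) (.node (nat_lit 0x6108798ac) (.node (nat_lit 0x6108794bc) (.node (nat_lit 0x61087949c) (.leaf (nat_lit 0x6108790bc) (nat_lit 2564))
 (.leaf (nat_lit 0x61087949c) (nat_lit 2562))
) (.node (nat_lit 0x61087988c) (.leaf (nat_lit 0x6108794bc) (nat_lit 3072))
 (.leaf (nat_lit 0x61087988c) (nat_lit 2304))
)) (.node (nat_lit 0x610879cac) (.node (nat_lit 0x610879c8c) (.leaf (nat_lit 0x6108798ac) (nat_lit 2306))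
 (.leaf (nat_lit 0x610879c8c) (nat_lit 1796))
) (.node (nat_lit 0x610c41184) (.leaf (nat_lit 0x610879cac) (nat_lit 3330))
 (.node (nat_lit 0x610c411b4) (.leaf (nat_lit 0x610c41184) (nat_lit 1540))
 (.leaf (nat_lit 0x610c411b4) (nat_lit 2562))
))))) (.node (nat_lit 0x610c497b4) (.node (nat_lit 0x610c41d94) (.node (nat_lit 0x610c41994) (.node (nat_lit 0x610c415b4) (.leaf (nat_lit 0x610c41584) (nat_lit 1792))
 (.leaf (nat_lit 0x610c415b4) (nat_lit 3074))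
) (.node (nat_lit 0x610c419a4) (.leaf (nat_lit 0x610c41994) (nat_lit 3330))
 (.leaf (nat_lit 0x610c419a4) (nat_lit 2308))
)) (.node (nat_lit 0x610c49384) (.node (nat_lit 0x610c41da4) (.leaf (nat_lit 0x610c41d94) (nat_lit 3074))
 (.leaf (nat_lit 0x610c41da4) (nat_lit 3328))
) (.node (nat_lit 0x610c493b4) (.leaf (nat_lit 0x610c49384) (nat_lit 1284))
 (.node (nat_lit 0x610c49784) (.leaf (nat_lit 0x610c493b4) (nat_lit 2818))
 (.leaf (nat_lit 0x610c49784) (nat_lit 2048))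
)))) (.node (nat_lit 0x610c49fa4) (.node (nat_lit 0x610c49ba4) (.node (nat_lit 0x610c49b94) (.leaf (nat_lit 0x610c497b4) (nat_lit 2818))
 (.leaf (nat_lit 0x610c49b94) (nat_lit 3584))
) (.node (nat_lit 0x610c49f94) (.leaf (nat_lit 0x610c49ba4) (nat_lit 2564))
 (.leaf (nat_lit 0x610c49f94) (nat_lit 2818))
)) (.node (nat_lit 0x610c513b4) (.node (nat_lit 0x610c51384) (.leaf (nat_lit 0x610c49fa4) (nat_lit 3072))
 (.leaf (nat_lit 0x610c51384) (nat_lit 1536))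
) (.node (nat_lit 0x610c51784) (.leaf (nat_lit 0x610c513b4) (nat_lit 3075))
 (.node (nat_lit 0x610c517b4) (.leaf (nat_lit 0x610c51784) (nat_lit 1796))
 (.leaf (nat_lit 0x610c517b4) (nat_lit 2562))
)))))) (.node (nat_lit 0x610c61f8c) (.node (nat_lit 0x610c599a4) (.node (nat_lit 0x610c59184) (.node (nat_lit 0x610c51f94) (.node (nat_lit 0x610c51ba4) (.leaf (nat_lit 0x610c51b94) (nat_lit 3332))
 (.leaf (nat_lit 0x610c51ba4) (nat_lit 2816))
) (.node (nat_lit 0x610c51fa4) (.leaf (nat_lit 0x610c51f94) (nat_lit 3074))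
 (.leaf (nat_lit 0x610c51fa4) (nat_lit 2820))
)) (.node (nat_lit 0x610c59584) (.node (nat_lit 0x610c591b4) (.leaf (nat_lit 0x610c59184) (nat_lit 1792))
 (.leaf (nat_lit 0x610c591b4) (nat_lit 2818))
) (.node (nat_lit 0x610c595b4) (.leaf (nat_lit 0x610c59584) (nat_lit 1540))
 (.node (nat_lit 0x610c59994) (.leaf (nat_lit 0x610c595b4) (nat_lit 2818))
 (.leaf (nat_lit 0x610c59994) (nat_lit 3074))
)))) (.node (nat_lit 0x610c613ac) (.node (nat_lit 0x610c59da4) (.node (nat_lit 0x610c59d94) (.leaf (nat_lit 0x610c599a4) (nat_lit 2560))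
 (.leaf (nat_lit 0x610c59d94) (nat_lit 2818))
) (.node (nat_lit 0x610c6139c) (.leaf (nat_lit 0x610c59da4) (nat_lit 3076))
 (.leaf (nat_lit 0x610c6139c) (nat_lit 3073))
)) (.node (nat_lit 0x610c617ac) (.node (nat_lit 0x610c6179c) (.leaf (nat_lit 0x610c613ac) (nat_lit 2052))
 (.leaf (nat_lit 0x610c6179c) (nat_lit 2818))
) (.node (nat_lit 0x610c61b8c) (.leaf (nat_lit 0x610c617ac) (nat_lit 3330))
 (.node (nat_lit 0x610c61bbc) (.leaf (nat_lit 0x610c61b8c) (nat_lit 1796))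
 (.leaf (nat_lit 0x610c61bbc) (nat_lit 2818))
))))) (.node (nat_lit 0x610c69dbc) (.node (nat_lit 0x610c6959c) (.node (nat_lit 0x610c6919c) (.node (nat_lit 0x610c61fbc) (.leaf (nat_lit 0x610c61f8c) (nat_lit 2048))
 (.leaf (nat_lit 0x610c61fbc) (nat_lit 2818))
) (.node (nat_lit 0x610c691ac) (.leaf (nat_lit 0x610c6919c) (nat_lit 3329))
 (.leaf (nat_lit 0x610c691ac) (nat_lit 2308))
)) (.node (nat_lit 0x610c6998c) (.node (nat_lit 0x610c695ac) (.leaf (nat_lit 0x610c6959c) (nat_lit 2562))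
 (.leaf (nat_lit 0x610c695ac) (nat_lit 3072))
) (.node (nat_lit 0x610c699bc) (.leaf (nat_lit 0x610c6998c) (nat_lit 1540))
 (.node (nat_lit 0x610c69d8c) (.leaf (nat_lit 0x610c699bc) (nat_lit 3074))
 (.leaf (nat_lit 0x610c69d8c) (nat_lit 2304))
)))) (.node (nat_lit 0x610c715ac) (.node (nat_lit 0x610c711ac) (.node (nat_lit 0x610c7119c) (.leaf (nat_lit 0x610c69dbc) (nat_lit 2562))
 (.leaf (nat_lit 0x610c7119c) (nat_lit 3073))
) (.node (nat_lit 0x610c7159c) (.leaf (nat_lit 0x610c711ac) (nat_lit 2560))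
 (.leaf (nat_lit 0x610c7159c) (nat_lit 2818))
)) (.node (nat_lit 0x610c719bc) (.node (nat_lit 0x610c7198c) (.leaf (nat_lit 0x610c715ac) (nat_lit 2820))
 (.leaf (nat_lit 0x610c7198c) (nat_lit 1792))
) (.node (nat_lit 0x610c71d8c) (.leaf (nat_lit 0x610c719bc) (nat_lit 3332))
 (.node (nat_lit 0x610c71dbc) (.leaf (nat_lit 0x610c71d8c) (nat_lit 2052))
 (.leaf (nat_lit 0x610c71dbc) (nat_lit 2306))
))))))) (.node (nat_lit 0x620458942) (.node (nat_lit 0x62044856a) (.node (nat_lit 0x620440152) (.node (nat_lit 0x610c79b8c) (.node (nat_lit 0x610c7979c) (.node (nat_lit 0x610c793ac) (.leaf (nat_lit 0x610c7939c) (nat_lit 2817))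
 (.leaf (nat_lit 0x610c793ac) (nat_lit 2304))
) (.node (nat_lit 0x610c797ac) (.leaf (nat_lit 0x610c7979c) (nat_lit 3074))
 (.leaf (nat_lit 0x610c797ac) (nat_lit 3076))
)) (.node (nat_lit 0x610c79f8c) (.node (nat_lit 0x610c79bbc) (.leaf (nat_lit 0x610c79b8c) (nat_lit 2048))
 (.leaf (nat_lit 0x610c79bbc) (nat_lit 3074))
) (.node (nat_lit 0x610c79fbc) (.leaf (nat_lit 0x610c79f8c) (nat_lit 1796))
 (.node (nat_lit 0x620440142) (.leaf (nat_lit 0x610c79fbc) (nat_lit 2562))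
 (.leaf (nat_lit 0x620440142) (nat_lit 1796))
)))) (.node (nat_lit 0x620440952) (.node (nat_lit 0x620440572) (.node (nat_lit 0x620440562) (.leaf (nat_lit 0x620440152) (nat_lit 2307))
 (.leaf (nat_lit 0x620440562) (nat_lit 2820))
) (.node (nat_lit 0x620440942) (.leaf (nat_lit 0x620440572) (nat_lit 2816))
 (.leaf (nat_lit 0x620440942) (nat_lit 2050))
)) (.node (nat_lit 0x620440d72) (.node (nat_lit 0x620440d62) (.leaf (nat_lit 0x620440952) (nat_lit 3076))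
 (.leaf (nat_lit 0x620440d62) (nat_lit 2560))
) (.node (nat_lit 0x62044814a) (.leaf (nat_lit 0x620440d72) (nat_lit 2052))
 (.node (nat_lit 0x62044815a) (.leaf (nat_lit 0x62044814a) (nat_lit 1540))
 (.leaf (nat_lit 0x62044815a) (nat_lit 2563))
))))) (.node (nat_lit 0x62045057a) (.node (nat_lit 0x620448d6a) (.node (nat_lit 0x62044894a) (.node (nat_lit 0x62044857a) (.leaf (nat_lit 0x62044856a) (nat_lit 2564))
 (.leaf (nat_lit 0x62044857a) (nat_lit 3072))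
) (.node (nat_lit 0x62044895a) (.leaf (nat_lit 0x62044894a) (nat_lit 2306))
 (.leaf (nat_lit 0x62044895a) (nat_lit 2818))
)) (.node (nat_lit 0x62045014a) (.node (nat_lit 0x620448d7a) (.leaf (nat_lit 0x620448d6a) (nat_lit 2304))
 (.leaf (nat_lit 0x620448d7a) (nat_lit 2308))
) (.node (nat_lit 0x62045015a) (.leaf (nat_lit 0x62045014a) (nat_lit 1792))
 (.node (nat_lit 0x62045056a) (.leaf (nat_lit 0x62045015a) (nat_lit 2307))
 (.leaf (nat_lit 0x62045056a) (nat_lit 2820))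
)))) (.node (nat_lit 0x620450d7a) (.node (nat_lit 0x62045095a) (.node (nat_lit 0x62045094a) (.leaf (nat_lit 0x62045057a) (nat_lit 2820))
 (.leaf (nat_lit 0x62045094a) (nat_lit 2564))
) (.node (nat_lit 0x620450d6a) (.leaf (nat_lit 0x62045095a) (nat_lit 2562))
 (.leaf (nat_lit 0x620450d6a) (nat_lit 2052))
)) (.node (nat_lit 0x620458152) (.node (nat_lit 0x620458142) (.leaf (nat_lit 0x620450d7a) (nat_lit 2562))
 (.leaf (nat_lit 0x620458142) (nat_lit 2048))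
) (.node (nat_lit 0x620458562) (.leaf (nat_lit 0x620458152) (nat_lit 2051))
 (.node (nat_lit 0x620458572) (.leaf (nat_lit 0x620458562) (nat_lit 2564))
 (.leaf (nat_lit 0x620458572) (nat_lit 2564))
)))))) (.node (nat_lit 0x620468f4a) (.node (nat_lit 0x620460b72) (.node (nat_lit 0x620460362) (.node (nat_lit 0x620458d62) (.node (nat_lit 0x620458952) (.leaf (nat_lit 0x620458942) (nat_lit 2306))
 (.leaf (nat_lit 0x620458952) (nat_lit 2818))
) (.node (nat_lit 0x620458d72) (.leaf (nat_lit 0x620458d62) (nat_lit 2308))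
 (.leaf (nat_lit 0x620458d72) (nat_lit 2304))
)) (.node (nat_lit 0x620460742) (.node (nat_lit 0x620460372) (.leaf (nat_lit 0x620460362) (nat_lit 2052))
 (.leaf (nat_lit 0x620460372) (nat_lit 2048))
) (.node (nat_lit 0x620460752) (.leaf (nat_lit 0x620460742) (nat_lit 2564))
 (.node (nat_lit 0x620460b62) (.leaf (nat_lit 0x620460752) (nat_lit 2562))
 (.leaf (nat_lit 0x620460b62) (nat_lit 1794))
)))) (.node (nat_lit 0x62046837a) (.node (nat_lit 0x620460f52) (.node (nat_lit 0x620460f42) (.leaf (nat_lit 0x620460b72) (nat_lit 2820))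
 (.leaf (nat_lit 0x620460f42) (nat_lit 2304))
) (.node (nat_lit 0x62046836a) (.leaf (nat_lit 0x620460f52) (nat_lit 2308))
 (.leaf (nat_lit 0x62046836a) (nat_lit 1796))
)) (.node (nat_lit 0x62046875a) (.node (nat_lit 0x62046874a) (.leaf (nat_lit 0x62046837a) (nat_lit 2304))
 (.leaf (nat_lit 0x62046874a) (nat_lit 2308))
) (.node (nat_lit 0x620468b6a) (.leaf (nat_lit 0x62046875a) (nat_lit 2818))
 (.node (nat_lit 0x620468b7a) (.leaf (nat_lit 0x620468b6a) (nat_lit 2050))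
 (.leaf (nat_lit 0x620468b7a) (nat_lit 3076))
))))) (.node (nat_lit 0x620470f5a) (.node (nat_lit 0x62047074a) (.node (nat_lit 0x62047036a) (.node (nat_lit 0x620468f5a) (.leaf (nat_lit 0x620468f4a) (nat_lit 2048))
 (.leaf (nat_lit 0x620468f5a) (nat_lit 2564))
) (.node (nat_lit 0x62047037a) (.leaf (nat_lit 0x62047036a) (nat_lit 2048))
 (.leaf (nat_lit 0x62047037a) (nat_lit 2052))
)) (.node (nat_lit 0x620470b6a) (.node (nat_lit 0x62047075a) (.leaf (nat_lit 0x62047074a) (nat_lit 2560))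
 (.leaf (nat_lit 0x62047075a) (nat_lit 2562))
) (.node (nat_lit 0x620470b7a) (.leaf (nat_lit 0x620470b6a) (nat_lit 2306))
 (.node (nat_lit 0x620470f4a) (.leaf (nat_lit 0x620470b7a) (nat_lit 2818))
 (.leaf (nat_lit 0x620470f4a) (nat_lit 1796))
)))) (.node (nat_lit 0x620478752) (.node (nat_lit 0x620478372) (.node (nat_lit 0x620478362) (.leaf (nat_lit 0x620470f5a) (nat_lit 2818))
 (.leaf (nat_lit 0x620478362) (nat_lit 2304))
) (.node (nat_lit 0x620478742) (.leaf (nat_lit 0x620478372) (nat_lit 1796))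
 (.leaf (nat_lit 0x620478742) (nat_lit 2816))
)) (.node (nat_lit 0x620478b72) (.node (nat_lit 0x620478b62) (.leaf (nat_lit 0x620478752) (nat_lit 2306))
 (.leaf (nat_lit 0x620478b62) (nat_lit 2050))
) (.node (nat_lit 0x620478f42) (.leaf (nat_lit 0x620478b72) (nat_lit 3072))
 (.node (nat_lit 0x620478f52) (.leaf (nat_lit 0x620478f42) (nat_lit 2052))
 (.leaf (nat_lit 0x620478f52) (nat_lit 2560))
)))))))))) (.node (nat_lit 0xa10c613cc) (.node (nat_lit 0x6308512ce) (.node (nat_lit 0x63044814e) (.node (nat_lit 0x620c61bd2) (.node (nat_lit 0x620c517da) (.node (nat_lit 0x620c493fa) (.node (nat_lit 0x620c419c2) (.node (nat_lit 0x620c415d2) (.node (nat_lit 0x620c411f2) (.leaf (nat_lit 0x620c411c2) (nat_lit 1794))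
 (.leaf (nat_lit 0x620c411f2) (nat_lit 2308))
) (.node (nat_lit 0x620c415e2) (.leaf (nat_lit 0x620c415d2) (nat_lit 2050))
 (.leaf (nat_lit 0x620c415e2) (nat_lit 2816))
)) (.node (nat_lit 0x620c41dd2) (.node (nat_lit 0x620c419f2) (.leaf (nat_lit 0x620c419c2) (nat_lit 2307))
 (.leaf (nat_lit 0x620c419f2) (nat_lit 3072))
) (.node (nat_lit 0x620c41de2) (.leaf (nat_lit 0x620c41dd2) (nat_lit 3332))
 (.node (nat_lit 0x620c493ca) (.leaf (nat_lit 0x620c41de2) (nat_lit 2816))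
 (.leaf (nat_lit 0x620c493ca) (nat_lit 1538))
)))) (.node (nat_lit 0x620c49bfa) (.node (nat_lit 0x620c497ea) (.node (nat_lit 0x620c497da) (.leaf (nat_lit 0x620c493fa) (nat_lit 2564))
 (.leaf (nat_lit 0x620c497da) (nat_lit 2306))
) (.node (nat_lit 0x620c49bca) (.leaf (nat_lit 0x620c497ea) (nat_lit 2560))
 (.leaf (nat_lit 0x620c49bca) (nat_lit 2563))
)) (.node (nat_lit 0x620c49fea) (.node (nat_lit 0x620c49fda) (.leaf (nat_lit 0x620c49bfa) (nat_lit 3328))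
 (.leaf (nat_lit 0x620c49fda) (nat_lit 3075))
) (.node (nat_lit 0x620c513ca) (.leaf (nat_lit 0x620c49fea) (nat_lit 2561))
 (.node (nat_lit 0x620c513fa) (.leaf (nat_lit 0x620c513ca) (nat_lit 1794))
 (.leaf (nat_lit 0x620c513fa) (nat_lit 2819))
))))) (.node (nat_lit 0x620c595e2) (.node (nat_lit 0x620c51fda) (.node (nat_lit 0x620c51bca) (.node (nat_lit 0x620c517ea) (.leaf (nat_lit 0x620c517da) (nat_lit 2050))
 (.leaf (nat_lit 0x620c517ea) (nat_lit 2308))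
) (.node (nat_lit 0x620c51bfa) (.leaf (nat_lit 0x620c51bca) (nat_lit 2820))
 (.leaf (nat_lit 0x620c51bfa) (nat_lit 3076))
)) (.node (nat_lit 0x620c591c2) (.node (nat_lit 0x620c51fea) (.leaf (nat_lit 0x620c51fda) (nat_lit 2819))
 (.leaf (nat_lit 0x620c51fea) (nat_lit 2820))
) (.node (nat_lit 0x620c591f2) (.leaf (nat_lit 0x620c591c2) (nat_lit 2050))
 (.node (nat_lit 0x620c595d2) (.leaf (nat_lit 0x620c591f2) (nat_lit 2560))
 (.leaf (nat_lit 0x620c595d2) (nat_lit 1794))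
)))) (.node (nat_lit 0x620c59de2) (.node (nat_lit 0x620c599f2) (.node (nat_lit 0x620c599c2) (.leaf (nat_lit 0x620c595e2) (nat_lit 2564))
 (.leaf (nat_lit 0x620c599c2) (nat_lit 2563))
) (.node (nat_lit 0x620c59dd2) (.leaf (nat_lit 0x620c599f2) (nat_lit 2820))
 (.leaf (nat_lit 0x620c59dd2) (nat_lit 3075))
)) (.node (nat_lit 0x620c613e2) (.node (nat_lit 0x620c613d2) (.leaf (nat_lit 0x620c59de2) (nat_lit 2564))
 (.leaf (nat_lit 0x620c613d2) (nat_lit 2817))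
) (.node (nat_lit 0x620c617c2) (.leaf (nat_lit 0x620c613e2) (nat_lit 2051))
 (.node (nat_lit 0x620c617f2) (.leaf (nat_lit 0x620c617c2) (nat_lit 2561))
 (.leaf (nat_lit 0x620c617f2) (nat_lit 3076))
)))))) (.node (nat_lit 0x620c71dca) (.node (nat_lit 0x620c699ea) (.node (nat_lit 0x620c691da) (.node (nat_lit 0x620c61fc2) (.node (nat_lit 0x620c61be2) (.leaf (nat_lit 0x620c61bd2) (nat_lit 2564))
 (.leaf (nat_lit 0x620c61be2) (nat_lit 2050))
) (.node (nat_lit 0x620c61ff2) (.leaf (nat_lit 0x620c61fc2) (nat_lit 2560))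
 (.leaf (nat_lit 0x620c61ff2) (nat_lit 2304))
)) (.node (nat_lit 0x620c695ca) (.node (nat_lit 0x620c691ea) (.leaf (nat_lit 0x620c691da) (nat_lit 3073))
 (.leaf (nat_lit 0x620c691ea) (nat_lit 2307))
) (.node (nat_lit 0x620c695fa) (.leaf (nat_lit 0x620c695ca) (nat_lit 2305))
 (.node (nat_lit 0x620c699da) (.leaf (nat_lit 0x620c695fa) (nat_lit 3332))
 (.leaf (nat_lit 0x620c699da) (nat_lit 2820))
)))) (.node (nat_lit 0x620c711ea) (.node (nat_lit 0x620c69dfa) (.node (nat_lit 0x620c69dca) (.leaf (nat_lit 0x620c699ea) (nat_lit 1794))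
 (.leaf (nat_lit 0x620c69dca) (nat_lit 2304))
) (.node (nat_lit 0x620c711da) (.leaf (nat_lit 0x620c69dfa) (nat_lit 2560))
 (.leaf (nat_lit 0x620c711da) (nat_lit 2817))
)) (.node (nat_lit 0x620c715fa) (.node (nat_lit 0x620c715ca) (.leaf (nat_lit 0x620c711ea) (nat_lit 2563))
 (.leaf (nat_lit 0x620c715ca) (nat_lit 2561))
) (.node (nat_lit 0x620c719da) (.leaf (nat_lit 0x620c715fa) (nat_lit 3075))
 (.node (nat_lit 0x620c719ea) (.leaf (nat_lit 0x620c719da) (nat_lit 3076))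
 (.leaf (nat_lit 0x620c719ea) (nat_lit 2050))
))))) (.node (nat_lit 0x620c79ff2) (.node (nat_lit 0x620c797c2) (.node (nat_lit 0x620c793d2) (.node (nat_lit 0x620c71dfa) (.leaf (nat_lit 0x620c71dca) (nat_lit 2052))
 (.leaf (nat_lit 0x620c71dfa) (nat_lit 2308))
) (.node (nat_lit 0x620c793e2) (.leaf (nat_lit 0x620c793d2) (nat_lit 2561))
 (.leaf (nat_lit 0x620c793e2) (nat_lit 2307))
)) (.node (nat_lit 0x620c79bd2) (.node (nat_lit 0x620c797f2) (.leaf (nat_lit 0x620c797c2) (nat_lit 2817))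
 (.leaf (nat_lit 0x620c797f2) (nat_lit 3328))
) (.node (nat_lit 0x620c79be2) (.leaf (nat_lit 0x620c79bd2) (nat_lit 2820))
 (.node (nat_lit 0x620c79fc2) (.leaf (nat_lit 0x620c79be2) (nat_lit 2306))
 (.leaf (nat_lit 0x620c79fc2) (nat_lit 2308))
)))) (.node (nat_lit 0x630440576) (.node (nat_lit 0x630440156) (.node (nat_lit 0x630440146) (.leaf (nat_lit 0x620c79ff2) (nat_lit 2052))
 (.leaf (nat_lit 0x630440146) (nat_lit 1540))
) (.node (nat_lit 0x630440566) (.leaf (nat_lit 0x630440156) (nat_lit 2563))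
 (.leaf (nat_lit 0x630440566) (nat_lit 2560))
)) (.node (nat_lit 0x630440976) (.node (nat_lit 0x630440966) (.leaf (nat_lit 0x630440576) (nat_lit 3076))
 (.leaf (nat_lit 0x630440966) (nat_lit 1796))
) (.node (nat_lit 0x630440d46) (.leaf (nat_lit 0x630440976) (nat_lit 2816))
 (.node (nat_lit 0x630440d56) (.leaf (nat_lit 0x630440d46) (nat_lit 2306))
 (.leaf (nat_lit 0x630440d56) (nat_lit 2818))
))))))) (.node (nat_lit 0x630468b46) (.node (nat_lit 0x630458566) (.node (nat_lit 0x63045015e) (.node (nat_lit 0x63044896e) (.node (nat_lit 0x63044856e) (.node (nat_lit 0x63044815e) (.leaf (nat_lit 0x63044814e) (nat_lit 1284))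
 (.leaf (nat_lit 0x63044815e) (nat_lit 2819))
) (.node (nat_lit 0x63044857e) (.leaf (nat_lit 0x63044856e) (nat_lit 2816))
 (.leaf (nat_lit 0x63044857e) (nat_lit 2820))
)) (.node (nat_lit 0x630448d4e) (.node (nat_lit 0x63044897e) (.leaf (nat_lit 0x63044896e) (nat_lit 2052))
 (.leaf (nat_lit 0x63044897e) (nat_lit 2560))
) (.node (nat_lit 0x630448d5e) (.leaf (nat_lit 0x630448d4e) (nat_lit 2560))
 (.node (nat_lit 0x63045014e) (.leaf (nat_lit 0x630448d5e) (nat_lit 2562))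
 (.leaf (nat_lit 0x63045014e) (nat_lit 1536))
)))) (.node (nat_lit 0x63045097e) (.node (nat_lit 0x63045057e) (.node (nat_lit 0x63045056e) (.leaf (nat_lit 0x63045015e) (nat_lit 2563))
 (.leaf (nat_lit 0x63045056e) (nat_lit 2564))
) (.node (nat_lit 0x63045096e) (.leaf (nat_lit 0x63045057e) (nat_lit 3076))
 (.leaf (nat_lit 0x63045096e) (nat_lit 2304))
)) (.node (nat_lit 0x630450d5e) (.node (nat_lit 0x630450d4e) (.leaf (nat_lit 0x63045097e) (nat_lit 2308))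
 (.leaf (nat_lit 0x630450d4e) (nat_lit 2308))
) (.node (nat_lit 0x630458146) (.leaf (nat_lit 0x630450d5e) (nat_lit 2306))
 (.node (nat_lit 0x630458156) (.leaf (nat_lit 0x630458146) (nat_lit 1792))
 (.leaf (nat_lit 0x630458156) (nat_lit 2307))
))))) (.node (nat_lit 0x63046075e) (.node (nat_lit 0x630458d46) (.node (nat_lit 0x630458966) (.node (nat_lit 0x630458576) (.leaf (nat_lit 0x630458566) (nat_lit 2308))
 (.leaf (nat_lit 0x630458576) (nat_lit 2820))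
) (.node (nat_lit 0x630458976) (.leaf (nat_lit 0x630458966) (nat_lit 2048))
 (.leaf (nat_lit 0x630458976) (nat_lit 2564))
)) (.node (nat_lit 0x63046036e) (.node (nat_lit 0x630458d56) (.leaf (nat_lit 0x630458d46) (nat_lit 2564))
 (.leaf (nat_lit 0x630458d56) (nat_lit 2562))
) (.node (nat_lit 0x63046037e) (.leaf (nat_lit 0x63046036e) (nat_lit 1796))
 (.node (nat_lit 0x63046074e) (.leaf (nat_lit 0x63046037e) (nat_lit 2304))
 (.leaf (nat_lit 0x63046074e) (nat_lit 2304))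
)))) (.node (nat_lit 0x630460f7e) (.node (nat_lit 0x630460b5e) (.node (nat_lit 0x630460b4e) (.leaf (nat_lit 0x63046075e) (nat_lit 2818))
 (.leaf (nat_lit 0x630460b4e) (nat_lit 1540))
) (.node (nat_lit 0x630460f6e) (.leaf (nat_lit 0x630460b5e) (nat_lit 3074))
 (.leaf (nat_lit 0x630460f6e) (nat_lit 2562))
)) (.node (nat_lit 0x630468376) (.node (nat_lit 0x630468366) (.leaf (nat_lit 0x630460f7e) (nat_lit 2562))
 (.leaf (nat_lit 0x630468366) (nat_lit 1540))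
) (.node (nat_lit 0x630468746) (.leaf (nat_lit 0x630468376) (nat_lit 2560))
 (.node (nat_lit 0x630468756) (.leaf (nat_lit 0x630468746) (nat_lit 2560))
 (.leaf (nat_lit 0x630468756) (nat_lit 2562))
)))))) (.node (nat_lit 0x630478f6e) (.node (nat_lit 0x630470b56) (.node (nat_lit 0x630470366) (.node (nat_lit 0x630468f66) (.node (nat_lit 0x630468b56) (.leaf (nat_lit 0x630468b46) (nat_lit 1796))
 (.leaf (nat_lit 0x630468b56) (nat_lit 2816))
) (.node (nat_lit 0x630468f76) (.leaf (nat_lit 0x630468f66) (nat_lit 2816))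
 (.leaf (nat_lit 0x630468f76) (nat_lit 2306))
)) (.node (nat_lit 0x630470746) (.node (nat_lit 0x630470376) (.leaf (nat_lit 0x630470366) (nat_lit 1792))
 (.leaf (nat_lit 0x630470376) (nat_lit 2308))
) (.node (nat_lit 0x630470756) (.leaf (nat_lit 0x630470746) (nat_lit 2308))
 (.node (nat_lit 0x630470b46) (.leaf (nat_lit 0x630470756) (nat_lit 2818))
 (.leaf (nat_lit 0x630470b46) (nat_lit 2048))
)))) (.node (nat_lit 0x63047837e) (.node (nat_lit 0x630470f76) (.node (nat_lit 0x630470f66) (.leaf (nat_lit 0x630470b56) (nat_lit 2564))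
 (.leaf (nat_lit 0x630470f66) (nat_lit 2564))
) (.node (nat_lit 0x63047836e) (.leaf (nat_lit 0x630470f76) (nat_lit 2050))
 (.leaf (nat_lit 0x63047836e) (nat_lit 2048))
)) (.node (nat_lit 0x63047875e) (.node (nat_lit 0x63047874e) (.leaf (nat_lit 0x63047837e) (nat_lit 2052))
 (.leaf (nat_lit 0x63047874e) (nat_lit 2052))
) (.node (nat_lit 0x630478b4e) (.leaf (nat_lit 0x63047875e) (nat_lit 3074))
 (.node (nat_lit 0x630478b5e) (.leaf (nat_lit 0x630478b4e) (nat_lit 1792))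
 (.leaf (nat_lit 0x630478b5e) (nat_lit 2820))
))))) (.node (nat_lit 0x630841ce6) (.node (nat_lit 0x6308414d6) (.node (nat_lit 0x6308410c6) (.node (nat_lit 0x630478f7e) (.leaf (nat_lit 0x630478f6e) (nat_lit 2820))
 (.leaf (nat_lit 0x630478f7e) (nat_lit 2306))
) (.node (nat_lit 0x6308410e6) (.leaf (nat_lit 0x6308410c6) (nat_lit 1796))
 (.leaf (nat_lit 0x6308410e6) (nat_lit 2052))
)) (.node (nat_lit 0x6308418d6) (.node (nat_lit 0x6308414f6) (.leaf (nat_lit 0x6308414d6) (nat_lit 2306))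
 (.leaf (nat_lit 0x6308414f6) (nat_lit 3072))
) (.node (nat_lit 0x6308418f6) (.leaf (nat_lit 0x6308418d6) (nat_lit 3075))
 (.node (nat_lit 0x630841cc6) (.leaf (nat_lit 0x6308418f6) (nat_lit 3072))
 (.leaf (nat_lit 0x630841cc6) (nat_lit 2563))
)))) (.node (nat_lit 0x6308496fe) (.node (nat_lit 0x6308492ee) (.node (nat_lit 0x6308492ce) (.leaf (nat_lit 0x630841ce6) (nat_lit 2816))
 (.leaf (nat_lit 0x6308492ce) (nat_lit 1540))
) (.node (nat_lit 0x6308496de) (.leaf (nat_lit 0x6308492ee) (nat_lit 2308))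
 (.leaf (nat_lit 0x6308496de) (nat_lit 2562))
)) (.node (nat_lit 0x630849afe) (.node (nat_lit 0x630849ade) (.leaf (nat_lit 0x6308496fe) (nat_lit 2816))
 (.leaf (nat_lit 0x630849ade) (nat_lit 2819))
) (.node (nat_lit 0x630849ece) (.leaf (nat_lit 0x630849afe) (nat_lit 2817))
 (.node (nat_lit 0x630849eee) (.leaf (nat_lit 0x630849ece) (nat_lit 2816))
 (.leaf (nat_lit 0x630849eee) (nat_lit 3072))
)))))))) (.node (nat_lit 0xa108582dc) (.node (nat_lit 0x630871ac6) (.node (nat_lit 0x6308614ce) (.node (nat_lit 0x6308590e6) (.node (nat_lit 0x630851ade) (.node (nat_lit 0x6308516de) (.node (nat_lit 0x6308512ee) (.leaf (nat_lit 0x6308512ce) (nat_lit 1792))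
 (.leaf (nat_lit 0x6308512ee) (nat_lit 2560))
) (.node (nat_lit 0x6308516fe) (.leaf (nat_lit 0x6308516de) (nat_lit 2306))
 (.leaf (nat_lit 0x6308516fe) (nat_lit 2564))
)) (.node (nat_lit 0x630851ece) (.node (nat_lit 0x630851afe) (.leaf (nat_lit 0x630851ade) (nat_lit 2563))
 (.leaf (nat_lit 0x630851afe) (nat_lit 3076))
) (.node (nat_lit 0x630851eee) (.leaf (nat_lit 0x630851ece) (nat_lit 2564))
 (.node (nat_lit 0x6308590c6) (.leaf (nat_lit 0x630851eee) (nat_lit 2820))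
 (.leaf (nat_lit 0x6308590c6) (nat_lit 2048))
)))) (.node (nat_lit 0x6308598f6) (.node (nat_lit 0x6308594f6) (.node (nat_lit 0x6308594d6) (.leaf (nat_lit 0x6308590e6) (nat_lit 2304))
 (.leaf (nat_lit 0x6308594d6) (nat_lit 2050))
) (.node (nat_lit 0x6308598d6) (.leaf (nat_lit 0x6308594f6) (nat_lit 2820))
 (.leaf (nat_lit 0x6308598d6) (nat_lit 2819))
)) (.node (nat_lit 0x630859ce6) (.node (nat_lit 0x630859cc6) (.leaf (nat_lit 0x6308598f6) (nat_lit 2820))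
 (.leaf (nat_lit 0x630859cc6) (nat_lit 2820))
) (.node (nat_lit 0x6308610de) (.leaf (nat_lit 0x630859ce6) (nat_lit 2564))
 (.node (nat_lit 0x6308610fe) (.leaf (nat_lit 0x6308610de) (nat_lit 3073))
 (.leaf (nat_lit 0x6308610fe) (nat_lit 2819))
))))) (.node (nat_lit 0x6308696e6) (.node (nat_lit 0x630861cde) (.node (nat_lit 0x6308618ce) (.node (nat_lit 0x6308614ee) (.leaf (nat_lit 0x6308614ce) (nat_lit 2560))
 (.leaf (nat_lit 0x6308614ee) (nat_lit 2819))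
) (.node (nat_lit 0x6308618ee) (.leaf (nat_lit 0x6308618ce) (nat_lit 1796))
 (.leaf (nat_lit 0x6308618ee) (nat_lit 2052))
)) (.node (nat_lit 0x6308692d6) (.node (nat_lit 0x630861cfe) (.leaf (nat_lit 0x630861cde) (nat_lit 3332))
 (.leaf (nat_lit 0x630861cfe) (nat_lit 2306))
) (.node (nat_lit 0x6308692f6) (.leaf (nat_lit 0x6308692d6) (nat_lit 2817))
 (.node (nat_lit 0x6308696c6) (.leaf (nat_lit 0x6308692f6) (nat_lit 2563))
 (.leaf (nat_lit 0x6308696c6) (nat_lit 2816))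
)))) (.node (nat_lit 0x630869ef6) (.node (nat_lit 0x630869ae6) (.node (nat_lit 0x630869ac6) (.leaf (nat_lit 0x6308696e6) (nat_lit 3072))
 (.leaf (nat_lit 0x630869ac6) (nat_lit 2052))
) (.node (nat_lit 0x630869ed6) (.leaf (nat_lit 0x630869ae6) (nat_lit 1796))
 (.leaf (nat_lit 0x630869ed6) (nat_lit 3076))
)) (.node (nat_lit 0x6308712f6) (.node (nat_lit 0x6308712d6) (.leaf (nat_lit 0x630869ef6) (nat_lit 2562))
 (.leaf (nat_lit 0x6308712d6) (nat_lit 3073))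
) (.node (nat_lit 0x6308716c6) (.leaf (nat_lit 0x6308712f6) (nat_lit 2307))
 (.node (nat_lit 0x6308716e6) (.leaf (nat_lit 0x6308716c6) (nat_lit 2564))
 (.leaf (nat_lit 0x6308716e6) (nat_lit 2820))
)))))) (.node (nat_lit 0xa10840cd4) (.node (nat_lit 0x6308798ee) (.node (nat_lit 0x6308790de) (.node (nat_lit 0x630871ed6) (.node (nat_lit 0x630871ae6) (.leaf (nat_lit 0x630871ac6) (nat_lit 2304))
 (.leaf (nat_lit 0x630871ae6) (nat_lit 2048))
) (.node (nat_lit 0x630871ef6) (.leaf (nat_lit 0x630871ed6) (nat_lit 2820))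
 (.leaf (nat_lit 0x630871ef6) (nat_lit 2306))
)) (.node (nat_lit 0x6308794ce) (.node (nat_lit 0x6308790fe) (.leaf (nat_lit 0x6308790de) (nat_lit 3076))
 (.leaf (nat_lit 0x6308790fe) (nat_lit 2563))
) (.node (nat_lit 0x6308794ee) (.leaf (nat_lit 0x6308794ce) (nat_lit 2308))
 (.node (nat_lit 0x6308798ce) (.leaf (nat_lit 0x6308794ee) (nat_lit 3076))
 (.leaf (nat_lit 0x6308798ce) (nat_lit 2048))
)))) (.node (nat_lit 0xa108400e4) (.node (nat_lit 0x630879cfe) (.node (nat_lit 0x630879cde) (.leaf (nat_lit 0x6308798ee) (nat_lit 2304))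
 (.leaf (nat_lit 0x630879cde) (nat_lit 3076))
) (.node (nat_lit 0xa108400c4) (.leaf (nat_lit 0x630879cfe) (nat_lit 2050))
 (.leaf (nat_lit 0xa108400c4) (nat_lit 1795))
)) (.node (nat_lit 0xa108404e4) (.node (nat_lit 0xa108404c4) (.leaf (nat_lit 0xa108400e4) (nat_lit 2051))
 (.leaf (nat_lit 0xa108404c4) (nat_lit 2818))
) (.node (nat_lit 0xa108408d4) (.leaf (nat_lit 0xa108404e4) (nat_lit 3076))
 (.node (nat_lit 0xa108408f4) (.leaf (nat_lit 0xa108408d4) (nat_lit 3330))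
 (.leaf (nat_lit 0xa108408f4) (nat_lit 3072))
))))) (.node (nat_lit 0xa10848cfc) (.node (nat_lit 0xa108484cc) (.node (nat_lit 0xa108480cc) (.node (nat_lit 0xa10840cf4) (.leaf (nat_lit 0xa10840cd4) (nat_lit 3072))
 (.leaf (nat_lit 0xa10840cf4) (nat_lit 2308))
) (.node (nat_lit 0xa108480ec) (.leaf (nat_lit 0xa108480cc) (nat_lit 1539))
 (.leaf (nat_lit 0xa108480ec) (nat_lit 2307))
)) (.node (nat_lit 0xa108488dc) (.node (nat_lit 0xa108484ec) (.leaf (nat_lit 0xa108484cc) (nat_lit 3072))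
 (.leaf (nat_lit 0xa108484ec) (nat_lit 3074))
) (.node (nat_lit 0xa108488fc) (.leaf (nat_lit 0xa108488dc) (nat_lit 3074))
 (.node (nat_lit 0xa10848cdc) (.leaf (nat_lit 0xa108488fc) (nat_lit 3328))
 (.leaf (nat_lit 0xa10848cdc) (nat_lit 2816))
)))) (.node (nat_lit 0xa108506f4) (.node (nat_lit 0xa108502f4) (.node (nat_lit 0xa108502d4) (.leaf (nat_lit 0xa10848cfc) (nat_lit 2564))
 (.leaf (nat_lit 0xa108502d4) (nat_lit 2563))
) (.node (nat_lit 0xa108506d4) (.leaf (nat_lit 0xa108502f4) (nat_lit 2304))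
 (.leaf (nat_lit 0xa108506d4) (nat_lit 2306))
)) (.node (nat_lit 0xa10850ae4) (.node (nat_lit 0xa10850ac4) (.leaf (nat_lit 0xa108506f4) (nat_lit 3076))
 (.leaf (nat_lit 0xa10850ac4) (nat_lit 2561))
) (.node (nat_lit 0xa10850ec4) (.leaf (nat_lit 0xa10850ae4) (nat_lit 2562))
 (.node (nat_lit 0xa10850ee4) (.leaf (nat_lit 0xa10850ec4) (nat_lit 2560))
 (.leaf (nat_lit 0xa10850ee4) (nat_lit 2308))
))))))) (.node (nat_lit 0xa10878ac4) (.node (nat_lit 0xa108684c4) (.node (nat_lit 0xa108600ec) (.node (nat_lit 0xa10858acc) (.node (nat_lit 0xa108586dc) (.node (nat_lit 0xa108582fc) (.leaf (nat_lit 0xa108582dc) (nat_lit 2307))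
 (.leaf (nat_lit 0xa108582fc) (nat_lit 2560))
) (.node (nat_lit 0xa108586fc) (.leaf (nat_lit 0xa108586dc) (nat_lit 2562))
 (.leaf (nat_lit 0xa108586fc) (nat_lit 2818))
)) (.node (nat_lit 0xa10858ecc) (.node (nat_lit 0xa10858aec) (.leaf (nat_lit 0xa10858acc) (nat_lit 2305))
 (.leaf (nat_lit 0xa10858aec) (nat_lit 2818))
) (.node (nat_lit 0xa10858eec) (.leaf (nat_lit 0xa10858ecc) (nat_lit 2304))
 (.node (nat_lit 0xa108600cc) (.leaf (nat_lit 0xa10858eec) (nat_lit 2564))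
 (.leaf (nat_lit 0xa108600cc) (nat_lit 1795))
)))) (.node (nat_lit 0xa108608fc) (.node (nat_lit 0xa108604ec) (.node (nat_lit 0xa108604cc) (.leaf (nat_lit 0xa108600ec) (nat_lit 2051))
 (.leaf (nat_lit 0xa108604cc) (nat_lit 2820))
) (.node (nat_lit 0xa108608dc) (.leaf (nat_lit 0xa108604ec) (nat_lit 2818))
 (.leaf (nat_lit 0xa108608dc) (nat_lit 3330))
)) (.node (nat_lit 0xa10860cfc) (.node (nat_lit 0xa10860cdc) (.leaf (nat_lit 0xa108608fc) (nat_lit 3076))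
 (.leaf (nat_lit 0xa10860cdc) (nat_lit 2564))
) (.node (nat_lit 0xa108680c4) (.leaf (nat_lit 0xa10860cfc) (nat_lit 2816))
 (.node (nat_lit 0xa108680e4) (.leaf (nat_lit 0xa108680c4) (nat_lit 2051))
 (.leaf (nat_lit 0xa108680e4) (nat_lit 1795))
))))) (.node (nat_lit 0xa108706fc) (.node (nat_lit 0xa10868cd4) (.node (nat_lit 0xa108688d4) (.node (nat_lit 0xa108684e4) (.leaf (nat_lit 0xa108684c4) (nat_lit 3076))
 (.leaf (nat_lit 0xa108684e4) (nat_lit 3074))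
) (.node (nat_lit 0xa108688f4) (.leaf (nat_lit 0xa108688d4) (nat_lit 3074))
 (.leaf (nat_lit 0xa108688f4) (nat_lit 2820))
)) (.node (nat_lit 0xa108702dc) (.node (nat_lit 0xa10868cf4) (.leaf (nat_lit 0xa10868cd4) (nat_lit 2820))
 (.leaf (nat_lit 0xa10868cf4) (nat_lit 2560))
) (.node (nat_lit 0xa108702fc) (.leaf (nat_lit 0xa108702dc) (nat_lit 2563))
 (.node (nat_lit 0xa108706dc) (.leaf (nat_lit 0xa108702fc) (nat_lit 2308))
 (.leaf (nat_lit 0xa108706dc) (nat_lit 2818))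
)))) (.node (nat_lit 0xa10870eec) (.node (nat_lit 0xa10870aec) (.node (nat_lit 0xa10870acc) (.leaf (nat_lit 0xa108706fc) (nat_lit 2562))
 (.leaf (nat_lit 0xa10870acc) (nat_lit 2561))
) (.node (nat_lit 0xa10870ecc) (.leaf (nat_lit 0xa10870aec) (nat_lit 2562))
 (.leaf (nat_lit 0xa10870ecc) (nat_lit 2052))
)) (.node (nat_lit 0xa108782f4) (.node (nat_lit 0xa108782d4) (.leaf (nat_lit 0xa10870eec) (nat_lit 2816))
 (.leaf (nat_lit 0xa108782d4) (nat_lit 2819))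
) (.node (nat_lit 0xa108786d4) (.leaf (nat_lit 0xa108782f4) (nat_lit 2052))
 (.node (nat_lit 0xa108786f4) (.leaf (nat_lit 0xa108786d4) (nat_lit 2562))
 (.leaf (nat_lit 0xa108786f4) (nat_lit 2818))
)))))) (.node (nat_lit 0xa10c49fdc) (.node (nat_lit 0xa10c419e4) (.node (nat_lit 0xa10c411c4) (.node (nat_lit 0xa10878ec4) (.node (nat_lit 0xa10878ae4) (.leaf (nat_lit 0xa10878ac4) (nat_lit 2817))
 (.leaf (nat_lit 0xa10878ae4) (nat_lit 2306))
) (.node (nat_lit 0xa10878ee4) (.leaf (nat_lit 0xa10878ec4) (nat_lit 2308))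
 (.leaf (nat_lit 0xa10878ee4) (nat_lit 2560))
)) (.node (nat_lit 0xa10c415c4) (.node (nat_lit 0xa10c411f4) (.leaf (nat_lit 0xa10c411c4) (nat_lit 1538))
 (.leaf (nat_lit 0xa10c411f4) (nat_lit 2564))
) (.node (nat_lit 0xa10c415f4) (.leaf (nat_lit 0xa10c415c4) (nat_lit 2820))
 (.node (nat_lit 0xa10c419d4) (.leaf (nat_lit 0xa10c415f4) (nat_lit 3072))
 (.leaf (nat_lit 0xa10c419d4) (nat_lit 3332))
)))) (.node (nat_lit 0xa10c493fc) (.node (nat_lit 0xa10c41de4) (.node (nat_lit 0xa10c41dd4) (.leaf (nat_lit 0xa10c419e4) (nat_lit 1794))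
 (.leaf (nat_lit 0xa10c41dd4) (nat_lit 3072))
) (.node (nat_lit 0xa10c493cc) (.leaf (nat_lit 0xa10c41de4) (nat_lit 3076))
 (.leaf (nat_lit 0xa10c493cc) (nat_lit 1282))
)) (.node (nat_lit 0xa10c497fc) (.node (nat_lit 0xa10c497cc) (.leaf (nat_lit 0xa10c493fc) (nat_lit 2820))
 (.leaf (nat_lit 0xa10c497cc) (nat_lit 3076))
) (.node (nat_lit 0xa10c49bdc) (.leaf (nat_lit 0xa10c497fc) (nat_lit 3076))
 (.node (nat_lit 0xa10c49bec) (.leaf (nat_lit 0xa10c49bdc) (nat_lit 3076))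
 (.leaf (nat_lit 0xa10c49bec) (nat_lit 2050))
))))) (.node (nat_lit 0xa10c51ff4) (.node (nat_lit 0xa10c517d4) (.node (nat_lit 0xa10c513d4) (.node (nat_lit 0xa10c49fec) (.leaf (nat_lit 0xa10c49fdc) (nat_lit 2817))
 (.leaf (nat_lit 0xa10c49fec) (nat_lit 3332))
) (.node (nat_lit 0xa10c513e4) (.leaf (nat_lit 0xa10c513d4) (nat_lit 2564))
 (.leaf (nat_lit 0xa10c513e4) (nat_lit 2561))
)) (.node (nat_lit 0xa10c51bc4) (.node (nat_lit 0xa10c517e4) (.leaf (nat_lit 0xa10c517d4) (nat_lit 2306))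
 (.leaf (nat_lit 0xa10c517e4) (nat_lit 2308))
) (.node (nat_lit 0xa10c51bf4) (.leaf (nat_lit 0xa10c51bc4) (nat_lit 2305))
 (.node (nat_lit 0xa10c51fc4) (.leaf (nat_lit 0xa10c51bf4) (nat_lit 3076))
 (.leaf (nat_lit 0xa10c51fc4) (nat_lit 2564))
)))) (.node (nat_lit 0xa10c595ec) (.node (nat_lit 0xa10c591ec) (.node (nat_lit 0xa10c591dc) (.leaf (nat_lit 0xa10c51ff4) (nat_lit 2306))
 (.leaf (nat_lit 0xa10c591dc) (nat_lit 2820))
) (.node (nat_lit 0xa10c595dc) (.leaf (nat_lit 0xa10c591ec) (nat_lit 2817))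
 (.leaf (nat_lit 0xa10c595dc) (nat_lit 2050))
)) (.node (nat_lit 0xa10c599fc) (.node (nat_lit 0xa10c599cc) (.leaf (nat_lit 0xa10c595ec) (nat_lit 2564))
 (.leaf (nat_lit 0xa10c599cc) (nat_lit 2049))
) (.node (nat_lit 0xa10c59dcc) (.leaf (nat_lit 0xa10c599fc) (nat_lit 3072))
 (.node (nat_lit 0xa10c59dfc) (.leaf (nat_lit 0xa10c59dcc) (nat_lit 2308))
 (.leaf (nat_lit 0xa10c59dfc) (nat_lit 2562))
))))))))) (.node (nat_lit 0xa20c7119a) (.node (nat_lit 0xa20469102) (.node (nat_lit 0xa20441902) (.node (nat_lit 0xa10c715dc) (.node (nat_lit 0xa10c691f4) (.node (nat_lit 0xa10c61bdc) (.node (nat_lit 0xa10c617cc) (.node (nat_lit 0xa10c613fc) (.leaf (nat_lit 0xa10c613cc) (nat_lit 1538))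
 (.leaf (nat_lit 0xa10c613fc) (nat_lit 3072))
) (.node (nat_lit 0xa10c617fc) (.leaf (nat_lit 0xa10c617cc) (nat_lit 2820))
 (.leaf (nat_lit 0xa10c617fc) (nat_lit 3076))
)) (.node (nat_lit 0xa10c61fdc) (.node (nat_lit 0xa10c61bec) (.leaf (nat_lit 0xa10c61bdc) (nat_lit 2820))
 (.leaf (nat_lit 0xa10c61bec) (nat_lit 1794))
) (.node (nat_lit 0xa10c61fec) (.leaf (nat_lit 0xa10c61fdc) (nat_lit 3076))
 (.node (nat_lit 0xa10c691c4) (.leaf (nat_lit 0xa10c61fec) (nat_lit 3075))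
 (.leaf (nat_lit 0xa10c691c4) (nat_lit 1794))
)))) (.node (nat_lit 0xa10c699e4) (.node (nat_lit 0xa10c695f4) (.node (nat_lit 0xa10c695c4) (.leaf (nat_lit 0xa10c691f4) (nat_lit 2816))
 (.leaf (nat_lit 0xa10c695c4) (nat_lit 3076))
) (.node (nat_lit 0xa10c699d4) (.leaf (nat_lit 0xa10c695f4) (nat_lit 2820))
 (.leaf (nat_lit 0xa10c699d4) (nat_lit 3076))
)) (.node (nat_lit 0xa10c69de4) (.node (nat_lit 0xa10c69dd4) (.leaf (nat_lit 0xa10c699e4) (nat_lit 1538))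
 (.leaf (nat_lit 0xa10c69dd4) (nat_lit 2820))
) (.node (nat_lit 0xa10c711dc) (.leaf (nat_lit 0xa10c69de4) (nat_lit 3332))
 (.node (nat_lit 0xa10c711ec) (.leaf (nat_lit 0xa10c711dc) (nat_lit 3072))
 (.leaf (nat_lit 0xa10c711ec) (nat_lit 2561))
))))) (.node (nat_lit 0xa10c797e4) (.node (nat_lit 0xa10c71dcc) (.node (nat_lit 0xa10c719cc) (.node (nat_lit 0xa10c715ec) (.leaf (nat_lit 0xa10c715dc) (nat_lit 2306))
 (.leaf (nat_lit 0xa10c715ec) (nat_lit 2820))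
) (.node (nat_lit 0xa10c719fc) (.leaf (nat_lit 0xa10c719cc) (nat_lit 2305))
 (.leaf (nat_lit 0xa10c719fc) (nat_lit 2820))
)) (.node (nat_lit 0xa10c793d4) (.node (nat_lit 0xa10c71dfc) (.leaf (nat_lit 0xa10c71dcc) (nat_lit 2052))
 (.leaf (nat_lit 0xa10c71dfc) (nat_lit 2306))
) (.node (nat_lit 0xa10c793e4) (.leaf (nat_lit 0xa10c793d4) (nat_lit 2816))
 (.node (nat_lit 0xa10c797d4) (.leaf (nat_lit 0xa10c793e4) (nat_lit 2305))
 (.leaf (nat_lit 0xa10c797d4) (nat_lit 2562))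
)))) (.node (nat_lit 0xa10c79ff4) (.node (nat_lit 0xa10c79bf4) (.node (nat_lit 0xa10c79bc4) (.leaf (nat_lit 0xa10c797e4) (nat_lit 2564))
 (.leaf (nat_lit 0xa10c79bc4) (nat_lit 2561))
) (.node (nat_lit 0xa10c79fc4) (.leaf (nat_lit 0xa10c79bf4) (nat_lit 3076))
 (.leaf (nat_lit 0xa10c79fc4) (nat_lit 2308))
)) (.node (nat_lit 0xa20441112) (.node (nat_lit 0xa20441102) (.leaf (nat_lit 0xa10c79ff4) (nat_lit 2050))
 (.leaf (nat_lit 0xa20441102) (nat_lit 1028))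
) (.node (nat_lit 0xa20441522) (.leaf (nat_lit 0xa20441112) (nat_lit 2820))
 (.node (nat_lit 0xa20441532) (.leaf (nat_lit 0xa20441522) (nat_lit 3074))
 (.leaf (nat_lit 0xa20441532) (nat_lit 3074))
)))))) (.node (nat_lit 0xa20451d0a) (.node (nat_lit 0xa20449b12) (.node (nat_lit 0xa20449302) (.node (nat_lit 0xa20441d22) (.node (nat_lit 0xa20441912) (.leaf (nat_lit 0xa20441902) (nat_lit 1280))
 (.leaf (nat_lit 0xa20441912) (nat_lit 3330))
) (.node (nat_lit 0xa20441d32) (.leaf (nat_lit 0xa20441d22) (nat_lit 3328))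
 (.leaf (nat_lit 0xa20441d32) (nat_lit 2308))
)) (.node (nat_lit 0xa20449722) (.node (nat_lit 0xa20449312) (.leaf (nat_lit 0xa20449302) (nat_lit 772))
 (.leaf (nat_lit 0xa20449312) (nat_lit 3076))
) (.node (nat_lit 0xa20449732) (.leaf (nat_lit 0xa20449722) (nat_lit 2818))
 (.node (nat_lit 0xa20449b02) (.leaf (nat_lit 0xa20449732) (nat_lit 2816))
 (.leaf (nat_lit 0xa20449b02) (nat_lit 1536))
)))) (.node (nat_lit 0xa2045113a) (.node (nat_lit 0xa20449f32) (.node (nat_lit 0xa20449f22) (.leaf (nat_lit 0xa20449b12) (nat_lit 3074))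
 (.leaf (nat_lit 0xa20449f22) (nat_lit 3074))
) (.node (nat_lit 0xa2045112a) (.leaf (nat_lit 0xa20449f32) (nat_lit 2564))
 (.leaf (nat_lit 0xa2045112a) (nat_lit 2561))
)) (.node (nat_lit 0xa2045151a) (.node (nat_lit 0xa2045150a) (.leaf (nat_lit 0xa2045113a) (nat_lit 2560))
 (.leaf (nat_lit 0xa2045150a) (nat_lit 2052))
) (.node (nat_lit 0xa2045192a) (.leaf (nat_lit 0xa2045151a) (nat_lit 2050))
 (.node (nat_lit 0xa2045193a) (.leaf (nat_lit 0xa2045192a) (nat_lit 2306))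
 (.leaf (nat_lit 0xa2045193a) (nat_lit 2308))
))))) (.node (nat_lit 0xa20459f1a) (.node (nat_lit 0xa2045970a) (.node (nat_lit 0xa2045932a) (.node (nat_lit 0xa20451d1a) (.leaf (nat_lit 0xa20451d0a) (nat_lit 1792))
 (.leaf (nat_lit 0xa20451d1a) (nat_lit 2818))
) (.node (nat_lit 0xa2045933a) (.leaf (nat_lit 0xa2045932a) (nat_lit 2305))
 (.leaf (nat_lit 0xa2045933a) (nat_lit 2304))
)) (.node (nat_lit 0xa20459b2a) (.node (nat_lit 0xa2045971a) (.leaf (nat_lit 0xa2045970a) (nat_lit 1796))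
 (.leaf (nat_lit 0xa2045971a) (nat_lit 2306))
) (.node (nat_lit 0xa20459b3a) (.leaf (nat_lit 0xa20459b2a) (nat_lit 2562))
 (.node (nat_lit 0xa20459f0a) (.leaf (nat_lit 0xa20459b3a) (nat_lit 2564))
 (.leaf (nat_lit 0xa20459f0a) (nat_lit 2048))
)))) (.node (nat_lit 0xa20461732) (.node (nat_lit 0xa20461312) (.node (nat_lit 0xa20461302) (.leaf (nat_lit 0xa20459f1a) (nat_lit 2562))
 (.leaf (nat_lit 0xa20461302) (nat_lit 1024))
) (.node (nat_lit 0xa20461722) (.leaf (nat_lit 0xa20461312) (nat_lit 3331))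
 (.leaf (nat_lit 0xa20461722) (nat_lit 3074))
)) (.node (nat_lit 0xa20461b12) (.node (nat_lit 0xa20461b02) (.leaf (nat_lit 0xa20461732) (nat_lit 2564))
 (.leaf (nat_lit 0xa20461b02) (nat_lit 1284))
) (.node (nat_lit 0xa20461f22) (.leaf (nat_lit 0xa20461b12) (nat_lit 2818))
 (.node (nat_lit 0xa20461f32) (.leaf (nat_lit 0xa20461f22) (nat_lit 3332))
 (.leaf (nat_lit 0xa20461f32) (nat_lit 2818))
))))))) (.node (nat_lit 0xa20c49b82) (.node (nat_lit 0xa2047950a) (.node (nat_lit 0xa2047133a) (.node (nat_lit 0xa20469902) (.node (nat_lit 0xa20469522) (.node (nat_lit 0xa20469112) (.leaf (nat_lit 0xa20469102) (nat_lit 1280))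
 (.leaf (nat_lit 0xa20469112) (nat_lit 3072))
) (.node (nat_lit 0xa20469532) (.leaf (nat_lit 0xa20469522) (nat_lit 2818))
 (.leaf (nat_lit 0xa20469532) (nat_lit 2820))
)) (.node (nat_lit 0xa20469d22) (.node (nat_lit 0xa20469912) (.leaf (nat_lit 0xa20469902) (nat_lit 1028))
 (.leaf (nat_lit 0xa20469912) (nat_lit 3074))
) (.node (nat_lit 0xa20469d32) (.leaf (nat_lit 0xa20469d22) (nat_lit 3076))
 (.node (nat_lit 0xa2047132a) (.leaf (nat_lit 0xa20469d32) (nat_lit 2560))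
 (.leaf (nat_lit 0xa2047132a) (nat_lit 2561))
)))) (.node (nat_lit 0xa20471b3a) (.node (nat_lit 0xa2047171a) (.node (nat_lit 0xa2047170a) (.leaf (nat_lit 0xa2047133a) (nat_lit 2052))
 (.leaf (nat_lit 0xa2047170a) (nat_lit 2048))
) (.node (nat_lit 0xa20471b2a) (.leaf (nat_lit 0xa2047171a) (nat_lit 2562))
 (.leaf (nat_lit 0xa20471b2a) (nat_lit 2306))
)) (.node (nat_lit 0xa20471f1a) (.node (nat_lit 0xa20471f0a) (.leaf (nat_lit 0xa20471b3a) (nat_lit 2816))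
 (.leaf (nat_lit 0xa20471f0a) (nat_lit 1796))
) (.node (nat_lit 0xa2047912a) (.leaf (nat_lit 0xa20471f1a) (nat_lit 2306))
 (.node (nat_lit 0xa2047913a) (.leaf (nat_lit 0xa2047912a) (nat_lit 2817))
 (.leaf (nat_lit 0xa2047913a) (nat_lit 2308))
))))) (.node (nat_lit 0xa20c415a2) (.node (nat_lit 0xa20479d0a) (.node (nat_lit 0xa2047992a) (.node (nat_lit 0xa2047951a) (.leaf (nat_lit 0xa2047950a) (nat_lit 2304))
 (.leaf (nat_lit 0xa2047951a) (nat_lit 2306))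
) (.node (nat_lit 0xa2047993a) (.leaf (nat_lit 0xa2047992a) (nat_lit 2050))
 (.leaf (nat_lit 0xa2047993a) (nat_lit 2560))
)) (.node (nat_lit 0xa20c41182) (.node (nat_lit 0xa20479d1a) (.leaf (nat_lit 0xa20479d0a) (nat_lit 1540))
 (.leaf (nat_lit 0xa20479d1a) (nat_lit 2562))
) (.node (nat_lit 0xa20c411b2) (.leaf (nat_lit 0xa20c41182) (nat_lit 1284))
 (.node (nat_lit 0xa20c41592) (.leaf (nat_lit 0xa20c411b2) (nat_lit 2564))
 (.leaf (nat_lit 0xa20c41592) (nat_lit 2564))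
)))) (.node (nat_lit 0xa20c41da2) (.node (nat_lit 0xa20c419b2) (.node (nat_lit 0xa20c41982) (.leaf (nat_lit 0xa20c415a2) (nat_lit 3330))
 (.leaf (nat_lit 0xa20c41982) (nat_lit 1536))
) (.node (nat_lit 0xa20c41d92) (.leaf (nat_lit 0xa20c419b2) (nat_lit 3331))
 (.leaf (nat_lit 0xa20c41d92) (nat_lit 3330))
)) (.node (nat_lit 0xa20c493b2) (.node (nat_lit 0xa20c49382) (.leaf (nat_lit 0xa20c41da2) (nat_lit 3331))
 (.leaf (nat_lit 0xa20c49382) (nat_lit 1028))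
) (.node (nat_lit 0xa20c49792) (.leaf (nat_lit 0xa20c493b2) (nat_lit 2820))
 (.node (nat_lit 0xa20c497a2) (.leaf (nat_lit 0xa20c49792) (nat_lit 2820))
 (.leaf (nat_lit 0xa20c497a2) (nat_lit 3330))
)))))) (.node (nat_lit 0xa20c59d8a) (.node (nat_lit 0xa20c51baa) (.node (nat_lit 0xa20c5139a) (.node (nat_lit 0xa20c49f92) (.node (nat_lit 0xa20c49bb2) (.leaf (nat_lit 0xa20c49b82) (nat_lit 1792))
 (.leaf (nat_lit 0xa20c49bb2) (nat_lit 3072))
) (.node (nat_lit 0xa20c49fa2) (.leaf (nat_lit 0xa20c49f92) (nat_lit 3072))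
 (.leaf (nat_lit 0xa20c49fa2) (nat_lit 3075))
)) (.node (nat_lit 0xa20c5178a) (.node (nat_lit 0xa20c513aa) (.leaf (nat_lit 0xa20c5139a) (nat_lit 2308))
 (.leaf (nat_lit 0xa20c513aa) (nat_lit 2563))
) (.node (nat_lit 0xa20c517ba) (.leaf (nat_lit 0xa20c5178a) (nat_lit 2052))
 (.node (nat_lit 0xa20c51b9a) (.leaf (nat_lit 0xa20c517ba) (nat_lit 2562))
 (.leaf (nat_lit 0xa20c51b9a) (nat_lit 3072))
)))) (.node (nat_lit 0xa20c591aa) (.node (nat_lit 0xa20c51fba) (.node (nat_lit 0xa20c51f8a) (.leaf (nat_lit 0xa20c51baa) (nat_lit 2562))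
 (.leaf (nat_lit 0xa20c51f8a) (nat_lit 2048))
) (.node (nat_lit 0xa20c5919a) (.leaf (nat_lit 0xa20c51fba) (nat_lit 2816))
 (.leaf (nat_lit 0xa20c5919a) (nat_lit 2564))
)) (.node (nat_lit 0xa20c595ba) (.node (nat_lit 0xa20c5958a) (.leaf (nat_lit 0xa20c591aa) (nat_lit 2819))
 (.leaf (nat_lit 0xa20c5958a) (nat_lit 1796))
) (.node (nat_lit 0xa20c5999a) (.leaf (nat_lit 0xa20c595ba) (nat_lit 2818))
 (.node (nat_lit 0xa20c599aa) (.leaf (nat_lit 0xa20c5999a) (nat_lit 2816))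
 (.leaf (nat_lit 0xa20c599aa) (nat_lit 2306))
))))) (.node (nat_lit 0xa20c61fa2) (.node (nat_lit 0xa20c61792) (.node (nat_lit 0xa20c61382) (.node (nat_lit 0xa20c59dba) (.leaf (nat_lit 0xa20c59d8a) (nat_lit 2304))
 (.leaf (nat_lit 0xa20c59dba) (nat_lit 2560))
) (.node (nat_lit 0xa20c613b2) (.leaf (nat_lit 0xa20c61382) (nat_lit 1280))
 (.leaf (nat_lit 0xa20c613b2) (nat_lit 3075))
)) (.node (nat_lit 0xa20c61b82) (.node (nat_lit 0xa20c617a2) (.leaf (nat_lit 0xa20c61792) (nat_lit 3074))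
 (.leaf (nat_lit 0xa20c617a2) (nat_lit 3330))
) (.node (nat_lit 0xa20c61bb2) (.leaf (nat_lit 0xa20c61b82) (nat_lit 1540))
 (.node (nat_lit 0xa20c61f92) (.leaf (nat_lit 0xa20c61bb2) (nat_lit 2820))
 (.leaf (nat_lit 0xa20c61f92) (nat_lit 2820))
)))) (.node (nat_lit 0xa20c695a2) (.node (nat_lit 0xa20c691b2) (.node (nat_lit 0xa20c69182) (.leaf (nat_lit 0xa20c61fa2) (nat_lit 3331))
 (.leaf (nat_lit 0xa20c69182) (nat_lit 1536))
) (.node (nat_lit 0xa20c69592) (.leaf (nat_lit 0xa20c691b2) (nat_lit 2816))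
 (.leaf (nat_lit 0xa20c69592) (nat_lit 2816))
)) (.node (nat_lit 0xa20c699b2) (.node (nat_lit 0xa20c69982) (.leaf (nat_lit 0xa20c695a2) (nat_lit 3074))
 (.leaf (nat_lit 0xa20c69982) (nat_lit 1284))
) (.node (nat_lit 0xa20c69d92) (.leaf (nat_lit 0xa20c699b2) (nat_lit 3076))
 (.node (nat_lit 0xa20c69da2) (.leaf (nat_lit 0xa20c69d92) (nat_lit 3076))
 (.leaf (nat_lit 0xa20c69da2) (nat_lit 3075))
)))))))) (.node (nat_lit 0xa3047916e) (.node (nat_lit 0xa3045194e) (.node (nat_lit 0xa30441566) (.node (nat_lit 0xa20c793aa) (.node (nat_lit 0xa20c7199a) (.node (nat_lit 0xa20c7158a) (.node (nat_lit 0xa20c711aa) (.leaf (nat_lit 0xa20c7119a) (nat_lit 2816))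
 (.leaf (nat_lit 0xa20c711aa) (nat_lit 2563))
) (.node (nat_lit 0xa20c715ba) (.leaf (nat_lit 0xa20c7158a) (nat_lit 2048))
 (.leaf (nat_lit 0xa20c715ba) (nat_lit 3074))
)) (.node (nat_lit 0xa20c71d8a) (.node (nat_lit 0xa20c719aa) (.leaf (nat_lit 0xa20c7199a) (nat_lit 2564))
 (.leaf (nat_lit 0xa20c719aa) (nat_lit 2562))
) (.node (nat_lit 0xa20c71dba) (.leaf (nat_lit 0xa20c71d8a) (nat_lit 2052))
 (.node (nat_lit 0xa20c7939a) (.leaf (nat_lit 0xa20c71dba) (nat_lit 2308))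
 (.leaf (nat_lit 0xa20c7939a) (nat_lit 2560))
)))) (.node (nat_lit 0xa20c79baa) (.node (nat_lit 0xa20c797ba) (.node (nat_lit 0xa20c7978a) (.leaf (nat_lit 0xa20c793aa) (nat_lit 2307))
 (.leaf (nat_lit 0xa20c7978a) (nat_lit 2304))
) (.node (nat_lit 0xa20c79b9a) (.leaf (nat_lit 0xa20c797ba) (nat_lit 2818))
 (.leaf (nat_lit 0xa20c79b9a) (nat_lit 2820))
)) (.node (nat_lit 0xa20c79fba) (.node (nat_lit 0xa20c79f8a) (.leaf (nat_lit 0xa20c79baa) (nat_lit 2818))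
 (.leaf (nat_lit 0xa20c79f8a) (nat_lit 1796))
) (.node (nat_lit 0xa30441146) (.leaf (nat_lit 0xa20c79fba) (nat_lit 2564))
 (.node (nat_lit 0xa30441156) (.leaf (nat_lit 0xa30441146) (nat_lit 1282))
 (.leaf (nat_lit 0xa30441156) (nat_lit 2820))
))))) (.node (nat_lit 0xa3044977e) (.node (nat_lit 0xa30441d46) (.node (nat_lit 0xa30441966) (.node (nat_lit 0xa30441576) (.leaf (nat_lit 0xa30441566) (nat_lit 2820))
 (.leaf (nat_lit 0xa30441576) (nat_lit 2816))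
) (.node (nat_lit 0xa30441976) (.leaf (nat_lit 0xa30441966) (nat_lit 1538))
 (.leaf (nat_lit 0xa30441976) (nat_lit 3076))
)) (.node (nat_lit 0xa3044934e) (.node (nat_lit 0xa30441d56) (.leaf (nat_lit 0xa30441d46) (nat_lit 2564))
 (.leaf (nat_lit 0xa30441d56) (nat_lit 3072))
) (.node (nat_lit 0xa3044935e) (.leaf (nat_lit 0xa3044934e) (nat_lit 1026))
 (.node (nat_lit 0xa3044976e) (.leaf (nat_lit 0xa3044935e) (nat_lit 3076))
 (.leaf (nat_lit 0xa3044976e) (nat_lit 3076))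
)))) (.node (nat_lit 0xa30449f5e) (.node (nat_lit 0xa30449b7e) (.node (nat_lit 0xa30449b6e) (.leaf (nat_lit 0xa3044977e) (nat_lit 2561))
 (.leaf (nat_lit 0xa30449b6e) (nat_lit 1794))
) (.node (nat_lit 0xa30449f4e) (.leaf (nat_lit 0xa30449b7e) (nat_lit 2820))
 (.leaf (nat_lit 0xa30449f4e) (nat_lit 2820))
)) (.node (nat_lit 0xa3045117e) (.node (nat_lit 0xa3045116e) (.leaf (nat_lit 0xa30449f5e) (nat_lit 2820))
 (.leaf (nat_lit 0xa3045116e) (nat_lit 2305))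
) (.node (nat_lit 0xa3045154e) (.leaf (nat_lit 0xa3045117e) (nat_lit 2816))
 (.node (nat_lit 0xa3045155e) (.leaf (nat_lit 0xa3045154e) (nat_lit 1796))
 (.leaf (nat_lit 0xa3045155e) (nat_lit 2306))
)))))) (.node (nat_lit 0xa30461f4e) (.node (nat_lit 0xa30459b56) (.node (nat_lit 0xa30459366) (.node (nat_lit 0xa30451d6e) (.node (nat_lit 0xa3045195e) (.leaf (nat_lit 0xa3045194e) (nat_lit 2049))
 (.leaf (nat_lit 0xa3045195e) (nat_lit 2564))
) (.node (nat_lit 0xa30451d7e) (.leaf (nat_lit 0xa30451d6e) (nat_lit 2564))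
 (.leaf (nat_lit 0xa30451d7e) (nat_lit 2050))
)) (.node (nat_lit 0xa30459746) (.node (nat_lit 0xa30459376) (.leaf (nat_lit 0xa30459366) (nat_lit 2049))
 (.leaf (nat_lit 0xa30459376) (nat_lit 2560))
) (.node (nat_lit 0xa30459756) (.leaf (nat_lit 0xa30459746) (nat_lit 2052))
 (.node (nat_lit 0xa30459b46) (.leaf (nat_lit 0xa30459756) (nat_lit 2050))
 (.leaf (nat_lit 0xa30459b46) (nat_lit 2305))
)))) (.node (nat_lit 0xa3046135e) (.node (nat_lit 0xa30459f76) (.node (nat_lit 0xa30459f66) (.leaf (nat_lit 0xa30459b56) (nat_lit 2820))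
 (.leaf (nat_lit 0xa30459f66) (nat_lit 2308))
) (.node (nat_lit 0xa3046134e) (.leaf (nat_lit 0xa30459f76) (nat_lit 2306))
 (.leaf (nat_lit 0xa3046134e) (nat_lit 1282))
)) (.node (nat_lit 0xa3046177e) (.node (nat_lit 0xa3046176e) (.leaf (nat_lit 0xa3046135e) (nat_lit 3331))
 (.leaf (nat_lit 0xa3046176e) (nat_lit 2820))
) (.node (nat_lit 0xa30461b6e) (.leaf (nat_lit 0xa3046177e) (nat_lit 2820))
 (.node (nat_lit 0xa30461b7e) (.leaf (nat_lit 0xa30461b6e) (nat_lit 1538))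
 (.leaf (nat_lit 0xa30461b7e) (nat_lit 2564))
))))) (.node (nat_lit 0xa30469d56) (.node (nat_lit 0xa30469566) (.node (nat_lit 0xa30469146) (.node (nat_lit 0xa30461f5e) (.leaf (nat_lit 0xa30461f4e) (nat_lit 2564))
 (.leaf (nat_lit 0xa30461f5e) (nat_lit 3076))
) (.node (nat_lit 0xa30469156) (.leaf (nat_lit 0xa30469146) (nat_lit 1538))
 (.leaf (nat_lit 0xa30469156) (nat_lit 3072))
)) (.node (nat_lit 0xa30469966) (.node (nat_lit 0xa30469576) (.leaf (nat_lit 0xa30469566) (nat_lit 3076))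
 (.leaf (nat_lit 0xa30469576) (nat_lit 2564))
) (.node (nat_lit 0xa30469976) (.leaf (nat_lit 0xa30469966) (nat_lit 1282))
 (.node (nat_lit 0xa30469d46) (.leaf (nat_lit 0xa30469976) (nat_lit 2820))
 (.leaf (nat_lit 0xa30469d46) (nat_lit 2820))
)))) (.node (nat_lit 0xa30471756) (.node (nat_lit 0xa30471376) (.node (nat_lit 0xa30471366) (.leaf (nat_lit 0xa30469d56) (nat_lit 2820))
 (.leaf (nat_lit 0xa30471366) (nat_lit 2305))
) (.node (nat_lit 0xa30471746) (.leaf (nat_lit 0xa30471376) (nat_lit 2308))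
 (.leaf (nat_lit 0xa30471746) (nat_lit 2308))
)) (.node (nat_lit 0xa30471b56) (.node (nat_lit 0xa30471b46) (.leaf (nat_lit 0xa30471756) (nat_lit 2306))
 (.leaf (nat_lit 0xa30471b46) (nat_lit 2049))
) (.node (nat_lit 0xa30471f66) (.leaf (nat_lit 0xa30471b56) (nat_lit 3076))
 (.node (nat_lit 0xa30471f76) (.leaf (nat_lit 0xa30471f66) (nat_lit 2052))
 (.leaf (nat_lit 0xa30471f76) (nat_lit 2050))
))))))) (.node (nat_lit 0xa30858ac6) (.node (nat_lit 0xa308484de) (.node (nat_lit 0xa308400e6) (.node (nat_lit 0xa3047994e) (.node (nat_lit 0xa3047954e) (.node (nat_lit 0xa3047917e) (.leaf (nat_lit 0xa3047916e) (nat_lit 2561))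
 (.leaf (nat_lit 0xa3047917e) (nat_lit 2564))
) (.node (nat_lit 0xa3047955e) (.leaf (nat_lit 0xa3047954e) (nat_lit 2052))
 (.leaf (nat_lit 0xa3047955e) (nat_lit 2562))
)) (.node (nat_lit 0xa30479d6e) (.node (nat_lit 0xa3047995e) (.leaf (nat_lit 0xa3047994e) (nat_lit 1793))
 (.leaf (nat_lit 0xa3047995e) (nat_lit 2816))
) (.node (nat_lit 0xa30479d7e) (.leaf (nat_lit 0xa30479d6e) (nat_lit 2308))
 (.node (nat_lit 0xa308400c6) (.leaf (nat_lit 0xa30479d7e) (nat_lit 1794))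
 (.leaf (nat_lit 0xa308400c6) (nat_lit 1539))
)))) (.node (nat_lit 0xa308408f6) (.node (nat_lit 0xa308404f6) (.node (nat_lit 0xa308404d6) (.leaf (nat_lit 0xa308400e6) (nat_lit 1795))
 (.leaf (nat_lit 0xa308404d6) (nat_lit 2564))
) (.node (nat_lit 0xa308408d6) (.leaf (nat_lit 0xa308404f6) (nat_lit 3072))
 (.leaf (nat_lit 0xa308408d6) (nat_lit 3328))
)) (.node (nat_lit 0xa30840ce6) (.node (nat_lit 0xa30840cc6) (.leaf (nat_lit 0xa308408f6) (nat_lit 3072))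
 (.leaf (nat_lit 0xa30840cc6) (nat_lit 2562))
) (.node (nat_lit 0xa308480ce) (.leaf (nat_lit 0xa30840ce6) (nat_lit 3076))
 (.node (nat_lit 0xa308480ee) (.leaf (nat_lit 0xa308480ce) (nat_lit 1283))
 (.leaf (nat_lit 0xa308480ee) (nat_lit 2051))
))))) (.node (nat_lit 0xa308506ee) (.node (nat_lit 0xa30848cce) (.node (nat_lit 0xa308488de) (.node (nat_lit 0xa308484fe) (.leaf (nat_lit 0xa308484de) (nat_lit 2820))
 (.leaf (nat_lit 0xa308484fe) (nat_lit 2816))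
) (.node (nat_lit 0xa308488fe) (.leaf (nat_lit 0xa308488de) (nat_lit 3076))
 (.leaf (nat_lit 0xa308488fe) (nat_lit 2817))
)) (.node (nat_lit 0xa308502de) (.node (nat_lit 0xa30848cee) (.leaf (nat_lit 0xa30848cce) (nat_lit 2818))
 (.leaf (nat_lit 0xa30848cee) (nat_lit 3074))
) (.node (nat_lit 0xa308502fe) (.leaf (nat_lit 0xa308502de) (nat_lit 2564))
 (.node (nat_lit 0xa308506ce) (.leaf (nat_lit 0xa308502fe) (nat_lit 2307))
 (.leaf (nat_lit 0xa308506ce) (nat_lit 2052))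
)))) (.node (nat_lit 0xa30850efe) (.node (nat_lit 0xa30850aee) (.node (nat_lit 0xa30850ace) (.leaf (nat_lit 0xa308506ee) (nat_lit 2820))
 (.leaf (nat_lit 0xa30850ace) (nat_lit 2305))
) (.node (nat_lit 0xa30850ede) (.leaf (nat_lit 0xa30850aee) (nat_lit 2561))
 (.leaf (nat_lit 0xa30850ede) (nat_lit 2562))
)) (.node (nat_lit 0xa308582f6) (.node (nat_lit 0xa308582d6) (.leaf (nat_lit 0xa30850efe) (nat_lit 2818))
 (.leaf (nat_lit 0xa308582d6) (nat_lit 2308))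
) (.node (nat_lit 0xa308586c6) (.leaf (nat_lit 0xa308582f6) (nat_lit 2563))
 (.node (nat_lit 0xa308586e6) (.leaf (nat_lit 0xa308586c6) (nat_lit 2308))
 (.leaf (nat_lit 0xa308586e6) (nat_lit 2564))
)))))) (.node (nat_lit 0xa30868cc6) (.node (nat_lit 0xa308608fe) (.node (nat_lit 0xa308600ce) (.node (nat_lit 0xa30858ed6) (.node (nat_lit 0xa30858ae6) (.leaf (nat_lit 0xa30858ac6) (nat_lit 2561))
 (.leaf (nat_lit 0xa30858ae6) (nat_lit 2305))
) (.node (nat_lit 0xa30858ef6) (.leaf (nat_lit 0xa30858ed6) (nat_lit 2818))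
 (.leaf (nat_lit 0xa30858ef6) (nat_lit 2562))
)) (.node (nat_lit 0xa308604de) (.node (nat_lit 0xa308600ee) (.leaf (nat_lit 0xa308600ce) (nat_lit 1539))
 (.leaf (nat_lit 0xa308600ee) (nat_lit 1795))
) (.node (nat_lit 0xa308604fe) (.leaf (nat_lit 0xa308604de) (nat_lit 3074))
 (.node (nat_lit 0xa308608de) (.leaf (nat_lit 0xa308604fe) (nat_lit 2564))
 (.leaf (nat_lit 0xa308608de) (nat_lit 3332))
)))) (.node (nat_lit 0xa308680e6) (.node (nat_lit 0xa30860cee) (.node (nat_lit 0xa30860cce) (.leaf (nat_lit 0xa308608fe) (nat_lit 3076))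
 (.leaf (nat_lit 0xa30860cce) (nat_lit 2820))
) (.node (nat_lit 0xa308680c6) (.leaf (nat_lit 0xa30860cee) (nat_lit 2818))
 (.leaf (nat_lit 0xa308680c6) (nat_lit 1795))
)) (.node (nat_lit 0xa308684f6) (.node (nat_lit 0xa308684d6) (.leaf (nat_lit 0xa308680e6) (nat_lit 1539))
 (.leaf (nat_lit 0xa308684d6) (nat_lit 2816))
) (.node (nat_lit 0xa308688d6) (.leaf (nat_lit 0xa308684f6) (nat_lit 2820))
 (.node (nat_lit 0xa308688f6) (.leaf (nat_lit 0xa308688d6) (nat_lit 3076))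
 (.leaf (nat_lit 0xa308688f6) (nat_lit 2820))
))))) (.node (nat_lit 0xa30870ef6) (.node (nat_lit 0xa308706c6) (.node (nat_lit 0xa308702d6) (.node (nat_lit 0xa30868ce6) (.leaf (nat_lit 0xa30868cc6) (nat_lit 2818))
 (.leaf (nat_lit 0xa30868ce6) (nat_lit 3074))
) (.node (nat_lit 0xa308702f6) (.leaf (nat_lit 0xa308702d6) (nat_lit 2560))
 (.leaf (nat_lit 0xa308702f6) (nat_lit 2307))
)) (.node (nat_lit 0xa30870ac6) (.node (nat_lit 0xa308706e6) (.leaf (nat_lit 0xa308706c6) (nat_lit 2564))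
 (.leaf (nat_lit 0xa308706e6) (nat_lit 2308))
) (.node (nat_lit 0xa30870ae6) (.leaf (nat_lit 0xa30870ac6) (nat_lit 2305))
 (.node (nat_lit 0xa30870ed6) (.leaf (nat_lit 0xa30870ae6) (nat_lit 2561))
 (.leaf (nat_lit 0xa30870ed6) (nat_lit 3074))
)))) (.node (nat_lit 0xa308786ee) (.node (nat_lit 0xa308782fe) (.node (nat_lit 0xa308782de) (.leaf (nat_lit 0xa30870ef6) (nat_lit 2306))
 (.leaf (nat_lit 0xa308782de) (nat_lit 2816))
) (.node (nat_lit 0xa308786ce) (.leaf (nat_lit 0xa308782fe) (nat_lit 2051))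
 (.leaf (nat_lit 0xa308786ce) (nat_lit 2308))
)) (.node (nat_lit 0xa30878aee) (.node (nat_lit 0xa30878ace) (.leaf (nat_lit 0xa308786ee) (nat_lit 2564))
 (.leaf (nat_lit 0xa30878ace) (nat_lit 2049))
) (.node (nat_lit 0xa30878ede) (.leaf (nat_lit 0xa30878aee) (nat_lit 2817))
 (.node (nat_lit 0xa30878efe) (.leaf (nat_lit 0xa30878ede) (nat_lit 2818))
 (.leaf (nat_lit 0xa30878efe) (nat_lit 2562))
))))))))))) (.node (nat_lit 0x1020c08182) (.node (nat_lit 0xe3046132e) (.node (nat_lit 0xe2045116a) (.node (nat_lit 0xe10c481cc) (.node (nat_lit 0xe108618cc) (.node (nat_lit 0xe108516d4) (.node (nat_lit 0xe108492ec) (.node (nat_lit 0xe108418d4) (.node (nat_lit 0xe108414c4) (.node (nat_lit 0xe108410e4) (.leaf (nat_lit 0xe108410c4) (nat_lit 1794))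
 (.leaf (nat_lit 0xe108410e4) (nat_lit 2308))
) (.node (nat_lit 0xe108414e4) (.leaf (nat_lit 0xe108414c4) (nat_lit 2819))
 (.leaf (nat_lit 0xe108414e4) (nat_lit 2816))
)) (.node (nat_lit 0xe10841cd4) (.node (nat_lit 0xe108418f4) (.leaf (nat_lit 0xe108418d4) (nat_lit 3072))
 (.leaf (nat_lit 0xe108418f4) (nat_lit 3332))
) (.node (nat_lit 0xe10841cf4) (.leaf (nat_lit 0xe10841cd4) (nat_lit 3328))
 (.node (nat_lit 0xe108492cc) (.leaf (nat_lit 0xe10841cf4) (nat_lit 2050))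
 (.leaf (nat_lit 0xe108492cc) (nat_lit 1538))
)))) (.node (nat_lit 0xe10849afc) (.node (nat_lit 0xe108496ec) (.node (nat_lit 0xe108496cc) (.leaf (nat_lit 0xe108492ec) (nat_lit 2564))
 (.leaf (nat_lit 0xe108496cc) (nat_lit 3072))
) (.node (nat_lit 0xe10849adc) (.leaf (nat_lit 0xe108496ec) (nat_lit 3072))
 (.leaf (nat_lit 0xe10849adc) (nat_lit 2817))
)) (.node (nat_lit 0xe10849efc) (.node (nat_lit 0xe10849edc) (.leaf (nat_lit 0xe10849afc) (nat_lit 3075))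
 (.leaf (nat_lit 0xe10849edc) (nat_lit 3072))
) (.node (nat_lit 0xe108512d4) (.leaf (nat_lit 0xe10849efc) (nat_lit 2306))
 (.node (nat_lit 0xe108512f4) (.leaf (nat_lit 0xe108512d4) (nat_lit 2563))
 (.leaf (nat_lit 0xe108512f4) (nat_lit 2817))
))))) (.node (nat_lit 0xe108594fc) (.node (nat_lit 0xe10851ec4) (.node (nat_lit 0xe10851ac4) (.node (nat_lit 0xe108516f4) (.leaf (nat_lit 0xe108516d4) (nat_lit 2306))
 (.leaf (nat_lit 0xe108516f4) (nat_lit 2564))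
) (.node (nat_lit 0xe10851ae4) (.leaf (nat_lit 0xe10851ac4) (nat_lit 2560))
 (.leaf (nat_lit 0xe10851ae4) (nat_lit 2050))
)) (.node (nat_lit 0xe108590dc) (.node (nat_lit 0xe10851ee4) (.leaf (nat_lit 0xe10851ec4) (nat_lit 2561))
 (.leaf (nat_lit 0xe10851ee4) (nat_lit 2820))
) (.node (nat_lit 0xe108590fc) (.leaf (nat_lit 0xe108590dc) (nat_lit 2819))
 (.node (nat_lit 0xe108594dc) (.leaf (nat_lit 0xe108590fc) (nat_lit 3073))
 (.leaf (nat_lit 0xe108594dc) (nat_lit 2050))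
)))) (.node (nat_lit 0xe10859cec) (.node (nat_lit 0xe108598ec) (.node (nat_lit 0xe108598cc) (.leaf (nat_lit 0xe108594fc) (nat_lit 2820))
 (.leaf (nat_lit 0xe108598cc) (nat_lit 2304))
) (.node (nat_lit 0xe10859ccc) (.leaf (nat_lit 0xe108598ec) (nat_lit 2306))
 (.leaf (nat_lit 0xe10859ccc) (nat_lit 2305))
)) (.node (nat_lit 0xe108610fc) (.node (nat_lit 0xe108610dc) (.leaf (nat_lit 0xe10859cec) (nat_lit 3076))
 (.leaf (nat_lit 0xe108610dc) (nat_lit 3075))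
) (.node (nat_lit 0xe108614dc) (.leaf (nat_lit 0xe108610fc) (nat_lit 2817))
 (.node (nat_lit 0xe108614fc) (.leaf (nat_lit 0xe108614dc) (nat_lit 2306))
 (.leaf (nat_lit 0xe108614fc) (nat_lit 3076))
)))))) (.node (nat_lit 0xe10871edc) (.node (nat_lit 0xe10869ae4) (.node (nat_lit 0xe108692d4) (.node (nat_lit 0xe10861ccc) (.node (nat_lit 0xe108618ec) (.leaf (nat_lit 0xe108618cc) (nat_lit 2052))
 (.leaf (nat_lit 0xe108618ec) (nat_lit 2050))
) (.node (nat_lit 0xe10861cec) (.leaf (nat_lit 0xe10861ccc) (nat_lit 2561))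
 (.leaf (nat_lit 0xe10861cec) (nat_lit 3076))
)) (.node (nat_lit 0xe108696d4) (.node (nat_lit 0xe108692f4) (.leaf (nat_lit 0xe108692d4) (nat_lit 2819))
 (.leaf (nat_lit 0xe108692f4) (nat_lit 2561))
) (.node (nat_lit 0xe108696f4) (.leaf (nat_lit 0xe108696d4) (nat_lit 2562))
 (.node (nat_lit 0xe10869ac4) (.leaf (nat_lit 0xe108696f4) (nat_lit 2820))
 (.leaf (nat_lit 0xe10869ac4) (nat_lit 2308))
)))) (.node (nat_lit 0xe108712ec) (.node (nat_lit 0xe10869ee4) (.node (nat_lit 0xe10869ec4) (.leaf (nat_lit 0xe10869ae4) (nat_lit 1794))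
 (.leaf (nat_lit 0xe10869ec4) (nat_lit 2817))
) (.node (nat_lit 0xe108712cc) (.leaf (nat_lit 0xe10869ee4) (nat_lit 3072))
 (.leaf (nat_lit 0xe108712cc) (nat_lit 1794))
)) (.node (nat_lit 0xe108716ec) (.node (nat_lit 0xe108716cc) (.leaf (nat_lit 0xe108712ec) (nat_lit 2816))
 (.leaf (nat_lit 0xe108716cc) (nat_lit 2820))
) (.node (nat_lit 0xe10871adc) (.leaf (nat_lit 0xe108716ec) (nat_lit 2820))
 (.node (nat_lit 0xe10871afc) (.leaf (nat_lit 0xe10871adc) (nat_lit 3076))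
 (.leaf (nat_lit 0xe10871afc) (nat_lit 2819))
))))) (.node (nat_lit 0xe10879cf4) (.node (nat_lit 0xe108794c4) (.node (nat_lit 0xe108790c4) (.node (nat_lit 0xe10871efc) (.leaf (nat_lit 0xe10871edc) (nat_lit 2820))
 (.leaf (nat_lit 0xe10871efc) (nat_lit 2050))
) (.node (nat_lit 0xe108790e4) (.leaf (nat_lit 0xe108790c4) (nat_lit 2050))
 (.leaf (nat_lit 0xe108790e4) (nat_lit 2560))
)) (.node (nat_lit 0xe108798d4) (.node (nat_lit 0xe108794e4) (.leaf (nat_lit 0xe108794c4) (nat_lit 3076))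
 (.leaf (nat_lit 0xe108794e4) (nat_lit 2564))
) (.node (nat_lit 0xe108798f4) (.leaf (nat_lit 0xe108798d4) (nat_lit 2820))
 (.node (nat_lit 0xe10879cd4) (.leaf (nat_lit 0xe108798f4) (nat_lit 3075))
 (.leaf (nat_lit 0xe10879cd4) (nat_lit 3076))
)))) (.node (nat_lit 0xe10c405f4) (.node (nat_lit 0xe10c401f4) (.node (nat_lit 0xe10c401c4) (.leaf (nat_lit 0xe10879cf4) (nat_lit 1794))
 (.leaf (nat_lit 0xe10c401c4) (nat_lit 1796))
) (.node (nat_lit 0xe10c405c4) (.leaf (nat_lit 0xe10c401f4) (nat_lit 2307))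
 (.leaf (nat_lit 0xe10c405c4) (nat_lit 2562))
)) (.node (nat_lit 0xe10c409e4) (.node (nat_lit 0xe10c409d4) (.leaf (nat_lit 0xe10c405f4) (nat_lit 3074))
 (.leaf (nat_lit 0xe10c409d4) (nat_lit 3072))
) (.node (nat_lit 0xe10c40dd4) (.leaf (nat_lit 0xe10c409e4) (nat_lit 2052))
 (.node (nat_lit 0xe10c40de4) (.leaf (nat_lit 0xe10c40dd4) (nat_lit 3074))
 (.leaf (nat_lit 0xe10c40de4) (nat_lit 2816))
))))))) (.node (nat_lit 0xe10c68bc4) (.node (nat_lit 0xe10c587dc) (.node (nat_lit 0xe10c503e4) (.node (nat_lit 0xe10c489dc) (.node (nat_lit 0xe10c485cc) (.node (nat_lit 0xe10c481fc) (.leaf (nat_lit 0xe10c481cc) (nat_lit 1540))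
 (.leaf (nat_lit 0xe10c481fc) (nat_lit 2563))
) (.node (nat_lit 0xe10c485fc) (.leaf (nat_lit 0xe10c485cc) (nat_lit 2816))
 (.leaf (nat_lit 0xe10c485fc) (nat_lit 2818))
)) (.node (nat_lit 0xe10c48ddc) (.node (nat_lit 0xe10c489ec) (.leaf (nat_lit 0xe10c489dc) (nat_lit 2816))
 (.leaf (nat_lit 0xe10c489ec) (nat_lit 2308))
) (.node (nat_lit 0xe10c48dec) (.leaf (nat_lit 0xe10c48ddc) (nat_lit 2818))
 (.node (nat_lit 0xe10c503d4) (.leaf (nat_lit 0xe10c48dec) (nat_lit 3072))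
 (.leaf (nat_lit 0xe10c503d4) (nat_lit 2564))
)))) (.node (nat_lit 0xe10c50bf4) (.node (nat_lit 0xe10c507e4) (.node (nat_lit 0xe10c507d4) (.leaf (nat_lit 0xe10c503e4) (nat_lit 2048))
 (.leaf (nat_lit 0xe10c507d4) (nat_lit 2306))
) (.node (nat_lit 0xe10c50bc4) (.leaf (nat_lit 0xe10c507e4) (nat_lit 2820))
 (.leaf (nat_lit 0xe10c50bc4) (nat_lit 2304))
)) (.node (nat_lit 0xe10c50ff4) (.node (nat_lit 0xe10c50fc4) (.leaf (nat_lit 0xe10c50bf4) (nat_lit 2564))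
 (.leaf (nat_lit 0xe10c50fc4) (nat_lit 2564))
) (.node (nat_lit 0xe10c583dc) (.leaf (nat_lit 0xe10c50ff4) (nat_lit 2818))
 (.node (nat_lit 0xe10c583ec) (.leaf (nat_lit 0xe10c583dc) (nat_lit 2308))
 (.leaf (nat_lit 0xe10c583ec) (nat_lit 2304))
))))) (.node (nat_lit 0xe10c607ec) (.node (nat_lit 0xe10c58fcc) (.node (nat_lit 0xe10c58bcc) (.node (nat_lit 0xe10c587ec) (.leaf (nat_lit 0xe10c587dc) (nat_lit 2562))
 (.leaf (nat_lit 0xe10c587ec) (nat_lit 3076))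
) (.node (nat_lit 0xe10c58bfc) (.leaf (nat_lit 0xe10c58bcc) (nat_lit 2048))
 (.leaf (nat_lit 0xe10c58bfc) (nat_lit 2820))
)) (.node (nat_lit 0xe10c603dc) (.node (nat_lit 0xe10c58ffc) (.leaf (nat_lit 0xe10c58fcc) (nat_lit 2308))
 (.leaf (nat_lit 0xe10c58ffc) (nat_lit 3074))
) (.node (nat_lit 0xe10c603ec) (.leaf (nat_lit 0xe10c603dc) (nat_lit 2560))
 (.node (nat_lit 0xe10c607dc) (.leaf (nat_lit 0xe10c603ec) (nat_lit 2052))
 (.leaf (nat_lit 0xe10c607dc) (nat_lit 2818))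
)))) (.node (nat_lit 0xe10c60ffc) (.node (nat_lit 0xe10c60bfc) (.node (nat_lit 0xe10c60bcc) (.leaf (nat_lit 0xe10c607ec) (nat_lit 2818))
 (.leaf (nat_lit 0xe10c60bcc) (nat_lit 1796))
) (.node (nat_lit 0xe10c60fcc) (.leaf (nat_lit 0xe10c60bfc) (nat_lit 3072))
 (.leaf (nat_lit 0xe10c60fcc) (nat_lit 2560))
)) (.node (nat_lit 0xe10c683e4) (.node (nat_lit 0xe10c683d4) (.leaf (nat_lit 0xe10c60ffc) (nat_lit 2818))
 (.leaf (nat_lit 0xe10c683d4) (nat_lit 2816))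
) (.node (nat_lit 0xe10c687d4) (.leaf (nat_lit 0xe10c683e4) (nat_lit 1796))
 (.node (nat_lit 0xe10c687e4) (.leaf (nat_lit 0xe10c687d4) (nat_lit 2562))
 (.leaf (nat_lit 0xe10c687e4) (nat_lit 3072))
)))))) (.node (nat_lit 0xe10c78dd4) (.node (nat_lit 0xe10c709ec) (.node (nat_lit 0xe10c701cc) (.node (nat_lit 0xe10c68fc4) (.node (nat_lit 0xe10c68bf4) (.leaf (nat_lit 0xe10c68bc4) (nat_lit 2052))
 (.leaf (nat_lit 0xe10c68bf4) (nat_lit 2816))
) (.node (nat_lit 0xe10c68ff4) (.leaf (nat_lit 0xe10c68fc4) (nat_lit 2816))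
 (.leaf (nat_lit 0xe10c68ff4) (nat_lit 2562))
)) (.node (nat_lit 0xe10c705cc) (.node (nat_lit 0xe10c701fc) (.leaf (nat_lit 0xe10c701cc) (nat_lit 1792))
 (.leaf (nat_lit 0xe10c701fc) (nat_lit 2307))
) (.node (nat_lit 0xe10c705fc) (.leaf (nat_lit 0xe10c705cc) (nat_lit 2564))
 (.node (nat_lit 0xe10c709dc) (.leaf (nat_lit 0xe10c705fc) (nat_lit 2562))
 (.leaf (nat_lit 0xe10c709dc) (nat_lit 2564))
)))) (.node (nat_lit 0xe10c781f4) (.node (nat_lit 0xe10c70dec) (.node (nat_lit 0xe10c70ddc) (.leaf (nat_lit 0xe10c709ec) (nat_lit 2560))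
 (.leaf (nat_lit 0xe10c70ddc) (nat_lit 3074))
) (.node (nat_lit 0xe10c781c4) (.leaf (nat_lit 0xe10c70dec) (nat_lit 2820))
 (.leaf (nat_lit 0xe10c781c4) (nat_lit 2048))
)) (.node (nat_lit 0xe10c785f4) (.node (nat_lit 0xe10c785c4) (.leaf (nat_lit 0xe10c781f4) (nat_lit 2051))
 (.leaf (nat_lit 0xe10c785c4) (nat_lit 2820))
) (.node (nat_lit 0xe10c789d4) (.leaf (nat_lit 0xe10c785f4) (nat_lit 2818))
 (.node (nat_lit 0xe10c789e4) (.leaf (nat_lit 0xe10c789d4) (nat_lit 2820))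
 (.leaf (nat_lit 0xe10c789e4) (nat_lit 2304))
))))) (.node (nat_lit 0xe20441d72) (.node (nat_lit 0xe20441562) (.node (nat_lit 0xe20441142) (.node (nat_lit 0xe10c78de4) (.leaf (nat_lit 0xe10c78dd4) (nat_lit 2818))
 (.leaf (nat_lit 0xe10c78de4) (nat_lit 2564))
) (.node (nat_lit 0xe20441152) (.leaf (nat_lit 0xe20441142) (nat_lit 1538))
 (.leaf (nat_lit 0xe20441152) (nat_lit 2564))
)) (.node (nat_lit 0xe20441942) (.node (nat_lit 0xe20441572) (.leaf (nat_lit 0xe20441562) (nat_lit 2560))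
 (.leaf (nat_lit 0xe20441572) (nat_lit 3076))
) (.node (nat_lit 0xe20441952) (.leaf (nat_lit 0xe20441942) (nat_lit 2308))
 (.node (nat_lit 0xe20441d62) (.leaf (nat_lit 0xe20441952) (nat_lit 2816))
 (.leaf (nat_lit 0xe20441d62) (nat_lit 2820))
)))) (.node (nat_lit 0xe2044977a) (.node (nat_lit 0xe2044935a) (.node (nat_lit 0xe2044934a) (.leaf (nat_lit 0xe20441d72) (nat_lit 1794))
 (.leaf (nat_lit 0xe2044934a) (nat_lit 1282))
) (.node (nat_lit 0xe2044976a) (.leaf (nat_lit 0xe2044935a) (nat_lit 2820))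
 (.leaf (nat_lit 0xe2044976a) (nat_lit 2305))
)) (.node (nat_lit 0xe20449b5a) (.node (nat_lit 0xe20449b4a) (.leaf (nat_lit 0xe2044977a) (nat_lit 3332))
 (.leaf (nat_lit 0xe20449b4a) (nat_lit 2564))
) (.node (nat_lit 0xe20449f6a) (.leaf (nat_lit 0xe20449b5a) (nat_lit 3072))
 (.node (nat_lit 0xe20449f7a) (.leaf (nat_lit 0xe20449f6a) (nat_lit 2564))
 (.leaf (nat_lit 0xe20449f7a) (nat_lit 2050))
)))))))) (.node (nat_lit 0xe20c583d2) (.node (nat_lit 0xe20471b4a) (.node (nat_lit 0xe20461742) (.node (nat_lit 0xe20459372) (.node (nat_lit 0xe2045196a) (.node (nat_lit 0xe2045154a) (.node (nat_lit 0xe2045117a) (.leaf (nat_lit 0xe2045116a) (nat_lit 2560))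
 (.leaf (nat_lit 0xe2045117a) (nat_lit 2561))
) (.node (nat_lit 0xe2045155a) (.leaf (nat_lit 0xe2045154a) (nat_lit 2052))
 (.leaf (nat_lit 0xe2045155a) (nat_lit 2050))
)) (.node (nat_lit 0xe20451d4a) (.node (nat_lit 0xe2045197a) (.leaf (nat_lit 0xe2045196a) (nat_lit 1794))
 (.leaf (nat_lit 0xe2045197a) (nat_lit 2820))
) (.node (nat_lit 0xe20451d5a) (.leaf (nat_lit 0xe20451d4a) (nat_lit 2305))
 (.node (nat_lit 0xe20459362) (.leaf (nat_lit 0xe20451d5a) (nat_lit 2820))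
 (.leaf (nat_lit 0xe20459362) (nat_lit 2304))
)))) (.node (nat_lit 0xe20459b72) (.node (nat_lit 0xe20459752) (.node (nat_lit 0xe20459742) (.leaf (nat_lit 0xe20459372) (nat_lit 2305))
 (.leaf (nat_lit 0xe20459742) (nat_lit 2308))
) (.node (nat_lit 0xe20459b62) (.leaf (nat_lit 0xe20459752) (nat_lit 1794))
 (.leaf (nat_lit 0xe20459b62) (nat_lit 2050))
)) (.node (nat_lit 0xe20459f52) (.node (nat_lit 0xe20459f42) (.leaf (nat_lit 0xe20459b72) (nat_lit 2564))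
 (.leaf (nat_lit 0xe20459f42) (nat_lit 2561))
) (.node (nat_lit 0xe20461362) (.leaf (nat_lit 0xe20459f52) (nat_lit 3072))
 (.node (nat_lit 0xe20461372) (.leaf (nat_lit 0xe20461362) (nat_lit 2052))
 (.leaf (nat_lit 0xe20461372) (nat_lit 2561))
))))) (.node (nat_lit 0xe2046955a) (.node (nat_lit 0xe20461f42) (.node (nat_lit 0xe20461b62) (.node (nat_lit 0xe20461752) (.leaf (nat_lit 0xe20461742) (nat_lit 2564))
 (.leaf (nat_lit 0xe20461752) (nat_lit 2050))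
) (.node (nat_lit 0xe20461b72) (.leaf (nat_lit 0xe20461b62) (nat_lit 1794))
 (.leaf (nat_lit 0xe20461b72) (nat_lit 2308))
)) (.node (nat_lit 0xe2046916a) (.node (nat_lit 0xe20461f52) (.leaf (nat_lit 0xe20461f42) (nat_lit 2305))
 (.leaf (nat_lit 0xe20461f52) (nat_lit 2820))
) (.node (nat_lit 0xe2046917a) (.leaf (nat_lit 0xe2046916a) (nat_lit 2308))
 (.node (nat_lit 0xe2046954a) (.leaf (nat_lit 0xe2046917a) (nat_lit 2817))
 (.leaf (nat_lit 0xe2046954a) (nat_lit 2308))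
)))) (.node (nat_lit 0xe20469d5a) (.node (nat_lit 0xe2046997a) (.node (nat_lit 0xe2046996a) (.leaf (nat_lit 0xe2046955a) (nat_lit 2306))
 (.leaf (nat_lit 0xe2046996a) (nat_lit 1538))
) (.node (nat_lit 0xe20469d4a) (.leaf (nat_lit 0xe2046997a) (nat_lit 2564))
 (.leaf (nat_lit 0xe20469d4a) (nat_lit 2049))
)) (.node (nat_lit 0xe2047135a) (.node (nat_lit 0xe2047134a) (.leaf (nat_lit 0xe20469d5a) (nat_lit 3076))
 (.leaf (nat_lit 0xe2047134a) (nat_lit 1538))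
) (.node (nat_lit 0xe2047176a) (.leaf (nat_lit 0xe2047135a) (nat_lit 3075))
 (.node (nat_lit 0xe2047177a) (.leaf (nat_lit 0xe2047176a) (nat_lit 2564))
 (.leaf (nat_lit 0xe2047177a) (nat_lit 3076))
)))))) (.node (nat_lit 0xe20c40dd2) (.node (nat_lit 0xe20479952) (.node (nat_lit 0xe20479142) (.node (nat_lit 0xe20471f6a) (.node (nat_lit 0xe20471b5a) (.leaf (nat_lit 0xe20471b4a) (nat_lit 2820))
 (.leaf (nat_lit 0xe20471b5a) (nat_lit 2820))
) (.node (nat_lit 0xe20471f7a) (.leaf (nat_lit 0xe20471f6a) (nat_lit 2308))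
 (.leaf (nat_lit 0xe20471f7a) (nat_lit 1794))
)) (.node (nat_lit 0xe20479562) (.node (nat_lit 0xe20479152) (.leaf (nat_lit 0xe20479142) (nat_lit 1794))
 (.leaf (nat_lit 0xe20479152) (nat_lit 2816))
) (.node (nat_lit 0xe20479572) (.leaf (nat_lit 0xe20479562) (nat_lit 2308))
 (.node (nat_lit 0xe20479942) (.leaf (nat_lit 0xe20479572) (nat_lit 3332))
 (.leaf (nat_lit 0xe20479942) (nat_lit 2560))
)))) (.node (nat_lit 0xe20c401f2) (.node (nat_lit 0xe20479d72) (.node (nat_lit 0xe20479d62) (.leaf (nat_lit 0xe20479952) (nat_lit 2564))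
 (.leaf (nat_lit 0xe20479d62) (nat_lit 2564))
) (.node (nat_lit 0xe20c401c2) (.leaf (nat_lit 0xe20479d72) (nat_lit 1538))
 (.leaf (nat_lit 0xe20c401c2) (nat_lit 1795))
)) (.node (nat_lit 0xe20c405e2) (.node (nat_lit 0xe20c405d2) (.leaf (nat_lit 0xe20c401f2) (nat_lit 2051))
 (.leaf (nat_lit 0xe20c405d2) (nat_lit 2308))
) (.node (nat_lit 0xe20c409c2) (.leaf (nat_lit 0xe20c405e2) (nat_lit 2816))
 (.node (nat_lit 0xe20c409f2) (.leaf (nat_lit 0xe20c409c2) (nat_lit 2306))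
 (.leaf (nat_lit 0xe20c409f2) (nat_lit 3332))
))))) (.node (nat_lit 0xe20c48dea) (.node (nat_lit 0xe20c485da) (.node (nat_lit 0xe20c481ca) (.node (nat_lit 0xe20c40de2) (.leaf (nat_lit 0xe20c40dd2) (nat_lit 3072))
 (.leaf (nat_lit 0xe20c40de2) (nat_lit 2816))
) (.node (nat_lit 0xe20c481fa) (.leaf (nat_lit 0xe20c481ca) (nat_lit 1539))
 (.leaf (nat_lit 0xe20c481fa) (nat_lit 2307))
)) (.node (nat_lit 0xe20c489ca) (.node (nat_lit 0xe20c485ea) (.leaf (nat_lit 0xe20c485da) (nat_lit 2564))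
 (.leaf (nat_lit 0xe20c485ea) (nat_lit 2560))
) (.node (nat_lit 0xe20c489fa) (.leaf (nat_lit 0xe20c489ca) (nat_lit 2562))
 (.node (nat_lit 0xe20c48dda) (.leaf (nat_lit 0xe20c489fa) (nat_lit 3074))
 (.leaf (nat_lit 0xe20c48dda) (nat_lit 3328))
)))) (.node (nat_lit 0xe20c507fa) (.node (nat_lit 0xe20c503ea) (.node (nat_lit 0xe20c503da) (.leaf (nat_lit 0xe20c48dea) (nat_lit 2561))
 (.leaf (nat_lit 0xe20c503da) (nat_lit 2308))
) (.node (nat_lit 0xe20c507ca) (.leaf (nat_lit 0xe20c503ea) (nat_lit 2051))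
 (.leaf (nat_lit 0xe20c507ca) (nat_lit 2052))
)) (.node (nat_lit 0xe20c50bea) (.node (nat_lit 0xe20c50bda) (.leaf (nat_lit 0xe20c507fa) (nat_lit 3074))
 (.leaf (nat_lit 0xe20c50bda) (nat_lit 2818))
) (.node (nat_lit 0xe20c50fca) (.leaf (nat_lit 0xe20c50bea) (nat_lit 2562))
 (.node (nat_lit 0xe20c50ffa) (.leaf (nat_lit 0xe20c50fca) (nat_lit 2561))
 (.leaf (nat_lit 0xe20c50ffa) (nat_lit 2817))
))))))) (.node (nat_lit 0xe20c789c2) (.node (nat_lit 0xe20c687ca) (.node (nat_lit 0xe20c603e2) (.node (nat_lit 0xe20c58bd2) (.node (nat_lit 0xe20c587c2) (.node (nat_lit 0xe20c583e2) (.leaf (nat_lit 0xe20c583d2) (nat_lit 2052))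
 (.leaf (nat_lit 0xe20c583e2) (nat_lit 2307))
) (.node (nat_lit 0xe20c587f2) (.leaf (nat_lit 0xe20c587c2) (nat_lit 2308))
 (.leaf (nat_lit 0xe20c587f2) (nat_lit 2820))
)) (.node (nat_lit 0xe20c58fc2) (.node (nat_lit 0xe20c58be2) (.leaf (nat_lit 0xe20c58bd2) (nat_lit 3074))
 (.leaf (nat_lit 0xe20c58be2) (nat_lit 2306))
) (.node (nat_lit 0xe20c58ff2) (.leaf (nat_lit 0xe20c58fc2) (nat_lit 2817))
 (.node (nat_lit 0xe20c603d2) (.leaf (nat_lit 0xe20c58ff2) (nat_lit 2561))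
 (.leaf (nat_lit 0xe20c603d2) (nat_lit 2304))
)))) (.node (nat_lit 0xe20c60be2) (.node (nat_lit 0xe20c607f2) (.node (nat_lit 0xe20c607c2) (.leaf (nat_lit 0xe20c603e2) (nat_lit 2051))
 (.leaf (nat_lit 0xe20c607c2) (nat_lit 2560))
) (.node (nat_lit 0xe20c60bd2) (.leaf (nat_lit 0xe20c607f2) (nat_lit 2564))
 (.leaf (nat_lit 0xe20c60bd2) (nat_lit 3076))
)) (.node (nat_lit 0xe20c60ff2) (.node (nat_lit 0xe20c60fc2) (.leaf (nat_lit 0xe20c60be2) (nat_lit 2050))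
 (.leaf (nat_lit 0xe20c60fc2) (nat_lit 2561))
) (.node (nat_lit 0xe20c683da) (.leaf (nat_lit 0xe20c60ff2) (nat_lit 2817))
 (.node (nat_lit 0xe20c683ea) (.leaf (nat_lit 0xe20c683da) (nat_lit 2560))
 (.leaf (nat_lit 0xe20c683ea) (nat_lit 1795))
))))) (.node (nat_lit 0xe20c705ea) (.node (nat_lit 0xe20c68fca) (.node (nat_lit 0xe20c68bda) (.node (nat_lit 0xe20c687fa) (.leaf (nat_lit 0xe20c687ca) (nat_lit 2304))
 (.leaf (nat_lit 0xe20c687fa) (nat_lit 2820))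
) (.node (nat_lit 0xe20c68bea) (.leaf (nat_lit 0xe20c68bda) (nat_lit 3074))
 (.leaf (nat_lit 0xe20c68bea) (nat_lit 2306))
)) (.node (nat_lit 0xe20c701ca) (.node (nat_lit 0xe20c68ffa) (.leaf (nat_lit 0xe20c68fca) (nat_lit 2305))
 (.leaf (nat_lit 0xe20c68ffa) (nat_lit 3073))
) (.node (nat_lit 0xe20c701fa) (.leaf (nat_lit 0xe20c701ca) (nat_lit 1795))
 (.node (nat_lit 0xe20c705da) (.leaf (nat_lit 0xe20c701fa) (nat_lit 2051))
 (.leaf (nat_lit 0xe20c705da) (nat_lit 2818))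
)))) (.node (nat_lit 0xe20c70dea) (.node (nat_lit 0xe20c709fa) (.node (nat_lit 0xe20c709ca) (.leaf (nat_lit 0xe20c705ea) (nat_lit 2308))
 (.leaf (nat_lit 0xe20c709ca) (nat_lit 2820))
) (.node (nat_lit 0xe20c70dda) (.leaf (nat_lit 0xe20c709fa) (nat_lit 2818))
 (.leaf (nat_lit 0xe20c70dda) (nat_lit 3076))
)) (.node (nat_lit 0xe20c781f2) (.node (nat_lit 0xe20c781c2) (.leaf (nat_lit 0xe20c70dea) (nat_lit 2820))
 (.leaf (nat_lit 0xe20c781c2) (nat_lit 2051))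
) (.node (nat_lit 0xe20c785d2) (.leaf (nat_lit 0xe20c781f2) (nat_lit 1795))
 (.node (nat_lit 0xe20c785e2) (.leaf (nat_lit 0xe20c785d2) (nat_lit 2560))
 (.leaf (nat_lit 0xe20c785e2) (nat_lit 2564))
)))))) (.node (nat_lit 0xe30449f06) (.node (nat_lit 0xe30441936) (.node (nat_lit 0xe30441106) (.node (nat_lit 0xe20c78dd2) (.node (nat_lit 0xe20c789f2) (.leaf (nat_lit 0xe20c789c2) (nat_lit 2562))
 (.leaf (nat_lit 0xe20c789f2) (nat_lit 3074))
) (.node (nat_lit 0xe20c78de2) (.leaf (nat_lit 0xe20c78dd2) (nat_lit 2820))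
 (.leaf (nat_lit 0xe20c78de2) (nat_lit 2564))
)) (.node (nat_lit 0xe30441526) (.node (nat_lit 0xe30441116) (.leaf (nat_lit 0xe30441106) (nat_lit 1284))
 (.leaf (nat_lit 0xe30441116) (nat_lit 2818))
) (.node (nat_lit 0xe30441536) (.leaf (nat_lit 0xe30441526) (nat_lit 3330))
 (.node (nat_lit 0xe30441926) (.leaf (nat_lit 0xe30441536) (nat_lit 2818))
 (.leaf (nat_lit 0xe30441926) (nat_lit 2052))
)))) (.node (nat_lit 0xe30449316) (.node (nat_lit 0xe30441d16) (.node (nat_lit 0xe30441d06) (.leaf (nat_lit 0xe30441936) (nat_lit 3072))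
 (.leaf (nat_lit 0xe30441d06) (nat_lit 1536))
) (.node (nat_lit 0xe30449306) (.leaf (nat_lit 0xe30441d16) (nat_lit 3074))
 (.leaf (nat_lit 0xe30449306) (nat_lit 1028))
)) (.node (nat_lit 0xe30449736) (.node (nat_lit 0xe30449726) (.leaf (nat_lit 0xe30449316) (nat_lit 3074))
 (.leaf (nat_lit 0xe30449726) (nat_lit 3072))
) (.node (nat_lit 0xe30449b26) (.leaf (nat_lit 0xe30449736) (nat_lit 2562))
 (.node (nat_lit 0xe30449b36) (.leaf (nat_lit 0xe30449b26) (nat_lit 2308))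
 (.leaf (nat_lit 0xe30449b36) (nat_lit 3328))
))))) (.node (nat_lit 0xe30451d3e) (.node (nat_lit 0xe3045150e) (.node (nat_lit 0xe3045112e) (.node (nat_lit 0xe30449f16) (.leaf (nat_lit 0xe30449f06) (nat_lit 1792))
 (.leaf (nat_lit 0xe30449f16) (nat_lit 2818))
) (.node (nat_lit 0xe3045113e) (.leaf (nat_lit 0xe3045112e) (nat_lit 2304))
 (.leaf (nat_lit 0xe3045113e) (nat_lit 2817))
)) (.node (nat_lit 0xe3045190e) (.node (nat_lit 0xe3045151e) (.leaf (nat_lit 0xe3045150e) (nat_lit 1796))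
 (.leaf (nat_lit 0xe3045151e) (nat_lit 2306))
) (.node (nat_lit 0xe3045191e) (.leaf (nat_lit 0xe3045190e) (nat_lit 1536))
 (.node (nat_lit 0xe30451d2e) (.leaf (nat_lit 0xe3045191e) (nat_lit 3076))
 (.leaf (nat_lit 0xe30451d2e) (nat_lit 2564))
)))) (.node (nat_lit 0xe3045971e) (.node (nat_lit 0xe3045933e) (.node (nat_lit 0xe3045932e) (.leaf (nat_lit 0xe30451d3e) (nat_lit 2562))
 (.leaf (nat_lit 0xe3045932e) (nat_lit 2048))
) (.node (nat_lit 0xe3045970e) (.leaf (nat_lit 0xe3045933e) (nat_lit 2561))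
 (.leaf (nat_lit 0xe3045970e) (nat_lit 1540))
)) (.node (nat_lit 0xe30459b1e) (.node (nat_lit 0xe30459b0e) (.leaf (nat_lit 0xe3045971e) (nat_lit 2562))
 (.leaf (nat_lit 0xe30459b0e) (nat_lit 1792))
) (.node (nat_lit 0xe30459f2e) (.leaf (nat_lit 0xe30459b1e) (nat_lit 2818))
 (.node (nat_lit 0xe30459f3e) (.leaf (nat_lit 0xe30459f2e) (nat_lit 2820))
 (.leaf (nat_lit 0xe30459f3e) (nat_lit 2818))
))))))))) (.node (nat_lit 0x10108680c4) (.node (nat_lit 0xe3086929e) (.node (nat_lit 0xe30841896) (.node (nat_lit 0xe30471726) (.node (nat_lit 0xe3046913e) (.node (nat_lit 0xe30461b0e) (.node (nat_lit 0xe3046170e) (.node (nat_lit 0xe3046133e) (.leaf (nat_lit 0xe3046132e) (nat_lit 1796))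
 (.leaf (nat_lit 0xe3046133e) (nat_lit 2817))
) (.node (nat_lit 0xe3046171e) (.leaf (nat_lit 0xe3046170e) (nat_lit 1792))
 (.leaf (nat_lit 0xe3046171e) (nat_lit 2818))
)) (.node (nat_lit 0xe30461f2e) (.node (nat_lit 0xe30461b1e) (.leaf (nat_lit 0xe30461b0e) (nat_lit 1540))
 (.leaf (nat_lit 0xe30461b1e) (nat_lit 2562))
) (.node (nat_lit 0xe30461f3e) (.leaf (nat_lit 0xe30461f2e) (nat_lit 3074))
 (.node (nat_lit 0xe3046912e) (.leaf (nat_lit 0xe30461f3e) (nat_lit 2562))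
 (.leaf (nat_lit 0xe3046912e) (nat_lit 2052))
)))) (.node (nat_lit 0xe3046991e) (.node (nat_lit 0xe3046951e) (.node (nat_lit 0xe3046950e) (.leaf (nat_lit 0xe3046913e) (nat_lit 3073))
 (.leaf (nat_lit 0xe3046950e) (nat_lit 2048))
) (.node (nat_lit 0xe3046990e) (.leaf (nat_lit 0xe3046951e) (nat_lit 2562))
 (.leaf (nat_lit 0xe3046990e) (nat_lit 1284))
)) (.node (nat_lit 0xe30469d3e) (.node (nat_lit 0xe30469d2e) (.leaf (nat_lit 0xe3046991e) (nat_lit 2818))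
 (.leaf (nat_lit 0xe30469d2e) (nat_lit 2816))
) (.node (nat_lit 0xe30471306) (.leaf (nat_lit 0xe30469d3e) (nat_lit 2306))
 (.node (nat_lit 0xe30471316) (.leaf (nat_lit 0xe30471306) (nat_lit 1280))
 (.leaf (nat_lit 0xe30471316) (nat_lit 3331))
))))) (.node (nat_lit 0xe30479536) (.node (nat_lit 0xe30471f06) (.node (nat_lit 0xe30471b26) (.node (nat_lit 0xe30471736) (.leaf (nat_lit 0xe30471726) (nat_lit 2820))
 (.leaf (nat_lit 0xe30471736) (nat_lit 2818))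
) (.node (nat_lit 0xe30471b36) (.leaf (nat_lit 0xe30471b26) (nat_lit 2560))
 (.leaf (nat_lit 0xe30471b36) (nat_lit 3076))
)) (.node (nat_lit 0xe30479106) (.node (nat_lit 0xe30471f16) (.leaf (nat_lit 0xe30471f06) (nat_lit 1540))
 (.leaf (nat_lit 0xe30471f16) (nat_lit 2562))
) (.node (nat_lit 0xe30479116) (.leaf (nat_lit 0xe30479106) (nat_lit 1536))
 (.node (nat_lit 0xe30479526) (.leaf (nat_lit 0xe30479116) (nat_lit 3074))
 (.leaf (nat_lit 0xe30479526) (nat_lit 3076))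
)))) (.node (nat_lit 0xe30479d16) (.node (nat_lit 0xe30479936) (.node (nat_lit 0xe30479926) (.leaf (nat_lit 0xe30479536) (nat_lit 2562))
 (.leaf (nat_lit 0xe30479926) (nat_lit 2304))
) (.node (nat_lit 0xe30479d06) (.leaf (nat_lit 0xe30479936) (nat_lit 2820))
 (.leaf (nat_lit 0xe30479d06) (nat_lit 1284))
)) (.node (nat_lit 0xe308410a6) (.node (nat_lit 0xe30841086) (.leaf (nat_lit 0xe30479d16) (nat_lit 2818))
 (.leaf (nat_lit 0xe30841086) (nat_lit 1540))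
) (.node (nat_lit 0xe30841496) (.leaf (nat_lit 0xe308410a6) (nat_lit 2308))
 (.node (nat_lit 0xe308414b6) (.leaf (nat_lit 0xe30841496) (nat_lit 2820))
 (.leaf (nat_lit 0xe308414b6) (nat_lit 3074))
)))))) (.node (nat_lit 0xe30851e9e) (.node (nat_lit 0xe30849ab6) (.node (nat_lit 0xe30849286) (.node (nat_lit 0xe30841c86) (.node (nat_lit 0xe308418b6) (.leaf (nat_lit 0xe30841896) (nat_lit 3328))
 (.leaf (nat_lit 0xe308418b6) (nat_lit 3075))
) (.node (nat_lit 0xe30841ca6) (.leaf (nat_lit 0xe30841c86) (nat_lit 1792))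
 (.leaf (nat_lit 0xe30841ca6) (nat_lit 3587))
)) (.node (nat_lit 0xe30849696) (.node (nat_lit 0xe308492a6) (.leaf (nat_lit 0xe30849286) (nat_lit 1284))
 (.leaf (nat_lit 0xe308492a6) (nat_lit 2564))
) (.node (nat_lit 0xe308496b6) (.leaf (nat_lit 0xe30849696) (nat_lit 3076))
 (.node (nat_lit 0xe30849a96) (.leaf (nat_lit 0xe308496b6) (nat_lit 3330))
 (.leaf (nat_lit 0xe30849a96) (nat_lit 3072))
)))) (.node (nat_lit 0xe308512be) (.node (nat_lit 0xe30849ea6) (.node (nat_lit 0xe30849e86) (.leaf (nat_lit 0xe30849ab6) (nat_lit 2819))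
 (.leaf (nat_lit 0xe30849e86) (nat_lit 2048))
) (.node (nat_lit 0xe3085129e) (.leaf (nat_lit 0xe30849ea6) (nat_lit 3328))
 (.leaf (nat_lit 0xe3085129e) (nat_lit 2564))
)) (.node (nat_lit 0xe308516ae) (.node (nat_lit 0xe3085168e) (.leaf (nat_lit 0xe308512be) (nat_lit 2819))
 (.leaf (nat_lit 0xe3085168e) (nat_lit 2052))
) (.node (nat_lit 0xe30851a8e) (.leaf (nat_lit 0xe308516ae) (nat_lit 2818))
 (.node (nat_lit 0xe30851aae) (.leaf (nat_lit 0xe30851a8e) (nat_lit 1792))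
 (.leaf (nat_lit 0xe30851aae) (nat_lit 2560))
))))) (.node (nat_lit 0xe30859cbe) (.node (nat_lit 0xe3085948e) (.node (nat_lit 0xe3085909e) (.node (nat_lit 0xe30851ebe) (.leaf (nat_lit 0xe30851e9e) (nat_lit 3074))
 (.leaf (nat_lit 0xe30851ebe) (nat_lit 2818))
) (.node (nat_lit 0xe308590be) (.leaf (nat_lit 0xe3085909e) (nat_lit 2820))
 (.leaf (nat_lit 0xe308590be) (nat_lit 3075))
)) (.node (nat_lit 0xe3085988e) (.node (nat_lit 0xe308594ae) (.leaf (nat_lit 0xe3085948e) (nat_lit 1796))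
 (.leaf (nat_lit 0xe308594ae) (nat_lit 3074))
) (.node (nat_lit 0xe308598ae) (.leaf (nat_lit 0xe3085988e) (nat_lit 2048))
 (.node (nat_lit 0xe30859c9e) (.leaf (nat_lit 0xe308598ae) (nat_lit 2304))
 (.leaf (nat_lit 0xe30859c9e) (nat_lit 3072))
)))) (.node (nat_lit 0xe308614ae) (.node (nat_lit 0xe308610be) (.node (nat_lit 0xe3086109e) (.leaf (nat_lit 0xe30859cbe) (nat_lit 2562))
 (.leaf (nat_lit 0xe3086109e) (nat_lit 3072))
) (.node (nat_lit 0xe3086148e) (.leaf (nat_lit 0xe308610be) (nat_lit 2819))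
 (.leaf (nat_lit 0xe3086148e) (nat_lit 2048))
)) (.node (nat_lit 0xe308618ae) (.node (nat_lit 0xe3086188e) (.leaf (nat_lit 0xe308614ae) (nat_lit 3331))
 (.leaf (nat_lit 0xe3086188e) (nat_lit 1796))
) (.node (nat_lit 0xe30861c9e) (.leaf (nat_lit 0xe308618ae) (nat_lit 2052))
 (.node (nat_lit 0xe30861cbe) (.leaf (nat_lit 0xe30861c9e) (nat_lit 2820))
 (.leaf (nat_lit 0xe30861cbe) (nat_lit 2818))
))))))) (.node (nat_lit 0x1010819894) (.node (nat_lit 0xe30879496) (.node (nat_lit 0xe308712a6) (.node (nat_lit 0xe30869a8e) (.node (nat_lit 0xe3086968e) (.node (nat_lit 0xe308692be) (.leaf (nat_lit 0xe3086929e) (nat_lit 2816))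
 (.leaf (nat_lit 0xe308692be) (nat_lit 2563))
) (.node (nat_lit 0xe308696ae) (.leaf (nat_lit 0xe3086968e) (nat_lit 2304))
 (.leaf (nat_lit 0xe308696ae) (nat_lit 3074))
)) (.node (nat_lit 0xe30869e9e) (.node (nat_lit 0xe30869aae) (.leaf (nat_lit 0xe30869a8e) (nat_lit 1540))
 (.leaf (nat_lit 0xe30869aae) (nat_lit 2308))
) (.node (nat_lit 0xe30869ebe) (.leaf (nat_lit 0xe30869e9e) (nat_lit 3076))
 (.node (nat_lit 0xe30871286) (.leaf (nat_lit 0xe30869ebe) (nat_lit 3074))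
 (.leaf (nat_lit 0xe30871286) (nat_lit 1536))
)))) (.node (nat_lit 0xe30871ab6) (.node (nat_lit 0xe308716b6) (.node (nat_lit 0xe30871696) (.leaf (nat_lit 0xe308712a6) (nat_lit 2816))
 (.leaf (nat_lit 0xe30871696) (nat_lit 3074))
) (.node (nat_lit 0xe30871a96) (.leaf (nat_lit 0xe308716b6) (nat_lit 3074))
 (.leaf (nat_lit 0xe30871a96) (nat_lit 2820))
)) (.node (nat_lit 0xe30871ea6) (.node (nat_lit 0xe30871e86) (.leaf (nat_lit 0xe30871ab6) (nat_lit 3075))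
 (.leaf (nat_lit 0xe30871e86) (nat_lit 1796))
) (.node (nat_lit 0xe30879086) (.leaf (nat_lit 0xe30871ea6) (nat_lit 3076))
 (.node (nat_lit 0xe308790a6) (.leaf (nat_lit 0xe30879086) (nat_lit 1792))
 (.leaf (nat_lit 0xe308790a6) (nat_lit 2560))
))))) (.node (nat_lit 0x10108084a4) (.node (nat_lit 0xe30879c86) (.node (nat_lit 0xe30879896) (.node (nat_lit 0xe308794b6) (.leaf (nat_lit 0xe30879496) (nat_lit 3072))
 (.leaf (nat_lit 0xe308794b6) (nat_lit 2818))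
) (.node (nat_lit 0xe308798b6) (.leaf (nat_lit 0xe30879896) (nat_lit 3076))
 (.leaf (nat_lit 0xe308798b6) (nat_lit 2819))
)) (.node (nat_lit 0x1010808084) (.node (nat_lit 0xe30879ca6) (.leaf (nat_lit 0xe30879c86) (nat_lit 1540))
 (.leaf (nat_lit 0xe30879ca6) (nat_lit 3332))
) (.node (nat_lit 0x10108080a4) (.leaf (nat_lit 0x1010808084) (nat_lit 770))
 (.node (nat_lit 0x1010808484) (.leaf (nat_lit 0x10108080a4) (nat_lit 3075))
 (.leaf (nat_lit 0x1010808484) (nat_lit 3076))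
)))) (.node (nat_lit 0x1010808cb4) (.node (nat_lit 0x10108088b4) (.node (nat_lit 0x1010808894) (.leaf (nat_lit 0x10108084a4) (nat_lit 3588))
 (.leaf (nat_lit 0x1010808894) (nat_lit 3332))
) (.node (nat_lit 0x1010808c94) (.leaf (nat_lit 0x10108088b4) (nat_lit 3588))
 (.leaf (nat_lit 0x1010808c94) (nat_lit 3588))
)) (.node (nat_lit 0x10108190a4) (.node (nat_lit 0x1010819084) (.leaf (nat_lit 0x1010808cb4) (nat_lit 3074))
 (.leaf (nat_lit 0x1010819084) (nat_lit 2049))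
) (.node (nat_lit 0x1010819484) (.leaf (nat_lit 0x10108190a4) (nat_lit 3074))
 (.node (nat_lit 0x10108194a4) (.leaf (nat_lit 0x1010819484) (nat_lit 1796))
 (.leaf (nat_lit 0x10108194a4) (nat_lit 3332))
)))))) (.node (nat_lit 0x1010839cd4) (.node (nat_lit 0x10108288f4) (.node (nat_lit 0x10108280c4) (.node (nat_lit 0x1010819c94) (.node (nat_lit 0x10108198b4) (.leaf (nat_lit 0x1010819894) (nat_lit 3074))
 (.leaf (nat_lit 0x10108198b4) (nat_lit 3332))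
) (.node (nat_lit 0x1010819cb4) (.leaf (nat_lit 0x1010819c94) (nat_lit 2306))
 (.leaf (nat_lit 0x1010819cb4) (nat_lit 3074))
)) (.node (nat_lit 0x10108284c4) (.node (nat_lit 0x10108280e4) (.leaf (nat_lit 0x10108280c4) (nat_lit 2051))
 (.leaf (nat_lit 0x10108280e4) (nat_lit 1795))
) (.node (nat_lit 0x10108284e4) (.leaf (nat_lit 0x10108284c4) (nat_lit 3076))
 (.node (nat_lit 0x10108288d4) (.leaf (nat_lit 0x10108284e4) (nat_lit 3332))
 (.leaf (nat_lit 0x10108288d4) (nat_lit 3074))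
)))) (.node (nat_lit 0x10108390e4) (.node (nat_lit 0x1010828cf4) (.node (nat_lit 0x1010828cd4) (.leaf (nat_lit 0x10108288f4) (nat_lit 2308))
 (.leaf (nat_lit 0x1010828cd4) (nat_lit 3332))
) (.node (nat_lit 0x10108390c4) (.leaf (nat_lit 0x1010828cf4) (nat_lit 3073))
 (.leaf (nat_lit 0x10108390c4) (nat_lit 2050))
)) (.node (nat_lit 0x10108394e4) (.node (nat_lit 0x10108394c4) (.leaf (nat_lit 0x10108390e4) (nat_lit 3073))
 (.leaf (nat_lit 0x10108394c4) (nat_lit 3076))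
) (.node (nat_lit 0x10108398d4) (.leaf (nat_lit 0x10108394e4) (nat_lit 2052))
 (.node (nat_lit 0x10108398f4) (.leaf (nat_lit 0x10108398d4) (nat_lit 2820))
 (.leaf (nat_lit 0x10108398f4) (nat_lit 3587))
))))) (.node (nat_lit 0x1010848cb4) (.node (nat_lit 0x1010848484) (.node (nat_lit 0x1010848084) (.node (nat_lit 0x1010839cf4) (.leaf (nat_lit 0x1010839cd4) (nat_lit 3588))
 (.leaf (nat_lit 0x1010839cf4) (nat_lit 1794))
) (.node (nat_lit 0x10108480a4) (.leaf (nat_lit 0x1010848084) (nat_lit 1026))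
 (.leaf (nat_lit 0x10108480a4) (nat_lit 2819))
)) (.node (nat_lit 0x1010848894) (.node (nat_lit 0x10108484a4) (.leaf (nat_lit 0x1010848484) (nat_lit 2820))
 (.leaf (nat_lit 0x10108484a4) (nat_lit 3586))
) (.node (nat_lit 0x10108488b4) (.leaf (nat_lit 0x1010848894) (nat_lit 3076))
 (.node (nat_lit 0x1010848c94) (.leaf (nat_lit 0x10108488b4) (nat_lit 3332))
 (.leaf (nat_lit 0x1010848c94) (nat_lit 3332))
)))) (.node (nat_lit 0x10108594a4) (.node (nat_lit 0x10108590a4) (.node (nat_lit 0x1010859084) (.leaf (nat_lit 0x1010848cb4) (nat_lit 2818))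
 (.leaf (nat_lit 0x1010859084) (nat_lit 2305))
) (.node (nat_lit 0x1010859484) (.leaf (nat_lit 0x10108590a4) (nat_lit 2818))
 (.leaf (nat_lit 0x1010859484) (nat_lit 1540))
)) (.node (nat_lit 0x10108598b4) (.node (nat_lit 0x1010859894) (.leaf (nat_lit 0x10108594a4) (nat_lit 3330))
 (.leaf (nat_lit 0x1010859894) (nat_lit 3330))
) (.node (nat_lit 0x1010859c94) (.leaf (nat_lit 0x10108598b4) (nat_lit 3076))
 (.node (nat_lit 0x1010859cb4) (.leaf (nat_lit 0x1010859c94) (nat_lit 2562))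
 (.leaf (nat_lit 0x1010859cb4) (nat_lit 2818))
)))))))) (.node (nat_lit 0x1010c781c4) (.node (nat_lit 0x1010c299d4) (.node (nat_lit 0x1010c08584) (.node (nat_lit 0x10108790e4) (.node (nat_lit 0x10108688d4) (.node (nat_lit 0x10108684c4) (.node (nat_lit 0x10108680e4) (.leaf (nat_lit 0x10108680c4) (nat_lit 2307))
 (.leaf (nat_lit 0x10108680e4) (nat_lit 1539))
) (.node (nat_lit 0x10108684e4) (.leaf (nat_lit 0x10108684c4) (nat_lit 2820))
 (.leaf (nat_lit 0x10108684e4) (nat_lit 3330))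
)) (.node (nat_lit 0x1010868cd4) (.node (nat_lit 0x10108688f4) (.leaf (nat_lit 0x10108688d4) (nat_lit 3330))
 (.leaf (nat_lit 0x10108688f4) (nat_lit 2564))
) (.node (nat_lit 0x1010868cf4) (.leaf (nat_lit 0x1010868cd4) (nat_lit 3076))
 (.node (nat_lit 0x10108790c4) (.leaf (nat_lit 0x1010868cf4) (nat_lit 2817))
 (.leaf (nat_lit 0x10108790c4) (nat_lit 2306))
)))) (.node (nat_lit 0x10108798f4) (.node (nat_lit 0x10108794e4) (.node (nat_lit 0x10108794c4) (.leaf (nat_lit 0x10108790e4) (nat_lit 2817))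
 (.leaf (nat_lit 0x10108794c4) (nat_lit 2820))
) (.node (nat_lit 0x10108798d4) (.leaf (nat_lit 0x10108794e4) (nat_lit 2308))
 (.leaf (nat_lit 0x10108798d4) (nat_lit 3076))
)) (.node (nat_lit 0x1010879cf4) (.node (nat_lit 0x1010879cd4) (.leaf (nat_lit 0x10108798f4) (nat_lit 3331))
 (.leaf (nat_lit 0x1010879cd4) (nat_lit 3332))
) (.node (nat_lit 0x1010c08184) (.leaf (nat_lit 0x1010879cf4) (nat_lit 1538))
 (.node (nat_lit 0x1010c081b4) (.leaf (nat_lit 0x1010c08184) (nat_lit 514))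
 (.leaf (nat_lit 0x1010c081b4) (nat_lit 3331))
))))) (.node (nat_lit 0x1010c195b4) (.node (nat_lit 0x1010c08d94) (.node (nat_lit 0x1010c08994) (.node (nat_lit 0x1010c085b4) (.leaf (nat_lit 0x1010c08584) (nat_lit 2820))
 (.leaf (nat_lit 0x1010c085b4) (nat_lit 3588))
) (.node (nat_lit 0x1010c089a4) (.leaf (nat_lit 0x1010c08994) (nat_lit 3844))
 (.leaf (nat_lit 0x1010c089a4) (nat_lit 2818))
)) (.node (nat_lit 0x1010c19184) (.node (nat_lit 0x1010c08da4) (.leaf (nat_lit 0x1010c08d94) (nat_lit 3076))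
 (.leaf (nat_lit 0x1010c08da4) (nat_lit 3588))
) (.node (nat_lit 0x1010c191b4) (.leaf (nat_lit 0x1010c19184) (nat_lit 1793))
 (.node (nat_lit 0x1010c19584) (.leaf (nat_lit 0x1010c191b4) (nat_lit 3331))
 (.leaf (nat_lit 0x1010c19584) (nat_lit 1540))
)))) (.node (nat_lit 0x1010c19da4) (.node (nat_lit 0x1010c199a4) (.node (nat_lit 0x1010c19994) (.leaf (nat_lit 0x1010c195b4) (nat_lit 3330))
 (.leaf (nat_lit 0x1010c19994) (nat_lit 2562))
) (.node (nat_lit 0x1010c19d94) (.leaf (nat_lit 0x1010c199a4) (nat_lit 3073))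
 (.leaf (nat_lit 0x1010c19d94) (nat_lit 2818))
)) (.node (nat_lit 0x1010c291f4) (.node (nat_lit 0x1010c291c4) (.leaf (nat_lit 0x1010c19da4) (nat_lit 3332))
 (.leaf (nat_lit 0x1010c291c4) (nat_lit 1794))
) (.node (nat_lit 0x1010c295c4) (.leaf (nat_lit 0x1010c291f4) (nat_lit 3329))
 (.node (nat_lit 0x1010c295f4) (.leaf (nat_lit 0x1010c295c4) (nat_lit 3076))
 (.leaf (nat_lit 0x1010c295f4) (nat_lit 2308))
)))))) (.node (nat_lit 0x1010c48d94) (.node (nat_lit 0x1010c389e4) (.node (nat_lit 0x1010c381c4) (.node (nat_lit 0x1010c29dd4) (.node (nat_lit 0x1010c299e4) (.leaf (nat_lit 0x1010c299d4) (nat_lit 3588))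
 (.leaf (nat_lit 0x1010c299e4) (nat_lit 1538))
) (.node (nat_lit 0x1010c29de4) (.leaf (nat_lit 0x1010c29dd4) (nat_lit 2820))
 (.leaf (nat_lit 0x1010c29de4) (nat_lit 3332))
)) (.node (nat_lit 0x1010c385c4) (.node (nat_lit 0x1010c381f4) (.leaf (nat_lit 0x1010c381c4) (nat_lit 2049))
 (.leaf (nat_lit 0x1010c381f4) (nat_lit 2051))
) (.node (nat_lit 0x1010c385f4) (.leaf (nat_lit 0x1010c385c4) (nat_lit 2820))
 (.node (nat_lit 0x1010c389d4) (.leaf (nat_lit 0x1010c385f4) (nat_lit 3330))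
 (.leaf (nat_lit 0x1010c389d4) (nat_lit 3332))
)))) (.node (nat_lit 0x1010c481b4) (.node (nat_lit 0x1010c38de4) (.node (nat_lit 0x1010c38dd4) (.leaf (nat_lit 0x1010c389e4) (nat_lit 2817))
 (.leaf (nat_lit 0x1010c38dd4) (nat_lit 2818))
) (.node (nat_lit 0x1010c48184) (.leaf (nat_lit 0x1010c38de4) (nat_lit 2052))
 (.leaf (nat_lit 0x1010c48184) (nat_lit 770))
)) (.node (nat_lit 0x1010c485b4) (.node (nat_lit 0x1010c48584) (.leaf (nat_lit 0x1010c481b4) (nat_lit 3075))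
 (.leaf (nat_lit 0x1010c48584) (nat_lit 2564))
) (.node (nat_lit 0x1010c48994) (.leaf (nat_lit 0x1010c485b4) (nat_lit 3332))
 (.node (nat_lit 0x1010c489a4) (.leaf (nat_lit 0x1010c48994) (nat_lit 3588))
 (.leaf (nat_lit 0x1010c489a4) (nat_lit 2562))
))))) (.node (nat_lit 0x1010c59da4) (.node (nat_lit 0x1010c59584) (.node (nat_lit 0x1010c59184) (.node (nat_lit 0x1010c48da4) (.leaf (nat_lit 0x1010c48d94) (nat_lit 2820))
 (.leaf (nat_lit 0x1010c48da4) (nat_lit 3588))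
) (.node (nat_lit 0x1010c591b4) (.leaf (nat_lit 0x1010c59184) (nat_lit 2049))
 (.leaf (nat_lit 0x1010c591b4) (nat_lit 3075))
)) (.node (nat_lit 0x1010c59994) (.node (nat_lit 0x1010c595b4) (.leaf (nat_lit 0x1010c59584) (nat_lit 1284))
 (.leaf (nat_lit 0x1010c595b4) (nat_lit 3074))
) (.node (nat_lit 0x1010c599a4) (.leaf (nat_lit 0x1010c59994) (nat_lit 2818))
 (.node (nat_lit 0x1010c59d94) (.leaf (nat_lit 0x1010c599a4) (nat_lit 2817))
 (.leaf (nat_lit 0x1010c59d94) (nat_lit 3074))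
)))) (.node (nat_lit 0x1010c695f4) (.node (nat_lit 0x1010c691f4) (.node (nat_lit 0x1010c691c4) (.leaf (nat_lit 0x1010c59da4) (nat_lit 3332))
 (.leaf (nat_lit 0x1010c691c4) (nat_lit 2050))
) (.node (nat_lit 0x1010c695c4) (.leaf (nat_lit 0x1010c691f4) (nat_lit 3073))
 (.leaf (nat_lit 0x1010c695c4) (nat_lit 2820))
)) (.node (nat_lit 0x1010c699e4) (.node (nat_lit 0x1010c699d4) (.leaf (nat_lit 0x1010c695f4) (nat_lit 2564))
 (.leaf (nat_lit 0x1010c699d4) (nat_lit 3332))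
) (.node (nat_lit 0x1010c69dd4) (.leaf (nat_lit 0x1010c699e4) (nat_lit 1282))
 (.node (nat_lit 0x1010c69de4) (.leaf (nat_lit 0x1010c69dd4) (nat_lit 3076))
 (.leaf (nat_lit 0x1010c69de4) (nat_lit 3588))
))))))) (.node (nat_lit 0x1020439942) (.node (nat_lit 0x1020418562) (.node (nat_lit 0x1020408112) (.node (nat_lit 0x1010c789d4) (.node (nat_lit 0x1010c785c4) (.node (nat_lit 0x1010c781f4) (.leaf (nat_lit 0x1010c781c4) (nat_lit 2305))
 (.leaf (nat_lit 0x1010c781f4) (nat_lit 1795))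
) (.node (nat_lit 0x1010c785f4) (.leaf (nat_lit 0x1010c785c4) (nat_lit 2564))
 (.leaf (nat_lit 0x1010c785f4) (nat_lit 3074))
)) (.node (nat_lit 0x1010c78dd4) (.node (nat_lit 0x1010c789e4) (.leaf (nat_lit 0x1010c789d4) (nat_lit 3076))
 (.leaf (nat_lit 0x1010c789e4) (nat_lit 2561))
) (.node (nat_lit 0x1010c78de4) (.leaf (nat_lit 0x1010c78dd4) (nat_lit 3074))
 (.node (nat_lit 0x1020408102) (.leaf (nat_lit 0x1010c78de4) (nat_lit 2308))
 (.leaf (nat_lit 0x1020408102) (nat_lit 0))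
)))) (.node (nat_lit 0x1020408912) (.node (nat_lit 0x1020408532) (.node (nat_lit 0x1020408522) (.leaf (nat_lit 0x1020408112) (nat_lit 3331))
 (.leaf (nat_lit 0x1020408522) (nat_lit 3076))
) (.node (nat_lit 0x1020408902) (.leaf (nat_lit 0x1020408532) (nat_lit 3588))
 (.leaf (nat_lit 0x1020408902) (nat_lit 2308))
)) (.node (nat_lit 0x1020408d32) (.node (nat_lit 0x1020408d22) (.leaf (nat_lit 0x1020408912) (nat_lit 3842))
 (.leaf (nat_lit 0x1020408d22) (nat_lit 3844))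
) (.node (nat_lit 0x1020418142) (.leaf (nat_lit 0x1020408d32) (nat_lit 2818))
 (.node (nat_lit 0x1020418152) (.leaf (nat_lit 0x1020418142) (nat_lit 2049))
 (.leaf (nat_lit 0x1020418152) (nat_lit 2051))
))))) (.node (nat_lit 0x1020429532) (.node (nat_lit 0x1020418d62) (.node (nat_lit 0x1020418942) (.node (nat_lit 0x1020418572) (.leaf (nat_lit 0x1020418562) (nat_lit 2564))
 (.leaf (nat_lit 0x1020418572) (nat_lit 2052))
) (.node (nat_lit 0x1020418952) (.leaf (nat_lit 0x1020418942) (nat_lit 2820))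
 (.leaf (nat_lit 0x1020418952) (nat_lit 3330))
)) (.node (nat_lit 0x1020429102) (.node (nat_lit 0x1020418d72) (.leaf (nat_lit 0x1020418d62) (nat_lit 2820))
 (.leaf (nat_lit 0x1020418d72) (nat_lit 2818))
) (.node (nat_lit 0x1020429112) (.leaf (nat_lit 0x1020429102) (nat_lit 1281))
 (.node (nat_lit 0x1020429522) (.leaf (nat_lit 0x1020429112) (nat_lit 3587))
 (.leaf (nat_lit 0x1020429522) (nat_lit 2818))
)))) (.node (nat_lit 0x1020429d32) (.node (nat_lit 0x1020429912) (.node (nat_lit 0x1020429902) (.leaf (nat_lit 0x1020429532) (nat_lit 3332))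
 (.leaf (nat_lit 0x1020429902) (nat_lit 1028))
) (.node (nat_lit 0x1020429d22) (.leaf (nat_lit 0x1020429912) (nat_lit 3586))
 (.leaf (nat_lit 0x1020429d22) (nat_lit 2564))
)) (.node (nat_lit 0x1020439152) (.node (nat_lit 0x1020439142) (.leaf (nat_lit 0x1020429d32) (nat_lit 3074))
 (.leaf (nat_lit 0x1020439142) (nat_lit 1794))
) (.node (nat_lit 0x1020439562) (.leaf (nat_lit 0x1020439152) (nat_lit 3331))
 (.node (nat_lit 0x1020439572) (.leaf (nat_lit 0x1020439562) (nat_lit 2308))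
 (.leaf (nat_lit 0x1020439572) (nat_lit 3332))
)))))) (.node (nat_lit 0x1020458d62) (.node (nat_lit 0x1020448912) (.node (nat_lit 0x1020448102) (.node (nat_lit 0x1020439d62) (.node (nat_lit 0x1020439952) (.leaf (nat_lit 0x1020439942) (nat_lit 3076))
 (.leaf (nat_lit 0x1020439952) (nat_lit 2052))
) (.node (nat_lit 0x1020439d72) (.leaf (nat_lit 0x1020439d62) (nat_lit 3076))
 (.leaf (nat_lit 0x1020439d72) (nat_lit 1538))
)) (.node (nat_lit 0x1020448522) (.node (nat_lit 0x1020448112) (.leaf (nat_lit 0x1020448102) (nat_lit 256))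
 (.leaf (nat_lit 0x1020448112) (nat_lit 3075))
) (.node (nat_lit 0x1020448532) (.leaf (nat_lit 0x1020448522) (nat_lit 2820))
 (.node (nat_lit 0x1020448902) (.leaf (nat_lit 0x1020448532) (nat_lit 3332))
 (.leaf (nat_lit 0x1020448902) (nat_lit 2052))
)))) (.node (nat_lit 0x1020458152) (.node (nat_lit 0x1020448d32) (.node (nat_lit 0x1020448d22) (.leaf (nat_lit 0x1020448912) (nat_lit 3586))
 (.leaf (nat_lit 0x1020448d22) (nat_lit 3588))
) (.node (nat_lit 0x1020458142) (.leaf (nat_lit 0x1020448d32) (nat_lit 2562))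
 (.leaf (nat_lit 0x1020458142) (nat_lit 2305))
)) (.node (nat_lit 0x1020458572) (.node (nat_lit 0x1020458562) (.leaf (nat_lit 0x1020458152) (nat_lit 1795))
 (.leaf (nat_lit 0x1020458562) (nat_lit 2820))
) (.node (nat_lit 0x1020458942) (.leaf (nat_lit 0x1020458572) (nat_lit 2308))
 (.node (nat_lit 0x1020458952) (.leaf (nat_lit 0x1020458942) (nat_lit 2564))
 (.leaf (nat_lit 0x1020458952) (nat_lit 3074))
))))) (.node (nat_lit 0x1020469d32) (.node (nat_lit 0x1020469522) (.node (nat_lit 0x1020469102) (.node (nat_lit 0x1020458d72) (.leaf (nat_lit 0x1020458d62) (nat_lit 2564))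
 (.leaf (nat_lit 0x1020458d72) (nat_lit 2562))
) (.node (nat_lit 0x1020469112) (.leaf (nat_lit 0x1020469102) (nat_lit 1537))
 (.leaf (nat_lit 0x1020469112) (nat_lit 3331))
)) (.node (nat_lit 0x1020469902) (.node (nat_lit 0x1020469532) (.leaf (nat_lit 0x1020469522) (nat_lit 3074))
 (.leaf (nat_lit 0x1020469532) (nat_lit 3076))
) (.node (nat_lit 0x1020469912) (.leaf (nat_lit 0x1020469902) (nat_lit 772))
 (.node (nat_lit 0x1020469d22) (.leaf (nat_lit 0x1020469912) (nat_lit 3330))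
 (.leaf (nat_lit 0x1020469d22) (nat_lit 2820))
)))) (.node (nat_lit 0x1020479572) (.node (nat_lit 0x1020479152) (.node (nat_lit 0x1020479142) (.leaf (nat_lit 0x1020469d32) (nat_lit 2818))
 (.leaf (nat_lit 0x1020479142) (nat_lit 2050))
) (.node (nat_lit 0x1020479562) (.leaf (nat_lit 0x1020479152) (nat_lit 3075))
 (.leaf (nat_lit 0x1020479562) (nat_lit 2564))
)) (.node (nat_lit 0x1020479952) (.node (nat_lit 0x1020479942) (.leaf (nat_lit 0x1020479572) (nat_lit 3588))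
 (.leaf (nat_lit 0x1020479942) (nat_lit 2820))
) (.node (nat_lit 0x1020479d62) (.leaf (nat_lit 0x1020479952) (nat_lit 2308))
 (.node (nat_lit 0x1020479d72) (.leaf (nat_lit 0x1020479d62) (nat_lit 2820))
 (.leaf (nat_lit 0x1020479d72) (nat_lit 1282))
)))))))))) (.node (nat_lit 0x1210c40184) (.node (nat_lit 0x10308280c6) (.node (nat_lit 0x1030418146) (.node (nat_lit 0x1020c48982) (.node (nat_lit 0x1020c29592) (.node (nat_lit 0x1020c191f2) (.node (nat_lit 0x1020c08982) (.node (nat_lit 0x1020c08592) (.node (nat_lit 0x1020c081b2) (.leaf (nat_lit 0x1020c08182) (nat_lit 259))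
 (.leaf (nat_lit 0x1020c081b2) (nat_lit 3075))
) (.node (nat_lit 0x1020c085a2) (.leaf (nat_lit 0x1020c08592) (nat_lit 3074))
 (.leaf (nat_lit 0x1020c085a2) (nat_lit 3844))
)) (.node (nat_lit 0x1020c08d92) (.node (nat_lit 0x1020c089b2) (.leaf (nat_lit 0x1020c08982) (nat_lit 2564))
 (.leaf (nat_lit 0x1020c089b2) (nat_lit 3844))
) (.node (nat_lit 0x1020c08da2) (.leaf (nat_lit 0x1020c08d92) (nat_lit 3844))
 (.node (nat_lit 0x1020c191c2) (.leaf (nat_lit 0x1020c08da2) (nat_lit 3332))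
 (.leaf (nat_lit 0x1020c191c2) (nat_lit 2050))
)))) (.node (nat_lit 0x1020c199f2) (.node (nat_lit 0x1020c195e2) (.node (nat_lit 0x1020c195d2) (.leaf (nat_lit 0x1020c191f2) (nat_lit 3075))
 (.leaf (nat_lit 0x1020c195d2) (nat_lit 1794))
) (.node (nat_lit 0x1020c199c2) (.leaf (nat_lit 0x1020c195e2) (nat_lit 3076))
 (.leaf (nat_lit 0x1020c199c2) (nat_lit 3076))
)) (.node (nat_lit 0x1020c19de2) (.node (nat_lit 0x1020c19dd2) (.leaf (nat_lit 0x1020c199f2) (nat_lit 2308))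
 (.leaf (nat_lit 0x1020c19dd2) (nat_lit 3587))
) (.node (nat_lit 0x1020c29182) (.leaf (nat_lit 0x1020c19de2) (nat_lit 2564))
 (.node (nat_lit 0x1020c291b2) (.leaf (nat_lit 0x1020c29182) (nat_lit 1537))
 (.leaf (nat_lit 0x1020c291b2) (nat_lit 3331))
))))) (.node (nat_lit 0x1020c385e2) (.node (nat_lit 0x1020c29d92) (.node (nat_lit 0x1020c29982) (.node (nat_lit 0x1020c295a2) (.leaf (nat_lit 0x1020c29592) (nat_lit 3330))
 (.leaf (nat_lit 0x1020c295a2) (nat_lit 2562))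
) (.node (nat_lit 0x1020c299b2) (.leaf (nat_lit 0x1020c29982) (nat_lit 1284))
 (.leaf (nat_lit 0x1020c299b2) (nat_lit 3588))
)) (.node (nat_lit 0x1020c381c2) (.node (nat_lit 0x1020c29da2) (.leaf (nat_lit 0x1020c29d92) (nat_lit 3588))
 (.leaf (nat_lit 0x1020c29da2) (nat_lit 3075))
) (.node (nat_lit 0x1020c381f2) (.leaf (nat_lit 0x1020c381c2) (nat_lit 2051))
 (.node (nat_lit 0x1020c385d2) (.leaf (nat_lit 0x1020c381f2) (nat_lit 1795))
 (.leaf (nat_lit 0x1020c385d2) (nat_lit 3074))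
)))) (.node (nat_lit 0x1020c38de2) (.node (nat_lit 0x1020c389f2) (.node (nat_lit 0x1020c389c2) (.leaf (nat_lit 0x1020c385e2) (nat_lit 3076))
 (.leaf (nat_lit 0x1020c389c2) (nat_lit 3076))
) (.node (nat_lit 0x1020c38dd2) (.leaf (nat_lit 0x1020c389f2) (nat_lit 3586))
 (.leaf (nat_lit 0x1020c38dd2) (nat_lit 2308))
)) (.node (nat_lit 0x1020c481b2) (.node (nat_lit 0x1020c48182) (.leaf (nat_lit 0x1020c38de2) (nat_lit 2564))
 (.leaf (nat_lit 0x1020c48182) (nat_lit 515))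
) (.node (nat_lit 0x1020c48592) (.leaf (nat_lit 0x1020c481b2) (nat_lit 2819))
 (.node (nat_lit 0x1020c485a2) (.leaf (nat_lit 0x1020c48592) (nat_lit 2818))
 (.leaf (nat_lit 0x1020c485a2) (nat_lit 3588))
)))))) (.node (nat_lit 0x1020c69d92) (.node (nat_lit 0x1020c599f2) (.node (nat_lit 0x1020c591c2) (.node (nat_lit 0x1020c48d92) (.node (nat_lit 0x1020c489b2) (.leaf (nat_lit 0x1020c48982) (nat_lit 2308))
 (.leaf (nat_lit 0x1020c489b2) (nat_lit 3588))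
) (.node (nat_lit 0x1020c48da2) (.leaf (nat_lit 0x1020c48d92) (nat_lit 3588))
 (.leaf (nat_lit 0x1020c48da2) (nat_lit 3076))
)) (.node (nat_lit 0x1020c595d2) (.node (nat_lit 0x1020c591f2) (.leaf (nat_lit 0x1020c591c2) (nat_lit 2306))
 (.leaf (nat_lit 0x1020c591f2) (nat_lit 2819))
) (.node (nat_lit 0x1020c595e2) (.leaf (nat_lit 0x1020c595d2) (nat_lit 1538))
 (.node (nat_lit 0x1020c599c2) (.leaf (nat_lit 0x1020c595e2) (nat_lit 2820))
 (.leaf (nat_lit 0x1020c599c2) (nat_lit 2820))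
)))) (.node (nat_lit 0x1020c691b2) (.node (nat_lit 0x1020c59de2) (.node (nat_lit 0x1020c59dd2) (.leaf (nat_lit 0x1020c599f2) (nat_lit 2564))
 (.leaf (nat_lit 0x1020c59dd2) (nat_lit 3331))
) (.node (nat_lit 0x1020c69182) (.leaf (nat_lit 0x1020c59de2) (nat_lit 2820))
 (.leaf (nat_lit 0x1020c69182) (nat_lit 1793))
)) (.node (nat_lit 0x1020c695a2) (.node (nat_lit 0x1020c69592) (.leaf (nat_lit 0x1020c691b2) (nat_lit 3075))
 (.leaf (nat_lit 0x1020c69592) (nat_lit 3074))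
) (.node (nat_lit 0x1020c69982) (.leaf (nat_lit 0x1020c695a2) (nat_lit 2818))
 (.node (nat_lit 0x1020c699b2) (.leaf (nat_lit 0x1020c69982) (nat_lit 1028))
 (.leaf (nat_lit 0x1020c699b2) (nat_lit 3332))
))))) (.node (nat_lit 0x1020c78de2) (.node (nat_lit 0x1020c785d2) (.node (nat_lit 0x1020c781c2) (.node (nat_lit 0x1020c69da2) (.leaf (nat_lit 0x1020c69d92) (nat_lit 3332))
 (.leaf (nat_lit 0x1020c69da2) (nat_lit 3331))
) (.node (nat_lit 0x1020c781f2) (.leaf (nat_lit 0x1020c781c2) (nat_lit 2307))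
 (.leaf (nat_lit 0x1020c781f2) (nat_lit 1539))
)) (.node (nat_lit 0x1020c789c2) (.node (nat_lit 0x1020c785e2) (.leaf (nat_lit 0x1020c785d2) (nat_lit 2818))
 (.leaf (nat_lit 0x1020c785e2) (nat_lit 2820))
) (.node (nat_lit 0x1020c789f2) (.leaf (nat_lit 0x1020c789c2) (nat_lit 2820))
 (.node (nat_lit 0x1020c78dd2) (.leaf (nat_lit 0x1020c789f2) (nat_lit 3330))
 (.leaf (nat_lit 0x1020c78dd2) (nat_lit 2564))
)))) (.node (nat_lit 0x1030408536) (.node (nat_lit 0x1030408116) (.node (nat_lit 0x1030408106) (.leaf (nat_lit 0x1020c78de2) (nat_lit 2820))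
 (.leaf (nat_lit 0x1030408106) (nat_lit 258))
) (.node (nat_lit 0x1030408526) (.leaf (nat_lit 0x1030408116) (nat_lit 3587))
 (.leaf (nat_lit 0x1030408526) (nat_lit 3332))
)) (.node (nat_lit 0x1030408936) (.node (nat_lit 0x1030408926) (.leaf (nat_lit 0x1030408536) (nat_lit 2820))
 (.leaf (nat_lit 0x1030408926) (nat_lit 2562))
) (.node (nat_lit 0x1030408d06) (.leaf (nat_lit 0x1030408936) (nat_lit 3588))
 (.node (nat_lit 0x1030408d16) (.leaf (nat_lit 0x1030408d06) (nat_lit 2564))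
 (.leaf (nat_lit 0x1030408d16) (nat_lit 3588))
))))))) (.node (nat_lit 0x1030458966) (.node (nat_lit 0x1030439526) (.node (nat_lit 0x1030429156) (.node (nat_lit 0x1030418966) (.node (nat_lit 0x1030418566) (.node (nat_lit 0x1030418156) (.leaf (nat_lit 0x1030418146) (nat_lit 1793))
 (.leaf (nat_lit 0x1030418156) (nat_lit 2307))
) (.node (nat_lit 0x1030418576) (.leaf (nat_lit 0x1030418566) (nat_lit 1796))
 (.leaf (nat_lit 0x1030418576) (nat_lit 2820))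
)) (.node (nat_lit 0x1030418d46) (.node (nat_lit 0x1030418976) (.leaf (nat_lit 0x1030418966) (nat_lit 2561))
 (.leaf (nat_lit 0x1030418976) (nat_lit 3076))
) (.node (nat_lit 0x1030418d56) (.leaf (nat_lit 0x1030418d46) (nat_lit 2564))
 (.node (nat_lit 0x1030429146) (.leaf (nat_lit 0x1030418d56) (nat_lit 3074))
 (.leaf (nat_lit 0x1030429146) (nat_lit 1538))
)))) (.node (nat_lit 0x1030429976) (.node (nat_lit 0x1030429576) (.node (nat_lit 0x1030429566) (.leaf (nat_lit 0x1030429156) (nat_lit 3587))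
 (.leaf (nat_lit 0x1030429566) (nat_lit 3076))
) (.node (nat_lit 0x1030429966) (.leaf (nat_lit 0x1030429576) (nat_lit 2564))
 (.leaf (nat_lit 0x1030429966) (nat_lit 1282))
)) (.node (nat_lit 0x1030429d56) (.node (nat_lit 0x1030429d46) (.leaf (nat_lit 0x1030429976) (nat_lit 3332))
 (.leaf (nat_lit 0x1030429d46) (nat_lit 2820))
) (.node (nat_lit 0x1030439106) (.leaf (nat_lit 0x1030429d56) (nat_lit 2308))
 (.node (nat_lit 0x1030439116) (.leaf (nat_lit 0x1030439106) (nat_lit 1537))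
 (.leaf (nat_lit 0x1030439116) (nat_lit 3587))
))))) (.node (nat_lit 0x1030448536) (.node (nat_lit 0x1030439d06) (.node (nat_lit 0x1030439926) (.node (nat_lit 0x1030439536) (.leaf (nat_lit 0x1030439526) (nat_lit 3076))
 (.leaf (nat_lit 0x1030439536) (nat_lit 2562))
) (.node (nat_lit 0x1030439936) (.leaf (nat_lit 0x1030439926) (nat_lit 2817))
 (.leaf (nat_lit 0x1030439936) (nat_lit 2308))
)) (.node (nat_lit 0x1030448106) (.node (nat_lit 0x1030439d16) (.leaf (nat_lit 0x1030439d06) (nat_lit 1284))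
 (.leaf (nat_lit 0x1030439d16) (nat_lit 3330))
) (.node (nat_lit 0x1030448116) (.leaf (nat_lit 0x1030448106) (nat_lit 514))
 (.node (nat_lit 0x1030448526) (.leaf (nat_lit 0x1030448116) (nat_lit 3331))
 (.leaf (nat_lit 0x1030448526) (nat_lit 3588))
)))) (.node (nat_lit 0x1030448d16) (.node (nat_lit 0x1030448936) (.node (nat_lit 0x1030448926) (.leaf (nat_lit 0x1030448536) (nat_lit 2564))
 (.leaf (nat_lit 0x1030448926) (nat_lit 2306))
) (.node (nat_lit 0x1030448d06) (.leaf (nat_lit 0x1030448936) (nat_lit 3332))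
 (.leaf (nat_lit 0x1030448d06) (nat_lit 2308))
)) (.node (nat_lit 0x1030458156) (.node (nat_lit 0x1030458146) (.leaf (nat_lit 0x1030448d16) (nat_lit 3332))
 (.leaf (nat_lit 0x1030458146) (nat_lit 2049))
) (.node (nat_lit 0x1030458566) (.leaf (nat_lit 0x1030458156) (nat_lit 2051))
 (.node (nat_lit 0x1030458576) (.leaf (nat_lit 0x1030458566) (nat_lit 2052))
 (.leaf (nat_lit 0x1030458576) (nat_lit 3076))
)))))) (.node (nat_lit 0x1030479d06) (.node (nat_lit 0x1030469976) (.node (nat_lit 0x1030469146) (.node (nat_lit 0x1030458d46) (.node (nat_lit 0x1030458976) (.leaf (nat_lit 0x1030458966) (nat_lit 2305))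
 (.leaf (nat_lit 0x1030458976) (nat_lit 2820))
) (.node (nat_lit 0x1030458d56) (.leaf (nat_lit 0x1030458d46) (nat_lit 2308))
 (.leaf (nat_lit 0x1030458d56) (nat_lit 2818))
)) (.node (nat_lit 0x1030469566) (.node (nat_lit 0x1030469156) (.leaf (nat_lit 0x1030469146) (nat_lit 1794))
 (.leaf (nat_lit 0x1030469156) (nat_lit 3331))
) (.node (nat_lit 0x1030469576) (.leaf (nat_lit 0x1030469566) (nat_lit 3332))
 (.node (nat_lit 0x1030469966) (.leaf (nat_lit 0x1030469576) (nat_lit 2820))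
 (.leaf (nat_lit 0x1030469966) (nat_lit 1026))
)))) (.node (nat_lit 0x1030479116) (.node (nat_lit 0x1030469d56) (.node (nat_lit 0x1030469d46) (.leaf (nat_lit 0x1030469976) (nat_lit 3076))
 (.leaf (nat_lit 0x1030469d46) (nat_lit 2564))
) (.node (nat_lit 0x1030479106) (.leaf (nat_lit 0x1030469d56) (nat_lit 2564))
 (.leaf (nat_lit 0x1030479106) (nat_lit 1793))
)) (.node (nat_lit 0x1030479536) (.node (nat_lit 0x1030479526) (.leaf (nat_lit 0x1030479116) (nat_lit 3331))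
 (.leaf (nat_lit 0x1030479526) (nat_lit 3332))
) (.node (nat_lit 0x1030479926) (.leaf (nat_lit 0x1030479536) (nat_lit 2818))
 (.node (nat_lit 0x1030479936) (.leaf (nat_lit 0x1030479926) (nat_lit 2561))
 (.leaf (nat_lit 0x1030479936) (nat_lit 2564))
))))) (.node (nat_lit 0x1030808ca6) (.node (nat_lit 0x1030808496) (.node (nat_lit 0x1030808086) (.node (nat_lit 0x1030479d16) (.leaf (nat_lit 0x1030479d06) (nat_lit 1028))
 (.leaf (nat_lit 0x1030479d16) (nat_lit 3074))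
) (.node (nat_lit 0x10308080a6) (.leaf (nat_lit 0x1030808086) (nat_lit 515))
 (.leaf (nat_lit 0x10308080a6) (nat_lit 2819))
)) (.node (nat_lit 0x1030808896) (.node (nat_lit 0x10308084b6) (.leaf (nat_lit 0x1030808496) (nat_lit 3330))
 (.leaf (nat_lit 0x10308084b6) (nat_lit 3588))
) (.node (nat_lit 0x10308088b6) (.leaf (nat_lit 0x1030808896) (nat_lit 3844))
 (.node (nat_lit 0x1030808c86) (.leaf (nat_lit 0x10308088b6) (nat_lit 3076))
 (.leaf (nat_lit 0x1030808c86) (nat_lit 2820))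
)))) (.node (nat_lit 0x10308194f6) (.node (nat_lit 0x10308190e6) (.node (nat_lit 0x10308190c6) (.leaf (nat_lit 0x1030808ca6) (nat_lit 3588))
 (.leaf (nat_lit 0x10308190c6) (nat_lit 2049))
) (.node (nat_lit 0x10308194d6) (.leaf (nat_lit 0x10308190e6) (nat_lit 2817))
 (.leaf (nat_lit 0x10308194d6) (nat_lit 2050))
)) (.node (nat_lit 0x10308198f6) (.node (nat_lit 0x10308198d6) (.leaf (nat_lit 0x10308194f6) (nat_lit 3332))
 (.leaf (nat_lit 0x10308198d6) (nat_lit 3331))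
) (.node (nat_lit 0x1030819cc6) (.leaf (nat_lit 0x10308198f6) (nat_lit 2820))
 (.node (nat_lit 0x1030819ce6) (.leaf (nat_lit 0x1030819cc6) (nat_lit 2820))
 (.leaf (nat_lit 0x1030819ce6) (nat_lit 2052))
)))))))) (.node (nat_lit 0x12108392cc) (.node (nat_lit 0x10308688d6) (.node (nat_lit 0x1030848496) (.node (nat_lit 0x10308390a6) (.node (nat_lit 0x10308288d6) (.node (nat_lit 0x10308284d6) (.node (nat_lit 0x10308280e6) (.leaf (nat_lit 0x10308280c6) (nat_lit 1795))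
 (.leaf (nat_lit 0x10308280e6) (nat_lit 1539))
) (.node (nat_lit 0x10308284f6) (.leaf (nat_lit 0x10308284d6) (nat_lit 3330))
 (.leaf (nat_lit 0x10308284f6) (nat_lit 3332))
)) (.node (nat_lit 0x1030828cc6) (.node (nat_lit 0x10308288f6) (.leaf (nat_lit 0x10308288d6) (nat_lit 2564))
 (.leaf (nat_lit 0x10308288f6) (nat_lit 2820))
) (.node (nat_lit 0x1030828ce6) (.leaf (nat_lit 0x1030828cc6) (nat_lit 3076))
 (.node (nat_lit 0x1030839086) (.leaf (nat_lit 0x1030828ce6) (nat_lit 3332))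
 (.leaf (nat_lit 0x1030839086) (nat_lit 1793))
)))) (.node (nat_lit 0x10308398b6) (.node (nat_lit 0x10308394b6) (.node (nat_lit 0x1030839496) (.leaf (nat_lit 0x10308390a6) (nat_lit 3073))
 (.leaf (nat_lit 0x1030839496) (nat_lit 3330))
) (.node (nat_lit 0x1030839896) (.leaf (nat_lit 0x10308394b6) (nat_lit 2306))
 (.leaf (nat_lit 0x1030839896) (nat_lit 3588))
)) (.node (nat_lit 0x1030839ca6) (.node (nat_lit 0x1030839c86) (.leaf (nat_lit 0x10308398b6) (nat_lit 2819))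
 (.leaf (nat_lit 0x1030839c86) (nat_lit 1540))
) (.node (nat_lit 0x1030848086) (.leaf (nat_lit 0x1030839ca6) (nat_lit 3332))
 (.node (nat_lit 0x10308480a6) (.leaf (nat_lit 0x1030848086) (nat_lit 771))
 (.leaf (nat_lit 0x10308480a6) (nat_lit 2563))
))))) (.node (nat_lit 0x10308594f6) (.node (nat_lit 0x1030848c86) (.node (nat_lit 0x1030848896) (.node (nat_lit 0x10308484b6) (.leaf (nat_lit 0x1030848496) (nat_lit 3074))
 (.leaf (nat_lit 0x10308484b6) (nat_lit 3332))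
) (.node (nat_lit 0x10308488b6) (.leaf (nat_lit 0x1030848896) (nat_lit 3588))
 (.leaf (nat_lit 0x10308488b6) (nat_lit 2820))
)) (.node (nat_lit 0x10308590c6) (.node (nat_lit 0x1030848ca6) (.leaf (nat_lit 0x1030848c86) (nat_lit 2564))
 (.leaf (nat_lit 0x1030848ca6) (nat_lit 3586))
) (.node (nat_lit 0x10308590e6) (.leaf (nat_lit 0x10308590c6) (nat_lit 2305))
 (.node (nat_lit 0x10308594d6) (.leaf (nat_lit 0x10308590e6) (nat_lit 2561))
 (.leaf (nat_lit 0x10308594d6) (nat_lit 1794))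
)))) (.node (nat_lit 0x1030859ce6) (.node (nat_lit 0x10308598f6) (.node (nat_lit 0x10308598d6) (.leaf (nat_lit 0x10308594f6) (nat_lit 3076))
 (.leaf (nat_lit 0x10308598d6) (nat_lit 3075))
) (.node (nat_lit 0x1030859cc6) (.leaf (nat_lit 0x10308598f6) (nat_lit 3076))
 (.leaf (nat_lit 0x1030859cc6) (nat_lit 2564))
)) (.node (nat_lit 0x10308680e6) (.node (nat_lit 0x10308680c6) (.leaf (nat_lit 0x1030859ce6) (nat_lit 2308))
 (.leaf (nat_lit 0x10308680c6) (nat_lit 2051))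
) (.node (nat_lit 0x10308684d6) (.leaf (nat_lit 0x10308680e6) (nat_lit 1283))
 (.node (nat_lit 0x10308684f6) (.leaf (nat_lit 0x10308684d6) (nat_lit 3074))
 (.leaf (nat_lit 0x10308684f6) (nat_lit 3076))
)))))) (.node (nat_lit 0x1210808c94) (.node (nat_lit 0x10308798b6) (.node (nat_lit 0x1030879086) (.node (nat_lit 0x1030868cc6) (.node (nat_lit 0x10308688f6) (.leaf (nat_lit 0x10308688d6) (nat_lit 2820))
 (.leaf (nat_lit 0x10308688f6) (nat_lit 3076))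
) (.node (nat_lit 0x1030868ce6) (.leaf (nat_lit 0x1030868cc6) (nat_lit 2820))
 (.leaf (nat_lit 0x1030868ce6) (nat_lit 3330))
)) (.node (nat_lit 0x1030879496) (.node (nat_lit 0x10308790a6) (.leaf (nat_lit 0x1030879086) (nat_lit 2049))
 (.leaf (nat_lit 0x10308790a6) (nat_lit 2817))
) (.node (nat_lit 0x10308794b6) (.leaf (nat_lit 0x1030879496) (nat_lit 3074))
 (.node (nat_lit 0x1030879896) (.leaf (nat_lit 0x10308794b6) (nat_lit 2562))
 (.leaf (nat_lit 0x1030879896) (nat_lit 3332))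
)))) (.node (nat_lit 0x12108080a4) (.node (nat_lit 0x1030879ca6) (.node (nat_lit 0x1030879c86) (.leaf (nat_lit 0x10308798b6) (nat_lit 3075))
 (.leaf (nat_lit 0x1030879c86) (nat_lit 1284))
) (.node (nat_lit 0x1210808084) (.leaf (nat_lit 0x1030879ca6) (nat_lit 3588))
 (.leaf (nat_lit 0x1210808084) (nat_lit 1026))
)) (.node (nat_lit 0x12108084a4) (.node (nat_lit 0x1210808484) (.leaf (nat_lit 0x12108080a4) (nat_lit 2819))
 (.leaf (nat_lit 0x1210808484) (nat_lit 2820))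
) (.node (nat_lit 0x1210808894) (.leaf (nat_lit 0x12108084a4) (nat_lit 3588))
 (.node (nat_lit 0x12108088b4) (.leaf (nat_lit 0x1210808894) (nat_lit 3588))
 (.leaf (nat_lit 0x12108088b4) (nat_lit 3332))
))))) (.node (nat_lit 0x1210819eb4) (.node (nat_lit 0x1210819684) (.node (nat_lit 0x1210819284) (.node (nat_lit 0x1210808cb4) (.leaf (nat_lit 0x1210808c94) (nat_lit 3328))
 (.leaf (nat_lit 0x1210808cb4) (nat_lit 2818))
) (.node (nat_lit 0x12108192a4) (.leaf (nat_lit 0x1210819284) (nat_lit 1793))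
 (.leaf (nat_lit 0x12108192a4) (nat_lit 3331))
)) (.node (nat_lit 0x1210819a94) (.node (nat_lit 0x12108196a4) (.leaf (nat_lit 0x1210819684) (nat_lit 2052))
 (.leaf (nat_lit 0x12108196a4) (nat_lit 3076))
) (.node (nat_lit 0x1210819ab4) (.leaf (nat_lit 0x1210819a94) (nat_lit 2818))
 (.node (nat_lit 0x1210819e94) (.leaf (nat_lit 0x1210819ab4) (nat_lit 3072))
 (.leaf (nat_lit 0x1210819e94) (nat_lit 2562))
)))) (.node (nat_lit 0x12108284ec) (.node (nat_lit 0x12108280ec) (.node (nat_lit 0x12108280cc) (.leaf (nat_lit 0x1210819eb4) (nat_lit 2818))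
 (.leaf (nat_lit 0x12108280cc) (nat_lit 1795))
) (.node (nat_lit 0x12108284cc) (.leaf (nat_lit 0x12108280ec) (nat_lit 2051))
 (.leaf (nat_lit 0x12108284cc) (nat_lit 2820))
)) (.node (nat_lit 0x12108288fc) (.node (nat_lit 0x12108288dc) (.leaf (nat_lit 0x12108284ec) (nat_lit 3330))
 (.leaf (nat_lit 0x12108288dc) (nat_lit 2818))
) (.node (nat_lit 0x1210828cdc) (.leaf (nat_lit 0x12108288fc) (nat_lit 2564))
 (.node (nat_lit 0x1210828cfc) (.leaf (nat_lit 0x1210828cdc) (nat_lit 3072))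
 (.leaf (nat_lit 0x1210828cfc) (nat_lit 3074))
))))))) (.node (nat_lit 0x1210871adc) (.node (nat_lit 0x1210851684) (.node (nat_lit 0x12108400a4) (.node (nat_lit 0x1210839adc) (.node (nat_lit 0x12108396cc) (.node (nat_lit 0x12108392ec) (.leaf (nat_lit 0x12108392cc) (nat_lit 1794))
 (.leaf (nat_lit 0x12108392ec) (nat_lit 3331))
) (.node (nat_lit 0x12108396ec) (.leaf (nat_lit 0x12108396cc) (nat_lit 2820))
 (.leaf (nat_lit 0x12108396ec) (nat_lit 2308))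
)) (.node (nat_lit 0x1210839edc) (.node (nat_lit 0x1210839afc) (.leaf (nat_lit 0x1210839adc) (nat_lit 2564))
 (.leaf (nat_lit 0x1210839afc) (nat_lit 3331))
) (.node (nat_lit 0x1210839efc) (.leaf (nat_lit 0x1210839edc) (nat_lit 3330))
 (.node (nat_lit 0x1210840084) (.leaf (nat_lit 0x1210839efc) (nat_lit 2050))
 (.leaf (nat_lit 0x1210840084) (nat_lit 1282))
)))) (.node (nat_lit 0x12108408b4) (.node (nat_lit 0x12108404a4) (.node (nat_lit 0x1210840484) (.leaf (nat_lit 0x12108400a4) (nat_lit 2563))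
 (.leaf (nat_lit 0x1210840484) (nat_lit 2564))
) (.node (nat_lit 0x1210840894) (.leaf (nat_lit 0x12108404a4) (nat_lit 3330))
 (.leaf (nat_lit 0x1210840894) (nat_lit 3332))
)) (.node (nat_lit 0x1210840cb4) (.node (nat_lit 0x1210840c94) (.leaf (nat_lit 0x12108408b4) (nat_lit 3588))
 (.leaf (nat_lit 0x1210840c94) (nat_lit 3076))
) (.node (nat_lit 0x1210851284) (.leaf (nat_lit 0x1210840cb4) (nat_lit 2562))
 (.node (nat_lit 0x12108512a4) (.leaf (nat_lit 0x1210851284) (nat_lit 2049))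
 (.leaf (nat_lit 0x12108512a4) (nat_lit 3075))
))))) (.node (nat_lit 0x12108604ec) (.node (nat_lit 0x1210851e94) (.node (nat_lit 0x1210851a94) (.node (nat_lit 0x12108516a4) (.leaf (nat_lit 0x1210851684) (nat_lit 1796))
 (.leaf (nat_lit 0x12108516a4) (nat_lit 3074))
) (.node (nat_lit 0x1210851ab4) (.leaf (nat_lit 0x1210851a94) (nat_lit 3074))
 (.leaf (nat_lit 0x1210851ab4) (nat_lit 2820))
)) (.node (nat_lit 0x12108600cc) (.node (nat_lit 0x1210851eb4) (.leaf (nat_lit 0x1210851e94) (nat_lit 2818))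
 (.leaf (nat_lit 0x1210851eb4) (nat_lit 2562))
) (.node (nat_lit 0x12108600ec) (.leaf (nat_lit 0x12108600cc) (nat_lit 2051))
 (.node (nat_lit 0x12108604cc) (.leaf (nat_lit 0x12108600ec) (nat_lit 1795))
 (.leaf (nat_lit 0x12108604cc) (nat_lit 2564))
)))) (.node (nat_lit 0x1210860cfc) (.node (nat_lit 0x12108608fc) (.node (nat_lit 0x12108608dc) (.leaf (nat_lit 0x12108604ec) (nat_lit 3074))
 (.leaf (nat_lit 0x12108608dc) (nat_lit 3074))
) (.node (nat_lit 0x1210860cdc) (.leaf (nat_lit 0x12108608fc) (nat_lit 2820))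
 (.leaf (nat_lit 0x1210860cdc) (nat_lit 2820))
)) (.node (nat_lit 0x12108712ec) (.node (nat_lit 0x12108712cc) (.leaf (nat_lit 0x1210860cfc) (nat_lit 2818))
 (.leaf (nat_lit 0x12108712cc) (nat_lit 2050))
) (.node (nat_lit 0x12108716cc) (.leaf (nat_lit 0x12108712ec) (nat_lit 3075))
 (.node (nat_lit 0x12108716ec) (.leaf (nat_lit 0x12108716cc) (nat_lit 2564))
 (.leaf (nat_lit 0x12108716ec) (nat_lit 2564))
)))))) (.node (nat_lit 0x1210c19f94) (.node (nat_lit 0x1210c089a4) (.node (nat_lit 0x1210c08184) (.node (nat_lit 0x1210871edc) (.node (nat_lit 0x1210871afc) (.leaf (nat_lit 0x1210871adc) (nat_lit 2816))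
 (.leaf (nat_lit 0x1210871afc) (nat_lit 3075))
) (.node (nat_lit 0x1210871efc) (.leaf (nat_lit 0x1210871edc) (nat_lit 3076))
 (.leaf (nat_lit 0x1210871efc) (nat_lit 1794))
)) (.node (nat_lit 0x1210c08584) (.node (nat_lit 0x1210c081b4) (.leaf (nat_lit 0x1210c08184) (nat_lit 770))
 (.leaf (nat_lit 0x1210c081b4) (nat_lit 3075))
) (.node (nat_lit 0x1210c085b4) (.leaf (nat_lit 0x1210c08584) (nat_lit 2564))
 (.node (nat_lit 0x1210c08994) (.leaf (nat_lit 0x1210c085b4) (nat_lit 3332))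
 (.leaf (nat_lit 0x1210c08994) (nat_lit 3584))
)))) (.node (nat_lit 0x1210c193b4) (.node (nat_lit 0x1210c08da4) (.node (nat_lit 0x1210c08d94) (.leaf (nat_lit 0x1210c089a4) (nat_lit 2562))
 (.leaf (nat_lit 0x1210c08d94) (nat_lit 3332))
) (.node (nat_lit 0x1210c19384) (.leaf (nat_lit 0x1210c08da4) (nat_lit 3588))
 (.leaf (nat_lit 0x1210c19384) (nat_lit 1537))
)) (.node (nat_lit 0x1210c197b4) (.node (nat_lit 0x1210c19784) (.leaf (nat_lit 0x1210c193b4) (nat_lit 3075))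
 (.leaf (nat_lit 0x1210c19784) (nat_lit 1796))
) (.node (nat_lit 0x1210c19b94) (.leaf (nat_lit 0x1210c197b4) (nat_lit 3074))
 (.node (nat_lit 0x1210c19ba4) (.leaf (nat_lit 0x1210c19b94) (nat_lit 2818))
 (.leaf (nat_lit 0x1210c19ba4) (nat_lit 3074))
))))) (.node (nat_lit 0x1210c29fec) (.node (nat_lit 0x1210c297cc) (.node (nat_lit 0x1210c293cc) (.node (nat_lit 0x1210c19fa4) (.leaf (nat_lit 0x1210c19f94) (nat_lit 2562))
 (.leaf (nat_lit 0x1210c19fa4) (nat_lit 3076))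
) (.node (nat_lit 0x1210c293fc) (.leaf (nat_lit 0x1210c293cc) (nat_lit 1538))
 (.leaf (nat_lit 0x1210c293fc) (nat_lit 3331))
)) (.node (nat_lit 0x1210c29bdc) (.node (nat_lit 0x1210c297fc) (.leaf (nat_lit 0x1210c297cc) (nat_lit 2820))
 (.leaf (nat_lit 0x1210c297fc) (nat_lit 2564))
) (.node (nat_lit 0x1210c29bec) (.leaf (nat_lit 0x1210c29bdc) (nat_lit 3328))
 (.node (nat_lit 0x1210c29fdc) (.leaf (nat_lit 0x1210c29bec) (nat_lit 1794))
 (.leaf (nat_lit 0x1210c29fdc) (nat_lit 2564))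
)))) (.node (nat_lit 0x1210c385fc) (.node (nat_lit 0x1210c381fc) (.node (nat_lit 0x1210c381cc) (.leaf (nat_lit 0x1210c29fec) (nat_lit 3588))
 (.leaf (nat_lit 0x1210c381cc) (nat_lit 1793))
) (.node (nat_lit 0x1210c385cc) (.leaf (nat_lit 0x1210c381fc) (nat_lit 2307))
 (.leaf (nat_lit 0x1210c385cc) (nat_lit 2564))
)) (.node (nat_lit 0x1210c389ec) (.node (nat_lit 0x1210c389dc) (.leaf (nat_lit 0x1210c385fc) (nat_lit 3074))
 (.leaf (nat_lit 0x1210c389dc) (nat_lit 3072))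
) (.node (nat_lit 0x1210c38ddc) (.leaf (nat_lit 0x1210c389ec) (nat_lit 3074))
 (.node (nat_lit 0x1210c38dec) (.leaf (nat_lit 0x1210c38ddc) (nat_lit 2562))
 (.leaf (nat_lit 0x1210c38dec) (nat_lit 2308))
))))))))) (.node (nat_lit 0x1220c61382) (.node (nat_lit 0x122045014a) (.node (nat_lit 0x1220408902) (.node (nat_lit 0x1210c617cc) (.node (nat_lit 0x1210c513b4) (.node (nat_lit 0x1210c40994) (.node (nat_lit 0x1210c40584) (.node (nat_lit 0x1210c401b4) (.leaf (nat_lit 0x1210c40184) (nat_lit 1026))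
 (.leaf (nat_lit 0x1210c401b4) (nat_lit 2819))
) (.node (nat_lit 0x1210c405b4) (.leaf (nat_lit 0x1210c40584) (nat_lit 2308))
 (.leaf (nat_lit 0x1210c405b4) (nat_lit 3588))
)) (.node (nat_lit 0x1210c40d94) (.node (nat_lit 0x1210c409a4) (.leaf (nat_lit 0x1210c40994) (nat_lit 3332))
 (.leaf (nat_lit 0x1210c409a4) (nat_lit 2306))
) (.node (nat_lit 0x1210c40da4) (.leaf (nat_lit 0x1210c40d94) (nat_lit 3076))
 (.node (nat_lit 0x1210c51384) (.leaf (nat_lit 0x1210c40da4) (nat_lit 3588))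
 (.leaf (nat_lit 0x1210c51384) (nat_lit 1793))
)))) (.node (nat_lit 0x1210c51ba4) (.node (nat_lit 0x1210c517b4) (.node (nat_lit 0x1210c51784) (.leaf (nat_lit 0x1210c513b4) (nat_lit 2819))
 (.leaf (nat_lit 0x1210c51784) (nat_lit 1540))
) (.node (nat_lit 0x1210c51b94) (.leaf (nat_lit 0x1210c517b4) (nat_lit 2818))
 (.leaf (nat_lit 0x1210c51b94) (nat_lit 3074))
)) (.node (nat_lit 0x1210c51fa4) (.node (nat_lit 0x1210c51f94) (.leaf (nat_lit 0x1210c51ba4) (nat_lit 2818))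
 (.leaf (nat_lit 0x1210c51f94) (nat_lit 2818))
) (.node (nat_lit 0x1210c613cc) (.leaf (nat_lit 0x1210c51fa4) (nat_lit 3076))
 (.node (nat_lit 0x1210c613fc) (.leaf (nat_lit 0x1210c613cc) (nat_lit 1794))
 (.leaf (nat_lit 0x1210c613fc) (nat_lit 3075))
))))) (.node (nat_lit 0x1210c705fc) (.node (nat_lit 0x1210c61fdc) (.node (nat_lit 0x1210c61bdc) (.node (nat_lit 0x1210c617fc) (.leaf (nat_lit 0x1210c617cc) (nat_lit 2564))
 (.leaf (nat_lit 0x1210c617fc) (nat_lit 2820))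
) (.node (nat_lit 0x1210c61bec) (.leaf (nat_lit 0x1210c61bdc) (nat_lit 3076))
 (.leaf (nat_lit 0x1210c61bec) (nat_lit 1538))
)) (.node (nat_lit 0x1210c701cc) (.node (nat_lit 0x1210c61fec) (.leaf (nat_lit 0x1210c61fdc) (nat_lit 2816))
 (.leaf (nat_lit 0x1210c61fec) (nat_lit 3331))
) (.node (nat_lit 0x1210c701fc) (.leaf (nat_lit 0x1210c701cc) (nat_lit 2049))
 (.node (nat_lit 0x1210c705cc) (.leaf (nat_lit 0x1210c701fc) (nat_lit 2051))
 (.leaf (nat_lit 0x1210c705cc) (nat_lit 2308))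
)))) (.node (nat_lit 0x1210c70dec) (.node (nat_lit 0x1210c709ec) (.node (nat_lit 0x1210c709dc) (.leaf (nat_lit 0x1210c705fc) (nat_lit 2818))
 (.leaf (nat_lit 0x1210c709dc) (nat_lit 2820))
) (.node (nat_lit 0x1210c70ddc) (.leaf (nat_lit 0x1210c709ec) (nat_lit 2818))
 (.leaf (nat_lit 0x1210c70ddc) (nat_lit 2818))
)) (.node (nat_lit 0x1220408112) (.node (nat_lit 0x1220408102) (.leaf (nat_lit 0x1210c70dec) (nat_lit 2564))
 (.leaf (nat_lit 0x1220408102) (nat_lit 257))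
) (.node (nat_lit 0x1220408522) (.leaf (nat_lit 0x1220408112) (nat_lit 3075))
 (.node (nat_lit 0x1220408532) (.leaf (nat_lit 0x1220408522) (nat_lit 3332))
 (.leaf (nat_lit 0x1220408532) (nat_lit 3332))
)))))) (.node (nat_lit 0x1220429f22) (.node (nat_lit 0x122041895a) (.node (nat_lit 0x122041814a) (.node (nat_lit 0x1220408d22) (.node (nat_lit 0x1220408912) (.leaf (nat_lit 0x1220408902) (nat_lit 2052))
 (.leaf (nat_lit 0x1220408912) (nat_lit 3588))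
) (.node (nat_lit 0x1220408d32) (.leaf (nat_lit 0x1220408d22) (nat_lit 3588))
 (.leaf (nat_lit 0x1220408d32) (nat_lit 2562))
)) (.node (nat_lit 0x122041856a) (.node (nat_lit 0x122041815a) (.leaf (nat_lit 0x122041814a) (nat_lit 1793))
 (.leaf (nat_lit 0x122041815a) (nat_lit 2307))
) (.node (nat_lit 0x122041857a) (.leaf (nat_lit 0x122041856a) (nat_lit 2308))
 (.node (nat_lit 0x122041894a) (.leaf (nat_lit 0x122041857a) (nat_lit 2308))
 (.leaf (nat_lit 0x122041894a) (nat_lit 2564))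
)))) (.node (nat_lit 0x1220429312) (.node (nat_lit 0x1220418d7a) (.node (nat_lit 0x1220418d6a) (.leaf (nat_lit 0x122041895a) (nat_lit 3076))
 (.leaf (nat_lit 0x1220418d6a) (nat_lit 2560))
) (.node (nat_lit 0x1220429302) (.leaf (nat_lit 0x1220418d7a) (nat_lit 2562))
 (.leaf (nat_lit 0x1220429302) (nat_lit 1025))
)) (.node (nat_lit 0x1220429732) (.node (nat_lit 0x1220429722) (.leaf (nat_lit 0x1220429312) (nat_lit 3331))
 (.leaf (nat_lit 0x1220429722) (nat_lit 2562))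
) (.node (nat_lit 0x1220429b02) (.leaf (nat_lit 0x1220429732) (nat_lit 3076))
 (.node (nat_lit 0x1220429b12) (.leaf (nat_lit 0x1220429b02) (nat_lit 1284))
 (.leaf (nat_lit 0x1220429b12) (nat_lit 3330))
))))) (.node (nat_lit 0x1220439f7a) (.node (nat_lit 0x122043976a) (.node (nat_lit 0x122043934a) (.node (nat_lit 0x1220429f32) (.leaf (nat_lit 0x1220429f22) (nat_lit 2820))
 (.leaf (nat_lit 0x1220429f32) (nat_lit 2818))
) (.node (nat_lit 0x122043935a) (.leaf (nat_lit 0x122043934a) (nat_lit 1538))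
 (.leaf (nat_lit 0x122043935a) (nat_lit 3075))
)) (.node (nat_lit 0x1220439b4a) (.node (nat_lit 0x122043977a) (.leaf (nat_lit 0x122043976a) (nat_lit 2052))
 (.leaf (nat_lit 0x122043977a) (nat_lit 3076))
) (.node (nat_lit 0x1220439b5a) (.leaf (nat_lit 0x1220439b4a) (nat_lit 2820))
 (.node (nat_lit 0x1220439f6a) (.leaf (nat_lit 0x1220439b5a) (nat_lit 2308))
 (.leaf (nat_lit 0x1220439f6a) (nat_lit 2816))
)))) (.node (nat_lit 0x1220440532) (.node (nat_lit 0x1220440112) (.node (nat_lit 0x1220440102) (.leaf (nat_lit 0x1220439f7a) (nat_lit 1794))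
 (.leaf (nat_lit 0x1220440102) (nat_lit 512))
) (.node (nat_lit 0x1220440522) (.leaf (nat_lit 0x1220440112) (nat_lit 2819))
 (.leaf (nat_lit 0x1220440522) (nat_lit 3076))
)) (.node (nat_lit 0x1220440912) (.node (nat_lit 0x1220440902) (.leaf (nat_lit 0x1220440532) (nat_lit 3076))
 (.leaf (nat_lit 0x1220440902) (nat_lit 1796))
) (.node (nat_lit 0x1220440d22) (.leaf (nat_lit 0x1220440912) (nat_lit 3330))
 (.node (nat_lit 0x1220440d32) (.leaf (nat_lit 0x1220440d22) (nat_lit 3332))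
 (.leaf (nat_lit 0x1220440d32) (nat_lit 2306))
))))))) (.node (nat_lit 0x1220c19bca) (.node (nat_lit 0x122047176a) (.node (nat_lit 0x1220461312) (.node (nat_lit 0x122045094a) (.node (nat_lit 0x122045056a) (.node (nat_lit 0x122045015a) (.leaf (nat_lit 0x122045014a) (nat_lit 2049))
 (.leaf (nat_lit 0x122045015a) (nat_lit 2051))
) (.node (nat_lit 0x122045057a) (.leaf (nat_lit 0x122045056a) (nat_lit 2560))
 (.leaf (nat_lit 0x122045057a) (nat_lit 2564))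
)) (.node (nat_lit 0x1220450d6a) (.node (nat_lit 0x122045095a) (.leaf (nat_lit 0x122045094a) (nat_lit 2308))
 (.leaf (nat_lit 0x122045095a) (nat_lit 2818))
) (.node (nat_lit 0x1220450d7a) (.leaf (nat_lit 0x1220450d6a) (nat_lit 2308))
 (.node (nat_lit 0x1220461302) (.leaf (nat_lit 0x1220450d7a) (nat_lit 2306))
 (.leaf (nat_lit 0x1220461302) (nat_lit 1281))
)))) (.node (nat_lit 0x1220461b12) (.node (nat_lit 0x1220461732) (.node (nat_lit 0x1220461722) (.leaf (nat_lit 0x1220461312) (nat_lit 3075))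
 (.leaf (nat_lit 0x1220461722) (nat_lit 2818))
) (.node (nat_lit 0x1220461b02) (.leaf (nat_lit 0x1220461732) (nat_lit 2820))
 (.leaf (nat_lit 0x1220461b02) (nat_lit 1028))
)) (.node (nat_lit 0x1220461f32) (.node (nat_lit 0x1220461f22) (.leaf (nat_lit 0x1220461b12) (nat_lit 3074))
 (.leaf (nat_lit 0x1220461f22) (nat_lit 3076))
) (.node (nat_lit 0x122047134a) (.leaf (nat_lit 0x1220461f32) (nat_lit 2562))
 (.node (nat_lit 0x122047135a) (.leaf (nat_lit 0x122047134a) (nat_lit 1794))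
 (.leaf (nat_lit 0x122047135a) (nat_lit 2819))
))))) (.node (nat_lit 0x1220c085a2) (.node (nat_lit 0x1220471f6a) (.node (nat_lit 0x1220471b4a) (.node (nat_lit 0x122047177a) (.leaf (nat_lit 0x122047176a) (nat_lit 2304))
 (.leaf (nat_lit 0x122047177a) (nat_lit 3332))
) (.node (nat_lit 0x1220471b5a) (.leaf (nat_lit 0x1220471b4a) (nat_lit 2564))
 (.leaf (nat_lit 0x1220471b5a) (nat_lit 2564))
)) (.node (nat_lit 0x1220c08182) (.node (nat_lit 0x1220471f7a) (.leaf (nat_lit 0x1220471f6a) (nat_lit 2564))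
 (.leaf (nat_lit 0x1220471f7a) (nat_lit 1538))
) (.node (nat_lit 0x1220c081b2) (.leaf (nat_lit 0x1220c08182) (nat_lit 515))
 (.node (nat_lit 0x1220c08592) (.leaf (nat_lit 0x1220c081b2) (nat_lit 2819))
 (.leaf (nat_lit 0x1220c08592) (nat_lit 2818))
)))) (.node (nat_lit 0x1220c08da2) (.node (nat_lit 0x1220c089b2) (.node (nat_lit 0x1220c08982) (.leaf (nat_lit 0x1220c085a2) (nat_lit 3586))
 (.leaf (nat_lit 0x1220c08982) (nat_lit 2308))
) (.node (nat_lit 0x1220c08d92) (.leaf (nat_lit 0x1220c089b2) (nat_lit 3588))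
 (.leaf (nat_lit 0x1220c08d92) (nat_lit 3588))
)) (.node (nat_lit 0x1220c193fa) (.node (nat_lit 0x1220c193ca) (.leaf (nat_lit 0x1220c08da2) (nat_lit 3588))
 (.leaf (nat_lit 0x1220c193ca) (nat_lit 1794))
) (.node (nat_lit 0x1220c197da) (.leaf (nat_lit 0x1220c193fa) (nat_lit 2819))
 (.node (nat_lit 0x1220c197ea) (.leaf (nat_lit 0x1220c197da) (nat_lit 2050))
 (.leaf (nat_lit 0x1220c197ea) (nat_lit 2816))
)))))) (.node (nat_lit 0x1220c38dda) (.node (nat_lit 0x1220c29bb2) (.node (nat_lit 0x1220c29382) (.node (nat_lit 0x1220c19fda) (.node (nat_lit 0x1220c19bfa) (.leaf (nat_lit 0x1220c19bca) (nat_lit 2820))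
 (.leaf (nat_lit 0x1220c19bfa) (nat_lit 2564))
) (.node (nat_lit 0x1220c19fea) (.leaf (nat_lit 0x1220c19fda) (nat_lit 3332))
 (.leaf (nat_lit 0x1220c19fea) (nat_lit 2308))
)) (.node (nat_lit 0x1220c29792) (.node (nat_lit 0x1220c293b2) (.leaf (nat_lit 0x1220c29382) (nat_lit 1281))
 (.leaf (nat_lit 0x1220c293b2) (nat_lit 3075))
) (.node (nat_lit 0x1220c297a2) (.leaf (nat_lit 0x1220c29792) (nat_lit 3074))
 (.node (nat_lit 0x1220c29b82) (.leaf (nat_lit 0x1220c297a2) (nat_lit 2818))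
 (.leaf (nat_lit 0x1220c29b82) (nat_lit 1540))
)))) (.node (nat_lit 0x1220c381fa) (.node (nat_lit 0x1220c29fa2) (.node (nat_lit 0x1220c29f92) (.leaf (nat_lit 0x1220c29bb2) (nat_lit 3332))
 (.leaf (nat_lit 0x1220c29f92) (nat_lit 3332))
) (.node (nat_lit 0x1220c381ca) (.leaf (nat_lit 0x1220c29fa2) (nat_lit 2819))
 (.leaf (nat_lit 0x1220c381ca) (nat_lit 1795))
)) (.node (nat_lit 0x1220c385ea) (.node (nat_lit 0x1220c385da) (.leaf (nat_lit 0x1220c381fa) (nat_lit 2051))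
 (.leaf (nat_lit 0x1220c385da) (nat_lit 2818))
) (.node (nat_lit 0x1220c389ca) (.leaf (nat_lit 0x1220c385ea) (nat_lit 2816))
 (.node (nat_lit 0x1220c389fa) (.leaf (nat_lit 0x1220c389ca) (nat_lit 2820))
 (.leaf (nat_lit 0x1220c389fa) (nat_lit 3332))
))))) (.node (nat_lit 0x1220c40da2) (.node (nat_lit 0x1220c40592) (.node (nat_lit 0x1220c40182) (.node (nat_lit 0x1220c38dea) (.leaf (nat_lit 0x1220c38dda) (nat_lit 2564))
 (.leaf (nat_lit 0x1220c38dea) (nat_lit 2308))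
) (.node (nat_lit 0x1220c401b2) (.leaf (nat_lit 0x1220c40182) (nat_lit 771))
 (.leaf (nat_lit 0x1220c401b2) (nat_lit 2563))
)) (.node (nat_lit 0x1220c40982) (.node (nat_lit 0x1220c405a2) (.leaf (nat_lit 0x1220c40592) (nat_lit 2562))
 (.leaf (nat_lit 0x1220c405a2) (nat_lit 3332))
) (.node (nat_lit 0x1220c409b2) (.leaf (nat_lit 0x1220c40982) (nat_lit 2052))
 (.node (nat_lit 0x1220c40d92) (.leaf (nat_lit 0x1220c409b2) (nat_lit 3332))
 (.leaf (nat_lit 0x1220c40d92) (nat_lit 3332))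
)))) (.node (nat_lit 0x1220c517ea) (.node (nat_lit 0x1220c513fa) (.node (nat_lit 0x1220c513ca) (.leaf (nat_lit 0x1220c40da2) (nat_lit 3332))
 (.leaf (nat_lit 0x1220c513ca) (nat_lit 2050))
) (.node (nat_lit 0x1220c517da) (.leaf (nat_lit 0x1220c513fa) (nat_lit 2563))
 (.leaf (nat_lit 0x1220c517da) (nat_lit 1794))
)) (.node (nat_lit 0x1220c51bfa) (.node (nat_lit 0x1220c51bca) (.leaf (nat_lit 0x1220c517ea) (nat_lit 2564))
 (.leaf (nat_lit 0x1220c51bca) (nat_lit 2564))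
) (.node (nat_lit 0x1220c51fda) (.leaf (nat_lit 0x1220c51bfa) (nat_lit 2820))
 (.node (nat_lit 0x1220c51fea) (.leaf (nat_lit 0x1220c51fda) (nat_lit 3075))
 (.leaf (nat_lit 0x1220c51fea) (nat_lit 2560))
)))))))) (.node (nat_lit 0x1230471306) (.node (nat_lit 0x1230429b6e) (.node (nat_lit 0x1230408526) (.node (nat_lit 0x1220c701fa) (.node (nat_lit 0x1220c61b82) (.node (nat_lit 0x1220c61792) (.node (nat_lit 0x1220c613b2) (.leaf (nat_lit 0x1220c61382) (nat_lit 1537))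
 (.leaf (nat_lit 0x1220c613b2) (nat_lit 2819))
) (.node (nat_lit 0x1220c617a2) (.leaf (nat_lit 0x1220c61792) (nat_lit 2818))
 (.leaf (nat_lit 0x1220c617a2) (nat_lit 3074))
)) (.node (nat_lit 0x1220c61f92) (.node (nat_lit 0x1220c61bb2) (.leaf (nat_lit 0x1220c61b82) (nat_lit 1284))
 (.leaf (nat_lit 0x1220c61bb2) (nat_lit 3076))
) (.node (nat_lit 0x1220c61fa2) (.leaf (nat_lit 0x1220c61f92) (nat_lit 3076))
 (.node (nat_lit 0x1220c701ca) (.leaf (nat_lit 0x1220c61fa2) (nat_lit 3075))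
 (.leaf (nat_lit 0x1220c701ca) (nat_lit 2051))
)))) (.node (nat_lit 0x1220c709fa) (.node (nat_lit 0x1220c705ea) (.node (nat_lit 0x1220c705da) (.leaf (nat_lit 0x1220c701fa) (nat_lit 1795))
 (.leaf (nat_lit 0x1220c705da) (nat_lit 2562))
) (.node (nat_lit 0x1220c709ca) (.leaf (nat_lit 0x1220c705ea) (nat_lit 2564))
 (.leaf (nat_lit 0x1220c709ca) (nat_lit 2564))
)) (.node (nat_lit 0x1220c70dea) (.node (nat_lit 0x1220c70dda) (.leaf (nat_lit 0x1220c709fa) (nat_lit 3074))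
 (.leaf (nat_lit 0x1220c70dda) (nat_lit 2820))
) (.node (nat_lit 0x1230408106) (.leaf (nat_lit 0x1220c70dea) (nat_lit 2560))
 (.node (nat_lit 0x1230408116) (.leaf (nat_lit 0x1230408106) (nat_lit 514))
 (.leaf (nat_lit 0x1230408116) (nat_lit 3331))
))))) (.node (nat_lit 0x123041857e) (.node (nat_lit 0x1230408d06) (.node (nat_lit 0x1230408926) (.node (nat_lit 0x1230408536) (.leaf (nat_lit 0x1230408526) (nat_lit 3588))
 (.leaf (nat_lit 0x1230408536) (nat_lit 3076))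
) (.node (nat_lit 0x1230408936) (.leaf (nat_lit 0x1230408926) (nat_lit 2306))
 (.leaf (nat_lit 0x1230408936) (nat_lit 3332))
)) (.node (nat_lit 0x123041814e) (.node (nat_lit 0x1230408d16) (.leaf (nat_lit 0x1230408d06) (nat_lit 2308))
 (.leaf (nat_lit 0x1230408d16) (nat_lit 3332))
) (.node (nat_lit 0x123041815e) (.leaf (nat_lit 0x123041814e) (nat_lit 1537))
 (.node (nat_lit 0x123041856e) (.leaf (nat_lit 0x123041815e) (nat_lit 2563))
 (.leaf (nat_lit 0x123041856e) (nat_lit 2052))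
)))) (.node (nat_lit 0x1230418d5e) (.node (nat_lit 0x123041897e) (.node (nat_lit 0x123041896e) (.leaf (nat_lit 0x123041857e) (nat_lit 2564))
 (.leaf (nat_lit 0x123041896e) (nat_lit 2818))
) (.node (nat_lit 0x1230418d4e) (.leaf (nat_lit 0x123041897e) (nat_lit 2816))
 (.leaf (nat_lit 0x1230418d4e) (nat_lit 2308))
)) (.node (nat_lit 0x123042935e) (.node (nat_lit 0x123042934e) (.leaf (nat_lit 0x1230418d5e) (nat_lit 2818))
 (.leaf (nat_lit 0x123042934e) (nat_lit 1282))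
) (.node (nat_lit 0x123042976e) (.leaf (nat_lit 0x123042935e) (nat_lit 3331))
 (.node (nat_lit 0x123042977e) (.leaf (nat_lit 0x123042976e) (nat_lit 3332))
 (.leaf (nat_lit 0x123042977e) (nat_lit 2308))
)))))) (.node (nat_lit 0x1230440d06) (.node (nat_lit 0x1230439b36) (.node (nat_lit 0x1230439306) (.node (nat_lit 0x1230429f4e) (.node (nat_lit 0x1230429b7e) (.leaf (nat_lit 0x1230429b6e) (nat_lit 1538))
 (.leaf (nat_lit 0x1230429b7e) (nat_lit 3072))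
) (.node (nat_lit 0x1230429f5e) (.leaf (nat_lit 0x1230429f4e) (nat_lit 2564))
 (.leaf (nat_lit 0x1230429f5e) (nat_lit 2564))
)) (.node (nat_lit 0x1230439726) (.node (nat_lit 0x1230439316) (.leaf (nat_lit 0x1230439306) (nat_lit 1281))
 (.leaf (nat_lit 0x1230439316) (nat_lit 3331))
) (.node (nat_lit 0x1230439736) (.leaf (nat_lit 0x1230439726) (nat_lit 2820))
 (.node (nat_lit 0x1230439b26) (.leaf (nat_lit 0x1230439736) (nat_lit 2306))
 (.leaf (nat_lit 0x1230439b26) (nat_lit 3074))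
)))) (.node (nat_lit 0x1230440116) (.node (nat_lit 0x1230439f16) (.node (nat_lit 0x1230439f06) (.leaf (nat_lit 0x1230439b36) (nat_lit 2564))
 (.leaf (nat_lit 0x1230439f06) (nat_lit 1540))
) (.node (nat_lit 0x1230440106) (.leaf (nat_lit 0x1230439f16) (nat_lit 3074))
 (.leaf (nat_lit 0x1230440106) (nat_lit 770))
)) (.node (nat_lit 0x1230440536) (.node (nat_lit 0x1230440526) (.leaf (nat_lit 0x1230440116) (nat_lit 3075))
 (.leaf (nat_lit 0x1230440526) (nat_lit 3332))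
) (.node (nat_lit 0x1230440926) (.leaf (nat_lit 0x1230440536) (nat_lit 2820))
 (.node (nat_lit 0x1230440936) (.leaf (nat_lit 0x1230440926) (nat_lit 2050))
 (.leaf (nat_lit 0x1230440936) (nat_lit 3076))
))))) (.node (nat_lit 0x1230450d5e) (.node (nat_lit 0x123045056e) (.node (nat_lit 0x123045014e) (.node (nat_lit 0x1230440d16) (.leaf (nat_lit 0x1230440d06) (nat_lit 2052))
 (.leaf (nat_lit 0x1230440d16) (nat_lit 3588))
) (.node (nat_lit 0x123045015e) (.leaf (nat_lit 0x123045014e) (nat_lit 1793))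
 (.leaf (nat_lit 0x123045015e) (nat_lit 2307))
)) (.node (nat_lit 0x123045096e) (.node (nat_lit 0x123045057e) (.leaf (nat_lit 0x123045056e) (nat_lit 2308))
 (.leaf (nat_lit 0x123045057e) (nat_lit 2816))
) (.node (nat_lit 0x123045097e) (.leaf (nat_lit 0x123045096e) (nat_lit 2562))
 (.node (nat_lit 0x1230450d4e) (.leaf (nat_lit 0x123045097e) (nat_lit 2564))
 (.leaf (nat_lit 0x1230450d4e) (nat_lit 2052))
)))) (.node (nat_lit 0x123046177e) (.node (nat_lit 0x123046135e) (.node (nat_lit 0x123046134e) (.leaf (nat_lit 0x1230450d5e) (nat_lit 2562))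
 (.leaf (nat_lit 0x123046134e) (nat_lit 1538))
) (.node (nat_lit 0x123046176e) (.leaf (nat_lit 0x123046135e) (nat_lit 3075))
 (.leaf (nat_lit 0x123046176e) (nat_lit 3076))
)) (.node (nat_lit 0x1230461b7e) (.node (nat_lit 0x1230461b6e) (.leaf (nat_lit 0x123046177e) (nat_lit 2560))
 (.leaf (nat_lit 0x1230461b6e) (nat_lit 1282))
) (.node (nat_lit 0x1230461f4e) (.leaf (nat_lit 0x1230461b7e) (nat_lit 2820))
 (.node (nat_lit 0x1230461f5e) (.leaf (nat_lit 0x1230461f4e) (nat_lit 2308))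
 (.leaf (nat_lit 0x1230461f5e) (nat_lit 2820))
))))))) (.node (nat_lit 0x1230839a96) (.node (nat_lit 0x12308196de) (.node (nat_lit 0x12308080a6) (.node (nat_lit 0x1230471b26) (.node (nat_lit 0x1230471726) (.node (nat_lit 0x1230471316) (.leaf (nat_lit 0x1230471306) (nat_lit 1537))
 (.leaf (nat_lit 0x1230471316) (nat_lit 3075))
) (.node (nat_lit 0x1230471736) (.leaf (nat_lit 0x1230471726) (nat_lit 3076))
 (.leaf (nat_lit 0x1230471736) (nat_lit 2562))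
)) (.node (nat_lit 0x1230471f06) (.node (nat_lit 0x1230471b36) (.leaf (nat_lit 0x1230471b26) (nat_lit 2818))
 (.leaf (nat_lit 0x1230471b36) (nat_lit 2820))
) (.node (nat_lit 0x1230471f16) (.leaf (nat_lit 0x1230471f06) (nat_lit 1284))
 (.node (nat_lit 0x1230808086) (.leaf (nat_lit 0x1230471f16) (nat_lit 2818))
 (.leaf (nat_lit 0x1230808086) (nat_lit 771))
)))) (.node (nat_lit 0x12308088b6) (.node (nat_lit 0x12308084b6) (.node (nat_lit 0x1230808496) (.leaf (nat_lit 0x12308080a6) (nat_lit 2563))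
 (.leaf (nat_lit 0x1230808496) (nat_lit 3074))
) (.node (nat_lit 0x1230808896) (.leaf (nat_lit 0x12308084b6) (nat_lit 3328))
 (.leaf (nat_lit 0x1230808896) (nat_lit 3588))
)) (.node (nat_lit 0x1230808ca6) (.node (nat_lit 0x1230808c86) (.leaf (nat_lit 0x12308088b6) (nat_lit 3332))
 (.leaf (nat_lit 0x1230808c86) (nat_lit 2564))
) (.node (nat_lit 0x12308192ce) (.leaf (nat_lit 0x1230808ca6) (nat_lit 3586))
 (.node (nat_lit 0x12308192ee) (.leaf (nat_lit 0x12308192ce) (nat_lit 1793))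
 (.leaf (nat_lit 0x12308192ee) (nat_lit 3075))
))))) (.node (nat_lit 0x12308284fe) (.node (nat_lit 0x1230819ece) (.node (nat_lit 0x1230819ade) (.node (nat_lit 0x12308196fe) (.leaf (nat_lit 0x12308196de) (nat_lit 2306))
 (.leaf (nat_lit 0x12308196fe) (nat_lit 3072))
) (.node (nat_lit 0x1230819afe) (.leaf (nat_lit 0x1230819ade) (nat_lit 3075))
 (.leaf (nat_lit 0x1230819afe) (nat_lit 2564))
)) (.node (nat_lit 0x12308280ce) (.node (nat_lit 0x1230819eee) (.leaf (nat_lit 0x1230819ece) (nat_lit 2564))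
 (.leaf (nat_lit 0x1230819eee) (nat_lit 2308))
) (.node (nat_lit 0x12308280ee) (.leaf (nat_lit 0x12308280ce) (nat_lit 1539))
 (.node (nat_lit 0x12308284de) (.leaf (nat_lit 0x12308280ee) (nat_lit 1795))
 (.leaf (nat_lit 0x12308284de) (nat_lit 3074))
)))) (.node (nat_lit 0x1230828cee) (.node (nat_lit 0x12308288fe) (.node (nat_lit 0x12308288de) (.leaf (nat_lit 0x12308284fe) (nat_lit 3072))
 (.leaf (nat_lit 0x12308288de) (nat_lit 2820))
) (.node (nat_lit 0x1230828cce) (.leaf (nat_lit 0x12308288fe) (nat_lit 2564))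
 (.leaf (nat_lit 0x1230828cce) (nat_lit 2820))
)) (.node (nat_lit 0x12308392a6) (.node (nat_lit 0x1230839286) (.leaf (nat_lit 0x1230828cee) (nat_lit 3330))
 (.leaf (nat_lit 0x1230839286) (nat_lit 1537))
) (.node (nat_lit 0x1230839696) (.leaf (nat_lit 0x12308392a6) (nat_lit 3331))
 (.node (nat_lit 0x12308396b6) (.leaf (nat_lit 0x1230839696) (nat_lit 3074))
 (.leaf (nat_lit 0x12308396b6) (nat_lit 2562))
)))))) (.node (nat_lit 0x1230851ece) (.node (nat_lit 0x12308408b6) (.node (nat_lit 0x1230840086) (.node (nat_lit 0x1230839e86) (.node (nat_lit 0x1230839ab6) (.leaf (nat_lit 0x1230839a96) (nat_lit 3328))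
 (.leaf (nat_lit 0x1230839ab6) (nat_lit 2563))
) (.node (nat_lit 0x1230839ea6) (.leaf (nat_lit 0x1230839e86) (nat_lit 1796))
 (.leaf (nat_lit 0x1230839ea6) (nat_lit 3076))
)) (.node (nat_lit 0x1230840496) (.node (nat_lit 0x12308400a6) (.leaf (nat_lit 0x1230840086) (nat_lit 1027))
 (.leaf (nat_lit 0x12308400a6) (nat_lit 2307))
) (.node (nat_lit 0x12308404b6) (.leaf (nat_lit 0x1230840496) (nat_lit 2818))
 (.node (nat_lit 0x1230840896) (.leaf (nat_lit 0x12308404b6) (nat_lit 3076))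
 (.leaf (nat_lit 0x1230840896) (nat_lit 3588))
)))) (.node (nat_lit 0x12308512ee) (.node (nat_lit 0x1230840ca6) (.node (nat_lit 0x1230840c86) (.leaf (nat_lit 0x12308408b6) (nat_lit 3076))
 (.leaf (nat_lit 0x1230840c86) (nat_lit 2308))
) (.node (nat_lit 0x12308512ce) (.leaf (nat_lit 0x1230840ca6) (nat_lit 3330))
 (.leaf (nat_lit 0x12308512ce) (nat_lit 2049))
)) (.node (nat_lit 0x12308516fe) (.node (nat_lit 0x12308516de) (.leaf (nat_lit 0x12308512ee) (nat_lit 2819))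
 (.leaf (nat_lit 0x12308516de) (nat_lit 2050))
) (.node (nat_lit 0x1230851ade) (.leaf (nat_lit 0x12308516fe) (nat_lit 2820))
 (.node (nat_lit 0x1230851afe) (.leaf (nat_lit 0x1230851ade) (nat_lit 2819))
 (.leaf (nat_lit 0x1230851afe) (nat_lit 2816))
))))) (.node (nat_lit 0x1230860cee) (.node (nat_lit 0x12308604de) (.node (nat_lit 0x12308600ce) (.node (nat_lit 0x1230851eee) (.leaf (nat_lit 0x1230851ece) (nat_lit 2308))
 (.leaf (nat_lit 0x1230851eee) (nat_lit 2564))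
) (.node (nat_lit 0x12308600ee) (.leaf (nat_lit 0x12308600ce) (nat_lit 1795))
 (.leaf (nat_lit 0x12308600ee) (nat_lit 1539))
)) (.node (nat_lit 0x12308608de) (.node (nat_lit 0x12308604fe) (.leaf (nat_lit 0x12308604de) (nat_lit 2818))
 (.leaf (nat_lit 0x12308604fe) (nat_lit 2820))
) (.node (nat_lit 0x12308608fe) (.leaf (nat_lit 0x12308608de) (nat_lit 3076))
 (.node (nat_lit 0x1230860cce) (.leaf (nat_lit 0x12308608fe) (nat_lit 2816))
 (.leaf (nat_lit 0x1230860cce) (nat_lit 2564))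
)))) (.node (nat_lit 0x12308716b6) (.node (nat_lit 0x12308712a6) (.node (nat_lit 0x1230871286) (.leaf (nat_lit 0x1230860cee) (nat_lit 3074))
 (.leaf (nat_lit 0x1230871286) (nat_lit 1793))
) (.node (nat_lit 0x1230871696) (.leaf (nat_lit 0x12308712a6) (nat_lit 3075))
 (.leaf (nat_lit 0x1230871696) (nat_lit 2818))
)) (.node (nat_lit 0x1230871ab6) (.node (nat_lit 0x1230871a96) (.leaf (nat_lit 0x12308716b6) (nat_lit 2818))
 (.leaf (nat_lit 0x1230871a96) (nat_lit 3076))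
) (.node (nat_lit 0x1230871e86) (.leaf (nat_lit 0x1230871ab6) (nat_lit 2819))
 (.node (nat_lit 0x1230871ea6) (.leaf (nat_lit 0x1230871e86) (nat_lit 1540))
 (.leaf (nat_lit 0x1230871ea6) (nat_lit 3332))
)))))))))))) (.node (nat_lit 0x1a1080808c) (.node (nat_lit 0x1620c0838a) (.node (nat_lit 0x143044814e) (.node (nat_lit 0x142042912a) (.node (nat_lit 0x1410c19384) (.node (nat_lit 0x1410849a94) (.node (nat_lit 0x14108286d4) (.node (nat_lit 0x14108192a4) (.node (nat_lit 0x1410808a94) (.node (nat_lit 0x1410808684) (.node (nat_lit 0x14108082a4) (.leaf (nat_lit 0x1410808284) (nat_lit 1028))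
 (.leaf (nat_lit 0x14108082a4) (nat_lit 3074))
) (.node (nat_lit 0x14108086a4) (.leaf (nat_lit 0x1410808684) (nat_lit 2816))
 (.leaf (nat_lit 0x14108086a4) (nat_lit 3328))
)) (.node (nat_lit 0x1410808e94) (.node (nat_lit 0x1410808ab4) (.leaf (nat_lit 0x1410808a94) (nat_lit 3074))
 (.leaf (nat_lit 0x1410808ab4) (nat_lit 3329))
) (.node (nat_lit 0x1410808eb4) (.leaf (nat_lit 0x1410808e94) (nat_lit 3330))
 (.node (nat_lit 0x1410819284) (.leaf (nat_lit 0x1410808eb4) (nat_lit 3074))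
 (.leaf (nat_lit 0x1410819284) (nat_lit 1536))
)))) (.node (nat_lit 0x1410819ab4) (.node (nat_lit 0x14108196a4) (.node (nat_lit 0x1410819684) (.leaf (nat_lit 0x14108192a4) (nat_lit 3074))
 (.leaf (nat_lit 0x1410819684) (nat_lit 2308))
) (.node (nat_lit 0x1410819a94) (.leaf (nat_lit 0x14108196a4) (nat_lit 3332))
 (.leaf (nat_lit 0x1410819a94) (nat_lit 2562))
)) (.node (nat_lit 0x1410819eb4) (.node (nat_lit 0x1410819e94) (.leaf (nat_lit 0x1410819ab4) (nat_lit 3332))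
 (.leaf (nat_lit 0x1410819e94) (nat_lit 2818))
) (.node (nat_lit 0x14108282d4) (.leaf (nat_lit 0x1410819eb4) (nat_lit 3074))
 (.node (nat_lit 0x14108282f4) (.leaf (nat_lit 0x14108282d4) (nat_lit 2819))
 (.leaf (nat_lit 0x14108282f4) (nat_lit 2048))
))))) (.node (nat_lit 0x14108396f4) (.node (nat_lit 0x1410828ec4) (.node (nat_lit 0x1410828ac4) (.node (nat_lit 0x14108286f4) (.leaf (nat_lit 0x14108286d4) (nat_lit 3074))
 (.leaf (nat_lit 0x14108286f4) (nat_lit 3332))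
) (.node (nat_lit 0x1410828ae4) (.leaf (nat_lit 0x1410828ac4) (nat_lit 2308))
 (.leaf (nat_lit 0x1410828ae4) (nat_lit 1794))
)) (.node (nat_lit 0x14108392d4) (.node (nat_lit 0x1410828ee4) (.leaf (nat_lit 0x1410828ec4) (nat_lit 2816))
 (.leaf (nat_lit 0x1410828ee4) (nat_lit 3073))
) (.node (nat_lit 0x14108392f4) (.leaf (nat_lit 0x14108392d4) (nat_lit 3331))
 (.node (nat_lit 0x14108396d4) (.leaf (nat_lit 0x14108392f4) (nat_lit 2052))
 (.leaf (nat_lit 0x14108396d4) (nat_lit 2562))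
)))) (.node (nat_lit 0x1410839ee4) (.node (nat_lit 0x1410839ae4) (.node (nat_lit 0x1410839ac4) (.leaf (nat_lit 0x14108396f4) (nat_lit 3330))
 (.leaf (nat_lit 0x1410839ac4) (nat_lit 2816))
) (.node (nat_lit 0x1410839ec4) (.leaf (nat_lit 0x1410839ae4) (nat_lit 1794))
 (.leaf (nat_lit 0x1410839ec4) (nat_lit 2308))
)) (.node (nat_lit 0x14108492a4) (.node (nat_lit 0x1410849284) (.leaf (nat_lit 0x1410839ee4) (nat_lit 3073))
 (.leaf (nat_lit 0x1410849284) (nat_lit 1284))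
) (.node (nat_lit 0x1410849684) (.leaf (nat_lit 0x14108492a4) (nat_lit 2818))
 (.node (nat_lit 0x14108496a4) (.leaf (nat_lit 0x1410849684) (nat_lit 2560))
 (.leaf (nat_lit 0x14108496a4) (nat_lit 3330))
)))))) (.node (nat_lit 0x1410869ec4) (.node (nat_lit 0x1410858ab4) (.node (nat_lit 0x1410858284) (.node (nat_lit 0x1410849e94) (.node (nat_lit 0x1410849ab4) (.leaf (nat_lit 0x1410849a94) (nat_lit 2818))
 (.leaf (nat_lit 0x1410849ab4) (nat_lit 3073))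
) (.node (nat_lit 0x1410849eb4) (.leaf (nat_lit 0x1410849e94) (nat_lit 3074))
 (.leaf (nat_lit 0x1410849eb4) (nat_lit 3076))
)) (.node (nat_lit 0x1410858684) (.node (nat_lit 0x14108582a4) (.leaf (nat_lit 0x1410858284) (nat_lit 1280))
 (.leaf (nat_lit 0x14108582a4) (nat_lit 3330))
) (.node (nat_lit 0x14108586a4) (.leaf (nat_lit 0x1410858684) (nat_lit 2564))
 (.node (nat_lit 0x1410858a94) (.leaf (nat_lit 0x14108586a4) (nat_lit 3076))
 (.leaf (nat_lit 0x1410858a94) (nat_lit 2818))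
)))) (.node (nat_lit 0x14108692f4) (.node (nat_lit 0x1410858eb4) (.node (nat_lit 0x1410858e94) (.leaf (nat_lit 0x1410858ab4) (nat_lit 3076))
 (.leaf (nat_lit 0x1410858e94) (nat_lit 3074))
) (.node (nat_lit 0x14108692d4) (.leaf (nat_lit 0x1410858eb4) (nat_lit 2818))
 (.leaf (nat_lit 0x14108692d4) (nat_lit 3075))
)) (.node (nat_lit 0x14108696f4) (.node (nat_lit 0x14108696d4) (.leaf (nat_lit 0x14108692f4) (nat_lit 2304))
 (.leaf (nat_lit 0x14108696d4) (nat_lit 2818))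
) (.node (nat_lit 0x1410869ac4) (.leaf (nat_lit 0x14108696f4) (nat_lit 3076))
 (.node (nat_lit 0x1410869ae4) (.leaf (nat_lit 0x1410869ac4) (nat_lit 2564))
 (.leaf (nat_lit 0x1410869ae4) (nat_lit 1538))
))))) (.node (nat_lit 0x1410878ee4) (.node (nat_lit 0x14108786d4) (.node (nat_lit 0x14108782d4) (.node (nat_lit 0x1410869ee4) (.leaf (nat_lit 0x1410869ec4) (nat_lit 2560))
 (.leaf (nat_lit 0x1410869ee4) (nat_lit 3329))
) (.node (nat_lit 0x14108782f4) (.leaf (nat_lit 0x14108782d4) (nat_lit 3075))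
 (.leaf (nat_lit 0x14108782f4) (nat_lit 1796))
)) (.node (nat_lit 0x1410878ac4) (.node (nat_lit 0x14108786f4) (.leaf (nat_lit 0x14108786d4) (nat_lit 2818))
 (.leaf (nat_lit 0x14108786f4) (nat_lit 3074))
) (.node (nat_lit 0x1410878ae4) (.leaf (nat_lit 0x1410878ac4) (nat_lit 2560))
 (.node (nat_lit 0x1410878ec4) (.leaf (nat_lit 0x1410878ae4) (nat_lit 2050))
 (.leaf (nat_lit 0x1410878ec4) (nat_lit 2564))
)))) (.node (nat_lit 0x1410c087b4) (.node (nat_lit 0x1410c083b4) (.node (nat_lit 0x1410c08384) (.leaf (nat_lit 0x1410878ee4) (nat_lit 2817))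
 (.leaf (nat_lit 0x1410c08384) (nat_lit 772))
) (.node (nat_lit 0x1410c08784) (.leaf (nat_lit 0x1410c083b4) (nat_lit 3330))
 (.leaf (nat_lit 0x1410c08784) (nat_lit 2560))
)) (.node (nat_lit 0x1410c08ba4) (.node (nat_lit 0x1410c08b94) (.leaf (nat_lit 0x1410c087b4) (nat_lit 3330))
 (.leaf (nat_lit 0x1410c08b94) (nat_lit 3586))
) (.node (nat_lit 0x1410c08f94) (.leaf (nat_lit 0x1410c08ba4) (nat_lit 3076))
 (.node (nat_lit 0x1410c08fa4) (.leaf (nat_lit 0x1410c08f94) (nat_lit 2818))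
 (.leaf (nat_lit 0x1410c08fa4) (nat_lit 3328))
))))))) (.node (nat_lit 0x1410c58b94) (.node (nat_lit 0x1410c387d4) (.node (nat_lit 0x1410c293e4) (.node (nat_lit 0x1410c19b94) (.node (nat_lit 0x1410c19784) (.node (nat_lit 0x1410c193b4) (.leaf (nat_lit 0x1410c19384) (nat_lit 1280))
 (.leaf (nat_lit 0x1410c193b4) (nat_lit 3331))
) (.node (nat_lit 0x1410c197b4) (.leaf (nat_lit 0x1410c19784) (nat_lit 2052))
 (.leaf (nat_lit 0x1410c197b4) (nat_lit 3330))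
)) (.node (nat_lit 0x1410c19f94) (.node (nat_lit 0x1410c19ba4) (.leaf (nat_lit 0x1410c19b94) (nat_lit 3074))
 (.leaf (nat_lit 0x1410c19ba4) (nat_lit 3072))
) (.node (nat_lit 0x1410c19fa4) (.leaf (nat_lit 0x1410c19f94) (nat_lit 2306))
 (.node (nat_lit 0x1410c293d4) (.leaf (nat_lit 0x1410c19fa4) (nat_lit 3332))
 (.leaf (nat_lit 0x1410c293d4) (nat_lit 3329))
)))) (.node (nat_lit 0x1410c29bf4) (.node (nat_lit 0x1410c297e4) (.node (nat_lit 0x1410c297d4) (.leaf (nat_lit 0x1410c293e4) (nat_lit 1796))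
 (.leaf (nat_lit 0x1410c297d4) (nat_lit 2562))
) (.node (nat_lit 0x1410c29bc4) (.leaf (nat_lit 0x1410c297e4) (nat_lit 3072))
 (.leaf (nat_lit 0x1410c29bc4) (nat_lit 2052))
)) (.node (nat_lit 0x1410c29ff4) (.node (nat_lit 0x1410c29fc4) (.leaf (nat_lit 0x1410c29bf4) (nat_lit 3329))
 (.leaf (nat_lit 0x1410c29fc4) (nat_lit 2816))
) (.node (nat_lit 0x1410c383d4) (.leaf (nat_lit 0x1410c29ff4) (nat_lit 2050))
 (.node (nat_lit 0x1410c383e4) (.leaf (nat_lit 0x1410c383d4) (nat_lit 2817))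
 (.leaf (nat_lit 0x1410c383e4) (nat_lit 1792))
))))) (.node (nat_lit 0x1410c497b4) (.node (nat_lit 0x1410c38fc4) (.node (nat_lit 0x1410c38bc4) (.node (nat_lit 0x1410c387e4) (.leaf (nat_lit 0x1410c387d4) (nat_lit 3074))
 (.leaf (nat_lit 0x1410c387e4) (nat_lit 3076))
) (.node (nat_lit 0x1410c38bf4) (.leaf (nat_lit 0x1410c38bc4) (nat_lit 2560))
 (.leaf (nat_lit 0x1410c38bf4) (nat_lit 3329))
)) (.node (nat_lit 0x1410c49384) (.node (nat_lit 0x1410c38ff4) (.leaf (nat_lit 0x1410c38fc4) (nat_lit 2308))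
 (.leaf (nat_lit 0x1410c38ff4) (nat_lit 2050))
) (.node (nat_lit 0x1410c493b4) (.leaf (nat_lit 0x1410c49384) (nat_lit 1028))
 (.node (nat_lit 0x1410c49784) (.leaf (nat_lit 0x1410c493b4) (nat_lit 3074))
 (.leaf (nat_lit 0x1410c49784) (nat_lit 2304))
)))) (.node (nat_lit 0x1410c49fa4) (.node (nat_lit 0x1410c49ba4) (.node (nat_lit 0x1410c49b94) (.leaf (nat_lit 0x1410c497b4) (nat_lit 3074))
 (.leaf (nat_lit 0x1410c49b94) (nat_lit 3330))
) (.node (nat_lit 0x1410c49f94) (.leaf (nat_lit 0x1410c49ba4) (nat_lit 2820))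
 (.leaf (nat_lit 0x1410c49f94) (nat_lit 2562))
)) (.node (nat_lit 0x1410c583b4) (.node (nat_lit 0x1410c58384) (.leaf (nat_lit 0x1410c49fa4) (nat_lit 3329))
 (.leaf (nat_lit 0x1410c58384) (nat_lit 1024))
) (.node (nat_lit 0x1410c58784) (.leaf (nat_lit 0x1410c583b4) (nat_lit 3075))
 (.node (nat_lit 0x1410c587b4) (.leaf (nat_lit 0x1410c58784) (nat_lit 2308))
 (.leaf (nat_lit 0x1410c587b4) (nat_lit 3074))
)))))) (.node (nat_lit 0x1410c79fc4) (.node (nat_lit 0x1410c68bf4) (.node (nat_lit 0x1410c683d4) (.node (nat_lit 0x1410c58f94) (.node (nat_lit 0x1410c58ba4) (.leaf (nat_lit 0x1410c58b94) (nat_lit 3330))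
 (.leaf (nat_lit 0x1410c58ba4) (nat_lit 3074))
) (.node (nat_lit 0x1410c58fa4) (.leaf (nat_lit 0x1410c58f94) (nat_lit 2562))
 (.leaf (nat_lit 0x1410c58fa4) (nat_lit 3076))
)) (.node (nat_lit 0x1410c687d4) (.node (nat_lit 0x1410c683e4) (.leaf (nat_lit 0x1410c683d4) (nat_lit 3073))
 (.leaf (nat_lit 0x1410c683e4) (nat_lit 1540))
) (.node (nat_lit 0x1410c687e4) (.leaf (nat_lit 0x1410c687d4) (nat_lit 2818))
 (.node (nat_lit 0x1410c68bc4) (.leaf (nat_lit 0x1410c687e4) (nat_lit 3328))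
 (.leaf (nat_lit 0x1410c68bc4) (nat_lit 2308))
)))) (.node (nat_lit 0x1410c793e4) (.node (nat_lit 0x1410c68ff4) (.node (nat_lit 0x1410c68fc4) (.leaf (nat_lit 0x1410c68bf4) (nat_lit 3073))
 (.leaf (nat_lit 0x1410c68fc4) (nat_lit 2560))
) (.node (nat_lit 0x1410c793d4) (.leaf (nat_lit 0x1410c68ff4) (nat_lit 2306))
 (.leaf (nat_lit 0x1410c793d4) (nat_lit 3073))
)) (.node (nat_lit 0x1410c797e4) (.node (nat_lit 0x1410c797d4) (.leaf (nat_lit 0x1410c793e4) (nat_lit 2048))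
 (.leaf (nat_lit 0x1410c797d4) (nat_lit 2818))
) (.node (nat_lit 0x1410c79bc4) (.leaf (nat_lit 0x1410c797e4) (nat_lit 2820))
 (.node (nat_lit 0x1410c79bf4) (.leaf (nat_lit 0x1410c79bc4) (nat_lit 2304))
 (.leaf (nat_lit 0x1410c79bf4) (nat_lit 3332))
))))) (.node (nat_lit 0x1420408d3a) (.node (nat_lit 0x142040852a) (.node (nat_lit 0x142040810a) (.node (nat_lit 0x1410c79ff4) (.leaf (nat_lit 0x1410c79fc4) (nat_lit 2564))
 (.leaf (nat_lit 0x1410c79ff4) (nat_lit 1794))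
) (.node (nat_lit 0x142040811a) (.leaf (nat_lit 0x142040810a) (nat_lit 1028))
 (.leaf (nat_lit 0x142040811a) (nat_lit 3075))
)) (.node (nat_lit 0x142040890a) (.node (nat_lit 0x142040853a) (.leaf (nat_lit 0x142040852a) (nat_lit 2564))
 (.leaf (nat_lit 0x142040853a) (nat_lit 3072))
) (.node (nat_lit 0x142040891a) (.leaf (nat_lit 0x142040890a) (nat_lit 2818))
 (.node (nat_lit 0x1420408d2a) (.leaf (nat_lit 0x142040891a) (nat_lit 3332))
 (.leaf (nat_lit 0x1420408d2a) (nat_lit 2817))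
)))) (.node (nat_lit 0x142041857a) (.node (nat_lit 0x142041815a) (.node (nat_lit 0x142041814a) (.leaf (nat_lit 0x1420408d3a) (nat_lit 2820))
 (.leaf (nat_lit 0x142041814a) (nat_lit 1536))
) (.node (nat_lit 0x142041856a) (.leaf (nat_lit 0x142041815a) (nat_lit 2563))
 (.leaf (nat_lit 0x142041856a) (nat_lit 2052))
)) (.node (nat_lit 0x142041895a) (.node (nat_lit 0x142041894a) (.leaf (nat_lit 0x142041857a) (nat_lit 2564))
 (.leaf (nat_lit 0x142041894a) (nat_lit 2820))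
) (.node (nat_lit 0x1420418d6a) (.leaf (nat_lit 0x142041895a) (nat_lit 3330))
 (.node (nat_lit 0x1420418d7a) (.leaf (nat_lit 0x1420418d6a) (nat_lit 2820))
 (.leaf (nat_lit 0x1420418d7a) (nat_lit 2818))
)))))))) (.node (nat_lit 0x1420c383da) (.node (nat_lit 0x142046996a) (.node (nat_lit 0x142044856a) (.node (nat_lit 0x142043917a) (.node (nat_lit 0x142042992a) (.node (nat_lit 0x142042950a) (.node (nat_lit 0x142042913a) (.leaf (nat_lit 0x142042912a) (nat_lit 2308))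
 (.leaf (nat_lit 0x142042913a) (nat_lit 2816))
) (.node (nat_lit 0x142042951a) (.leaf (nat_lit 0x142042950a) (nat_lit 2308))
 (.leaf (nat_lit 0x142042951a) (nat_lit 2818))
)) (.node (nat_lit 0x1420429d0a) (.node (nat_lit 0x142042993a) (.leaf (nat_lit 0x142042992a) (nat_lit 1538))
 (.leaf (nat_lit 0x142042993a) (nat_lit 3076))
) (.node (nat_lit 0x1420429d1a) (.leaf (nat_lit 0x1420429d0a) (nat_lit 1536))
 (.node (nat_lit 0x142043916a) (.leaf (nat_lit 0x1420429d1a) (nat_lit 3076))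
 (.leaf (nat_lit 0x142043916a) (nat_lit 2816))
)))) (.node (nat_lit 0x142043997a) (.node (nat_lit 0x142043955a) (.node (nat_lit 0x142043954a) (.leaf (nat_lit 0x142043917a) (nat_lit 2308))
 (.leaf (nat_lit 0x142043954a) (nat_lit 2816))
) (.node (nat_lit 0x142043996a) (.leaf (nat_lit 0x142043955a) (nat_lit 2306))
 (.leaf (nat_lit 0x142043996a) (nat_lit 1538))
)) (.node (nat_lit 0x1420439d5a) (.node (nat_lit 0x1420439d4a) (.leaf (nat_lit 0x142043997a) (nat_lit 3073))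
 (.leaf (nat_lit 0x1420439d4a) (nat_lit 1540))
) (.node (nat_lit 0x142044814a) (.leaf (nat_lit 0x1420439d5a) (nat_lit 3074))
 (.node (nat_lit 0x142044815a) (.leaf (nat_lit 0x142044814a) (nat_lit 1284))
 (.leaf (nat_lit 0x142044815a) (nat_lit 2819))
))))) (.node (nat_lit 0x142045853a) (.node (nat_lit 0x1420448d6a) (.node (nat_lit 0x142044894a) (.node (nat_lit 0x142044857a) (.leaf (nat_lit 0x142044856a) (nat_lit 2308))
 (.leaf (nat_lit 0x142044857a) (nat_lit 2816))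
) (.node (nat_lit 0x142044895a) (.leaf (nat_lit 0x142044894a) (nat_lit 2562))
 (.leaf (nat_lit 0x142044895a) (nat_lit 3076))
)) (.node (nat_lit 0x142045810a) (.node (nat_lit 0x1420448d7a) (.leaf (nat_lit 0x1420448d6a) (nat_lit 2561))
 (.leaf (nat_lit 0x1420448d7a) (nat_lit 2564))
) (.node (nat_lit 0x142045811a) (.leaf (nat_lit 0x142045810a) (nat_lit 1280))
 (.node (nat_lit 0x142045852a) (.leaf (nat_lit 0x142045811a) (nat_lit 2819))
 (.leaf (nat_lit 0x142045852a) (nat_lit 2308))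
)))) (.node (nat_lit 0x1420458d3a) (.node (nat_lit 0x142045891a) (.node (nat_lit 0x142045890a) (.leaf (nat_lit 0x142045853a) (nat_lit 2820))
 (.leaf (nat_lit 0x142045890a) (nat_lit 2564))
) (.node (nat_lit 0x1420458d2a) (.leaf (nat_lit 0x142045891a) (nat_lit 3074))
 (.leaf (nat_lit 0x1420458d2a) (nat_lit 2564))
)) (.node (nat_lit 0x142046917a) (.node (nat_lit 0x142046916a) (.leaf (nat_lit 0x1420458d3a) (nat_lit 2562))
 (.leaf (nat_lit 0x142046916a) (nat_lit 2564))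
) (.node (nat_lit 0x142046954a) (.leaf (nat_lit 0x142046917a) (nat_lit 2560))
 (.node (nat_lit 0x142046955a) (.leaf (nat_lit 0x142046954a) (nat_lit 2564))
 (.leaf (nat_lit 0x142046955a) (nat_lit 2562))
)))))) (.node (nat_lit 0x1420c08f9a) (.node (nat_lit 0x142047993a) (.node (nat_lit 0x142047912a) (.node (nat_lit 0x1420469d4a) (.node (nat_lit 0x142046997a) (.leaf (nat_lit 0x142046996a) (nat_lit 1282))
 (.leaf (nat_lit 0x142046997a) (nat_lit 2820))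
) (.node (nat_lit 0x1420469d5a) (.leaf (nat_lit 0x1420469d4a) (nat_lit 1792))
 (.leaf (nat_lit 0x1420469d5a) (nat_lit 2820))
)) (.node (nat_lit 0x142047950a) (.node (nat_lit 0x142047913a) (.leaf (nat_lit 0x142047912a) (nat_lit 2560))
 (.leaf (nat_lit 0x142047913a) (nat_lit 2564))
) (.node (nat_lit 0x142047951a) (.leaf (nat_lit 0x142047950a) (nat_lit 2560))
 (.node (nat_lit 0x142047992a) (.leaf (nat_lit 0x142047951a) (nat_lit 2562))
 (.leaf (nat_lit 0x142047992a) (nat_lit 1794))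
)))) (.node (nat_lit 0x1420c083ba) (.node (nat_lit 0x1420479d1a) (.node (nat_lit 0x1420479d0a) (.leaf (nat_lit 0x142047993a) (nat_lit 2817))
 (.leaf (nat_lit 0x1420479d0a) (nat_lit 1284))
) (.node (nat_lit 0x1420c0838a) (.leaf (nat_lit 0x1420479d1a) (nat_lit 2818))
 (.leaf (nat_lit 0x1420c0838a) (nat_lit 1026))
)) (.node (nat_lit 0x1420c087aa) (.node (nat_lit 0x1420c0879a) (.leaf (nat_lit 0x1420c083ba) (nat_lit 3076))
 (.leaf (nat_lit 0x1420c0879a) (nat_lit 2818))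
) (.node (nat_lit 0x1420c08b8a) (.leaf (nat_lit 0x1420c087aa) (nat_lit 3073))
 (.node (nat_lit 0x1420c08bba) (.leaf (nat_lit 0x1420c08b8a) (nat_lit 3075))
 (.leaf (nat_lit 0x1420c08bba) (nat_lit 3328))
))))) (.node (nat_lit 0x1420c19fea) (.node (nat_lit 0x1420c197da) (.node (nat_lit 0x1420c193ca) (.node (nat_lit 0x1420c08faa) (.leaf (nat_lit 0x1420c08f9a) (nat_lit 3588))
 (.leaf (nat_lit 0x1420c08faa) (nat_lit 2560))
) (.node (nat_lit 0x1420c193fa) (.leaf (nat_lit 0x1420c193ca) (nat_lit 1538))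
 (.leaf (nat_lit 0x1420c193fa) (nat_lit 3075))
)) (.node (nat_lit 0x1420c19bca) (.node (nat_lit 0x1420c197ea) (.leaf (nat_lit 0x1420c197da) (nat_lit 2306))
 (.leaf (nat_lit 0x1420c197ea) (nat_lit 3076))
) (.node (nat_lit 0x1420c19bfa) (.leaf (nat_lit 0x1420c19bca) (nat_lit 3076))
 (.node (nat_lit 0x1420c19fda) (.leaf (nat_lit 0x1420c19bfa) (nat_lit 2820))
 (.leaf (nat_lit 0x1420c19fda) (nat_lit 3587))
)))) (.node (nat_lit 0x1420c297ba) (.node (nat_lit 0x1420c293aa) (.node (nat_lit 0x1420c2939a) (.leaf (nat_lit 0x1420c19fea) (nat_lit 2052))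
 (.leaf (nat_lit 0x1420c2939a) (nat_lit 3073))
) (.node (nat_lit 0x1420c2978a) (.leaf (nat_lit 0x1420c293aa) (nat_lit 1795))
 (.leaf (nat_lit 0x1420c2978a) (nat_lit 2305))
)) (.node (nat_lit 0x1420c29baa) (.node (nat_lit 0x1420c29b9a) (.leaf (nat_lit 0x1420c297ba) (nat_lit 3332))
 (.leaf (nat_lit 0x1420c29b9a) (nat_lit 3332))
) (.node (nat_lit 0x1420c29f8a) (.leaf (nat_lit 0x1420c29baa) (nat_lit 2306))
 (.node (nat_lit 0x1420c29fba) (.leaf (nat_lit 0x1420c29f8a) (nat_lit 1792))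
 (.leaf (nat_lit 0x1420c29fba) (nat_lit 3072))
))))))) (.node (nat_lit 0x1420c79b9a) (.node (nat_lit 0x1420c5879a) (.node (nat_lit 0x1420c493fa) (.node (nat_lit 0x1420c38bda) (.node (nat_lit 0x1420c387ca) (.node (nat_lit 0x1420c383ea) (.leaf (nat_lit 0x1420c383da) (nat_lit 2561))
 (.leaf (nat_lit 0x1420c383ea) (nat_lit 1795))
) (.node (nat_lit 0x1420c387fa) (.leaf (nat_lit 0x1420c387ca) (nat_lit 2817))
 (.leaf (nat_lit 0x1420c387fa) (nat_lit 3330))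
)) (.node (nat_lit 0x1420c38fca) (.node (nat_lit 0x1420c38bea) (.leaf (nat_lit 0x1420c38bda) (nat_lit 3332))
 (.leaf (nat_lit 0x1420c38bea) (nat_lit 2818))
) (.node (nat_lit 0x1420c38ffa) (.leaf (nat_lit 0x1420c38fca) (nat_lit 1796))
 (.node (nat_lit 0x1420c493ca) (.leaf (nat_lit 0x1420c38ffa) (nat_lit 2564))
 (.leaf (nat_lit 0x1420c493ca) (nat_lit 1282))
)))) (.node (nat_lit 0x1420c49bfa) (.node (nat_lit 0x1420c497ea) (.node (nat_lit 0x1420c497da) (.leaf (nat_lit 0x1420c493fa) (nat_lit 2820))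
 (.leaf (nat_lit 0x1420c497da) (nat_lit 2562))
) (.node (nat_lit 0x1420c49bca) (.leaf (nat_lit 0x1420c497ea) (nat_lit 2817))
 (.leaf (nat_lit 0x1420c49bca) (nat_lit 2819))
)) (.node (nat_lit 0x1420c49fea) (.node (nat_lit 0x1420c49fda) (.leaf (nat_lit 0x1420c49bfa) (nat_lit 3072))
 (.leaf (nat_lit 0x1420c49fda) (nat_lit 3332))
) (.node (nat_lit 0x1420c5838a) (.leaf (nat_lit 0x1420c49fea) (nat_lit 2304))
 (.node (nat_lit 0x1420c583ba) (.leaf (nat_lit 0x1420c5838a) (nat_lit 1282))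
 (.leaf (nat_lit 0x1420c583ba) (nat_lit 2819))
))))) (.node (nat_lit 0x1420c687fa) (.node (nat_lit 0x1420c58f9a) (.node (nat_lit 0x1420c58b8a) (.node (nat_lit 0x1420c587aa) (.leaf (nat_lit 0x1420c5879a) (nat_lit 2562))
 (.leaf (nat_lit 0x1420c587aa) (nat_lit 2820))
) (.node (nat_lit 0x1420c58bba) (.leaf (nat_lit 0x1420c58b8a) (nat_lit 2820))
 (.leaf (nat_lit 0x1420c58bba) (nat_lit 3076))
)) (.node (nat_lit 0x1420c683da) (.node (nat_lit 0x1420c58faa) (.leaf (nat_lit 0x1420c58f9a) (nat_lit 3331))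
 (.leaf (nat_lit 0x1420c58faa) (nat_lit 2308))
) (.node (nat_lit 0x1420c683ea) (.leaf (nat_lit 0x1420c683da) (nat_lit 2817))
 (.node (nat_lit 0x1420c687ca) (.leaf (nat_lit 0x1420c683ea) (nat_lit 1539))
 (.leaf (nat_lit 0x1420c687ca) (nat_lit 2561))
)))) (.node (nat_lit 0x1420c68ffa) (.node (nat_lit 0x1420c68bea) (.node (nat_lit 0x1420c68bda) (.leaf (nat_lit 0x1420c687fa) (nat_lit 3076))
 (.leaf (nat_lit 0x1420c68bda) (nat_lit 3076))
) (.node (nat_lit 0x1420c68fca) (.leaf (nat_lit 0x1420c68bea) (nat_lit 2562))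
 (.leaf (nat_lit 0x1420c68fca) (nat_lit 2048))
)) (.node (nat_lit 0x1420c793aa) (.node (nat_lit 0x1420c7939a) (.leaf (nat_lit 0x1420c68ffa) (nat_lit 2816))
 (.leaf (nat_lit 0x1420c7939a) (nat_lit 2817))
) (.node (nat_lit 0x1420c7978a) (.leaf (nat_lit 0x1420c793aa) (nat_lit 2051))
 (.node (nat_lit 0x1420c797ba) (.leaf (nat_lit 0x1420c7978a) (nat_lit 2561))
 (.leaf (nat_lit 0x1420c797ba) (nat_lit 3074))
)))))) (.node (nat_lit 0x1430418d4e) (.node (nat_lit 0x143040893e) (.node (nat_lit 0x143040810e) (.node (nat_lit 0x1420c79f8a) (.node (nat_lit 0x1420c79baa) (.leaf (nat_lit 0x1420c79b9a) (nat_lit 3076))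
 (.leaf (nat_lit 0x1420c79baa) (nat_lit 2562))
) (.node (nat_lit 0x1420c79fba) (.leaf (nat_lit 0x1420c79f8a) (nat_lit 1540))
 (.leaf (nat_lit 0x1420c79fba) (nat_lit 2820))
)) (.node (nat_lit 0x143040852e) (.node (nat_lit 0x143040811e) (.leaf (nat_lit 0x143040810e) (nat_lit 772))
 (.leaf (nat_lit 0x143040811e) (nat_lit 3331))
) (.node (nat_lit 0x143040853e) (.leaf (nat_lit 0x143040852e) (nat_lit 2816))
 (.node (nat_lit 0x143040892e) (.leaf (nat_lit 0x143040853e) (nat_lit 2820))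
 (.leaf (nat_lit 0x143040892e) (nat_lit 2564))
)))) (.node (nat_lit 0x143041815e) (.node (nat_lit 0x1430408d1e) (.node (nat_lit 0x1430408d0e) (.leaf (nat_lit 0x143040893e) (nat_lit 3073))
 (.leaf (nat_lit 0x1430408d0e) (nat_lit 2560))
) (.node (nat_lit 0x143041814e) (.leaf (nat_lit 0x1430408d1e) (nat_lit 3074))
 (.leaf (nat_lit 0x143041814e) (nat_lit 1280))
)) (.node (nat_lit 0x143041857e) (.node (nat_lit 0x143041856e) (.leaf (nat_lit 0x143041815e) (nat_lit 2819))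
 (.leaf (nat_lit 0x143041856e) (nat_lit 2308))
) (.node (nat_lit 0x143041896e) (.leaf (nat_lit 0x143041857e) (nat_lit 2308))
 (.node (nat_lit 0x143041897e) (.leaf (nat_lit 0x143041896e) (nat_lit 2560))
 (.leaf (nat_lit 0x143041897e) (nat_lit 3076))
))))) (.node (nat_lit 0x1430429d7e) (.node (nat_lit 0x143042954e) (.node (nat_lit 0x143042916e) (.node (nat_lit 0x1430418d5e) (.leaf (nat_lit 0x1430418d4e) (nat_lit 2564))
 (.leaf (nat_lit 0x1430418d5e) (nat_lit 3074))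
) (.node (nat_lit 0x143042917e) (.leaf (nat_lit 0x143042916e) (nat_lit 2052))
 (.leaf (nat_lit 0x143042917e) (nat_lit 3072))
)) (.node (nat_lit 0x143042994e) (.node (nat_lit 0x143042955e) (.leaf (nat_lit 0x143042954e) (nat_lit 2560))
 (.leaf (nat_lit 0x143042955e) (nat_lit 2562))
) (.node (nat_lit 0x143042995e) (.leaf (nat_lit 0x143042994e) (nat_lit 1284))
 (.node (nat_lit 0x1430429d6e) (.leaf (nat_lit 0x143042995e) (nat_lit 3330))
 (.leaf (nat_lit 0x1430429d6e) (nat_lit 2816))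
)))) (.node (nat_lit 0x143043951e) (.node (nat_lit 0x143043913e) (.node (nat_lit 0x143043912e) (.leaf (nat_lit 0x1430429d7e) (nat_lit 1794))
 (.leaf (nat_lit 0x143043912e) (nat_lit 2560))
) (.node (nat_lit 0x143043950e) (.leaf (nat_lit 0x143043913e) (nat_lit 2564))
 (.leaf (nat_lit 0x143043950e) (nat_lit 2052))
)) (.node (nat_lit 0x143043991e) (.node (nat_lit 0x143043990e) (.leaf (nat_lit 0x143043951e) (nat_lit 3074))
 (.leaf (nat_lit 0x143043990e) (nat_lit 1280))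
) (.node (nat_lit 0x1430439d2e) (.leaf (nat_lit 0x143043991e) (nat_lit 3332))
 (.node (nat_lit 0x1430439d3e) (.leaf (nat_lit 0x1430439d2e) (nat_lit 2820))
 (.leaf (nat_lit 0x1430439d3e) (nat_lit 1794))
))))))))) (.node (nat_lit 0x16108610dc) (.node (nat_lit 0x143085828e) (.node (nat_lit 0x1430808a9e) (.node (nat_lit 0x143046950e) (.node (nat_lit 0x143045811e) (.node (nat_lit 0x143044896e) (.node (nat_lit 0x143044856e) (.node (nat_lit 0x143044815e) (.leaf (nat_lit 0x143044814e) (nat_lit 1028))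
 (.leaf (nat_lit 0x143044815e) (nat_lit 3075))
) (.node (nat_lit 0x143044857e) (.leaf (nat_lit 0x143044856e) (nat_lit 2560))
 (.leaf (nat_lit 0x143044857e) (nat_lit 2564))
)) (.node (nat_lit 0x1430448d4e) (.node (nat_lit 0x143044897e) (.leaf (nat_lit 0x143044896e) (nat_lit 2308))
 (.leaf (nat_lit 0x143044897e) (nat_lit 2817))
) (.node (nat_lit 0x1430448d5e) (.leaf (nat_lit 0x1430448d4e) (nat_lit 2816))
 (.node (nat_lit 0x143045810e) (.leaf (nat_lit 0x1430448d5e) (nat_lit 2818))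
 (.leaf (nat_lit 0x143045810e) (nat_lit 1024))
)))) (.node (nat_lit 0x143045893e) (.node (nat_lit 0x143045853e) (.node (nat_lit 0x143045852e) (.leaf (nat_lit 0x143045811e) (nat_lit 3075))
 (.leaf (nat_lit 0x143045852e) (nat_lit 2564))
) (.node (nat_lit 0x143045892e) (.leaf (nat_lit 0x143045853e) (nat_lit 2564))
 (.leaf (nat_lit 0x143045892e) (nat_lit 2816))
)) (.node (nat_lit 0x1430458d1e) (.node (nat_lit 0x1430458d0e) (.leaf (nat_lit 0x143045893e) (nat_lit 2820))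
 (.leaf (nat_lit 0x1430458d0e) (nat_lit 2308))
) (.node (nat_lit 0x143046912e) (.leaf (nat_lit 0x1430458d1e) (nat_lit 2818))
 (.node (nat_lit 0x143046913e) (.leaf (nat_lit 0x143046912e) (nat_lit 2308))
 (.leaf (nat_lit 0x143046913e) (nat_lit 2816))
))))) (.node (nat_lit 0x143047955e) (.node (nat_lit 0x1430469d2e) (.node (nat_lit 0x143046990e) (.node (nat_lit 0x143046951e) (.leaf (nat_lit 0x143046950e) (nat_lit 2304))
 (.leaf (nat_lit 0x143046951e) (nat_lit 2818))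
) (.node (nat_lit 0x143046991e) (.leaf (nat_lit 0x143046990e) (nat_lit 1028))
 (.leaf (nat_lit 0x143046991e) (nat_lit 3074))
)) (.node (nat_lit 0x143047916e) (.node (nat_lit 0x1430469d3e) (.leaf (nat_lit 0x1430469d2e) (nat_lit 3072))
 (.leaf (nat_lit 0x1430469d3e) (nat_lit 2050))
) (.node (nat_lit 0x143047917e) (.leaf (nat_lit 0x143047916e) (nat_lit 2304))
 (.node (nat_lit 0x143047954e) (.leaf (nat_lit 0x143047917e) (nat_lit 2820))
 (.leaf (nat_lit 0x143047954e) (nat_lit 2308))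
)))) (.node (nat_lit 0x1430479d7e) (.node (nat_lit 0x143047995e) (.node (nat_lit 0x143047994e) (.leaf (nat_lit 0x143047955e) (nat_lit 2818))
 (.leaf (nat_lit 0x143047994e) (nat_lit 1536))
) (.node (nat_lit 0x1430479d6e) (.leaf (nat_lit 0x143047995e) (nat_lit 3076))
 (.leaf (nat_lit 0x1430479d6e) (nat_lit 2564))
)) (.node (nat_lit 0x14308082ae) (.node (nat_lit 0x143080828e) (.leaf (nat_lit 0x1430479d7e) (nat_lit 1538))
 (.leaf (nat_lit 0x143080828e) (nat_lit 1028))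
) (.node (nat_lit 0x143080869e) (.leaf (nat_lit 0x14308082ae) (nat_lit 2820))
 (.node (nat_lit 0x14308086be) (.leaf (nat_lit 0x143080869e) (nat_lit 3074))
 (.leaf (nat_lit 0x14308086be) (nat_lit 3329))
)))))) (.node (nat_lit 0x1430828ede) (.node (nat_lit 0x1430819afe) (.node (nat_lit 0x14308192ce) (.node (nat_lit 0x1430808e8e) (.node (nat_lit 0x1430808abe) (.leaf (nat_lit 0x1430808a9e) (nat_lit 3331))
 (.leaf (nat_lit 0x1430808abe) (nat_lit 2816))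
) (.node (nat_lit 0x1430808eae) (.leaf (nat_lit 0x1430808e8e) (nat_lit 2816))
 (.leaf (nat_lit 0x1430808eae) (nat_lit 3072))
)) (.node (nat_lit 0x14308196de) (.node (nat_lit 0x14308192ee) (.leaf (nat_lit 0x14308192ce) (nat_lit 1536))
 (.leaf (nat_lit 0x14308192ee) (nat_lit 2816))
) (.node (nat_lit 0x14308196fe) (.leaf (nat_lit 0x14308196de) (nat_lit 2562))
 (.node (nat_lit 0x1430819ade) (.leaf (nat_lit 0x14308196fe) (nat_lit 3332))
 (.leaf (nat_lit 0x1430819ade) (nat_lit 3331))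
)))) (.node (nat_lit 0x14308282fe) (.node (nat_lit 0x1430819eee) (.node (nat_lit 0x1430819ece) (.leaf (nat_lit 0x1430819afe) (nat_lit 2308))
 (.leaf (nat_lit 0x1430819ece) (nat_lit 2820))
) (.node (nat_lit 0x14308282de) (.leaf (nat_lit 0x1430819eee) (nat_lit 2564))
 (.leaf (nat_lit 0x14308282de) (nat_lit 2817))
)) (.node (nat_lit 0x14308286ee) (.node (nat_lit 0x14308286ce) (.leaf (nat_lit 0x14308282fe) (nat_lit 2051))
 (.leaf (nat_lit 0x14308286ce) (nat_lit 2816))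
) (.node (nat_lit 0x1430828ace) (.leaf (nat_lit 0x14308286ee) (nat_lit 3072))
 (.node (nat_lit 0x1430828aee) (.leaf (nat_lit 0x1430828ace) (nat_lit 1540))
 (.leaf (nat_lit 0x1430828aee) (nat_lit 2308))
))))) (.node (nat_lit 0x1430839ebe) (.node (nat_lit 0x143083968e) (.node (nat_lit 0x143083929e) (.node (nat_lit 0x1430828efe) (.leaf (nat_lit 0x1430828ede) (nat_lit 3330))
 (.leaf (nat_lit 0x1430828efe) (nat_lit 3074))
) (.node (nat_lit 0x14308392be) (.leaf (nat_lit 0x143083929e) (nat_lit 3329))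
 (.leaf (nat_lit 0x14308392be) (nat_lit 2051))
)) (.node (nat_lit 0x1430839a8e) (.node (nat_lit 0x14308396ae) (.leaf (nat_lit 0x143083968e) (nat_lit 2308))
 (.leaf (nat_lit 0x14308396ae) (nat_lit 3076))
) (.node (nat_lit 0x1430839aae) (.leaf (nat_lit 0x1430839a8e) (nat_lit 1536))
 (.node (nat_lit 0x1430839e9e) (.leaf (nat_lit 0x1430839aae) (nat_lit 2816))
 (.leaf (nat_lit 0x1430839e9e) (nat_lit 3330))
)))) (.node (nat_lit 0x14308496fe) (.node (nat_lit 0x14308492ee) (.node (nat_lit 0x14308492ce) (.leaf (nat_lit 0x1430839ebe) (nat_lit 2562))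
 (.leaf (nat_lit 0x14308492ce) (nat_lit 1284))
) (.node (nat_lit 0x14308496de) (.leaf (nat_lit 0x14308492ee) (nat_lit 2564))
 (.leaf (nat_lit 0x14308496de) (nat_lit 2818))
)) (.node (nat_lit 0x1430849afe) (.node (nat_lit 0x1430849ade) (.leaf (nat_lit 0x14308496fe) (nat_lit 3073))
 (.leaf (nat_lit 0x1430849ade) (nat_lit 3075))
) (.node (nat_lit 0x1430849ece) (.leaf (nat_lit 0x1430849afe) (nat_lit 2560))
 (.node (nat_lit 0x1430849eee) (.leaf (nat_lit 0x1430849ece) (nat_lit 3072))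
 (.leaf (nat_lit 0x1430849eee) (nat_lit 2816))
))))))) (.node (nat_lit 0x1610819894) (.node (nat_lit 0x14308786ce) (.node (nat_lit 0x14308692be) (.node (nat_lit 0x1430858a9e) (.node (nat_lit 0x143085869e) (.node (nat_lit 0x14308582ae) (.leaf (nat_lit 0x143085828e) (nat_lit 1280))
 (.leaf (nat_lit 0x14308582ae) (nat_lit 3072))
) (.node (nat_lit 0x14308586be) (.leaf (nat_lit 0x143085869e) (nat_lit 2818))
 (.leaf (nat_lit 0x14308586be) (nat_lit 3076))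
)) (.node (nat_lit 0x1430858e8e) (.node (nat_lit 0x1430858abe) (.leaf (nat_lit 0x1430858a9e) (nat_lit 3075))
 (.leaf (nat_lit 0x1430858abe) (nat_lit 2564))
) (.node (nat_lit 0x1430858eae) (.leaf (nat_lit 0x1430858e8e) (nat_lit 2564))
 (.node (nat_lit 0x143086929e) (.leaf (nat_lit 0x1430858eae) (nat_lit 2820))
 (.leaf (nat_lit 0x143086929e) (nat_lit 3073))
)))) (.node (nat_lit 0x1430869aae) (.node (nat_lit 0x14308696ae) (.node (nat_lit 0x143086968e) (.leaf (nat_lit 0x14308692be) (nat_lit 2307))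
 (.leaf (nat_lit 0x143086968e) (nat_lit 2560))
) (.node (nat_lit 0x1430869a8e) (.leaf (nat_lit 0x14308696ae) (nat_lit 3328))
 (.leaf (nat_lit 0x1430869a8e) (nat_lit 1284))
)) (.node (nat_lit 0x1430869ebe) (.node (nat_lit 0x1430869e9e) (.leaf (nat_lit 0x1430869aae) (nat_lit 2564))
 (.leaf (nat_lit 0x1430869e9e) (nat_lit 3332))
) (.node (nat_lit 0x14308782de) (.leaf (nat_lit 0x1430869ebe) (nat_lit 2818))
 (.node (nat_lit 0x14308782fe) (.leaf (nat_lit 0x14308782de) (nat_lit 3073))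
 (.leaf (nat_lit 0x14308782fe) (nat_lit 1795))
))))) (.node (nat_lit 0x16108086a4) (.node (nat_lit 0x1430878ede) (.node (nat_lit 0x1430878ace) (.node (nat_lit 0x14308786ee) (.leaf (nat_lit 0x14308786ce) (nat_lit 2564))
 (.leaf (nat_lit 0x14308786ee) (nat_lit 2820))
) (.node (nat_lit 0x1430878aee) (.leaf (nat_lit 0x1430878ace) (nat_lit 1792))
 (.leaf (nat_lit 0x1430878aee) (nat_lit 2560))
)) (.node (nat_lit 0x1610808284) (.node (nat_lit 0x1430878efe) (.leaf (nat_lit 0x1430878ede) (nat_lit 3074))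
 (.leaf (nat_lit 0x1430878efe) (nat_lit 2818))
) (.node (nat_lit 0x16108082a4) (.leaf (nat_lit 0x1610808284) (nat_lit 1284))
 (.node (nat_lit 0x1610808684) (.leaf (nat_lit 0x16108082a4) (nat_lit 2818))
 (.leaf (nat_lit 0x1610808684) (nat_lit 2560))
)))) (.node (nat_lit 0x1610808eb4) (.node (nat_lit 0x1610808ab4) (.node (nat_lit 0x1610808a94) (.leaf (nat_lit 0x16108086a4) (nat_lit 3330))
 (.leaf (nat_lit 0x1610808a94) (nat_lit 3330))
) (.node (nat_lit 0x1610808e94) (.leaf (nat_lit 0x1610808ab4) (nat_lit 3072))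
 (.leaf (nat_lit 0x1610808e94) (nat_lit 3586))
)) (.node (nat_lit 0x16108190a4) (.node (nat_lit 0x1610819084) (.leaf (nat_lit 0x1610808eb4) (nat_lit 2818))
 (.leaf (nat_lit 0x1610819084) (nat_lit 1792))
) (.node (nat_lit 0x1610819484) (.leaf (nat_lit 0x16108190a4) (nat_lit 2818))
 (.node (nat_lit 0x16108194a4) (.leaf (nat_lit 0x1610819484) (nat_lit 2052))
 (.leaf (nat_lit 0x16108194a4) (nat_lit 3330))
)))))) (.node (nat_lit 0x1610839ccc) (.node (nat_lit 0x1610828aec) (.node (nat_lit 0x16108282dc) (.node (nat_lit 0x1610819c94) (.node (nat_lit 0x16108198b4) (.leaf (nat_lit 0x1610819894) (nat_lit 2818))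
 (.leaf (nat_lit 0x16108198b4) (nat_lit 3076))
) (.node (nat_lit 0x1610819cb4) (.leaf (nat_lit 0x1610819c94) (nat_lit 2562))
 (.leaf (nat_lit 0x1610819cb4) (nat_lit 3072))
)) (.node (nat_lit 0x16108286dc) (.node (nat_lit 0x16108282fc) (.leaf (nat_lit 0x16108282dc) (nat_lit 2563))
 (.leaf (nat_lit 0x16108282fc) (nat_lit 2304))
) (.node (nat_lit 0x16108286fc) (.leaf (nat_lit 0x16108286dc) (nat_lit 3330))
 (.node (nat_lit 0x1610828acc) (.leaf (nat_lit 0x16108286fc) (nat_lit 3074))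
 (.leaf (nat_lit 0x1610828acc) (nat_lit 2052))
)))) (.node (nat_lit 0x16108390fc) (.node (nat_lit 0x1610828eec) (.node (nat_lit 0x1610828ecc) (.leaf (nat_lit 0x1610828aec) (nat_lit 2050))
 (.leaf (nat_lit 0x1610828ecc) (nat_lit 2560))
) (.node (nat_lit 0x16108390dc) (.leaf (nat_lit 0x1610828eec) (nat_lit 3329))
 (.leaf (nat_lit 0x16108390dc) (nat_lit 3587))
)) (.node (nat_lit 0x16108394fc) (.node (nat_lit 0x16108394dc) (.leaf (nat_lit 0x16108390fc) (nat_lit 2308))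
 (.leaf (nat_lit 0x16108394dc) (nat_lit 2306))
) (.node (nat_lit 0x16108398cc) (.leaf (nat_lit 0x16108394fc) (nat_lit 3328))
 (.node (nat_lit 0x16108398ec) (.leaf (nat_lit 0x16108398cc) (nat_lit 2560))
 (.leaf (nat_lit 0x16108398ec) (nat_lit 2050))
))))) (.node (nat_lit 0x1610841cb4) (.node (nat_lit 0x1610841484) (.node (nat_lit 0x1610841084) (.node (nat_lit 0x1610839cec) (.leaf (nat_lit 0x1610839ccc) (nat_lit 2052))
 (.leaf (nat_lit 0x1610839cec) (nat_lit 3329))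
) (.node (nat_lit 0x16108410a4) (.leaf (nat_lit 0x1610841084) (nat_lit 1540))
 (.leaf (nat_lit 0x16108410a4) (nat_lit 2562))
)) (.node (nat_lit 0x1610841894) (.node (nat_lit 0x16108414a4) (.leaf (nat_lit 0x1610841484) (nat_lit 2304))
 (.leaf (nat_lit 0x16108414a4) (nat_lit 3586))
) (.node (nat_lit 0x16108418b4) (.leaf (nat_lit 0x1610841894) (nat_lit 3074))
 (.node (nat_lit 0x1610841c94) (.leaf (nat_lit 0x16108418b4) (nat_lit 3328))
 (.leaf (nat_lit 0x1610841c94) (nat_lit 2818))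
)))) (.node (nat_lit 0x16108506a4) (.node (nat_lit 0x16108502a4) (.node (nat_lit 0x1610850284) (.leaf (nat_lit 0x1610841cb4) (nat_lit 2820))
 (.leaf (nat_lit 0x1610850284) (nat_lit 1536))
) (.node (nat_lit 0x1610850684) (.leaf (nat_lit 0x16108502a4) (nat_lit 3074))
 (.leaf (nat_lit 0x1610850684) (nat_lit 2308))
)) (.node (nat_lit 0x1610850ab4) (.node (nat_lit 0x1610850a94) (.leaf (nat_lit 0x16108506a4) (nat_lit 3074))
 (.leaf (nat_lit 0x1610850a94) (nat_lit 3074))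
) (.node (nat_lit 0x1610850e94) (.leaf (nat_lit 0x1610850ab4) (nat_lit 2820))
 (.node (nat_lit 0x1610850eb4) (.leaf (nat_lit 0x1610850e94) (nat_lit 3330))
 (.leaf (nat_lit 0x1610850eb4) (nat_lit 2562))
)))))))) (.node (nat_lit 0x1610c711dc) (.node (nat_lit 0x1610c299cc) (.node (nat_lit 0x1610c08784) (.node (nat_lit 0x16108702fc) (.node (nat_lit 0x16108618cc) (.node (nat_lit 0x16108614dc) (.node (nat_lit 0x16108610fc) (.leaf (nat_lit 0x16108610dc) (nat_lit 3331))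
 (.leaf (nat_lit 0x16108610fc) (nat_lit 2560))
) (.node (nat_lit 0x16108614fc) (.leaf (nat_lit 0x16108614dc) (nat_lit 2562))
 (.leaf (nat_lit 0x16108614fc) (nat_lit 3076))
)) (.node (nat_lit 0x1610861ccc) (.node (nat_lit 0x16108618ec) (.leaf (nat_lit 0x16108618cc) (nat_lit 2308))
 (.leaf (nat_lit 0x16108618ec) (nat_lit 1794))
) (.node (nat_lit 0x1610861cec) (.leaf (nat_lit 0x1610861ccc) (nat_lit 2304))
 (.node (nat_lit 0x16108702dc) (.leaf (nat_lit 0x1610861cec) (nat_lit 3332))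
 (.leaf (nat_lit 0x16108702dc) (nat_lit 2819))
)))) (.node (nat_lit 0x1610870aec) (.node (nat_lit 0x16108706fc) (.node (nat_lit 0x16108706dc) (.leaf (nat_lit 0x16108702fc) (nat_lit 2052))
 (.leaf (nat_lit 0x16108706dc) (nat_lit 3074))
) (.node (nat_lit 0x1610870acc) (.leaf (nat_lit 0x16108706fc) (nat_lit 2818))
 (.leaf (nat_lit 0x1610870acc) (nat_lit 2304))
)) (.node (nat_lit 0x1610870eec) (.node (nat_lit 0x1610870ecc) (.leaf (nat_lit 0x1610870aec) (nat_lit 2306))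
 (.leaf (nat_lit 0x1610870ecc) (nat_lit 2308))
) (.node (nat_lit 0x1610c08384) (.leaf (nat_lit 0x1610870eec) (nat_lit 3073))
 (.node (nat_lit 0x1610c083b4) (.leaf (nat_lit 0x1610c08384) (nat_lit 1028))
 (.leaf (nat_lit 0x1610c083b4) (nat_lit 3074))
))))) (.node (nat_lit 0x1610c195b4) (.node (nat_lit 0x1610c08f94) (.node (nat_lit 0x1610c08b94) (.node (nat_lit 0x1610c087b4) (.leaf (nat_lit 0x1610c08784) (nat_lit 2304))
 (.leaf (nat_lit 0x1610c087b4) (nat_lit 3074))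
) (.node (nat_lit 0x1610c08ba4) (.leaf (nat_lit 0x1610c08b94) (nat_lit 3328))
 (.leaf (nat_lit 0x1610c08ba4) (nat_lit 2820))
)) (.node (nat_lit 0x1610c19184) (.node (nat_lit 0x1610c08fa4) (.leaf (nat_lit 0x1610c08f94) (nat_lit 3074))
 (.leaf (nat_lit 0x1610c08fa4) (nat_lit 3328))
) (.node (nat_lit 0x1610c191b4) (.leaf (nat_lit 0x1610c19184) (nat_lit 1536))
 (.node (nat_lit 0x1610c19584) (.leaf (nat_lit 0x1610c191b4) (nat_lit 3074))
 (.leaf (nat_lit 0x1610c19584) (nat_lit 1796))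
)))) (.node (nat_lit 0x1610c19da4) (.node (nat_lit 0x1610c199a4) (.node (nat_lit 0x1610c19994) (.leaf (nat_lit 0x1610c195b4) (nat_lit 3074))
 (.leaf (nat_lit 0x1610c19994) (nat_lit 2818))
) (.node (nat_lit 0x1610c19d94) (.leaf (nat_lit 0x1610c199a4) (nat_lit 2816))
 (.leaf (nat_lit 0x1610c19d94) (nat_lit 2562))
)) (.node (nat_lit 0x1610c291ec) (.node (nat_lit 0x1610c291dc) (.leaf (nat_lit 0x1610c19da4) (nat_lit 3332))
 (.leaf (nat_lit 0x1610c291dc) (nat_lit 3328))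
) (.node (nat_lit 0x1610c295dc) (.leaf (nat_lit 0x1610c291ec) (nat_lit 2052))
 (.node (nat_lit 0x1610c295ec) (.leaf (nat_lit 0x1610c295dc) (nat_lit 2306))
 (.leaf (nat_lit 0x1610c295ec) (nat_lit 3328))
)))))) (.node (nat_lit 0x1610c41d94) (.node (nat_lit 0x1610c38bfc) (.node (nat_lit 0x1610c383dc) (.node (nat_lit 0x1610c29dcc) (.node (nat_lit 0x1610c299fc) (.leaf (nat_lit 0x1610c299cc) (nat_lit 1796))
 (.leaf (nat_lit 0x1610c299fc) (nat_lit 3330))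
) (.node (nat_lit 0x1610c29dfc) (.leaf (nat_lit 0x1610c29dcc) (nat_lit 2560))
 (.leaf (nat_lit 0x1610c29dfc) (nat_lit 2306))
)) (.node (nat_lit 0x1610c387dc) (.node (nat_lit 0x1610c383ec) (.leaf (nat_lit 0x1610c383dc) (nat_lit 2561))
 (.leaf (nat_lit 0x1610c383ec) (nat_lit 2048))
) (.node (nat_lit 0x1610c387ec) (.leaf (nat_lit 0x1610c387dc) (nat_lit 3330))
 (.node (nat_lit 0x1610c38bcc) (.leaf (nat_lit 0x1610c387ec) (nat_lit 3332))
 (.leaf (nat_lit 0x1610c38bcc) (nat_lit 2304))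
)))) (.node (nat_lit 0x1610c411b4) (.node (nat_lit 0x1610c38ffc) (.node (nat_lit 0x1610c38fcc) (.leaf (nat_lit 0x1610c38bfc) (nat_lit 3330))
 (.leaf (nat_lit 0x1610c38fcc) (nat_lit 2052))
) (.node (nat_lit 0x1610c41184) (.leaf (nat_lit 0x1610c38ffc) (nat_lit 2306))
 (.leaf (nat_lit 0x1610c41184) (nat_lit 1284))
)) (.node (nat_lit 0x1610c415b4) (.node (nat_lit 0x1610c41584) (.leaf (nat_lit 0x1610c411b4) (nat_lit 2818))
 (.leaf (nat_lit 0x1610c41584) (nat_lit 2048))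
) (.node (nat_lit 0x1610c41994) (.leaf (nat_lit 0x1610c415b4) (nat_lit 3330))
 (.node (nat_lit 0x1610c419a4) (.leaf (nat_lit 0x1610c41994) (nat_lit 3074))
 (.leaf (nat_lit 0x1610c419a4) (nat_lit 2564))
))))) (.node (nat_lit 0x1610c50fa4) (.node (nat_lit 0x1610c50784) (.node (nat_lit 0x1610c50384) (.node (nat_lit 0x1610c41da4) (.leaf (nat_lit 0x1610c41d94) (nat_lit 2818))
 (.leaf (nat_lit 0x1610c41da4) (nat_lit 3330))
) (.node (nat_lit 0x1610c503b4) (.leaf (nat_lit 0x1610c50384) (nat_lit 1280))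
 (.leaf (nat_lit 0x1610c503b4) (nat_lit 2819))
)) (.node (nat_lit 0x1610c50b94) (.node (nat_lit 0x1610c507b4) (.leaf (nat_lit 0x1610c50784) (nat_lit 2052))
 (.leaf (nat_lit 0x1610c507b4) (nat_lit 2818))
) (.node (nat_lit 0x1610c50ba4) (.leaf (nat_lit 0x1610c50b94) (nat_lit 3076))
 (.node (nat_lit 0x1610c50f94) (.leaf (nat_lit 0x1610c50ba4) (nat_lit 2818))
 (.leaf (nat_lit 0x1610c50f94) (nat_lit 2818))
)))) (.node (nat_lit 0x1610c607ec) (.node (nat_lit 0x1610c603ec) (.node (nat_lit 0x1610c603dc) (.leaf (nat_lit 0x1610c50fa4) (nat_lit 3076))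
 (.leaf (nat_lit 0x1610c603dc) (nat_lit 2817))
) (.node (nat_lit 0x1610c607dc) (.leaf (nat_lit 0x1610c603ec) (nat_lit 1796))
 (.leaf (nat_lit 0x1610c607dc) (nat_lit 3074))
)) (.node (nat_lit 0x1610c60bfc) (.node (nat_lit 0x1610c60bcc) (.leaf (nat_lit 0x1610c607ec) (nat_lit 3074))
 (.leaf (nat_lit 0x1610c60bcc) (nat_lit 2052))
) (.node (nat_lit 0x1610c60fcc) (.leaf (nat_lit 0x1610c60bfc) (nat_lit 3074))
 (.node (nat_lit 0x1610c60ffc) (.leaf (nat_lit 0x1610c60fcc) (nat_lit 2304))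
 (.leaf (nat_lit 0x1610c60ffc) (nat_lit 2562))
))))))) (.node (nat_lit 0x1620439b62) (.node (nat_lit 0x1620418562) (.node (nat_lit 0x162040811a) (.node (nat_lit 0x1610c719cc) (.node (nat_lit 0x1610c715dc) (.node (nat_lit 0x1610c711ec) (.leaf (nat_lit 0x1610c711dc) (nat_lit 3076))
 (.leaf (nat_lit 0x1610c711ec) (nat_lit 2304))
) (.node (nat_lit 0x1610c715ec) (.leaf (nat_lit 0x1610c715dc) (nat_lit 2562))
 (.leaf (nat_lit 0x1610c715ec) (nat_lit 3076))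
)) (.node (nat_lit 0x1610c71dcc) (.node (nat_lit 0x1610c719fc) (.leaf (nat_lit 0x1610c719cc) (nat_lit 2048))
 (.leaf (nat_lit 0x1610c719fc) (nat_lit 3076))
) (.node (nat_lit 0x1610c71dfc) (.leaf (nat_lit 0x1610c71dcc) (nat_lit 2308))
 (.node (nat_lit 0x162040810a) (.leaf (nat_lit 0x1610c71dfc) (nat_lit 2050))
 (.leaf (nat_lit 0x162040810a) (nat_lit 1284))
)))) (.node (nat_lit 0x162040891a) (.node (nat_lit 0x162040853a) (.node (nat_lit 0x162040852a) (.leaf (nat_lit 0x162040811a) (nat_lit 2819))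
 (.leaf (nat_lit 0x162040852a) (nat_lit 2820))
) (.node (nat_lit 0x162040890a) (.leaf (nat_lit 0x162040853a) (nat_lit 3328))
 (.leaf (nat_lit 0x162040890a) (nat_lit 2562))
)) (.node (nat_lit 0x1620408d3a) (.node (nat_lit 0x1620408d2a) (.leaf (nat_lit 0x162040891a) (nat_lit 3074))
 (.leaf (nat_lit 0x1620408d2a) (nat_lit 2560))
) (.node (nat_lit 0x1620418142) (.leaf (nat_lit 0x1620408d3a) (nat_lit 2564))
 (.node (nat_lit 0x1620418152) (.leaf (nat_lit 0x1620418142) (nat_lit 1792))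
 (.leaf (nat_lit 0x1620418152) (nat_lit 2307))
))))) (.node (nat_lit 0x162042971a) (.node (nat_lit 0x1620418d62) (.node (nat_lit 0x1620418942) (.node (nat_lit 0x1620418572) (.leaf (nat_lit 0x1620418562) (nat_lit 2308))
 (.leaf (nat_lit 0x1620418572) (nat_lit 2308))
) (.node (nat_lit 0x1620418952) (.leaf (nat_lit 0x1620418942) (nat_lit 2562))
 (.leaf (nat_lit 0x1620418952) (nat_lit 3074))
)) (.node (nat_lit 0x162042932a) (.node (nat_lit 0x1620418d72) (.leaf (nat_lit 0x1620418d62) (nat_lit 2564))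
 (.leaf (nat_lit 0x1620418d72) (nat_lit 2560))
) (.node (nat_lit 0x162042933a) (.leaf (nat_lit 0x162042932a) (nat_lit 2052))
 (.node (nat_lit 0x162042970a) (.leaf (nat_lit 0x162042933a) (nat_lit 2560))
 (.leaf (nat_lit 0x162042970a) (nat_lit 2052))
)))) (.node (nat_lit 0x1620429f1a) (.node (nat_lit 0x1620429b3a) (.node (nat_lit 0x1620429b2a) (.leaf (nat_lit 0x162042971a) (nat_lit 3074))
 (.leaf (nat_lit 0x1620429b2a) (nat_lit 1794))
) (.node (nat_lit 0x1620429f0a) (.leaf (nat_lit 0x1620429b3a) (nat_lit 3332))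
 (.leaf (nat_lit 0x1620429f0a) (nat_lit 1792))
)) (.node (nat_lit 0x1620439372) (.node (nat_lit 0x1620439362) (.leaf (nat_lit 0x1620429f1a) (nat_lit 2820))
 (.leaf (nat_lit 0x1620439362) (nat_lit 2560))
) (.node (nat_lit 0x1620439742) (.leaf (nat_lit 0x1620439372) (nat_lit 2052))
 (.node (nat_lit 0x1620439752) (.leaf (nat_lit 0x1620439742) (nat_lit 3072))
 (.leaf (nat_lit 0x1620439752) (nat_lit 2050))
)))))) (.node (nat_lit 0x1620450d2a) (.node (nat_lit 0x1620440952) (.node (nat_lit 0x1620440142) (.node (nat_lit 0x1620439f42) (.node (nat_lit 0x1620439b72) (.leaf (nat_lit 0x1620439b62) (nat_lit 1794))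
 (.leaf (nat_lit 0x1620439b72) (nat_lit 2816))
) (.node (nat_lit 0x1620439f52) (.leaf (nat_lit 0x1620439f42) (nat_lit 1796))
 (.leaf (nat_lit 0x1620439f52) (nat_lit 2816))
)) (.node (nat_lit 0x1620440562) (.node (nat_lit 0x1620440152) (.leaf (nat_lit 0x1620440142) (nat_lit 1540))
 (.leaf (nat_lit 0x1620440152) (nat_lit 2563))
) (.node (nat_lit 0x1620440572) (.leaf (nat_lit 0x1620440562) (nat_lit 2564))
 (.node (nat_lit 0x1620440942) (.leaf (nat_lit 0x1620440572) (nat_lit 2560))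
 (.leaf (nat_lit 0x1620440942) (nat_lit 2306))
)))) (.node (nat_lit 0x162045011a) (.node (nat_lit 0x1620440d72) (.node (nat_lit 0x1620440d62) (.leaf (nat_lit 0x1620440952) (nat_lit 2820))
 (.leaf (nat_lit 0x1620440d62) (nat_lit 2816))
) (.node (nat_lit 0x162045010a) (.leaf (nat_lit 0x1620440d72) (nat_lit 2308))
 (.leaf (nat_lit 0x162045010a) (nat_lit 1536))
)) (.node (nat_lit 0x162045053a) (.node (nat_lit 0x162045052a) (.leaf (nat_lit 0x162045011a) (nat_lit 2563))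
 (.leaf (nat_lit 0x162045052a) (nat_lit 2564))
) (.node (nat_lit 0x162045090a) (.leaf (nat_lit 0x162045053a) (nat_lit 3076))
 (.node (nat_lit 0x162045091a) (.leaf (nat_lit 0x162045090a) (nat_lit 2308))
 (.leaf (nat_lit 0x162045091a) (nat_lit 2818))
))))) (.node (nat_lit 0x1620461f52) (.node (nat_lit 0x1620461742) (.node (nat_lit 0x1620461362) (.node (nat_lit 0x1620450d3a) (.leaf (nat_lit 0x1620450d2a) (nat_lit 2308))
 (.leaf (nat_lit 0x1620450d3a) (nat_lit 2306))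
) (.node (nat_lit 0x1620461372) (.leaf (nat_lit 0x1620461362) (nat_lit 2308))
 (.leaf (nat_lit 0x1620461372) (nat_lit 2304))
)) (.node (nat_lit 0x1620461b62) (.node (nat_lit 0x1620461752) (.leaf (nat_lit 0x1620461742) (nat_lit 2820))
 (.leaf (nat_lit 0x1620461752) (nat_lit 2306))
) (.node (nat_lit 0x1620461b72) (.leaf (nat_lit 0x1620461b62) (nat_lit 1538))
 (.node (nat_lit 0x1620461f42) (.leaf (nat_lit 0x1620461b72) (nat_lit 2564))
 (.leaf (nat_lit 0x1620461f42) (nat_lit 2048))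
)))) (.node (nat_lit 0x162047171a) (.node (nat_lit 0x162047133a) (.node (nat_lit 0x162047132a) (.leaf (nat_lit 0x1620461f52) (nat_lit 2564))
 (.leaf (nat_lit 0x162047132a) (nat_lit 2304))
) (.node (nat_lit 0x162047170a) (.leaf (nat_lit 0x162047133a) (nat_lit 2308))
 (.leaf (nat_lit 0x162047170a) (nat_lit 2304))
)) (.node (nat_lit 0x1620471b3a) (.node (nat_lit 0x1620471b2a) (.leaf (nat_lit 0x162047171a) (nat_lit 2818))
 (.leaf (nat_lit 0x1620471b2a) (nat_lit 2050))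
) (.node (nat_lit 0x1620471f0a) (.leaf (nat_lit 0x1620471b3a) (nat_lit 3074))
 (.node (nat_lit 0x1620471f1a) (.leaf (nat_lit 0x1620471f0a) (nat_lit 1540))
 (.leaf (nat_lit 0x1620471f1a) (nat_lit 2562))
)))))))))) (.node (nat_lit 0x1810c493cc) (.node (nat_lit 0x16308282d6) (.node (nat_lit 0x1630418146) (.node (nat_lit 0x1620c419c2) (.node (nat_lit 0x1620c2958a) (.node (nat_lit 0x1620c191f2) (.node (nat_lit 0x1620c08b8a) (.node (nat_lit 0x1620c0879a) (.node (nat_lit 0x1620c083ba) (.leaf (nat_lit 0x1620c0838a) (nat_lit 1282))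
 (.leaf (nat_lit 0x1620c083ba) (nat_lit 2820))
) (.node (nat_lit 0x1620c087aa) (.leaf (nat_lit 0x1620c0879a) (nat_lit 2562))
 (.leaf (nat_lit 0x1620c087aa) (nat_lit 2816))
)) (.node (nat_lit 0x1620c08f9a) (.node (nat_lit 0x1620c08bba) (.leaf (nat_lit 0x1620c08b8a) (nat_lit 2819))
 (.leaf (nat_lit 0x1620c08bba) (nat_lit 3584))
) (.node (nat_lit 0x1620c08faa) (.leaf (nat_lit 0x1620c08f9a) (nat_lit 3331))
 (.node (nat_lit 0x1620c191c2) (.leaf (nat_lit 0x1620c08faa) (nat_lit 2817))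
 (.leaf (nat_lit 0x1620c191c2) (nat_lit 1794))
)))) (.node (nat_lit 0x1620c199f2) (.node (nat_lit 0x1620c195e2) (.node (nat_lit 0x1620c195d2) (.leaf (nat_lit 0x1620c191f2) (nat_lit 2816))
 (.leaf (nat_lit 0x1620c195d2) (nat_lit 2050))
) (.node (nat_lit 0x1620c199c2) (.leaf (nat_lit 0x1620c195e2) (nat_lit 2820))
 (.leaf (nat_lit 0x1620c199c2) (nat_lit 2819))
)) (.node (nat_lit 0x1620c19de2) (.node (nat_lit 0x1620c19dd2) (.leaf (nat_lit 0x1620c199f2) (nat_lit 2564))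
 (.leaf (nat_lit 0x1620c19dd2) (nat_lit 3331))
) (.node (nat_lit 0x1620c2919a) (.leaf (nat_lit 0x1620c19de2) (nat_lit 2308))
 (.node (nat_lit 0x1620c291aa) (.leaf (nat_lit 0x1620c2919a) (nat_lit 3329))
 (.leaf (nat_lit 0x1620c291aa) (nat_lit 2051))
))))) (.node (nat_lit 0x1620c387f2) (.node (nat_lit 0x1620c29d8a) (.node (nat_lit 0x1620c2999a) (.node (nat_lit 0x1620c295ba) (.leaf (nat_lit 0x1620c2958a) (nat_lit 2049))
 (.leaf (nat_lit 0x1620c295ba) (nat_lit 3588))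
) (.node (nat_lit 0x1620c299aa) (.leaf (nat_lit 0x1620c2999a) (nat_lit 3076))
 (.leaf (nat_lit 0x1620c299aa) (nat_lit 2050))
)) (.node (nat_lit 0x1620c383d2) (.node (nat_lit 0x1620c29dba) (.leaf (nat_lit 0x1620c29d8a) (nat_lit 2048))
 (.leaf (nat_lit 0x1620c29dba) (nat_lit 2816))
) (.node (nat_lit 0x1620c383e2) (.leaf (nat_lit 0x1620c383d2) (nat_lit 2305))
 (.node (nat_lit 0x1620c387c2) (.leaf (nat_lit 0x1620c383e2) (nat_lit 2051))
 (.leaf (nat_lit 0x1620c387c2) (nat_lit 3073))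
)))) (.node (nat_lit 0x1620c38ff2) (.node (nat_lit 0x1620c38be2) (.node (nat_lit 0x1620c38bd2) (.leaf (nat_lit 0x1620c387f2) (nat_lit 3072))
 (.leaf (nat_lit 0x1620c38bd2) (nat_lit 3076))
) (.node (nat_lit 0x1620c38fc2) (.leaf (nat_lit 0x1620c38be2) (nat_lit 2562))
 (.leaf (nat_lit 0x1620c38fc2) (nat_lit 2052))
)) (.node (nat_lit 0x1620c411f2) (.node (nat_lit 0x1620c411c2) (.leaf (nat_lit 0x1620c38ff2) (nat_lit 2308))
 (.leaf (nat_lit 0x1620c411c2) (nat_lit 1538))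
) (.node (nat_lit 0x1620c415d2) (.leaf (nat_lit 0x1620c411f2) (nat_lit 2564))
 (.node (nat_lit 0x1620c415e2) (.leaf (nat_lit 0x1620c415d2) (nat_lit 2306))
 (.leaf (nat_lit 0x1620c415e2) (nat_lit 3072))
)))))) (.node (nat_lit 0x1620c60fc2) (.node (nat_lit 0x1620c50bba) (.node (nat_lit 0x1620c5038a) (.node (nat_lit 0x1620c41dd2) (.node (nat_lit 0x1620c419f2) (.leaf (nat_lit 0x1620c419c2) (nat_lit 2563))
 (.leaf (nat_lit 0x1620c419f2) (nat_lit 2816))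
) (.node (nat_lit 0x1620c41de2) (.leaf (nat_lit 0x1620c41dd2) (nat_lit 3076))
 (.leaf (nat_lit 0x1620c41de2) (nat_lit 2560))
)) (.node (nat_lit 0x1620c5079a) (.node (nat_lit 0x1620c503ba) (.leaf (nat_lit 0x1620c5038a) (nat_lit 1538))
 (.leaf (nat_lit 0x1620c503ba) (nat_lit 2563))
) (.node (nat_lit 0x1620c507aa) (.leaf (nat_lit 0x1620c5079a) (nat_lit 2306))
 (.node (nat_lit 0x1620c50b8a) (.leaf (nat_lit 0x1620c507aa) (nat_lit 2564))
 (.leaf (nat_lit 0x1620c50b8a) (nat_lit 2564))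
)))) (.node (nat_lit 0x1620c603e2) (.node (nat_lit 0x1620c50faa) (.node (nat_lit 0x1620c50f9a) (.leaf (nat_lit 0x1620c50bba) (nat_lit 3332))
 (.leaf (nat_lit 0x1620c50f9a) (nat_lit 3075))
) (.node (nat_lit 0x1620c603d2) (.leaf (nat_lit 0x1620c50faa) (nat_lit 2564))
 (.leaf (nat_lit 0x1620c603d2) (nat_lit 2561))
)) (.node (nat_lit 0x1620c607f2) (.node (nat_lit 0x1620c607c2) (.leaf (nat_lit 0x1620c603e2) (nat_lit 1795))
 (.leaf (nat_lit 0x1620c607c2) (nat_lit 2817))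
) (.node (nat_lit 0x1620c60bd2) (.leaf (nat_lit 0x1620c607f2) (nat_lit 2820))
 (.node (nat_lit 0x1620c60be2) (.leaf (nat_lit 0x1620c60bd2) (nat_lit 2820))
 (.leaf (nat_lit 0x1620c60be2) (nat_lit 2306))
))))) (.node (nat_lit 0x1620c71dba) (.node (nat_lit 0x1620c7158a) (.node (nat_lit 0x1620c7119a) (.node (nat_lit 0x1620c60ff2) (.leaf (nat_lit 0x1620c60fc2) (nat_lit 2304))
 (.leaf (nat_lit 0x1620c60ff2) (nat_lit 2560))
) (.node (nat_lit 0x1620c711aa) (.leaf (nat_lit 0x1620c7119a) (nat_lit 3073))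
 (.leaf (nat_lit 0x1620c711aa) (nat_lit 2307))
)) (.node (nat_lit 0x1620c7199a) (.node (nat_lit 0x1620c715ba) (.leaf (nat_lit 0x1620c7158a) (nat_lit 2305))
 (.leaf (nat_lit 0x1620c715ba) (nat_lit 3331))
) (.node (nat_lit 0x1620c719aa) (.leaf (nat_lit 0x1620c7199a) (nat_lit 2820))
 (.node (nat_lit 0x1620c71d8a) (.leaf (nat_lit 0x1620c719aa) (nat_lit 2306))
 (.leaf (nat_lit 0x1620c71d8a) (nat_lit 1796))
)))) (.node (nat_lit 0x163040853e) (.node (nat_lit 0x163040811e) (.node (nat_lit 0x163040810e) (.leaf (nat_lit 0x1620c71dba) (nat_lit 2564))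
 (.leaf (nat_lit 0x163040810e) (nat_lit 1028))
) (.node (nat_lit 0x163040852e) (.leaf (nat_lit 0x163040811e) (nat_lit 3075))
 (.leaf (nat_lit 0x163040852e) (nat_lit 3072))
)) (.node (nat_lit 0x163040893e) (.node (nat_lit 0x163040892e) (.leaf (nat_lit 0x163040853e) (nat_lit 3076))
 (.leaf (nat_lit 0x163040892e) (nat_lit 2308))
) (.node (nat_lit 0x1630408d0e) (.leaf (nat_lit 0x163040893e) (nat_lit 2816))
 (.node (nat_lit 0x1630408d1e) (.leaf (nat_lit 0x1630408d0e) (nat_lit 2304))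
 (.leaf (nat_lit 0x1630408d1e) (nat_lit 2818))
))))))) (.node (nat_lit 0x163045092e) (.node (nat_lit 0x163043970e) (.node (nat_lit 0x1630429376) (.node (nat_lit 0x1630418966) (.node (nat_lit 0x1630418566) (.node (nat_lit 0x1630418156) (.leaf (nat_lit 0x1630418146) (nat_lit 1536))
 (.leaf (nat_lit 0x1630418156) (nat_lit 2563))
) (.node (nat_lit 0x1630418576) (.leaf (nat_lit 0x1630418566) (nat_lit 2052))
 (.leaf (nat_lit 0x1630418576) (nat_lit 2564))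
)) (.node (nat_lit 0x1630418d46) (.node (nat_lit 0x1630418976) (.leaf (nat_lit 0x1630418966) (nat_lit 2304))
 (.leaf (nat_lit 0x1630418976) (nat_lit 2820))
) (.node (nat_lit 0x1630418d56) (.leaf (nat_lit 0x1630418d46) (nat_lit 2820))
 (.node (nat_lit 0x1630429366) (.leaf (nat_lit 0x1630418d56) (nat_lit 2818))
 (.leaf (nat_lit 0x1630429366) (nat_lit 1796))
)))) (.node (nat_lit 0x1630429b56) (.node (nat_lit 0x1630429756) (.node (nat_lit 0x1630429746) (.leaf (nat_lit 0x1630429376) (nat_lit 2816))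
 (.leaf (nat_lit 0x1630429746) (nat_lit 2816))
) (.node (nat_lit 0x1630429b46) (.leaf (nat_lit 0x1630429756) (nat_lit 2306))
 (.leaf (nat_lit 0x1630429b46) (nat_lit 1540))
)) (.node (nat_lit 0x1630429f76) (.node (nat_lit 0x1630429f66) (.leaf (nat_lit 0x1630429b56) (nat_lit 3072))
 (.leaf (nat_lit 0x1630429f66) (nat_lit 2560))
) (.node (nat_lit 0x163043932e) (.leaf (nat_lit 0x1630429f76) (nat_lit 2050))
 (.node (nat_lit 0x163043933e) (.leaf (nat_lit 0x163043932e) (nat_lit 2304))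
 (.leaf (nat_lit 0x163043933e) (nat_lit 2308))
))))) (.node (nat_lit 0x1630440576) (.node (nat_lit 0x1630439f2e) (.node (nat_lit 0x1630439b0e) (.node (nat_lit 0x163043971e) (.leaf (nat_lit 0x163043970e) (nat_lit 1796))
 (.leaf (nat_lit 0x163043971e) (nat_lit 3330))
) (.node (nat_lit 0x1630439b1e) (.leaf (nat_lit 0x1630439b0e) (nat_lit 1536))
 (.leaf (nat_lit 0x1630439b1e) (nat_lit 3076))
)) (.node (nat_lit 0x1630440146) (.node (nat_lit 0x1630439f3e) (.leaf (nat_lit 0x1630439f2e) (nat_lit 3076))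
 (.leaf (nat_lit 0x1630439f3e) (nat_lit 2050))
) (.node (nat_lit 0x1630440156) (.leaf (nat_lit 0x1630440146) (nat_lit 1284))
 (.node (nat_lit 0x1630440566) (.leaf (nat_lit 0x1630440156) (nat_lit 2819))
 (.leaf (nat_lit 0x1630440566) (nat_lit 2304))
)))) (.node (nat_lit 0x1630440d56) (.node (nat_lit 0x1630440976) (.node (nat_lit 0x1630440966) (.leaf (nat_lit 0x1630440576) (nat_lit 2820))
 (.leaf (nat_lit 0x1630440966) (nat_lit 2052))
) (.node (nat_lit 0x1630440d46) (.leaf (nat_lit 0x1630440976) (nat_lit 3072))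
 (.leaf (nat_lit 0x1630440d46) (nat_lit 2562))
)) (.node (nat_lit 0x163045011e) (.node (nat_lit 0x163045010e) (.leaf (nat_lit 0x1630440d56) (nat_lit 3074))
 (.leaf (nat_lit 0x163045010e) (nat_lit 1280))
) (.node (nat_lit 0x163045052e) (.leaf (nat_lit 0x163045011e) (nat_lit 2819))
 (.node (nat_lit 0x163045053e) (.leaf (nat_lit 0x163045052e) (nat_lit 2820))
 (.leaf (nat_lit 0x163045053e) (nat_lit 2820))
)))))) (.node (nat_lit 0x1630471f66) (.node (nat_lit 0x1630461b1e) (.node (nat_lit 0x163046132e) (.node (nat_lit 0x1630450d0e) (.node (nat_lit 0x163045093e) (.leaf (nat_lit 0x163045092e) (nat_lit 2560))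
 (.leaf (nat_lit 0x163045093e) (nat_lit 2564))
) (.node (nat_lit 0x1630450d1e) (.leaf (nat_lit 0x1630450d0e) (nat_lit 2052))
 (.leaf (nat_lit 0x1630450d1e) (nat_lit 2562))
)) (.node (nat_lit 0x163046170e) (.node (nat_lit 0x163046133e) (.leaf (nat_lit 0x163046132e) (nat_lit 2052))
 (.leaf (nat_lit 0x163046133e) (nat_lit 2560))
) (.node (nat_lit 0x163046171e) (.leaf (nat_lit 0x163046170e) (nat_lit 2048))
 (.node (nat_lit 0x1630461b0e) (.leaf (nat_lit 0x163046171e) (nat_lit 3074))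
 (.leaf (nat_lit 0x1630461b0e) (nat_lit 1284))
)))) (.node (nat_lit 0x1630471376) (.node (nat_lit 0x1630461f3e) (.node (nat_lit 0x1630461f2e) (.leaf (nat_lit 0x1630461b1e) (nat_lit 2818))
 (.leaf (nat_lit 0x1630461f2e) (nat_lit 2818))
) (.node (nat_lit 0x1630471366) (.leaf (nat_lit 0x1630461f3e) (nat_lit 2306))
 (.leaf (nat_lit 0x1630471366) (nat_lit 2048))
)) (.node (nat_lit 0x1630471756) (.node (nat_lit 0x1630471746) (.leaf (nat_lit 0x1630471376) (nat_lit 2564))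
 (.leaf (nat_lit 0x1630471746) (nat_lit 2564))
) (.node (nat_lit 0x1630471b46) (.leaf (nat_lit 0x1630471756) (nat_lit 2562))
 (.node (nat_lit 0x1630471b56) (.leaf (nat_lit 0x1630471b46) (nat_lit 1792))
 (.leaf (nat_lit 0x1630471b56) (nat_lit 2820))
))))) (.node (nat_lit 0x1630808eae) (.node (nat_lit 0x163080869e) (.node (nat_lit 0x163080828e) (.node (nat_lit 0x1630471f76) (.leaf (nat_lit 0x1630471f66) (nat_lit 2308))
 (.leaf (nat_lit 0x1630471f76) (nat_lit 1794))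
) (.node (nat_lit 0x16308082ae) (.leaf (nat_lit 0x163080828e) (nat_lit 1284))
 (.leaf (nat_lit 0x16308082ae) (nat_lit 2564))
)) (.node (nat_lit 0x1630808a9e) (.node (nat_lit 0x16308086be) (.leaf (nat_lit 0x163080869e) (nat_lit 2818))
 (.leaf (nat_lit 0x16308086be) (nat_lit 3072))
) (.node (nat_lit 0x1630808abe) (.leaf (nat_lit 0x1630808a9e) (nat_lit 3075))
 (.node (nat_lit 0x1630808e8e) (.leaf (nat_lit 0x1630808abe) (nat_lit 3073))
 (.leaf (nat_lit 0x1630808e8e) (nat_lit 2560))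
)))) (.node (nat_lit 0x16308194f6) (.node (nat_lit 0x16308190e6) (.node (nat_lit 0x16308190c6) (.leaf (nat_lit 0x1630808eae) (nat_lit 3328))
 (.leaf (nat_lit 0x16308190c6) (nat_lit 1792))
) (.node (nat_lit 0x16308194d6) (.leaf (nat_lit 0x16308190e6) (nat_lit 2560))
 (.leaf (nat_lit 0x16308194d6) (nat_lit 2306))
)) (.node (nat_lit 0x16308198f6) (.node (nat_lit 0x16308198d6) (.leaf (nat_lit 0x16308194f6) (nat_lit 3076))
 (.leaf (nat_lit 0x16308198d6) (nat_lit 3075))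
) (.node (nat_lit 0x1630819cc6) (.leaf (nat_lit 0x16308198f6) (nat_lit 2564))
 (.node (nat_lit 0x1630819ce6) (.leaf (nat_lit 0x1630819cc6) (nat_lit 3076))
 (.leaf (nat_lit 0x1630819ce6) (nat_lit 2308))
)))))))) (.node (nat_lit 0x18108390dc) (.node (nat_lit 0x163086188e) (.node (nat_lit 0x16308414d6) (.node (nat_lit 0x16308390be) (.node (nat_lit 0x1630828ac6) (.node (nat_lit 0x16308286c6) (.node (nat_lit 0x16308282f6) (.leaf (nat_lit 0x16308282d6) (nat_lit 2561))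
 (.leaf (nat_lit 0x16308282f6) (nat_lit 2307))
) (.node (nat_lit 0x16308286e6) (.leaf (nat_lit 0x16308286c6) (nat_lit 3072))
 (.leaf (nat_lit 0x16308286e6) (nat_lit 2816))
)) (.node (nat_lit 0x1630828ed6) (.node (nat_lit 0x1630828ae6) (.leaf (nat_lit 0x1630828ac6) (nat_lit 1796))
 (.leaf (nat_lit 0x1630828ae6) (nat_lit 2052))
) (.node (nat_lit 0x1630828ef6) (.leaf (nat_lit 0x1630828ed6) (nat_lit 3332))
 (.node (nat_lit 0x163083909e) (.leaf (nat_lit 0x1630828ef6) (nat_lit 2818))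
 (.leaf (nat_lit 0x163083909e) (nat_lit 3332))
)))) (.node (nat_lit 0x16308398ae) (.node (nat_lit 0x16308394ae) (.node (nat_lit 0x163083948e) (.leaf (nat_lit 0x16308390be) (nat_lit 2307))
 (.leaf (nat_lit 0x163083948e) (nat_lit 2052))
) (.node (nat_lit 0x163083988e) (.leaf (nat_lit 0x16308394ae) (nat_lit 3332))
 (.leaf (nat_lit 0x163083988e) (nat_lit 1792))
)) (.node (nat_lit 0x1630839cbe) (.node (nat_lit 0x1630839c9e) (.leaf (nat_lit 0x16308398ae) (nat_lit 2560))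
 (.leaf (nat_lit 0x1630839c9e) (nat_lit 3332))
) (.node (nat_lit 0x16308410c6) (.leaf (nat_lit 0x1630839cbe) (nat_lit 2306))
 (.node (nat_lit 0x16308410e6) (.leaf (nat_lit 0x16308410c6) (nat_lit 1540))
 (.leaf (nat_lit 0x16308410e6) (nat_lit 2308))
))))) (.node (nat_lit 0x16308506be) (.node (nat_lit 0x1630841cc6) (.node (nat_lit 0x16308418d6) (.node (nat_lit 0x16308414f6) (.leaf (nat_lit 0x16308414d6) (nat_lit 2562))
 (.leaf (nat_lit 0x16308414f6) (nat_lit 3328))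
) (.node (nat_lit 0x16308418f6) (.leaf (nat_lit 0x16308418d6) (nat_lit 3331))
 (.leaf (nat_lit 0x16308418f6) (nat_lit 2816))
)) (.node (nat_lit 0x163085028e) (.node (nat_lit 0x1630841ce6) (.leaf (nat_lit 0x1630841cc6) (nat_lit 2819))
 (.leaf (nat_lit 0x1630841ce6) (nat_lit 2560))
) (.node (nat_lit 0x16308502ae) (.leaf (nat_lit 0x163085028e) (nat_lit 1536))
 (.node (nat_lit 0x163085069e) (.leaf (nat_lit 0x16308502ae) (nat_lit 2816))
 (.leaf (nat_lit 0x163085069e) (nat_lit 2562))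
)))) (.node (nat_lit 0x1630850eae) (.node (nat_lit 0x1630850abe) (.node (nat_lit 0x1630850a9e) (.leaf (nat_lit 0x16308506be) (nat_lit 2820))
 (.leaf (nat_lit 0x1630850a9e) (nat_lit 2819))
) (.node (nat_lit 0x1630850e8e) (.leaf (nat_lit 0x1630850abe) (nat_lit 2820))
 (.leaf (nat_lit 0x1630850e8e) (nat_lit 2308))
)) (.node (nat_lit 0x16308610be) (.node (nat_lit 0x163086109e) (.leaf (nat_lit 0x1630850eae) (nat_lit 3076))
 (.leaf (nat_lit 0x163086109e) (nat_lit 3329))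
) (.node (nat_lit 0x163086148e) (.leaf (nat_lit 0x16308610be) (nat_lit 2563))
 (.node (nat_lit 0x16308614ae) (.leaf (nat_lit 0x163086148e) (nat_lit 2304))
 (.leaf (nat_lit 0x16308614ae) (nat_lit 3075))
)))))) (.node (nat_lit 0x1810808c9c) (.node (nat_lit 0x1630870ae6) (.node (nat_lit 0x16308702d6) (.node (nat_lit 0x1630861c9e) (.node (nat_lit 0x16308618ae) (.leaf (nat_lit 0x163086188e) (nat_lit 1540))
 (.leaf (nat_lit 0x16308618ae) (nat_lit 2308))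
) (.node (nat_lit 0x1630861cbe) (.leaf (nat_lit 0x1630861c9e) (nat_lit 3076))
 (.leaf (nat_lit 0x1630861cbe) (nat_lit 2562))
)) (.node (nat_lit 0x16308706c6) (.node (nat_lit 0x16308702f6) (.leaf (nat_lit 0x16308702d6) (nat_lit 2817))
 (.leaf (nat_lit 0x16308702f6) (nat_lit 2051))
) (.node (nat_lit 0x16308706e6) (.leaf (nat_lit 0x16308706c6) (nat_lit 2820))
 (.node (nat_lit 0x1630870ac6) (.leaf (nat_lit 0x16308706e6) (nat_lit 2564))
 (.leaf (nat_lit 0x1630870ac6) (nat_lit 2048))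
)))) (.node (nat_lit 0x18108080ac) (.node (nat_lit 0x1630870ef6) (.node (nat_lit 0x1630870ed6) (.leaf (nat_lit 0x1630870ae6) (nat_lit 2304))
 (.leaf (nat_lit 0x1630870ed6) (nat_lit 3076))
) (.node (nat_lit 0x181080808c) (.leaf (nat_lit 0x1630870ef6) (nat_lit 2562))
 (.leaf (nat_lit 0x181080808c) (nat_lit 1027))
)) (.node (nat_lit 0x18108084ac) (.node (nat_lit 0x181080848c) (.leaf (nat_lit 0x18108080ac) (nat_lit 2819))
 (.leaf (nat_lit 0x181080848c) (nat_lit 3072))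
) (.node (nat_lit 0x181080889c) (.leaf (nat_lit 0x18108084ac) (nat_lit 3332))
 (.node (nat_lit 0x18108088bc) (.leaf (nat_lit 0x181080889c) (nat_lit 3074))
 (.leaf (nat_lit 0x18108088bc) (nat_lit 3328))
))))) (.node (nat_lit 0x1810819cac) (.node (nat_lit 0x181081949c) (.node (nat_lit 0x181081909c) (.node (nat_lit 0x1810808cbc) (.leaf (nat_lit 0x1810808c9c) (nat_lit 3329))
 (.leaf (nat_lit 0x1810808cbc) (nat_lit 3076))
) (.node (nat_lit 0x18108190bc) (.leaf (nat_lit 0x181081909c) (nat_lit 2819))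
 (.leaf (nat_lit 0x18108190bc) (nat_lit 3072))
)) (.node (nat_lit 0x181081988c) (.node (nat_lit 0x18108194bc) (.leaf (nat_lit 0x181081949c) (nat_lit 2050))
 (.leaf (nat_lit 0x18108194bc) (nat_lit 3332))
) (.node (nat_lit 0x18108198ac) (.leaf (nat_lit 0x181081988c) (nat_lit 2305))
 (.node (nat_lit 0x1810819c8c) (.leaf (nat_lit 0x18108198ac) (nat_lit 2818))
 (.leaf (nat_lit 0x1810819c8c) (nat_lit 1792))
)))) (.node (nat_lit 0x18108284ec) (.node (nat_lit 0x18108280ec) (.node (nat_lit 0x18108280cc) (.leaf (nat_lit 0x1810819cac) (nat_lit 3076))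
 (.leaf (nat_lit 0x18108280cc) (nat_lit 1539))
) (.node (nat_lit 0x18108284cc) (.leaf (nat_lit 0x18108280ec) (nat_lit 2307))
 (.leaf (nat_lit 0x18108284cc) (nat_lit 3076))
)) (.node (nat_lit 0x18108288fc) (.node (nat_lit 0x18108288dc) (.leaf (nat_lit 0x18108284ec) (nat_lit 3332))
 (.leaf (nat_lit 0x18108288dc) (nat_lit 2562))
) (.node (nat_lit 0x1810828cdc) (.leaf (nat_lit 0x18108288fc) (nat_lit 2820))
 (.node (nat_lit 0x1810828cfc) (.leaf (nat_lit 0x1810828cdc) (nat_lit 3332))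
 (.leaf (nat_lit 0x1810828cfc) (nat_lit 3072))
))))))) (.node (nat_lit 0x181087988c) (.node (nat_lit 0x18108594dc) (.node (nat_lit 0x18108480ec) (.node (nat_lit 0x18108398cc) (.node (nat_lit 0x18108394dc) (.node (nat_lit 0x18108390fc) (.leaf (nat_lit 0x18108390dc) (nat_lit 3331))
 (.leaf (nat_lit 0x18108390fc) (nat_lit 2564))
) (.node (nat_lit 0x18108394fc) (.leaf (nat_lit 0x18108394dc) (nat_lit 2050))
 (.leaf (nat_lit 0x18108394fc) (nat_lit 3330))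
)) (.node (nat_lit 0x1810839ccc) (.node (nat_lit 0x18108398ec) (.leaf (nat_lit 0x18108398cc) (nat_lit 2817))
 (.leaf (nat_lit 0x18108398ec) (nat_lit 2306))
) (.node (nat_lit 0x1810839cec) (.leaf (nat_lit 0x1810839ccc) (nat_lit 1796))
 (.node (nat_lit 0x18108480cc) (.leaf (nat_lit 0x1810839cec) (nat_lit 3072))
 (.leaf (nat_lit 0x18108480cc) (nat_lit 1283))
)))) (.node (nat_lit 0x18108488fc) (.node (nat_lit 0x18108484ec) (.node (nat_lit 0x18108484cc) (.leaf (nat_lit 0x18108480ec) (nat_lit 2563))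
 (.leaf (nat_lit 0x18108484cc) (nat_lit 3328))
) (.node (nat_lit 0x18108488dc) (.leaf (nat_lit 0x18108484ec) (nat_lit 3076))
 (.leaf (nat_lit 0x18108488dc) (nat_lit 2818))
)) (.node (nat_lit 0x1810848cfc) (.node (nat_lit 0x1810848cdc) (.leaf (nat_lit 0x18108488fc) (nat_lit 3072))
 (.leaf (nat_lit 0x1810848cdc) (nat_lit 3073))
) (.node (nat_lit 0x18108590dc) (.leaf (nat_lit 0x1810848cfc) (nat_lit 2820))
 (.node (nat_lit 0x18108590fc) (.leaf (nat_lit 0x18108590dc) (nat_lit 3075))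
 (.leaf (nat_lit 0x18108590fc) (nat_lit 2816))
))))) (.node (nat_lit 0x18108684ac) (.node (nat_lit 0x1810859ccc) (.node (nat_lit 0x18108598cc) (.node (nat_lit 0x18108594fc) (.leaf (nat_lit 0x18108594dc) (nat_lit 1794))
 (.leaf (nat_lit 0x18108594fc) (nat_lit 3076))
) (.node (nat_lit 0x18108598ec) (.leaf (nat_lit 0x18108598cc) (nat_lit 2561))
 (.leaf (nat_lit 0x18108598ec) (nat_lit 2562))
)) (.node (nat_lit 0x181086808c) (.node (nat_lit 0x1810859cec) (.leaf (nat_lit 0x1810859ccc) (nat_lit 2048))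
 (.leaf (nat_lit 0x1810859cec) (nat_lit 2820))
) (.node (nat_lit 0x18108680ac) (.leaf (nat_lit 0x181086808c) (nat_lit 1283))
 (.node (nat_lit 0x181086848c) (.leaf (nat_lit 0x18108680ac) (nat_lit 2563))
 (.leaf (nat_lit 0x181086848c) (nat_lit 2820))
)))) (.node (nat_lit 0x1810868cbc) (.node (nat_lit 0x18108688bc) (.node (nat_lit 0x181086889c) (.leaf (nat_lit 0x18108684ac) (nat_lit 3330))
 (.leaf (nat_lit 0x181086889c) (nat_lit 2818))
) (.node (nat_lit 0x1810868c9c) (.leaf (nat_lit 0x18108688bc) (nat_lit 3076))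
 (.leaf (nat_lit 0x1810868c9c) (nat_lit 3076))
)) (.node (nat_lit 0x18108790bc) (.node (nat_lit 0x181087909c) (.leaf (nat_lit 0x1810868cbc) (nat_lit 3074))
 (.leaf (nat_lit 0x181087909c) (nat_lit 3075))
) (.node (nat_lit 0x181087949c) (.leaf (nat_lit 0x18108790bc) (nat_lit 2820))
 (.node (nat_lit 0x18108794bc) (.leaf (nat_lit 0x181087949c) (nat_lit 2306))
 (.leaf (nat_lit 0x18108794bc) (nat_lit 3074))
)))))) (.node (nat_lit 0x1810c19f8c) (.node (nat_lit 0x1810c08bac) (.node (nat_lit 0x1810c0838c) (.node (nat_lit 0x1810879c8c) (.node (nat_lit 0x18108798ac) (.leaf (nat_lit 0x181087988c) (nat_lit 2561))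
 (.leaf (nat_lit 0x18108798ac) (nat_lit 2562))
) (.node (nat_lit 0x1810879cac) (.leaf (nat_lit 0x1810879c8c) (nat_lit 1540))
 (.leaf (nat_lit 0x1810879cac) (nat_lit 3328))
)) (.node (nat_lit 0x1810c0878c) (.node (nat_lit 0x1810c083bc) (.leaf (nat_lit 0x1810c0838c) (nat_lit 770))
 (.leaf (nat_lit 0x1810c083bc) (nat_lit 3332))
) (.node (nat_lit 0x1810c087bc) (.leaf (nat_lit 0x1810c0878c) (nat_lit 3076))
 (.node (nat_lit 0x1810c08b9c) (.leaf (nat_lit 0x1810c087bc) (nat_lit 3328))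
 (.leaf (nat_lit 0x1810c08b9c) (nat_lit 3588))
)))) (.node (nat_lit 0x1810c193ac) (.node (nat_lit 0x1810c08fac) (.node (nat_lit 0x1810c08f9c) (.leaf (nat_lit 0x1810c08bac) (nat_lit 2562))
 (.leaf (nat_lit 0x1810c08f9c) (nat_lit 2816))
) (.node (nat_lit 0x1810c1939c) (.leaf (nat_lit 0x1810c08fac) (nat_lit 3332))
 (.leaf (nat_lit 0x1810c1939c) (nat_lit 2308))
)) (.node (nat_lit 0x1810c197ac) (.node (nat_lit 0x1810c1979c) (.leaf (nat_lit 0x1810c193ac) (nat_lit 2817))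
 (.leaf (nat_lit 0x1810c1979c) (nat_lit 2562))
) (.node (nat_lit 0x1810c19b8c) (.leaf (nat_lit 0x1810c197ac) (nat_lit 3076))
 (.node (nat_lit 0x1810c19bbc) (.leaf (nat_lit 0x1810c19b8c) (nat_lit 2049))
 (.leaf (nat_lit 0x1810c19bbc) (nat_lit 3332))
))))) (.node (nat_lit 0x1810c29fec) (.node (nat_lit 0x1810c297cc) (.node (nat_lit 0x1810c293cc) (.node (nat_lit 0x1810c19fbc) (.leaf (nat_lit 0x1810c19f8c) (nat_lit 1796))
 (.leaf (nat_lit 0x1810c19fbc) (nat_lit 3074))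
) (.node (nat_lit 0x1810c293fc) (.leaf (nat_lit 0x1810c293cc) (nat_lit 1282))
 (.leaf (nat_lit 0x1810c293fc) (nat_lit 3328))
)) (.node (nat_lit 0x1810c29bdc) (.node (nat_lit 0x1810c297fc) (.leaf (nat_lit 0x1810c297cc) (nat_lit 3076))
 (.leaf (nat_lit 0x1810c297fc) (nat_lit 2820))
) (.node (nat_lit 0x1810c29bec) (.leaf (nat_lit 0x1810c29bdc) (nat_lit 3588))
 (.node (nat_lit 0x1810c29fdc) (.leaf (nat_lit 0x1810c29bec) (nat_lit 2050))
 (.leaf (nat_lit 0x1810c29fdc) (nat_lit 2308))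
)))) (.node (nat_lit 0x1810c387ec) (.node (nat_lit 0x1810c383ec) (.node (nat_lit 0x1810c383dc) (.leaf (nat_lit 0x1810c29fec) (nat_lit 3332))
 (.leaf (nat_lit 0x1810c383dc) (nat_lit 2304))
) (.node (nat_lit 0x1810c387dc) (.leaf (nat_lit 0x1810c383ec) (nat_lit 2305))
 (.leaf (nat_lit 0x1810c387dc) (nat_lit 3074))
)) (.node (nat_lit 0x1810c38bfc) (.node (nat_lit 0x1810c38bcc) (.leaf (nat_lit 0x1810c387ec) (nat_lit 3076))
 (.leaf (nat_lit 0x1810c38bcc) (nat_lit 2561))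
) (.node (nat_lit 0x1810c38fcc) (.leaf (nat_lit 0x1810c38bfc) (nat_lit 3328))
 (.node (nat_lit 0x1810c38ffc) (.leaf (nat_lit 0x1810c38fcc) (nat_lit 1796))
 (.leaf (nat_lit 0x1810c38ffc) (nat_lit 2562))
))))))))) (.node (nat_lit 0x1820c68382) (.node (nat_lit 0x1820459362) (.node (nat_lit 0x1820408b02) (.node (nat_lit 0x1810c6878c) (.node (nat_lit 0x1810c583ec) (.node (nat_lit 0x1810c49bdc) (.node (nat_lit 0x1810c497cc) (.node (nat_lit 0x1810c493fc) (.leaf (nat_lit 0x1810c493cc) (nat_lit 1026))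
 (.leaf (nat_lit 0x1810c493fc) (nat_lit 3076))
) (.node (nat_lit 0x1810c497fc) (.leaf (nat_lit 0x1810c497cc) (nat_lit 3332))
 (.leaf (nat_lit 0x1810c497fc) (nat_lit 3072))
)) (.node (nat_lit 0x1810c49fdc) (.node (nat_lit 0x1810c49bec) (.leaf (nat_lit 0x1810c49bdc) (nat_lit 3332))
 (.leaf (nat_lit 0x1810c49bec) (nat_lit 2306))
) (.node (nat_lit 0x1810c49fec) (.leaf (nat_lit 0x1810c49fdc) (nat_lit 2560))
 (.node (nat_lit 0x1810c583dc) (.leaf (nat_lit 0x1810c49fec) (nat_lit 3076))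
 (.leaf (nat_lit 0x1810c583dc) (nat_lit 2052))
)))) (.node (nat_lit 0x1810c58bfc) (.node (nat_lit 0x1810c587ec) (.node (nat_lit 0x1810c587dc) (.leaf (nat_lit 0x1810c583ec) (nat_lit 2561))
 (.leaf (nat_lit 0x1810c587dc) (nat_lit 2818))
) (.node (nat_lit 0x1810c58bcc) (.leaf (nat_lit 0x1810c587ec) (nat_lit 2820))
 (.leaf (nat_lit 0x1810c58bcc) (nat_lit 2305))
)) (.node (nat_lit 0x1810c58ffc) (.node (nat_lit 0x1810c58fcc) (.leaf (nat_lit 0x1810c58bfc) (nat_lit 3076))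
 (.leaf (nat_lit 0x1810c58fcc) (nat_lit 2052))
) (.node (nat_lit 0x1810c6838c) (.leaf (nat_lit 0x1810c58ffc) (nat_lit 2818))
 (.node (nat_lit 0x1810c683bc) (.leaf (nat_lit 0x1810c6838c) (nat_lit 1026))
 (.leaf (nat_lit 0x1810c683bc) (nat_lit 3331))
))))) (.node (nat_lit 0x1810c797ac) (.node (nat_lit 0x1810c68f9c) (.node (nat_lit 0x1810c68b9c) (.node (nat_lit 0x1810c687bc) (.leaf (nat_lit 0x1810c6878c) (nat_lit 2820))
 (.leaf (nat_lit 0x1810c687bc) (nat_lit 3076))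
) (.node (nat_lit 0x1810c68bac) (.leaf (nat_lit 0x1810c68b9c) (nat_lit 3332))
 (.leaf (nat_lit 0x1810c68bac) (nat_lit 2306))
)) (.node (nat_lit 0x1810c7939c) (.node (nat_lit 0x1810c68fac) (.leaf (nat_lit 0x1810c68f9c) (nat_lit 2564))
 (.leaf (nat_lit 0x1810c68fac) (nat_lit 3588))
) (.node (nat_lit 0x1810c793ac) (.leaf (nat_lit 0x1810c7939c) (nat_lit 2560))
 (.node (nat_lit 0x1810c7979c) (.leaf (nat_lit 0x1810c793ac) (nat_lit 2561))
 (.leaf (nat_lit 0x1810c7979c) (nat_lit 2818))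
)))) (.node (nat_lit 0x1810c79fbc) (.node (nat_lit 0x1810c79bbc) (.node (nat_lit 0x1810c79b8c) (.leaf (nat_lit 0x1810c797ac) (nat_lit 3332))
 (.leaf (nat_lit 0x1810c79b8c) (nat_lit 2305))
) (.node (nat_lit 0x1810c79f8c) (.leaf (nat_lit 0x1810c79bbc) (nat_lit 3332))
 (.leaf (nat_lit 0x1810c79f8c) (nat_lit 1540))
)) (.node (nat_lit 0x1820408312) (.node (nat_lit 0x1820408302) (.leaf (nat_lit 0x1810c79fbc) (nat_lit 2818))
 (.leaf (nat_lit 0x1820408302) (nat_lit 260))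
) (.node (nat_lit 0x1820408722) (.leaf (nat_lit 0x1820408312) (nat_lit 3588))
 (.node (nat_lit 0x1820408732) (.leaf (nat_lit 0x1820408722) (nat_lit 2818))
 (.leaf (nat_lit 0x1820408732) (nat_lit 3330))
)))))) (.node (nat_lit 0x1820429f22) (.node (nat_lit 0x1820418b72) (.node (nat_lit 0x1820418362) (.node (nat_lit 0x1820408f22) (.node (nat_lit 0x1820408b12) (.leaf (nat_lit 0x1820408b02) (nat_lit 2048))
 (.leaf (nat_lit 0x1820408b12) (nat_lit 3586))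
) (.node (nat_lit 0x1820408f32) (.leaf (nat_lit 0x1820408f22) (nat_lit 3584))
 (.leaf (nat_lit 0x1820408f32) (nat_lit 3076))
)) (.node (nat_lit 0x1820418742) (.node (nat_lit 0x1820418372) (.leaf (nat_lit 0x1820418362) (nat_lit 2305))
 (.leaf (nat_lit 0x1820418372) (nat_lit 1792))
) (.node (nat_lit 0x1820418752) (.leaf (nat_lit 0x1820418742) (nat_lit 2308))
 (.node (nat_lit 0x1820418b62) (.leaf (nat_lit 0x1820418752) (nat_lit 1794))
 (.leaf (nat_lit 0x1820418b62) (nat_lit 2562))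
)))) (.node (nat_lit 0x1820429312) (.node (nat_lit 0x1820418f52) (.node (nat_lit 0x1820418f42) (.leaf (nat_lit 0x1820418b72) (nat_lit 3076))
 (.leaf (nat_lit 0x1820418f42) (nat_lit 2560))
) (.node (nat_lit 0x1820429302) (.leaf (nat_lit 0x1820418f52) (nat_lit 3074))
 (.leaf (nat_lit 0x1820429302) (nat_lit 768))
)) (.node (nat_lit 0x1820429732) (.node (nat_lit 0x1820429722) (.leaf (nat_lit 0x1820429312) (nat_lit 3587))
 (.leaf (nat_lit 0x1820429722) (nat_lit 2306))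
) (.node (nat_lit 0x1820429b02) (.leaf (nat_lit 0x1820429732) (nat_lit 3332))
 (.node (nat_lit 0x1820429b12) (.leaf (nat_lit 0x1820429b02) (nat_lit 1540))
 (.leaf (nat_lit 0x1820429b12) (nat_lit 3586))
))))) (.node (nat_lit 0x1820439f52) (.node (nat_lit 0x1820439742) (.node (nat_lit 0x1820439362) (.node (nat_lit 0x1820429f32) (.leaf (nat_lit 0x1820429f22) (nat_lit 3076))
 (.leaf (nat_lit 0x1820429f32) (nat_lit 3074))
) (.node (nat_lit 0x1820439372) (.leaf (nat_lit 0x1820439362) (nat_lit 2817))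
 (.leaf (nat_lit 0x1820439372) (nat_lit 1796))
)) (.node (nat_lit 0x1820439b62) (.node (nat_lit 0x1820439752) (.leaf (nat_lit 0x1820439742) (nat_lit 2816))
 (.leaf (nat_lit 0x1820439752) (nat_lit 1794))
) (.node (nat_lit 0x1820439b72) (.leaf (nat_lit 0x1820439b62) (nat_lit 2050))
 (.node (nat_lit 0x1820439f42) (.leaf (nat_lit 0x1820439b72) (nat_lit 3072))
 (.leaf (nat_lit 0x1820439f42) (nat_lit 2052))
)))) (.node (nat_lit 0x1820449732) (.node (nat_lit 0x1820449312) (.node (nat_lit 0x1820449302) (.leaf (nat_lit 0x1820439f52) (nat_lit 3074))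
 (.leaf (nat_lit 0x1820449302) (nat_lit 516))
) (.node (nat_lit 0x1820449722) (.leaf (nat_lit 0x1820449312) (nat_lit 3332))
 (.leaf (nat_lit 0x1820449722) (nat_lit 2562))
)) (.node (nat_lit 0x1820449b12) (.node (nat_lit 0x1820449b02) (.leaf (nat_lit 0x1820449732) (nat_lit 3074))
 (.leaf (nat_lit 0x1820449b02) (nat_lit 1792))
) (.node (nat_lit 0x1820449f22) (.leaf (nat_lit 0x1820449b12) (nat_lit 3330))
 (.node (nat_lit 0x1820449f32) (.leaf (nat_lit 0x1820449f22) (nat_lit 3328))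
 (.leaf (nat_lit 0x1820449f32) (nat_lit 2820))
))))))) (.node (nat_lit 0x1820c19bd2) (.node (nat_lit 0x1820478742) (.node (nat_lit 0x1820468312) (.node (nat_lit 0x1820459b62) (.node (nat_lit 0x1820459742) (.node (nat_lit 0x1820459372) (.leaf (nat_lit 0x1820459362) (nat_lit 2561))
 (.leaf (nat_lit 0x1820459372) (nat_lit 2048))
) (.node (nat_lit 0x1820459752) (.leaf (nat_lit 0x1820459742) (nat_lit 2564))
 (.leaf (nat_lit 0x1820459752) (nat_lit 1538))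
)) (.node (nat_lit 0x1820459f42) (.node (nat_lit 0x1820459b72) (.leaf (nat_lit 0x1820459b62) (nat_lit 2306))
 (.leaf (nat_lit 0x1820459b72) (nat_lit 2820))
) (.node (nat_lit 0x1820459f52) (.leaf (nat_lit 0x1820459f42) (nat_lit 2304))
 (.node (nat_lit 0x1820468302) (.leaf (nat_lit 0x1820459f52) (nat_lit 3330))
 (.leaf (nat_lit 0x1820468302) (nat_lit 512))
)))) (.node (nat_lit 0x1820468b12) (.node (nat_lit 0x1820468732) (.node (nat_lit 0x1820468722) (.leaf (nat_lit 0x1820468312) (nat_lit 3331))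
 (.leaf (nat_lit 0x1820468722) (nat_lit 2562))
) (.node (nat_lit 0x1820468b02) (.leaf (nat_lit 0x1820468732) (nat_lit 3076))
 (.leaf (nat_lit 0x1820468b02) (nat_lit 1796))
)) (.node (nat_lit 0x1820468f32) (.node (nat_lit 0x1820468f22) (.leaf (nat_lit 0x1820468b12) (nat_lit 3330))
 (.leaf (nat_lit 0x1820468f22) (nat_lit 3332))
) (.node (nat_lit 0x1820478362) (.leaf (nat_lit 0x1820468f32) (nat_lit 2818))
 (.node (nat_lit 0x1820478372) (.leaf (nat_lit 0x1820478362) (nat_lit 2561))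
 (.leaf (nat_lit 0x1820478372) (nat_lit 1540))
))))) (.node (nat_lit 0x1820c087a2) (.node (nat_lit 0x1820478f42) (.node (nat_lit 0x1820478b62) (.node (nat_lit 0x1820478752) (.leaf (nat_lit 0x1820478742) (nat_lit 2560))
 (.leaf (nat_lit 0x1820478752) (nat_lit 2050))
) (.node (nat_lit 0x1820478b72) (.leaf (nat_lit 0x1820478b62) (nat_lit 2306))
 (.leaf (nat_lit 0x1820478b72) (nat_lit 3328))
)) (.node (nat_lit 0x1820c08382) (.node (nat_lit 0x1820478f52) (.leaf (nat_lit 0x1820478f42) (nat_lit 2308))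
 (.leaf (nat_lit 0x1820478f52) (nat_lit 2818))
) (.node (nat_lit 0x1820c083b2) (.leaf (nat_lit 0x1820c08382) (nat_lit 516))
 (.node (nat_lit 0x1820c08792) (.leaf (nat_lit 0x1820c083b2) (nat_lit 3332))
 (.leaf (nat_lit 0x1820c08792) (nat_lit 3332))
)))) (.node (nat_lit 0x1820c08fa2) (.node (nat_lit 0x1820c08bb2) (.node (nat_lit 0x1820c08b82) (.leaf (nat_lit 0x1820c087a2) (nat_lit 3586))
 (.leaf (nat_lit 0x1820c08b82) (nat_lit 2304))
) (.node (nat_lit 0x1820c08f92) (.leaf (nat_lit 0x1820c08bb2) (nat_lit 3587))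
 (.leaf (nat_lit 0x1820c08f92) (nat_lit 3586))
)) (.node (nat_lit 0x1820c193e2) (.node (nat_lit 0x1820c193d2) (.leaf (nat_lit 0x1820c08fa2) (nat_lit 3075))
 (.leaf (nat_lit 0x1820c193d2) (nat_lit 2052))
) (.node (nat_lit 0x1820c197c2) (.leaf (nat_lit 0x1820c193e2) (nat_lit 2819))
 (.node (nat_lit 0x1820c197f2) (.leaf (nat_lit 0x1820c197c2) (nat_lit 2308))
 (.leaf (nat_lit 0x1820c197f2) (nat_lit 3330))
)))))) (.node (nat_lit 0x1820c38fc2) (.node (nat_lit 0x1820c29bb2) (.node (nat_lit 0x1820c29382) (.node (nat_lit 0x1820c19fc2) (.node (nat_lit 0x1820c19be2) (.leaf (nat_lit 0x1820c19bd2) (nat_lit 3328))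
 (.leaf (nat_lit 0x1820c19be2) (nat_lit 2306))
) (.node (nat_lit 0x1820c19ff2) (.leaf (nat_lit 0x1820c19fc2) (nat_lit 2816))
 (.leaf (nat_lit 0x1820c19ff2) (nat_lit 2048))
)) (.node (nat_lit 0x1820c29792) (.node (nat_lit 0x1820c293b2) (.leaf (nat_lit 0x1820c29382) (nat_lit 1024))
 (.leaf (nat_lit 0x1820c293b2) (nat_lit 3331))
) (.node (nat_lit 0x1820c297a2) (.leaf (nat_lit 0x1820c29792) (nat_lit 3330))
 (.node (nat_lit 0x1820c29b82) (.leaf (nat_lit 0x1820c297a2) (nat_lit 3074))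
 (.leaf (nat_lit 0x1820c29b82) (nat_lit 1796))
)))) (.node (nat_lit 0x1820c383e2) (.node (nat_lit 0x1820c29fa2) (.node (nat_lit 0x1820c29f92) (.leaf (nat_lit 0x1820c29bb2) (nat_lit 3588))
 (.leaf (nat_lit 0x1820c29f92) (nat_lit 3588))
) (.node (nat_lit 0x1820c383d2) (.leaf (nat_lit 0x1820c29fa2) (nat_lit 2563))
 (.leaf (nat_lit 0x1820c383d2) (nat_lit 2048))
)) (.node (nat_lit 0x1820c387f2) (.node (nat_lit 0x1820c387c2) (.leaf (nat_lit 0x1820c383e2) (nat_lit 2307))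
 (.leaf (nat_lit 0x1820c387c2) (nat_lit 2816))
) (.node (nat_lit 0x1820c38bd2) (.leaf (nat_lit 0x1820c387f2) (nat_lit 3330))
 (.node (nat_lit 0x1820c38be2) (.leaf (nat_lit 0x1820c38bd2) (nat_lit 3332))
 (.leaf (nat_lit 0x1820c38be2) (nat_lit 2818))
))))) (.node (nat_lit 0x1820c49fa2) (.node (nat_lit 0x1820c49792) (.node (nat_lit 0x1820c49382) (.node (nat_lit 0x1820c38ff2) (.leaf (nat_lit 0x1820c38fc2) (nat_lit 2308))
 (.leaf (nat_lit 0x1820c38ff2) (nat_lit 2052))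
) (.node (nat_lit 0x1820c493b2) (.leaf (nat_lit 0x1820c49382) (nat_lit 772))
 (.leaf (nat_lit 0x1820c493b2) (nat_lit 3076))
)) (.node (nat_lit 0x1820c49b82) (.node (nat_lit 0x1820c497a2) (.leaf (nat_lit 0x1820c49792) (nat_lit 3076))
 (.leaf (nat_lit 0x1820c497a2) (nat_lit 3330))
) (.node (nat_lit 0x1820c49bb2) (.leaf (nat_lit 0x1820c49b82) (nat_lit 2048))
 (.node (nat_lit 0x1820c49f92) (.leaf (nat_lit 0x1820c49bb2) (nat_lit 3331))
 (.leaf (nat_lit 0x1820c49f92) (nat_lit 3330))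
)))) (.node (nat_lit 0x1820c587f2) (.node (nat_lit 0x1820c583e2) (.node (nat_lit 0x1820c583d2) (.leaf (nat_lit 0x1820c49fa2) (nat_lit 2819))
 (.leaf (nat_lit 0x1820c583d2) (nat_lit 1796))
) (.node (nat_lit 0x1820c587c2) (.leaf (nat_lit 0x1820c583e2) (nat_lit 2563))
 (.leaf (nat_lit 0x1820c587c2) (nat_lit 2564))
)) (.node (nat_lit 0x1820c58be2) (.node (nat_lit 0x1820c58bd2) (.leaf (nat_lit 0x1820c587f2) (nat_lit 3074))
 (.leaf (nat_lit 0x1820c58bd2) (nat_lit 3330))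
) (.node (nat_lit 0x1820c58fc2) (.leaf (nat_lit 0x1820c58be2) (nat_lit 2562))
 (.node (nat_lit 0x1820c58ff2) (.leaf (nat_lit 0x1820c58fc2) (nat_lit 2560))
 (.leaf (nat_lit 0x1820c58ff2) (nat_lit 2304))
)))))))) (.node (nat_lit 0x183047836e) (.node (nat_lit 0x1830429b6e) (.node (nat_lit 0x183040872e) (.node (nat_lit 0x1820c793e2) (.node (nat_lit 0x1820c68b82) (.node (nat_lit 0x1820c68792) (.node (nat_lit 0x1820c683b2) (.leaf (nat_lit 0x1820c68382) (nat_lit 768))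
 (.leaf (nat_lit 0x1820c683b2) (nat_lit 3075))
) (.node (nat_lit 0x1820c687a2) (.leaf (nat_lit 0x1820c68792) (nat_lit 3074))
 (.leaf (nat_lit 0x1820c687a2) (nat_lit 3330))
)) (.node (nat_lit 0x1820c68f92) (.node (nat_lit 0x1820c68bb2) (.leaf (nat_lit 0x1820c68b82) (nat_lit 2052))
 (.leaf (nat_lit 0x1820c68bb2) (nat_lit 3332))
) (.node (nat_lit 0x1820c68fa2) (.leaf (nat_lit 0x1820c68f92) (nat_lit 3332))
 (.node (nat_lit 0x1820c793d2) (.leaf (nat_lit 0x1820c68fa2) (nat_lit 2819))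
 (.leaf (nat_lit 0x1820c793d2) (nat_lit 2304))
)))) (.node (nat_lit 0x1820c79be2) (.node (nat_lit 0x1820c797f2) (.node (nat_lit 0x1820c797c2) (.leaf (nat_lit 0x1820c793e2) (nat_lit 2563))
 (.leaf (nat_lit 0x1820c797c2) (nat_lit 2560))
) (.node (nat_lit 0x1820c79bd2) (.leaf (nat_lit 0x1820c797f2) (nat_lit 3586))
 (.leaf (nat_lit 0x1820c79bd2) (nat_lit 3076))
)) (.node (nat_lit 0x1820c79ff2) (.node (nat_lit 0x1820c79fc2) (.leaf (nat_lit 0x1820c79be2) (nat_lit 2562))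
 (.leaf (nat_lit 0x1820c79fc2) (nat_lit 2564))
) (.node (nat_lit 0x183040830e) (.leaf (nat_lit 0x1820c79ff2) (nat_lit 1796))
 (.node (nat_lit 0x183040831e) (.leaf (nat_lit 0x183040830e) (nat_lit 514))
 (.leaf (nat_lit 0x183040831e) (nat_lit 3588))
))))) (.node (nat_lit 0x183041875e) (.node (nat_lit 0x1830408f0e) (.node (nat_lit 0x1830408b2e) (.node (nat_lit 0x183040873e) (.leaf (nat_lit 0x183040872e) (nat_lit 3076))
 (.leaf (nat_lit 0x183040873e) (nat_lit 2560))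
) (.node (nat_lit 0x1830408b3e) (.leaf (nat_lit 0x1830408b2e) (nat_lit 2306))
 (.leaf (nat_lit 0x1830408b3e) (nat_lit 3332))
)) (.node (nat_lit 0x183041836e) (.node (nat_lit 0x1830408f1e) (.leaf (nat_lit 0x1830408f0e) (nat_lit 2820))
 (.leaf (nat_lit 0x1830408f1e) (nat_lit 3328))
) (.node (nat_lit 0x183041837e) (.leaf (nat_lit 0x183041836e) (nat_lit 2049))
 (.node (nat_lit 0x183041874e) (.leaf (nat_lit 0x183041837e) (nat_lit 2048))
 (.leaf (nat_lit 0x183041874e) (nat_lit 1540))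
)))) (.node (nat_lit 0x1830418f7e) (.node (nat_lit 0x1830418b5e) (.node (nat_lit 0x1830418b4e) (.leaf (nat_lit 0x183041875e) (nat_lit 2562))
 (.leaf (nat_lit 0x1830418b4e) (nat_lit 2305))
) (.node (nat_lit 0x1830418f6e) (.leaf (nat_lit 0x1830418b5e) (nat_lit 3332))
 (.leaf (nat_lit 0x1830418f6e) (nat_lit 2820))
)) (.node (nat_lit 0x183042935e) (.node (nat_lit 0x183042934e) (.leaf (nat_lit 0x1830418f7e) (nat_lit 2818))
 (.leaf (nat_lit 0x183042934e) (nat_lit 1026))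
) (.node (nat_lit 0x183042976e) (.leaf (nat_lit 0x183042935e) (nat_lit 3587))
 (.node (nat_lit 0x183042977e) (.leaf (nat_lit 0x183042976e) (nat_lit 3076))
 (.leaf (nat_lit 0x183042977e) (nat_lit 2052))
)))))) (.node (nat_lit 0x1830449f4e) (.node (nat_lit 0x1830439b1e) (.node (nat_lit 0x183043932e) (.node (nat_lit 0x1830429f4e) (.node (nat_lit 0x1830429b7e) (.leaf (nat_lit 0x1830429b6e) (nat_lit 1794))
 (.leaf (nat_lit 0x1830429b7e) (nat_lit 3332))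
) (.node (nat_lit 0x1830429f5e) (.leaf (nat_lit 0x1830429f4e) (nat_lit 2820))
 (.leaf (nat_lit 0x1830429f5e) (nat_lit 2820))
)) (.node (nat_lit 0x183043970e) (.node (nat_lit 0x183043933e) (.leaf (nat_lit 0x183043932e) (nat_lit 2561))
 (.leaf (nat_lit 0x183043933e) (nat_lit 2052))
) (.node (nat_lit 0x183043971e) (.leaf (nat_lit 0x183043970e) (nat_lit 1540))
 (.node (nat_lit 0x1830439b0e) (.leaf (nat_lit 0x183043971e) (nat_lit 3074))
 (.leaf (nat_lit 0x1830439b0e) (nat_lit 1793))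
)))) (.node (nat_lit 0x183044935e) (.node (nat_lit 0x1830439f3e) (.node (nat_lit 0x1830439f2e) (.leaf (nat_lit 0x1830439b1e) (nat_lit 3332))
 (.leaf (nat_lit 0x1830439f2e) (nat_lit 2820))
) (.node (nat_lit 0x183044934e) (.leaf (nat_lit 0x1830439f3e) (nat_lit 2306))
 (.leaf (nat_lit 0x183044934e) (nat_lit 770))
)) (.node (nat_lit 0x183044977e) (.node (nat_lit 0x183044976e) (.leaf (nat_lit 0x183044935e) (nat_lit 3332))
 (.leaf (nat_lit 0x183044976e) (nat_lit 2820))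
) (.node (nat_lit 0x1830449b6e) (.leaf (nat_lit 0x183044977e) (nat_lit 2304))
 (.node (nat_lit 0x1830449b7e) (.leaf (nat_lit 0x1830449b6e) (nat_lit 2050))
 (.leaf (nat_lit 0x1830449b7e) (nat_lit 3076))
))))) (.node (nat_lit 0x1830459f3e) (.node (nat_lit 0x183045970e) (.node (nat_lit 0x183045932e) (.node (nat_lit 0x1830449f5e) (.leaf (nat_lit 0x1830449f4e) (nat_lit 3076))
 (.leaf (nat_lit 0x1830449f5e) (nat_lit 3072))
) (.node (nat_lit 0x183045933e) (.leaf (nat_lit 0x183045932e) (nat_lit 2305))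
 (.leaf (nat_lit 0x183045933e) (nat_lit 2304))
)) (.node (nat_lit 0x1830459b0e) (.node (nat_lit 0x183045971e) (.leaf (nat_lit 0x183045970e) (nat_lit 1284))
 (.leaf (nat_lit 0x183045971e) (nat_lit 2818))
) (.node (nat_lit 0x1830459b1e) (.leaf (nat_lit 0x1830459b0e) (nat_lit 2049))
 (.node (nat_lit 0x1830459f2e) (.leaf (nat_lit 0x1830459b1e) (nat_lit 3076))
 (.leaf (nat_lit 0x1830459f2e) (nat_lit 3076))
)))) (.node (nat_lit 0x183046873e) (.node (nat_lit 0x183046831e) (.node (nat_lit 0x183046830e) (.leaf (nat_lit 0x1830459f3e) (nat_lit 2562))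
 (.leaf (nat_lit 0x183046830e) (nat_lit 770))
) (.node (nat_lit 0x183046872e) (.leaf (nat_lit 0x183046831e) (nat_lit 3331))
 (.leaf (nat_lit 0x183046872e) (nat_lit 3332))
)) (.node (nat_lit 0x1830468b3e) (.node (nat_lit 0x1830468b2e) (.leaf (nat_lit 0x183046873e) (nat_lit 2308))
 (.leaf (nat_lit 0x1830468b2e) (nat_lit 2050))
) (.node (nat_lit 0x1830468f0e) (.leaf (nat_lit 0x1830468b3e) (nat_lit 3076))
 (.node (nat_lit 0x1830468f1e) (.leaf (nat_lit 0x1830468f0e) (nat_lit 2564))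
 (.leaf (nat_lit 0x1830468f1e) (nat_lit 3076))
))))))) (.node (nat_lit 0x183083988e) (.node (nat_lit 0x18308194ce) (.node (nat_lit 0x18308080ae) (.node (nat_lit 0x1830478b4e) (.node (nat_lit 0x183047874e) (.node (nat_lit 0x183047837e) (.leaf (nat_lit 0x183047836e) (nat_lit 2305))
 (.leaf (nat_lit 0x183047837e) (nat_lit 1796))
) (.node (nat_lit 0x183047875e) (.leaf (nat_lit 0x183047874e) (nat_lit 1796))
 (.leaf (nat_lit 0x183047875e) (nat_lit 2818))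
)) (.node (nat_lit 0x1830478f6e) (.node (nat_lit 0x1830478b5e) (.leaf (nat_lit 0x1830478b4e) (nat_lit 2049))
 (.leaf (nat_lit 0x1830478b5e) (nat_lit 3076))
) (.node (nat_lit 0x1830478f7e) (.leaf (nat_lit 0x1830478f6e) (nat_lit 2564))
 (.node (nat_lit 0x183080808e) (.leaf (nat_lit 0x1830478f7e) (nat_lit 2562))
 (.leaf (nat_lit 0x183080808e) (nat_lit 771))
)))) (.node (nat_lit 0x18308088be) (.node (nat_lit 0x18308084be) (.node (nat_lit 0x183080849e) (.leaf (nat_lit 0x18308080ae) (nat_lit 2563))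
 (.leaf (nat_lit 0x183080849e) (nat_lit 3332))
) (.node (nat_lit 0x183080889e) (.leaf (nat_lit 0x18308084be) (nat_lit 3329))
 (.leaf (nat_lit 0x183080889e) (nat_lit 3584))
)) (.node (nat_lit 0x1830808cae) (.node (nat_lit 0x1830808c8e) (.leaf (nat_lit 0x18308088be) (nat_lit 2816))
 (.leaf (nat_lit 0x1830808c8e) (nat_lit 3076))
) (.node (nat_lit 0x18308190de) (.leaf (nat_lit 0x1830808cae) (nat_lit 3332))
 (.node (nat_lit 0x18308190fe) (.leaf (nat_lit 0x18308190de) (nat_lit 2820))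
 (.leaf (nat_lit 0x18308190fe) (nat_lit 3075))
))))) (.node (nat_lit 0x18308284fe) (.node (nat_lit 0x1830819cde) (.node (nat_lit 0x18308198ce) (.node (nat_lit 0x18308194ee) (.leaf (nat_lit 0x18308194ce) (nat_lit 1796))
 (.leaf (nat_lit 0x18308194ee) (nat_lit 3076))
) (.node (nat_lit 0x18308198ee) (.leaf (nat_lit 0x18308198ce) (nat_lit 2561))
 (.leaf (nat_lit 0x18308198ee) (nat_lit 2305))
)) (.node (nat_lit 0x18308280ce) (.node (nat_lit 0x1830819cfe) (.leaf (nat_lit 0x1830819cde) (nat_lit 3330))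
 (.leaf (nat_lit 0x1830819cfe) (nat_lit 2050))
) (.node (nat_lit 0x18308280ee) (.leaf (nat_lit 0x18308280ce) (nat_lit 1283))
 (.node (nat_lit 0x18308284de) (.leaf (nat_lit 0x18308280ee) (nat_lit 2051))
 (.leaf (nat_lit 0x18308284de) (nat_lit 3330))
)))) (.node (nat_lit 0x1830828cee) (.node (nat_lit 0x18308288fe) (.node (nat_lit 0x18308288de) (.leaf (nat_lit 0x18308284fe) (nat_lit 3332))
 (.leaf (nat_lit 0x18308288de) (nat_lit 3076))
) (.node (nat_lit 0x1830828cce) (.leaf (nat_lit 0x18308288fe) (nat_lit 2308))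
 (.leaf (nat_lit 0x1830828cce) (nat_lit 3076))
)) (.node (nat_lit 0x18308390be) (.node (nat_lit 0x183083909e) (.leaf (nat_lit 0x1830828cee) (nat_lit 3332))
 (.leaf (nat_lit 0x183083909e) (nat_lit 3328))
) (.node (nat_lit 0x183083948e) (.leaf (nat_lit 0x18308390be) (nat_lit 2563))
 (.node (nat_lit 0x18308394ae) (.leaf (nat_lit 0x183083948e) (nat_lit 1796))
 (.leaf (nat_lit 0x18308394ae) (nat_lit 3076))
)))))) (.node (nat_lit 0x1830859c9e) (.node (nat_lit 0x18308488fe) (.node (nat_lit 0x18308480ce) (.node (nat_lit 0x1830839c9e) (.node (nat_lit 0x18308398ae) (.leaf (nat_lit 0x183083988e) (nat_lit 2049))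
 (.leaf (nat_lit 0x18308398ae) (nat_lit 2817))
) (.node (nat_lit 0x1830839cbe) (.leaf (nat_lit 0x1830839c9e) (nat_lit 3330))
 (.leaf (nat_lit 0x1830839cbe) (nat_lit 2050))
)) (.node (nat_lit 0x18308484de) (.node (nat_lit 0x18308480ee) (.leaf (nat_lit 0x18308480ce) (nat_lit 1027))
 (.leaf (nat_lit 0x18308480ee) (nat_lit 2307))
) (.node (nat_lit 0x18308484fe) (.leaf (nat_lit 0x18308484de) (nat_lit 3076))
 (.node (nat_lit 0x18308488de) (.leaf (nat_lit 0x18308484fe) (nat_lit 3073))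
 (.leaf (nat_lit 0x18308488de) (nat_lit 3328))
)))) (.node (nat_lit 0x18308590be) (.node (nat_lit 0x1830848cee) (.node (nat_lit 0x1830848cce) (.leaf (nat_lit 0x18308488fe) (nat_lit 2560))
 (.leaf (nat_lit 0x1830848cce) (nat_lit 3074))
) (.node (nat_lit 0x183085909e) (.leaf (nat_lit 0x1830848cee) (nat_lit 3076))
 (.leaf (nat_lit 0x183085909e) (nat_lit 3076))
)) (.node (nat_lit 0x18308594ae) (.node (nat_lit 0x183085948e) (.leaf (nat_lit 0x18308590be) (nat_lit 2819))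
 (.leaf (nat_lit 0x183085948e) (nat_lit 1540))
) (.node (nat_lit 0x183085988e) (.leaf (nat_lit 0x18308594ae) (nat_lit 3332))
 (.node (nat_lit 0x18308598ae) (.leaf (nat_lit 0x183085988e) (nat_lit 2305))
 (.leaf (nat_lit 0x18308598ae) (nat_lit 2561))
))))) (.node (nat_lit 0x1830868cae) (.node (nat_lit 0x183086849e) (.node (nat_lit 0x183086808e) (.node (nat_lit 0x1830859cbe) (.leaf (nat_lit 0x1830859c9e) (nat_lit 3074))
 (.leaf (nat_lit 0x1830859cbe) (nat_lit 2306))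
) (.node (nat_lit 0x18308680ae) (.leaf (nat_lit 0x183086808e) (nat_lit 1027))
 (.leaf (nat_lit 0x18308680ae) (nat_lit 2307))
)) (.node (nat_lit 0x183086889e) (.node (nat_lit 0x18308684be) (.leaf (nat_lit 0x183086849e) (nat_lit 3074))
 (.leaf (nat_lit 0x18308684be) (nat_lit 3076))
) (.node (nat_lit 0x18308688be) (.leaf (nat_lit 0x183086889e) (nat_lit 3332))
 (.node (nat_lit 0x1830868c8e) (.leaf (nat_lit 0x18308688be) (nat_lit 2564))
 (.leaf (nat_lit 0x1830868c8e) (nat_lit 2820))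
)))) (.node (nat_lit 0x18308794ee) (.node (nat_lit 0x18308790fe) (.node (nat_lit 0x18308790de) (.leaf (nat_lit 0x1830868cae) (nat_lit 3330))
 (.leaf (nat_lit 0x18308790de) (nat_lit 3072))
) (.node (nat_lit 0x18308794ce) (.leaf (nat_lit 0x18308790fe) (nat_lit 2819))
 (.leaf (nat_lit 0x18308794ce) (nat_lit 2052))
)) (.node (nat_lit 0x18308798ee) (.node (nat_lit 0x18308798ce) (.leaf (nat_lit 0x18308794ee) (nat_lit 2820))
 (.leaf (nat_lit 0x18308798ce) (nat_lit 2305))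
) (.node (nat_lit 0x1830879cde) (.leaf (nat_lit 0x18308798ee) (nat_lit 2561))
 (.node (nat_lit 0x1830879cfe) (.leaf (nat_lit 0x1830879cde) (nat_lit 3332))
 (.leaf (nat_lit 0x1830879cfe) (nat_lit 1794))
))))))))))) (.node (nat_lit 0x1c20c0818a) (.node (nat_lit 0x1a30441146) (.node (nat_lit 0x1a20429102) (.node (nat_lit 0x1a10c1919c) (.node (nat_lit 0x1a108408d4) (.node (nat_lit 0x1a108284c4) (.node (nat_lit 0x1a108192bc) (.node (nat_lit 0x1a1080889c) (.node (nat_lit 0x1a1080848c) (.node (nat_lit 0x1a108080ac) (.leaf (nat_lit 0x1a1080808c) (nat_lit 1283))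
 (.leaf (nat_lit 0x1a108080ac) (nat_lit 2563))
) (.node (nat_lit 0x1a108084ac) (.leaf (nat_lit 0x1a1080848c) (nat_lit 2816))
 (.leaf (nat_lit 0x1a108084ac) (nat_lit 3330))
)) (.node (nat_lit 0x1a10808c9c) (.node (nat_lit 0x1a108088bc) (.leaf (nat_lit 0x1a1080889c) (nat_lit 3330))
 (.leaf (nat_lit 0x1a108088bc) (nat_lit 3584))
) (.node (nat_lit 0x1a10808cbc) (.leaf (nat_lit 0x1a10808c9c) (nat_lit 3072))
 (.node (nat_lit 0x1a1081929c) (.leaf (nat_lit 0x1a10808cbc) (nat_lit 2820))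
 (.leaf (nat_lit 0x1a1081929c) (nat_lit 2563))
)))) (.node (nat_lit 0x1a10819aac) (.node (nat_lit 0x1a108196bc) (.node (nat_lit 0x1a1081969c) (.leaf (nat_lit 0x1a108192bc) (nat_lit 2816))
 (.leaf (nat_lit 0x1a1081969c) (nat_lit 2306))
) (.node (nat_lit 0x1a10819a8c) (.leaf (nat_lit 0x1a108196bc) (nat_lit 3074))
 (.leaf (nat_lit 0x1a10819a8c) (nat_lit 2049))
)) (.node (nat_lit 0x1a10819eac) (.node (nat_lit 0x1a10819e8c) (.leaf (nat_lit 0x1a10819aac) (nat_lit 3074))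
 (.leaf (nat_lit 0x1a10819e8c) (nat_lit 2048))
) (.node (nat_lit 0x1a108280c4) (.leaf (nat_lit 0x1a10819eac) (nat_lit 2820))
 (.node (nat_lit 0x1a108280e4) (.leaf (nat_lit 0x1a108280c4) (nat_lit 1795))
 (.leaf (nat_lit 0x1a108280e4) (nat_lit 2051))
))))) (.node (nat_lit 0x1a108396f4) (.node (nat_lit 0x1a10828cd4) (.node (nat_lit 0x1a108288d4) (.node (nat_lit 0x1a108284e4) (.leaf (nat_lit 0x1a108284c4) (nat_lit 3332))
 (.leaf (nat_lit 0x1a108284e4) (nat_lit 3076))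
) (.node (nat_lit 0x1a108288f4) (.leaf (nat_lit 0x1a108288d4) (nat_lit 2818))
 (.leaf (nat_lit 0x1a108288f4) (nat_lit 2564))
)) (.node (nat_lit 0x1a108392d4) (.node (nat_lit 0x1a10828cf4) (.leaf (nat_lit 0x1a10828cd4) (nat_lit 3076))
 (.leaf (nat_lit 0x1a10828cf4) (nat_lit 2816))
) (.node (nat_lit 0x1a108392f4) (.leaf (nat_lit 0x1a108392d4) (nat_lit 3075))
 (.node (nat_lit 0x1a108396d4) (.leaf (nat_lit 0x1a108392f4) (nat_lit 2308))
 (.leaf (nat_lit 0x1a108396d4) (nat_lit 2306))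
)))) (.node (nat_lit 0x1a10839ee4) (.node (nat_lit 0x1a10839ae4) (.node (nat_lit 0x1a10839ac4) (.leaf (nat_lit 0x1a108396f4) (nat_lit 3074))
 (.leaf (nat_lit 0x1a10839ac4) (nat_lit 3073))
) (.node (nat_lit 0x1a10839ec4) (.leaf (nat_lit 0x1a10839ae4) (nat_lit 2050))
 (.leaf (nat_lit 0x1a10839ec4) (nat_lit 2052))
)) (.node (nat_lit 0x1a108400e4) (.node (nat_lit 0x1a108400c4) (.leaf (nat_lit 0x1a10839ee4) (nat_lit 2816))
 (.leaf (nat_lit 0x1a108400c4) (nat_lit 1539))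
) (.node (nat_lit 0x1a108404c4) (.leaf (nat_lit 0x1a108400e4) (nat_lit 2307))
 (.node (nat_lit 0x1a108404e4) (.leaf (nat_lit 0x1a108404c4) (nat_lit 3074))
 (.leaf (nat_lit 0x1a108404e4) (nat_lit 2820))
)))))) (.node (nat_lit 0x1a10860c9c) (.node (nat_lit 0x1a10851ae4) (.node (nat_lit 0x1a108512d4) (.node (nat_lit 0x1a10840cd4) (.node (nat_lit 0x1a108408f4) (.leaf (nat_lit 0x1a108408d4) (nat_lit 3074))
 (.leaf (nat_lit 0x1a108408f4) (nat_lit 2816))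
) (.node (nat_lit 0x1a10840cf4) (.leaf (nat_lit 0x1a10840cd4) (nat_lit 3074))
 (.leaf (nat_lit 0x1a10840cf4) (nat_lit 2564))
)) (.node (nat_lit 0x1a108516d4) (.node (nat_lit 0x1a108512f4) (.leaf (nat_lit 0x1a108512d4) (nat_lit 2819))
 (.leaf (nat_lit 0x1a108512f4) (nat_lit 2560))
) (.node (nat_lit 0x1a108516f4) (.leaf (nat_lit 0x1a108516d4) (nat_lit 2050))
 (.node (nat_lit 0x1a10851ac4) (.leaf (nat_lit 0x1a108516f4) (nat_lit 2820))
 (.leaf (nat_lit 0x1a10851ac4) (nat_lit 2817))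
)))) (.node (nat_lit 0x1a108600ac) (.node (nat_lit 0x1a10851ee4) (.node (nat_lit 0x1a10851ec4) (.leaf (nat_lit 0x1a10851ae4) (nat_lit 2306))
 (.leaf (nat_lit 0x1a10851ec4) (nat_lit 2304))
) (.node (nat_lit 0x1a1086008c) (.leaf (nat_lit 0x1a10851ee4) (nat_lit 2564))
 (.leaf (nat_lit 0x1a1086008c) (nat_lit 1539))
)) (.node (nat_lit 0x1a108604ac) (.node (nat_lit 0x1a1086048c) (.leaf (nat_lit 0x1a108600ac) (nat_lit 2307))
 (.leaf (nat_lit 0x1a1086048c) (nat_lit 2564))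
) (.node (nat_lit 0x1a1086089c) (.leaf (nat_lit 0x1a108604ac) (nat_lit 3074))
 (.node (nat_lit 0x1a108608bc) (.leaf (nat_lit 0x1a1086089c) (nat_lit 3074))
 (.leaf (nat_lit 0x1a108608bc) (nat_lit 3332))
))))) (.node (nat_lit 0x1a10871eac) (.node (nat_lit 0x1a1087169c) (.node (nat_lit 0x1a1087129c) (.node (nat_lit 0x1a10860cbc) (.leaf (nat_lit 0x1a10860c9c) (nat_lit 2820))
 (.leaf (nat_lit 0x1a10860cbc) (nat_lit 2818))
) (.node (nat_lit 0x1a108712bc) (.leaf (nat_lit 0x1a1087129c) (nat_lit 2819))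
 (.leaf (nat_lit 0x1a108712bc) (nat_lit 2564))
)) (.node (nat_lit 0x1a10871a8c) (.node (nat_lit 0x1a108716bc) (.leaf (nat_lit 0x1a1087169c) (nat_lit 2562))
 (.leaf (nat_lit 0x1a108716bc) (nat_lit 2818))
) (.node (nat_lit 0x1a10871aac) (.leaf (nat_lit 0x1a10871a8c) (nat_lit 2305))
 (.node (nat_lit 0x1a10871e8c) (.leaf (nat_lit 0x1a10871aac) (nat_lit 2818))
 (.leaf (nat_lit 0x1a10871e8c) (nat_lit 1796))
)))) (.node (nat_lit 0x1a10c087bc) (.node (nat_lit 0x1a10c083bc) (.node (nat_lit 0x1a10c0838c) (.leaf (nat_lit 0x1a10871eac) (nat_lit 3072))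
 (.leaf (nat_lit 0x1a10c0838c) (nat_lit 1026))
) (.node (nat_lit 0x1a10c0878c) (.leaf (nat_lit 0x1a10c083bc) (nat_lit 3076))
 (.leaf (nat_lit 0x1a10c0878c) (nat_lit 2820))
)) (.node (nat_lit 0x1a10c08bac) (.node (nat_lit 0x1a10c08b9c) (.leaf (nat_lit 0x1a10c087bc) (nat_lit 3332))
 (.leaf (nat_lit 0x1a10c08b9c) (nat_lit 3332))
) (.node (nat_lit 0x1a10c08f9c) (.leaf (nat_lit 0x1a10c08bac) (nat_lit 2306))
 (.node (nat_lit 0x1a10c08fac) (.leaf (nat_lit 0x1a10c08f9c) (nat_lit 3073))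
 (.leaf (nat_lit 0x1a10c08fac) (nat_lit 3588))
))))))) (.node (nat_lit 0x1a10c50bc4) (.node (nat_lit 0x1a10c387d4) (.node (nat_lit 0x1a10c291f4) (.node (nat_lit 0x1a10c1998c) (.node (nat_lit 0x1a10c1959c) (.node (nat_lit 0x1a10c191ac) (.leaf (nat_lit 0x1a10c1919c) (nat_lit 2564))
 (.leaf (nat_lit 0x1a10c191ac) (nat_lit 3073))
) (.node (nat_lit 0x1a10c195ac) (.leaf (nat_lit 0x1a10c1959c) (nat_lit 2306))
 (.leaf (nat_lit 0x1a10c195ac) (nat_lit 2820))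
)) (.node (nat_lit 0x1a10c19d8c) (.node (nat_lit 0x1a10c199bc) (.leaf (nat_lit 0x1a10c1998c) (nat_lit 1793))
 (.leaf (nat_lit 0x1a10c199bc) (nat_lit 3328))
) (.node (nat_lit 0x1a10c19dbc) (.leaf (nat_lit 0x1a10c19d8c) (nat_lit 2052))
 (.node (nat_lit 0x1a10c291c4) (.leaf (nat_lit 0x1a10c19dbc) (nat_lit 2818))
 (.leaf (nat_lit 0x1a10c291c4) (nat_lit 1538))
)))) (.node (nat_lit 0x1a10c299e4) (.node (nat_lit 0x1a10c295f4) (.node (nat_lit 0x1a10c295c4) (.leaf (nat_lit 0x1a10c291f4) (nat_lit 3072))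
 (.leaf (nat_lit 0x1a10c295c4) (nat_lit 3332))
) (.node (nat_lit 0x1a10c299d4) (.leaf (nat_lit 0x1a10c295f4) (nat_lit 2564))
 (.leaf (nat_lit 0x1a10c299d4) (nat_lit 3332))
)) (.node (nat_lit 0x1a10c29de4) (.node (nat_lit 0x1a10c29dd4) (.leaf (nat_lit 0x1a10c299e4) (nat_lit 1794))
 (.leaf (nat_lit 0x1a10c29dd4) (nat_lit 2564))
) (.node (nat_lit 0x1a10c383d4) (.leaf (nat_lit 0x1a10c29de4) (nat_lit 3076))
 (.node (nat_lit 0x1a10c383e4) (.leaf (nat_lit 0x1a10c383d4) (nat_lit 2560))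
 (.leaf (nat_lit 0x1a10c383e4) (nat_lit 2049))
))))) (.node (nat_lit 0x1a10c415f4) (.node (nat_lit 0x1a10c38fc4) (.node (nat_lit 0x1a10c38bc4) (.node (nat_lit 0x1a10c387e4) (.leaf (nat_lit 0x1a10c387d4) (nat_lit 2818))
 (.leaf (nat_lit 0x1a10c387e4) (nat_lit 2820))
) (.node (nat_lit 0x1a10c38bf4) (.leaf (nat_lit 0x1a10c38bc4) (nat_lit 2817))
 (.leaf (nat_lit 0x1a10c38bf4) (nat_lit 3072))
)) (.node (nat_lit 0x1a10c411c4) (.node (nat_lit 0x1a10c38ff4) (.leaf (nat_lit 0x1a10c38fc4) (nat_lit 2052))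
 (.leaf (nat_lit 0x1a10c38ff4) (nat_lit 2306))
) (.node (nat_lit 0x1a10c411f4) (.leaf (nat_lit 0x1a10c411c4) (nat_lit 1282))
 (.node (nat_lit 0x1a10c415c4) (.leaf (nat_lit 0x1a10c411f4) (nat_lit 2820))
 (.leaf (nat_lit 0x1a10c415c4) (nat_lit 3076))
)))) (.node (nat_lit 0x1a10c41de4) (.node (nat_lit 0x1a10c419e4) (.node (nat_lit 0x1a10c419d4) (.leaf (nat_lit 0x1a10c415f4) (nat_lit 2816))
 (.leaf (nat_lit 0x1a10c419d4) (nat_lit 3331))
) (.node (nat_lit 0x1a10c41dd4) (.leaf (nat_lit 0x1a10c419e4) (nat_lit 2050))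
 (.leaf (nat_lit 0x1a10c41dd4) (nat_lit 2816))
)) (.node (nat_lit 0x1a10c503e4) (.node (nat_lit 0x1a10c503d4) (.leaf (nat_lit 0x1a10c41de4) (nat_lit 2820))
 (.leaf (nat_lit 0x1a10c503d4) (nat_lit 2308))
) (.node (nat_lit 0x1a10c507d4) (.leaf (nat_lit 0x1a10c503e4) (nat_lit 2305))
 (.node (nat_lit 0x1a10c507e4) (.leaf (nat_lit 0x1a10c507d4) (nat_lit 2562))
 (.leaf (nat_lit 0x1a10c507e4) (nat_lit 2564))
)))))) (.node (nat_lit 0x1a10c71d8c) (.node (nat_lit 0x1a10c60bac) (.node (nat_lit 0x1a10c6038c) (.node (nat_lit 0x1a10c50fc4) (.node (nat_lit 0x1a10c50bf4) (.leaf (nat_lit 0x1a10c50bc4) (nat_lit 2561))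
 (.leaf (nat_lit 0x1a10c50bf4) (nat_lit 2820))
) (.node (nat_lit 0x1a10c50ff4) (.leaf (nat_lit 0x1a10c50fc4) (nat_lit 2308))
 (.leaf (nat_lit 0x1a10c50ff4) (nat_lit 2562))
)) (.node (nat_lit 0x1a10c6078c) (.node (nat_lit 0x1a10c603bc) (.leaf (nat_lit 0x1a10c6038c) (nat_lit 1282))
 (.leaf (nat_lit 0x1a10c603bc) (nat_lit 3075))
) (.node (nat_lit 0x1a10c607bc) (.leaf (nat_lit 0x1a10c6078c) (nat_lit 2564))
 (.node (nat_lit 0x1a10c60b9c) (.leaf (nat_lit 0x1a10c607bc) (nat_lit 3332))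
 (.leaf (nat_lit 0x1a10c60b9c) (nat_lit 3076))
)))) (.node (nat_lit 0x1a10c711ac) (.node (nat_lit 0x1a10c60fac) (.node (nat_lit 0x1a10c60f9c) (.leaf (nat_lit 0x1a10c60bac) (nat_lit 2050))
 (.leaf (nat_lit 0x1a10c60f9c) (nat_lit 2820))
) (.node (nat_lit 0x1a10c7119c) (.leaf (nat_lit 0x1a10c60fac) (nat_lit 3331))
 (.leaf (nat_lit 0x1a10c7119c) (nat_lit 2816))
)) (.node (nat_lit 0x1a10c715ac) (.node (nat_lit 0x1a10c7159c) (.leaf (nat_lit 0x1a10c711ac) (nat_lit 2817))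
 (.leaf (nat_lit 0x1a10c7159c) (nat_lit 2562))
) (.node (nat_lit 0x1a10c7198c) (.leaf (nat_lit 0x1a10c715ac) (nat_lit 3076))
 (.node (nat_lit 0x1a10c719bc) (.leaf (nat_lit 0x1a10c7198c) (nat_lit 2049))
 (.leaf (nat_lit 0x1a10c719bc) (nat_lit 3076))
))))) (.node (nat_lit 0x1a20408f32) (.node (nat_lit 0x1a20408722) (.node (nat_lit 0x1a20408302) (.node (nat_lit 0x1a10c71dbc) (.leaf (nat_lit 0x1a10c71d8c) (nat_lit 1796))
 (.leaf (nat_lit 0x1a10c71dbc) (nat_lit 2562))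
) (.node (nat_lit 0x1a20408312) (.leaf (nat_lit 0x1a20408302) (nat_lit 516))
 (.leaf (nat_lit 0x1a20408312) (nat_lit 3332))
)) (.node (nat_lit 0x1a20408b02) (.node (nat_lit 0x1a20408732) (.leaf (nat_lit 0x1a20408722) (nat_lit 3074))
 (.leaf (nat_lit 0x1a20408732) (nat_lit 3072))
) (.node (nat_lit 0x1a20408b12) (.leaf (nat_lit 0x1a20408b02) (nat_lit 1792))
 (.node (nat_lit 0x1a20408f22) (.leaf (nat_lit 0x1a20408b12) (nat_lit 3330))
 (.leaf (nat_lit 0x1a20408f22) (nat_lit 3330))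
)))) (.node (nat_lit 0x1a2041875a) (.node (nat_lit 0x1a2041837a) (.node (nat_lit 0x1a2041836a) (.leaf (nat_lit 0x1a20408f32) (nat_lit 2820))
 (.leaf (nat_lit 0x1a2041836a) (nat_lit 2049))
) (.node (nat_lit 0x1a2041874a) (.leaf (nat_lit 0x1a2041837a) (nat_lit 2048))
 (.leaf (nat_lit 0x1a2041874a) (nat_lit 2052))
)) (.node (nat_lit 0x1a20418b7a) (.node (nat_lit 0x1a20418b6a) (.leaf (nat_lit 0x1a2041875a) (nat_lit 2050))
 (.leaf (nat_lit 0x1a20418b6a) (nat_lit 2818))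
) (.node (nat_lit 0x1a20418f4a) (.leaf (nat_lit 0x1a20418b7a) (nat_lit 2820))
 (.node (nat_lit 0x1a20418f5a) (.leaf (nat_lit 0x1a20418f4a) (nat_lit 2304))
 (.leaf (nat_lit 0x1a20418f5a) (nat_lit 2818))
)))))))) (.node (nat_lit 0x1a20c383da) (.node (nat_lit 0x1a20460b02) (.node (nat_lit 0x1a20441522) (.node (nat_lit 0x1a2043917a) (.node (nat_lit 0x1a20429902) (.node (nat_lit 0x1a20429522) (.node (nat_lit 0x1a20429112) (.leaf (nat_lit 0x1a20429102) (nat_lit 1024))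
 (.leaf (nat_lit 0x1a20429112) (nat_lit 3328))
) (.node (nat_lit 0x1a20429532) (.leaf (nat_lit 0x1a20429522) (nat_lit 2562))
 (.leaf (nat_lit 0x1a20429532) (nat_lit 3076))
)) (.node (nat_lit 0x1a20429d22) (.node (nat_lit 0x1a20429912) (.leaf (nat_lit 0x1a20429902) (nat_lit 1284))
 (.leaf (nat_lit 0x1a20429912) (nat_lit 3330))
) (.node (nat_lit 0x1a20429d32) (.leaf (nat_lit 0x1a20429d22) (nat_lit 2820))
 (.node (nat_lit 0x1a2043916a) (.leaf (nat_lit 0x1a20429d32) (nat_lit 2816))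
 (.leaf (nat_lit 0x1a2043916a) (nat_lit 3073))
)))) (.node (nat_lit 0x1a2043997a) (.node (nat_lit 0x1a2043955a) (.node (nat_lit 0x1a2043954a) (.leaf (nat_lit 0x1a2043917a) (nat_lit 2052))
 (.leaf (nat_lit 0x1a2043954a) (nat_lit 2560))
) (.node (nat_lit 0x1a2043996a) (.leaf (nat_lit 0x1a2043955a) (nat_lit 2050))
 (.leaf (nat_lit 0x1a2043996a) (nat_lit 1794))
)) (.node (nat_lit 0x1a20439d5a) (.node (nat_lit 0x1a20439d4a) (.leaf (nat_lit 0x1a2043997a) (nat_lit 2816))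
 (.leaf (nat_lit 0x1a20439d4a) (nat_lit 1796))
) (.node (nat_lit 0x1a20441102) (.leaf (nat_lit 0x1a20439d5a) (nat_lit 2818))
 (.node (nat_lit 0x1a20441112) (.leaf (nat_lit 0x1a20441102) (nat_lit 772))
 (.leaf (nat_lit 0x1a20441112) (nat_lit 3076))
))))) (.node (nat_lit 0x1a2045155a) (.node (nat_lit 0x1a20441d22) (.node (nat_lit 0x1a20441902) (.node (nat_lit 0x1a20441532) (.leaf (nat_lit 0x1a20441522) (nat_lit 2818))
 (.leaf (nat_lit 0x1a20441532) (nat_lit 2818))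
) (.node (nat_lit 0x1a20441912) (.leaf (nat_lit 0x1a20441902) (nat_lit 1536))
 (.leaf (nat_lit 0x1a20441912) (nat_lit 3331))
)) (.node (nat_lit 0x1a2045116a) (.node (nat_lit 0x1a20441d32) (.leaf (nat_lit 0x1a20441d22) (nat_lit 3072))
 (.leaf (nat_lit 0x1a20441d32) (nat_lit 2564))
) (.node (nat_lit 0x1a2045117a) (.leaf (nat_lit 0x1a2045116a) (nat_lit 2817))
 (.node (nat_lit 0x1a2045154a) (.leaf (nat_lit 0x1a2045117a) (nat_lit 2304))
 (.leaf (nat_lit 0x1a2045154a) (nat_lit 2308))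
)))) (.node (nat_lit 0x1a20451d5a) (.node (nat_lit 0x1a2045197a) (.node (nat_lit 0x1a2045196a) (.leaf (nat_lit 0x1a2045155a) (nat_lit 1794))
 (.leaf (nat_lit 0x1a2045196a) (nat_lit 2050))
) (.node (nat_lit 0x1a20451d4a) (.leaf (nat_lit 0x1a2045197a) (nat_lit 2564))
 (.leaf (nat_lit 0x1a20451d4a) (nat_lit 2048))
)) (.node (nat_lit 0x1a20460312) (.node (nat_lit 0x1a20460302) (.leaf (nat_lit 0x1a20451d5a) (nat_lit 3074))
 (.leaf (nat_lit 0x1a20460302) (nat_lit 768))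
) (.node (nat_lit 0x1a20460722) (.leaf (nat_lit 0x1a20460312) (nat_lit 3075))
 (.node (nat_lit 0x1a20460732) (.leaf (nat_lit 0x1a20460722) (nat_lit 2818))
 (.leaf (nat_lit 0x1a20460732) (nat_lit 2820))
)))))) (.node (nat_lit 0x1a20c08f92) (.node (nat_lit 0x1a20470b7a) (.node (nat_lit 0x1a2047036a) (.node (nat_lit 0x1a20460f22) (.node (nat_lit 0x1a20460b12) (.leaf (nat_lit 0x1a20460b02) (nat_lit 1540))
 (.leaf (nat_lit 0x1a20460b12) (nat_lit 3074))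
) (.node (nat_lit 0x1a20460f32) (.leaf (nat_lit 0x1a20460f22) (nat_lit 3076))
 (.leaf (nat_lit 0x1a20460f32) (nat_lit 2562))
)) (.node (nat_lit 0x1a2047074a) (.node (nat_lit 0x1a2047037a) (.leaf (nat_lit 0x1a2047036a) (nat_lit 2305))
 (.leaf (nat_lit 0x1a2047037a) (nat_lit 1796))
) (.node (nat_lit 0x1a2047075a) (.leaf (nat_lit 0x1a2047074a) (nat_lit 2304))
 (.node (nat_lit 0x1a20470b6a) (.leaf (nat_lit 0x1a2047075a) (nat_lit 2306))
 (.leaf (nat_lit 0x1a20470b6a) (nat_lit 2562))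
)))) (.node (nat_lit 0x1a20c083b2) (.node (nat_lit 0x1a20470f5a) (.node (nat_lit 0x1a20470f4a) (.leaf (nat_lit 0x1a20470b7a) (nat_lit 3072))
 (.leaf (nat_lit 0x1a20470f4a) (nat_lit 2052))
) (.node (nat_lit 0x1a20c08382) (.leaf (nat_lit 0x1a20470f5a) (nat_lit 2562))
 (.leaf (nat_lit 0x1a20c08382) (nat_lit 772))
)) (.node (nat_lit 0x1a20c087a2) (.node (nat_lit 0x1a20c08792) (.leaf (nat_lit 0x1a20c083b2) (nat_lit 3076))
 (.leaf (nat_lit 0x1a20c08792) (nat_lit 3076))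
) (.node (nat_lit 0x1a20c08b82) (.leaf (nat_lit 0x1a20c087a2) (nat_lit 3586))
 (.node (nat_lit 0x1a20c08bb2) (.leaf (nat_lit 0x1a20c08b82) (nat_lit 2048))
 (.leaf (nat_lit 0x1a20c08bb2) (nat_lit 3328))
))))) (.node (nat_lit 0x1a20c19dfa) (.node (nat_lit 0x1a20c195ca) (.node (nat_lit 0x1a20c191da) (.node (nat_lit 0x1a20c08fa2) (.leaf (nat_lit 0x1a20c08f92) (nat_lit 3328))
 (.leaf (nat_lit 0x1a20c08fa2) (nat_lit 3331))
) (.node (nat_lit 0x1a20c191ea) (.leaf (nat_lit 0x1a20c191da) (nat_lit 2308))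
 (.leaf (nat_lit 0x1a20c191ea) (nat_lit 3075))
)) (.node (nat_lit 0x1a20c199da) (.node (nat_lit 0x1a20c195fa) (.leaf (nat_lit 0x1a20c195ca) (nat_lit 2052))
 (.leaf (nat_lit 0x1a20c195fa) (nat_lit 3074))
) (.node (nat_lit 0x1a20c199ea) (.leaf (nat_lit 0x1a20c199da) (nat_lit 3072))
 (.node (nat_lit 0x1a20c19dca) (.leaf (nat_lit 0x1a20c199ea) (nat_lit 2050))
 (.leaf (nat_lit 0x1a20c19dca) (nat_lit 2560))
)))) (.node (nat_lit 0x1a20c295a2) (.node (nat_lit 0x1a20c291b2) (.node (nat_lit 0x1a20c29182) (.leaf (nat_lit 0x1a20c19dfa) (nat_lit 2304))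
 (.leaf (nat_lit 0x1a20c29182) (nat_lit 1280))
) (.node (nat_lit 0x1a20c29592) (.leaf (nat_lit 0x1a20c291b2) (nat_lit 3072))
 (.leaf (nat_lit 0x1a20c29592) (nat_lit 3072))
)) (.node (nat_lit 0x1a20c299b2) (.node (nat_lit 0x1a20c29982) (.leaf (nat_lit 0x1a20c295a2) (nat_lit 2818))
 (.leaf (nat_lit 0x1a20c29982) (nat_lit 1540))
) (.node (nat_lit 0x1a20c29d92) (.leaf (nat_lit 0x1a20c299b2) (nat_lit 3332))
 (.node (nat_lit 0x1a20c29da2) (.leaf (nat_lit 0x1a20c29d92) (nat_lit 3332))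
 (.leaf (nat_lit 0x1a20c29da2) (nat_lit 2819))
))))))) (.node (nat_lit 0x1a20c719da) (.node (nat_lit 0x1a20c507ca) (.node (nat_lit 0x1a20c411b2) (.node (nat_lit 0x1a20c38bda) (.node (nat_lit 0x1a20c387ca) (.node (nat_lit 0x1a20c383ea) (.leaf (nat_lit 0x1a20c383da) (nat_lit 2304))
 (.leaf (nat_lit 0x1a20c383ea) (nat_lit 2051))
) (.node (nat_lit 0x1a20c387fa) (.leaf (nat_lit 0x1a20c387ca) (nat_lit 2560))
 (.leaf (nat_lit 0x1a20c387fa) (nat_lit 3074))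
)) (.node (nat_lit 0x1a20c38fca) (.node (nat_lit 0x1a20c38bea) (.leaf (nat_lit 0x1a20c38bda) (nat_lit 3076))
 (.leaf (nat_lit 0x1a20c38bea) (nat_lit 3074))
) (.node (nat_lit 0x1a20c38ffa) (.leaf (nat_lit 0x1a20c38fca) (nat_lit 2052))
 (.node (nat_lit 0x1a20c41182) (.leaf (nat_lit 0x1a20c38ffa) (nat_lit 2308))
 (.leaf (nat_lit 0x1a20c41182) (nat_lit 1028))
)))) (.node (nat_lit 0x1a20c419b2) (.node (nat_lit 0x1a20c415a2) (.node (nat_lit 0x1a20c41592) (.leaf (nat_lit 0x1a20c411b2) (nat_lit 2820))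
 (.leaf (nat_lit 0x1a20c41592) (nat_lit 2820))
) (.node (nat_lit 0x1a20c41982) (.leaf (nat_lit 0x1a20c415a2) (nat_lit 3074))
 (.leaf (nat_lit 0x1a20c41982) (nat_lit 1792))
)) (.node (nat_lit 0x1a20c41da2) (.node (nat_lit 0x1a20c41d92) (.leaf (nat_lit 0x1a20c419b2) (nat_lit 3075))
 (.leaf (nat_lit 0x1a20c41d92) (nat_lit 3074))
) (.node (nat_lit 0x1a20c503da) (.leaf (nat_lit 0x1a20c41da2) (nat_lit 3075))
 (.node (nat_lit 0x1a20c503ea) (.leaf (nat_lit 0x1a20c503da) (nat_lit 2052))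
 (.leaf (nat_lit 0x1a20c503ea) (nat_lit 2307))
))))) (.node (nat_lit 0x1a20c607a2) (.node (nat_lit 0x1a20c50fca) (.node (nat_lit 0x1a20c50bda) (.node (nat_lit 0x1a20c507fa) (.leaf (nat_lit 0x1a20c507ca) (nat_lit 2308))
 (.leaf (nat_lit 0x1a20c507fa) (nat_lit 2818))
) (.node (nat_lit 0x1a20c50bea) (.leaf (nat_lit 0x1a20c50bda) (nat_lit 3074))
 (.leaf (nat_lit 0x1a20c50bea) (nat_lit 2818))
)) (.node (nat_lit 0x1a20c60382) (.node (nat_lit 0x1a20c50ffa) (.leaf (nat_lit 0x1a20c50fca) (nat_lit 2304))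
 (.leaf (nat_lit 0x1a20c50ffa) (nat_lit 2560))
) (.node (nat_lit 0x1a20c603b2) (.leaf (nat_lit 0x1a20c60382) (nat_lit 1024))
 (.node (nat_lit 0x1a20c60792) (.leaf (nat_lit 0x1a20c603b2) (nat_lit 2819))
 (.leaf (nat_lit 0x1a20c60792) (nat_lit 2818))
)))) (.node (nat_lit 0x1a20c60fa2) (.node (nat_lit 0x1a20c60bb2) (.node (nat_lit 0x1a20c60b82) (.leaf (nat_lit 0x1a20c607a2) (nat_lit 3332))
 (.leaf (nat_lit 0x1a20c60b82) (nat_lit 1796))
) (.node (nat_lit 0x1a20c60f92) (.leaf (nat_lit 0x1a20c60bb2) (nat_lit 3076))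
 (.leaf (nat_lit 0x1a20c60f92) (nat_lit 3076))
)) (.node (nat_lit 0x1a20c711ea) (.node (nat_lit 0x1a20c711da) (.leaf (nat_lit 0x1a20c60fa2) (nat_lit 3075))
 (.leaf (nat_lit 0x1a20c711da) (nat_lit 2560))
) (.node (nat_lit 0x1a20c715ca) (.leaf (nat_lit 0x1a20c711ea) (nat_lit 2819))
 (.node (nat_lit 0x1a20c715fa) (.leaf (nat_lit 0x1a20c715ca) (nat_lit 2304))
 (.leaf (nat_lit 0x1a20c715fa) (nat_lit 3330))
)))))) (.node (nat_lit 0x1a30418f66) (.node (nat_lit 0x1a30408b3e) (.node (nat_lit 0x1a3040830e) (.node (nat_lit 0x1a20c71dca) (.node (nat_lit 0x1a20c719ea) (.leaf (nat_lit 0x1a20c719da) (nat_lit 2820))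
 (.leaf (nat_lit 0x1a20c719ea) (nat_lit 2306))
) (.node (nat_lit 0x1a20c71dfa) (.leaf (nat_lit 0x1a20c71dca) (nat_lit 2308))
 (.leaf (nat_lit 0x1a20c71dfa) (nat_lit 2052))
)) (.node (nat_lit 0x1a3040872e) (.node (nat_lit 0x1a3040831e) (.leaf (nat_lit 0x1a3040830e) (nat_lit 770))
 (.leaf (nat_lit 0x1a3040831e) (nat_lit 3332))
) (.node (nat_lit 0x1a3040873e) (.leaf (nat_lit 0x1a3040872e) (nat_lit 3332))
 (.node (nat_lit 0x1a30408b2e) (.leaf (nat_lit 0x1a3040873e) (nat_lit 2817))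
 (.leaf (nat_lit 0x1a30408b2e) (nat_lit 2050))
)))) (.node (nat_lit 0x1a30418376) (.node (nat_lit 0x1a30408f1e) (.node (nat_lit 0x1a30408f0e) (.leaf (nat_lit 0x1a30408b3e) (nat_lit 3076))
 (.leaf (nat_lit 0x1a30408f0e) (nat_lit 2564))
) (.node (nat_lit 0x1a30418366) (.leaf (nat_lit 0x1a30408f1e) (nat_lit 3076))
 (.leaf (nat_lit 0x1a30418366) (nat_lit 1793))
)) (.node (nat_lit 0x1a30418756) (.node (nat_lit 0x1a30418746) (.leaf (nat_lit 0x1a30418376) (nat_lit 2304))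
 (.leaf (nat_lit 0x1a30418746) (nat_lit 1796))
) (.node (nat_lit 0x1a30418b46) (.leaf (nat_lit 0x1a30418756) (nat_lit 2306))
 (.node (nat_lit 0x1a30418b56) (.leaf (nat_lit 0x1a30418b46) (nat_lit 2561))
 (.leaf (nat_lit 0x1a30418b56) (nat_lit 3076))
))))) (.node (nat_lit 0x1a30429d56) (.node (nat_lit 0x1a30429566) (.node (nat_lit 0x1a30429146) (.node (nat_lit 0x1a30418f76) (.leaf (nat_lit 0x1a30418f66) (nat_lit 2564))
 (.leaf (nat_lit 0x1a30418f76) (nat_lit 2562))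
) (.node (nat_lit 0x1a30429156) (.leaf (nat_lit 0x1a30429146) (nat_lit 1282))
 (.leaf (nat_lit 0x1a30429156) (nat_lit 3328))
)) (.node (nat_lit 0x1a30429966) (.node (nat_lit 0x1a30429576) (.leaf (nat_lit 0x1a30429566) (nat_lit 2820))
 (.leaf (nat_lit 0x1a30429576) (nat_lit 2308))
) (.node (nat_lit 0x1a30429976) (.leaf (nat_lit 0x1a30429966) (nat_lit 1538))
 (.node (nat_lit 0x1a30429d46) (.leaf (nat_lit 0x1a30429976) (nat_lit 3076))
 (.leaf (nat_lit 0x1a30429d46) (nat_lit 3076))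
)))) (.node (nat_lit 0x1a3043951e) (.node (nat_lit 0x1a3043913e) (.node (nat_lit 0x1a3043912e) (.leaf (nat_lit 0x1a30429d56) (nat_lit 2564))
 (.leaf (nat_lit 0x1a3043912e) (nat_lit 2817))
) (.node (nat_lit 0x1a3043950e) (.leaf (nat_lit 0x1a3043913e) (nat_lit 2308))
 (.leaf (nat_lit 0x1a3043950e) (nat_lit 1796))
)) (.node (nat_lit 0x1a3043991e) (.node (nat_lit 0x1a3043990e) (.leaf (nat_lit 0x1a3043951e) (nat_lit 2818))
 (.leaf (nat_lit 0x1a3043990e) (nat_lit 1537))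
) (.node (nat_lit 0x1a30439d2e) (.leaf (nat_lit 0x1a3043991e) (nat_lit 3072))
 (.node (nat_lit 0x1a30439d3e) (.leaf (nat_lit 0x1a30439d2e) (nat_lit 2564))
 (.leaf (nat_lit 0x1a30439d3e) (nat_lit 2050))
))))))))) (.node (nat_lit 0x1c1086929c) (.node (nat_lit 0x1a3085129e) (.node (nat_lit 0x1a3080889e) (.node (nat_lit 0x1a3046072e) (.node (nat_lit 0x1a3045113e) (.node (nat_lit 0x1a30441966) (.node (nat_lit 0x1a30441566) (.node (nat_lit 0x1a30441156) (.leaf (nat_lit 0x1a30441146) (nat_lit 1026))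
 (.leaf (nat_lit 0x1a30441156) (nat_lit 3076))
) (.node (nat_lit 0x1a30441576) (.leaf (nat_lit 0x1a30441566) (nat_lit 2564))
 (.leaf (nat_lit 0x1a30441576) (nat_lit 2560))
)) (.node (nat_lit 0x1a30441d46) (.node (nat_lit 0x1a30441976) (.leaf (nat_lit 0x1a30441966) (nat_lit 1794))
 (.leaf (nat_lit 0x1a30441976) (nat_lit 3332))
) (.node (nat_lit 0x1a30441d56) (.leaf (nat_lit 0x1a30441d46) (nat_lit 2820))
 (.node (nat_lit 0x1a3045112e) (.leaf (nat_lit 0x1a30441d56) (nat_lit 2816))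
 (.leaf (nat_lit 0x1a3045112e) (nat_lit 2561))
)))) (.node (nat_lit 0x1a3045191e) (.node (nat_lit 0x1a3045151e) (.node (nat_lit 0x1a3045150e) (.leaf (nat_lit 0x1a3045113e) (nat_lit 2560))
 (.leaf (nat_lit 0x1a3045150e) (nat_lit 1540))
) (.node (nat_lit 0x1a3045190e) (.leaf (nat_lit 0x1a3045151e) (nat_lit 2562))
 (.leaf (nat_lit 0x1a3045190e) (nat_lit 1793))
)) (.node (nat_lit 0x1a30451d3e) (.node (nat_lit 0x1a30451d2e) (.leaf (nat_lit 0x1a3045191e) (nat_lit 2820))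
 (.leaf (nat_lit 0x1a30451d2e) (nat_lit 2820))
) (.node (nat_lit 0x1a3046030e) (.leaf (nat_lit 0x1a30451d3e) (nat_lit 2306))
 (.node (nat_lit 0x1a3046031e) (.leaf (nat_lit 0x1a3046030e) (nat_lit 1026))
 (.leaf (nat_lit 0x1a3046031e) (nat_lit 3075))
))))) (.node (nat_lit 0x1a30470756) (.node (nat_lit 0x1a30460f0e) (.node (nat_lit 0x1a30460b2e) (.node (nat_lit 0x1a3046073e) (.leaf (nat_lit 0x1a3046072e) (nat_lit 3076))
 (.leaf (nat_lit 0x1a3046073e) (nat_lit 2564))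
) (.node (nat_lit 0x1a30460b3e) (.leaf (nat_lit 0x1a30460b2e) (nat_lit 1794))
 (.leaf (nat_lit 0x1a30460b3e) (nat_lit 2820))
)) (.node (nat_lit 0x1a30470366) (.node (nat_lit 0x1a30460f1e) (.leaf (nat_lit 0x1a30460f0e) (nat_lit 2308))
 (.leaf (nat_lit 0x1a30460f1e) (nat_lit 3332))
) (.node (nat_lit 0x1a30470376) (.leaf (nat_lit 0x1a30470366) (nat_lit 2049))
 (.node (nat_lit 0x1a30470746) (.leaf (nat_lit 0x1a30470376) (nat_lit 2052))
 (.leaf (nat_lit 0x1a30470746) (nat_lit 2052))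
)))) (.node (nat_lit 0x1a30470f76) (.node (nat_lit 0x1a30470b56) (.node (nat_lit 0x1a30470b46) (.leaf (nat_lit 0x1a30470756) (nat_lit 2562))
 (.leaf (nat_lit 0x1a30470b46) (nat_lit 2305))
) (.node (nat_lit 0x1a30470f66) (.leaf (nat_lit 0x1a30470b56) (nat_lit 2820))
 (.leaf (nat_lit 0x1a30470f66) (nat_lit 2308))
)) (.node (nat_lit 0x1a308080ae) (.node (nat_lit 0x1a3080808e) (.leaf (nat_lit 0x1a30470f76) (nat_lit 2306))
 (.leaf (nat_lit 0x1a3080808e) (nat_lit 1027))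
) (.node (nat_lit 0x1a3080849e) (.leaf (nat_lit 0x1a308080ae) (nat_lit 2307))
 (.node (nat_lit 0x1a308084be) (.leaf (nat_lit 0x1a3080849e) (nat_lit 3076))
 (.leaf (nat_lit 0x1a308084be) (nat_lit 3072))
)))))) (.node (nat_lit 0x1a30828cc6) (.node (nat_lit 0x1a30819ae6) (.node (nat_lit 0x1a308192d6) (.node (nat_lit 0x1a30808c8e) (.node (nat_lit 0x1a308088be) (.leaf (nat_lit 0x1a3080889e) (nat_lit 3332))
 (.leaf (nat_lit 0x1a308088be) (nat_lit 3073))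
) (.node (nat_lit 0x1a30808cae) (.leaf (nat_lit 0x1a30808c8e) (nat_lit 2820))
 (.leaf (nat_lit 0x1a30808cae) (nat_lit 3330))
)) (.node (nat_lit 0x1a308196c6) (.node (nat_lit 0x1a308192f6) (.leaf (nat_lit 0x1a308192d6) (nat_lit 2564))
 (.leaf (nat_lit 0x1a308192f6) (nat_lit 2819))
) (.node (nat_lit 0x1a308196e6) (.leaf (nat_lit 0x1a308196c6) (nat_lit 2052))
 (.node (nat_lit 0x1a30819ac6) (.leaf (nat_lit 0x1a308196e6) (nat_lit 2820))
 (.leaf (nat_lit 0x1a30819ac6) (nat_lit 2817))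
)))) (.node (nat_lit 0x1a308280e6) (.node (nat_lit 0x1a30819ef6) (.node (nat_lit 0x1a30819ed6) (.leaf (nat_lit 0x1a30819ae6) (nat_lit 2049))
 (.leaf (nat_lit 0x1a30819ed6) (nat_lit 3074))
) (.node (nat_lit 0x1a308280c6) (.leaf (nat_lit 0x1a30819ef6) (nat_lit 2306))
 (.leaf (nat_lit 0x1a308280c6) (nat_lit 1539))
)) (.node (nat_lit 0x1a308284f6) (.node (nat_lit 0x1a308284d6) (.leaf (nat_lit 0x1a308280e6) (nat_lit 1795))
 (.leaf (nat_lit 0x1a308284d6) (nat_lit 3072))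
) (.node (nat_lit 0x1a308288d6) (.leaf (nat_lit 0x1a308284f6) (nat_lit 3076))
 (.node (nat_lit 0x1a308288f6) (.leaf (nat_lit 0x1a308288d6) (nat_lit 2820))
 (.leaf (nat_lit 0x1a308288f6) (nat_lit 2564))
))))) (.node (nat_lit 0x1a30839ebe) (.node (nat_lit 0x1a3083968e) (.node (nat_lit 0x1a3083929e) (.node (nat_lit 0x1a30828ce6) (.leaf (nat_lit 0x1a30828cc6) (nat_lit 3074))
 (.leaf (nat_lit 0x1a30828ce6) (nat_lit 3076))
) (.node (nat_lit 0x1a308392be) (.leaf (nat_lit 0x1a3083929e) (nat_lit 3072))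
 (.leaf (nat_lit 0x1a308392be) (nat_lit 2307))
)) (.node (nat_lit 0x1a30839a8e) (.node (nat_lit 0x1a308396ae) (.leaf (nat_lit 0x1a3083968e) (nat_lit 2052))
 (.leaf (nat_lit 0x1a308396ae) (nat_lit 2820))
) (.node (nat_lit 0x1a30839aae) (.leaf (nat_lit 0x1a30839a8e) (nat_lit 1793))
 (.node (nat_lit 0x1a30839e9e) (.leaf (nat_lit 0x1a30839aae) (nat_lit 3073))
 (.leaf (nat_lit 0x1a30839e9e) (nat_lit 3074))
)))) (.node (nat_lit 0x1a308404f6) (.node (nat_lit 0x1a308400e6) (.node (nat_lit 0x1a308400c6) (.leaf (nat_lit 0x1a30839ebe) (nat_lit 2306))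
 (.leaf (nat_lit 0x1a308400c6) (nat_lit 1283))
) (.node (nat_lit 0x1a308404d6) (.leaf (nat_lit 0x1a308400e6) (nat_lit 2051))
 (.leaf (nat_lit 0x1a308404d6) (nat_lit 2820))
)) (.node (nat_lit 0x1a308408f6) (.node (nat_lit 0x1a308408d6) (.leaf (nat_lit 0x1a308404f6) (nat_lit 3074))
 (.leaf (nat_lit 0x1a308408d6) (nat_lit 3072))
) (.node (nat_lit 0x1a30840cc6) (.leaf (nat_lit 0x1a308408f6) (nat_lit 2816))
 (.node (nat_lit 0x1a30840ce6) (.leaf (nat_lit 0x1a30840cc6) (nat_lit 2818))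
 (.leaf (nat_lit 0x1a30840ce6) (nat_lit 2820))
))))))) (.node (nat_lit 0x1c10819a8c) (.node (nat_lit 0x1a308716c6) (.node (nat_lit 0x1a308600ae) (.node (nat_lit 0x1a30851a8e) (.node (nat_lit 0x1a3085168e) (.node (nat_lit 0x1a308512be) (.leaf (nat_lit 0x1a3085129e) (nat_lit 2820))
 (.leaf (nat_lit 0x1a308512be) (nat_lit 2563))
) (.node (nat_lit 0x1a308516ae) (.leaf (nat_lit 0x1a3085168e) (nat_lit 1796))
 (.leaf (nat_lit 0x1a308516ae) (nat_lit 3076))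
)) (.node (nat_lit 0x1a30851e9e) (.node (nat_lit 0x1a30851aae) (.leaf (nat_lit 0x1a30851a8e) (nat_lit 2049))
 (.leaf (nat_lit 0x1a30851aae) (nat_lit 2817))
) (.node (nat_lit 0x1a30851ebe) (.leaf (nat_lit 0x1a30851e9e) (nat_lit 2818))
 (.node (nat_lit 0x1a3086008e) (.leaf (nat_lit 0x1a30851ebe) (nat_lit 2562))
 (.leaf (nat_lit 0x1a3086008e) (nat_lit 1283))
)))) (.node (nat_lit 0x1a308608be) (.node (nat_lit 0x1a308604be) (.node (nat_lit 0x1a3086049e) (.leaf (nat_lit 0x1a308600ae) (nat_lit 2051))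
 (.leaf (nat_lit 0x1a3086049e) (nat_lit 2818))
) (.node (nat_lit 0x1a3086089e) (.leaf (nat_lit 0x1a308604be) (nat_lit 2820))
 (.leaf (nat_lit 0x1a3086089e) (nat_lit 3588))
)) (.node (nat_lit 0x1a30860cae) (.node (nat_lit 0x1a30860c8e) (.leaf (nat_lit 0x1a308608be) (nat_lit 2820))
 (.leaf (nat_lit 0x1a30860c8e) (nat_lit 2564))
) (.node (nat_lit 0x1a308712d6) (.leaf (nat_lit 0x1a30860cae) (nat_lit 3074))
 (.node (nat_lit 0x1a308712f6) (.leaf (nat_lit 0x1a308712d6) (nat_lit 2816))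
 (.leaf (nat_lit 0x1a308712f6) (nat_lit 2563))
))))) (.node (nat_lit 0x1c108086ac) (.node (nat_lit 0x1a30871ed6) (.node (nat_lit 0x1a30871ac6) (.node (nat_lit 0x1a308716e6) (.leaf (nat_lit 0x1a308716c6) (nat_lit 2308))
 (.leaf (nat_lit 0x1a308716e6) (nat_lit 2564))
) (.node (nat_lit 0x1a30871ae6) (.leaf (nat_lit 0x1a30871ac6) (nat_lit 2561))
 (.leaf (nat_lit 0x1a30871ae6) (nat_lit 2305))
)) (.node (nat_lit 0x1c1080828c) (.node (nat_lit 0x1a30871ef6) (.leaf (nat_lit 0x1a30871ed6) (nat_lit 3076))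
 (.leaf (nat_lit 0x1a30871ef6) (nat_lit 2050))
) (.node (nat_lit 0x1c108082ac) (.leaf (nat_lit 0x1c1080828c) (nat_lit 1026))
 (.node (nat_lit 0x1c1080868c) (.leaf (nat_lit 0x1c108082ac) (nat_lit 3076))
 (.leaf (nat_lit 0x1c1080868c) (nat_lit 3072))
)))) (.node (nat_lit 0x1c10808ebc) (.node (nat_lit 0x1c10808abc) (.node (nat_lit 0x1c10808a9c) (.leaf (nat_lit 0x1c108086ac) (nat_lit 3072))
 (.leaf (nat_lit 0x1c10808a9c) (nat_lit 2816))
) (.node (nat_lit 0x1c10808e9c) (.leaf (nat_lit 0x1c10808abc) (nat_lit 3588))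
 (.leaf (nat_lit 0x1c10808e9c) (nat_lit 3585))
)) (.node (nat_lit 0x1c108192bc) (.node (nat_lit 0x1c1081929c) (.leaf (nat_lit 0x1c10808ebc) (nat_lit 2818))
 (.leaf (nat_lit 0x1c1081929c) (nat_lit 2307))
) (.node (nat_lit 0x1c1081969c) (.leaf (nat_lit 0x1c108192bc) (nat_lit 3073))
 (.node (nat_lit 0x1c108196bc) (.leaf (nat_lit 0x1c1081969c) (nat_lit 2562))
 (.leaf (nat_lit 0x1c108196bc) (nat_lit 3332))
)))))) (.node (nat_lit 0x1c10839edc) (.node (nat_lit 0x1c10828aec) (.node (nat_lit 0x1c108282dc) (.node (nat_lit 0x1c10819e8c) (.node (nat_lit 0x1c10819aac) (.leaf (nat_lit 0x1c10819a8c) (nat_lit 1792))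
 (.leaf (nat_lit 0x1c10819aac) (nat_lit 2818))
) (.node (nat_lit 0x1c10819eac) (.leaf (nat_lit 0x1c10819e8c) (nat_lit 2305))
 (.leaf (nat_lit 0x1c10819eac) (nat_lit 3076))
)) (.node (nat_lit 0x1c108286dc) (.node (nat_lit 0x1c108282fc) (.leaf (nat_lit 0x1c108282dc) (nat_lit 2307))
 (.leaf (nat_lit 0x1c108282fc) (nat_lit 2561))
) (.node (nat_lit 0x1c108286fc) (.leaf (nat_lit 0x1c108286dc) (nat_lit 3074))
 (.node (nat_lit 0x1c10828acc) (.leaf (nat_lit 0x1c108286fc) (nat_lit 3332))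
 (.leaf (nat_lit 0x1c10828acc) (nat_lit 1796))
)))) (.node (nat_lit 0x1c108392ec) (.node (nat_lit 0x1c10828eec) (.node (nat_lit 0x1c10828ecc) (.leaf (nat_lit 0x1c10828aec) (nat_lit 2306))
 (.leaf (nat_lit 0x1c10828ecc) (nat_lit 2817))
) (.node (nat_lit 0x1c108392cc) (.leaf (nat_lit 0x1c10828eec) (nat_lit 3072))
 (.leaf (nat_lit 0x1c108392cc) (nat_lit 1538))
)) (.node (nat_lit 0x1c108396ec) (.node (nat_lit 0x1c108396cc) (.leaf (nat_lit 0x1c108392ec) (nat_lit 3072))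
 (.leaf (nat_lit 0x1c108396cc) (nat_lit 3076))
) (.node (nat_lit 0x1c10839adc) (.leaf (nat_lit 0x1c108396ec) (nat_lit 2564))
 (.node (nat_lit 0x1c10839afc) (.leaf (nat_lit 0x1c10839adc) (nat_lit 2308))
 (.leaf (nat_lit 0x1c10839afc) (nat_lit 3587))
))))) (.node (nat_lit 0x1c10849efc) (.node (nat_lit 0x1c108496cc) (.node (nat_lit 0x1c108492cc) (.node (nat_lit 0x1c10839efc) (.leaf (nat_lit 0x1c10839edc) (nat_lit 3588))
 (.leaf (nat_lit 0x1c10839efc) (nat_lit 2306))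
) (.node (nat_lit 0x1c108492ec) (.leaf (nat_lit 0x1c108492cc) (nat_lit 1282))
 (.leaf (nat_lit 0x1c108492ec) (nat_lit 2820))
)) (.node (nat_lit 0x1c10849adc) (.node (nat_lit 0x1c108496ec) (.leaf (nat_lit 0x1c108496cc) (nat_lit 3328))
 (.leaf (nat_lit 0x1c108496ec) (nat_lit 2816))
) (.node (nat_lit 0x1c10849afc) (.leaf (nat_lit 0x1c10849adc) (nat_lit 2560))
 (.node (nat_lit 0x1c10849edc) (.leaf (nat_lit 0x1c10849afc) (nat_lit 3332))
 (.leaf (nat_lit 0x1c10849edc) (nat_lit 3329))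
)))) (.node (nat_lit 0x1c108586fc) (.node (nat_lit 0x1c108582fc) (.node (nat_lit 0x1c108582dc) (.leaf (nat_lit 0x1c10849efc) (nat_lit 2562))
 (.leaf (nat_lit 0x1c108582dc) (nat_lit 2051))
) (.node (nat_lit 0x1c108586dc) (.leaf (nat_lit 0x1c108582fc) (nat_lit 2817))
 (.leaf (nat_lit 0x1c108586dc) (nat_lit 2818))
)) (.node (nat_lit 0x1c10858aec) (.node (nat_lit 0x1c10858acc) (.leaf (nat_lit 0x1c108586fc) (nat_lit 3076))
 (.leaf (nat_lit 0x1c10858acc) (nat_lit 2048))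
) (.node (nat_lit 0x1c10858ecc) (.leaf (nat_lit 0x1c10858aec) (nat_lit 2562))
 (.node (nat_lit 0x1c10858eec) (.leaf (nat_lit 0x1c10858ecc) (nat_lit 2561))
 (.leaf (nat_lit 0x1c10858eec) (nat_lit 2820))
)))))))) (.node (nat_lit 0x1c10c7818c) (.node (nat_lit 0x1c10c299cc) (.node (nat_lit 0x1c10c0858c) (.node (nat_lit 0x1c108782ac) (.node (nat_lit 0x1c10869a8c) (.node (nat_lit 0x1c1086969c) (.node (nat_lit 0x1c108692bc) (.leaf (nat_lit 0x1c1086929c) (nat_lit 2563))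
 (.leaf (nat_lit 0x1c108692bc) (nat_lit 2817))
) (.node (nat_lit 0x1c108696bc) (.leaf (nat_lit 0x1c1086969c) (nat_lit 2818))
 (.leaf (nat_lit 0x1c108696bc) (nat_lit 3332))
)) (.node (nat_lit 0x1c10869e8c) (.node (nat_lit 0x1c10869aac) (.leaf (nat_lit 0x1c10869a8c) (nat_lit 1540))
 (.leaf (nat_lit 0x1c10869aac) (nat_lit 2562))
) (.node (nat_lit 0x1c10869eac) (.leaf (nat_lit 0x1c10869e8c) (nat_lit 2561))
 (.node (nat_lit 0x1c1087828c) (.leaf (nat_lit 0x1c10869eac) (nat_lit 3328))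
 (.leaf (nat_lit 0x1c1087828c) (nat_lit 1282))
)))) (.node (nat_lit 0x1c10878abc) (.node (nat_lit 0x1c108786ac) (.node (nat_lit 0x1c1087868c) (.leaf (nat_lit 0x1c108782ac) (nat_lit 3328))
 (.leaf (nat_lit 0x1c1087868c) (nat_lit 2820))
) (.node (nat_lit 0x1c10878a9c) (.leaf (nat_lit 0x1c108786ac) (nat_lit 2820))
 (.leaf (nat_lit 0x1c10878a9c) (nat_lit 2564))
)) (.node (nat_lit 0x1c10878ebc) (.node (nat_lit 0x1c10878e9c) (.leaf (nat_lit 0x1c10878abc) (nat_lit 3331))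
 (.leaf (nat_lit 0x1c10878e9c) (nat_lit 3332))
) (.node (nat_lit 0x1c10c0818c) (.leaf (nat_lit 0x1c10878ebc) (nat_lit 2562))
 (.node (nat_lit 0x1c10c081bc) (.leaf (nat_lit 0x1c10c0818c) (nat_lit 1028))
 (.leaf (nat_lit 0x1c10c081bc) (nat_lit 3075))
))))) (.node (nat_lit 0x1c10c195ac) (.node (nat_lit 0x1c10c08d9c) (.node (nat_lit 0x1c10c0899c) (.node (nat_lit 0x1c10c085bc) (.leaf (nat_lit 0x1c10c0858c) (nat_lit 2816))
 (.leaf (nat_lit 0x1c10c085bc) (nat_lit 3330))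
) (.node (nat_lit 0x1c10c089ac) (.leaf (nat_lit 0x1c10c0899c) (nat_lit 3329))
 (.leaf (nat_lit 0x1c10c089ac) (nat_lit 2820))
)) (.node (nat_lit 0x1c10c1919c) (.node (nat_lit 0x1c10c08dac) (.leaf (nat_lit 0x1c10c08d9c) (nat_lit 2818))
 (.leaf (nat_lit 0x1c10c08dac) (nat_lit 3072))
) (.node (nat_lit 0x1c10c191ac) (.leaf (nat_lit 0x1c10c1919c) (nat_lit 2820))
 (.node (nat_lit 0x1c10c1959c) (.leaf (nat_lit 0x1c10c191ac) (nat_lit 2816))
 (.leaf (nat_lit 0x1c10c1959c) (nat_lit 2050))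
)))) (.node (nat_lit 0x1c10c19dbc) (.node (nat_lit 0x1c10c199bc) (.node (nat_lit 0x1c10c1998c) (.leaf (nat_lit 0x1c10c195ac) (nat_lit 3076))
 (.leaf (nat_lit 0x1c10c1998c) (nat_lit 1536))
) (.node (nat_lit 0x1c10c19d8c) (.leaf (nat_lit 0x1c10c199bc) (nat_lit 3332))
 (.leaf (nat_lit 0x1c10c19d8c) (nat_lit 2308))
)) (.node (nat_lit 0x1c10c291ec) (.node (nat_lit 0x1c10c291dc) (.leaf (nat_lit 0x1c10c19dbc) (nat_lit 3074))
 (.leaf (nat_lit 0x1c10c291dc) (nat_lit 3328))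
) (.node (nat_lit 0x1c10c295dc) (.leaf (nat_lit 0x1c10c291ec) (nat_lit 2308))
 (.node (nat_lit 0x1c10c295ec) (.leaf (nat_lit 0x1c10c295dc) (nat_lit 2050))
 (.leaf (nat_lit 0x1c10c295ec) (nat_lit 3072))
)))))) (.node (nat_lit 0x1c10c48ddc) (.node (nat_lit 0x1c10c389ec) (.node (nat_lit 0x1c10c381cc) (.node (nat_lit 0x1c10c29dcc) (.node (nat_lit 0x1c10c299fc) (.leaf (nat_lit 0x1c10c299cc) (nat_lit 1540))
 (.leaf (nat_lit 0x1c10c299fc) (nat_lit 3328))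
) (.node (nat_lit 0x1c10c29dfc) (.leaf (nat_lit 0x1c10c29dcc) (nat_lit 2816))
 (.leaf (nat_lit 0x1c10c29dfc) (nat_lit 2562))
)) (.node (nat_lit 0x1c10c385cc) (.node (nat_lit 0x1c10c381fc) (.leaf (nat_lit 0x1c10c381cc) (nat_lit 1536))
 (.leaf (nat_lit 0x1c10c381fc) (nat_lit 2563))
) (.node (nat_lit 0x1c10c385fc) (.leaf (nat_lit 0x1c10c385cc) (nat_lit 2820))
 (.node (nat_lit 0x1c10c389dc) (.leaf (nat_lit 0x1c10c385fc) (nat_lit 3330))
 (.leaf (nat_lit 0x1c10c389dc) (nat_lit 3332))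
)))) (.node (nat_lit 0x1c10c481fc) (.node (nat_lit 0x1c10c38dec) (.node (nat_lit 0x1c10c38ddc) (.leaf (nat_lit 0x1c10c389ec) (nat_lit 2816))
 (.leaf (nat_lit 0x1c10c38ddc) (nat_lit 2306))
) (.node (nat_lit 0x1c10c481cc) (.leaf (nat_lit 0x1c10c38dec) (nat_lit 2564))
 (.leaf (nat_lit 0x1c10c481cc) (nat_lit 1284))
)) (.node (nat_lit 0x1c10c485fc) (.node (nat_lit 0x1c10c485cc) (.leaf (nat_lit 0x1c10c481fc) (nat_lit 2819))
 (.leaf (nat_lit 0x1c10c485cc) (nat_lit 3072))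
) (.node (nat_lit 0x1c10c489dc) (.leaf (nat_lit 0x1c10c485fc) (nat_lit 3074))
 (.node (nat_lit 0x1c10c489ec) (.leaf (nat_lit 0x1c10c489dc) (nat_lit 3073))
 (.leaf (nat_lit 0x1c10c489ec) (nat_lit 2564))
))))) (.node (nat_lit 0x1c10c59dfc) (.node (nat_lit 0x1c10c595dc) (.node (nat_lit 0x1c10c591dc) (.node (nat_lit 0x1c10c48dec) (.leaf (nat_lit 0x1c10c48ddc) (nat_lit 2562))
 (.leaf (nat_lit 0x1c10c48dec) (nat_lit 2816))
) (.node (nat_lit 0x1c10c591ec) (.leaf (nat_lit 0x1c10c591dc) (nat_lit 3076))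
 (.leaf (nat_lit 0x1c10c591ec) (nat_lit 2560))
)) (.node (nat_lit 0x1c10c599cc) (.node (nat_lit 0x1c10c595ec) (.leaf (nat_lit 0x1c10c595dc) (nat_lit 1794))
 (.leaf (nat_lit 0x1c10c595ec) (nat_lit 2820))
) (.node (nat_lit 0x1c10c599fc) (.leaf (nat_lit 0x1c10c599cc) (nat_lit 1792))
 (.node (nat_lit 0x1c10c59dcc) (.leaf (nat_lit 0x1c10c599fc) (nat_lit 3076))
 (.leaf (nat_lit 0x1c10c59dcc) (nat_lit 2564))
)))) (.node (nat_lit 0x1c10c695ac) (.node (nat_lit 0x1c10c691ac) (.node (nat_lit 0x1c10c6919c) (.leaf (nat_lit 0x1c10c59dfc) (nat_lit 2818))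
 (.leaf (nat_lit 0x1c10c6919c) (nat_lit 3072))
) (.node (nat_lit 0x1c10c6959c) (.leaf (nat_lit 0x1c10c691ac) (nat_lit 2564))
 (.leaf (nat_lit 0x1c10c6959c) (nat_lit 2306))
)) (.node (nat_lit 0x1c10c699bc) (.node (nat_lit 0x1c10c6998c) (.leaf (nat_lit 0x1c10c695ac) (nat_lit 3328))
 (.leaf (nat_lit 0x1c10c6998c) (nat_lit 1284))
) (.node (nat_lit 0x1c10c69d8c) (.leaf (nat_lit 0x1c10c699bc) (nat_lit 3330))
 (.node (nat_lit 0x1c10c69dbc) (.leaf (nat_lit 0x1c10c69d8c) (nat_lit 2560))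
 (.leaf (nat_lit 0x1c10c69dbc) (nat_lit 2818))
))))))) (.node (nat_lit 0x1c20439b4a) (.node (nat_lit 0x1c2041874a) (.node (nat_lit 0x1c2040831a) (.node (nat_lit 0x1c10c7899c) (.node (nat_lit 0x1c10c7858c) (.node (nat_lit 0x1c10c781bc) (.leaf (nat_lit 0x1c10c7818c) (nat_lit 1280))
 (.leaf (nat_lit 0x1c10c781bc) (nat_lit 2819))
) (.node (nat_lit 0x1c10c785bc) (.leaf (nat_lit 0x1c10c7858c) (nat_lit 2564))
 (.leaf (nat_lit 0x1c10c785bc) (nat_lit 3074))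
)) (.node (nat_lit 0x1c10c78d9c) (.node (nat_lit 0x1c10c789ac) (.leaf (nat_lit 0x1c10c7899c) (nat_lit 3076))
 (.leaf (nat_lit 0x1c10c789ac) (nat_lit 3072))
) (.node (nat_lit 0x1c10c78dac) (.leaf (nat_lit 0x1c10c78d9c) (nat_lit 2562))
 (.node (nat_lit 0x1c2040830a) (.leaf (nat_lit 0x1c10c78dac) (nat_lit 2820))
 (.leaf (nat_lit 0x1c2040830a) (nat_lit 770))
)))) (.node (nat_lit 0x1c20408b1a) (.node (nat_lit 0x1c2040873a) (.node (nat_lit 0x1c2040872a) (.leaf (nat_lit 0x1c2040831a) (nat_lit 3332))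
 (.leaf (nat_lit 0x1c2040872a) (nat_lit 2304))
) (.node (nat_lit 0x1c20408b0a) (.leaf (nat_lit 0x1c2040873a) (nat_lit 3332))
 (.leaf (nat_lit 0x1c20408b0a) (nat_lit 3076))
)) (.node (nat_lit 0x1c20408f3a) (.node (nat_lit 0x1c20408f2a) (.leaf (nat_lit 0x1c20408b1a) (nat_lit 3072))
 (.leaf (nat_lit 0x1c20408f2a) (nat_lit 3076))
) (.node (nat_lit 0x1c2041836a) (.leaf (nat_lit 0x1c20408f3a) (nat_lit 2562))
 (.node (nat_lit 0x1c2041837a) (.leaf (nat_lit 0x1c2041836a) (nat_lit 1792))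
 (.leaf (nat_lit 0x1c2041837a) (nat_lit 2305))
))))) (.node (nat_lit 0x1c2042971a) (.node (nat_lit 0x1c20418f4a) (.node (nat_lit 0x1c20418b6a) (.node (nat_lit 0x1c2041875a) (.leaf (nat_lit 0x1c2041874a) (nat_lit 1796))
 (.leaf (nat_lit 0x1c2041875a) (nat_lit 2306))
) (.node (nat_lit 0x1c20418b7a) (.leaf (nat_lit 0x1c20418b6a) (nat_lit 2562))
 (.leaf (nat_lit 0x1c20418b7a) (nat_lit 3076))
)) (.node (nat_lit 0x1c2042932a) (.node (nat_lit 0x1c20418f5a) (.leaf (nat_lit 0x1c20418f4a) (nat_lit 2561))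
 (.leaf (nat_lit 0x1c20418f5a) (nat_lit 3074))
) (.node (nat_lit 0x1c2042933a) (.leaf (nat_lit 0x1c2042932a) (nat_lit 1796))
 (.node (nat_lit 0x1c2042970a) (.leaf (nat_lit 0x1c2042933a) (nat_lit 2817))
 (.leaf (nat_lit 0x1c2042970a) (nat_lit 1796))
)))) (.node (nat_lit 0x1c20429f1a) (.node (nat_lit 0x1c20429b3a) (.node (nat_lit 0x1c20429b2a) (.leaf (nat_lit 0x1c2042971a) (nat_lit 2818))
 (.leaf (nat_lit 0x1c20429b2a) (nat_lit 2050))
) (.node (nat_lit 0x1c20429f0a) (.leaf (nat_lit 0x1c20429b3a) (nat_lit 3076))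
 (.leaf (nat_lit 0x1c20429f0a) (nat_lit 2049))
)) (.node (nat_lit 0x1c2043935a) (.node (nat_lit 0x1c2043934a) (.leaf (nat_lit 0x1c20429f1a) (nat_lit 3076))
 (.leaf (nat_lit 0x1c2043934a) (nat_lit 1282))
) (.node (nat_lit 0x1c2043976a) (.leaf (nat_lit 0x1c2043935a) (nat_lit 3331))
 (.node (nat_lit 0x1c2043977a) (.leaf (nat_lit 0x1c2043976a) (nat_lit 1796))
 (.leaf (nat_lit 0x1c2043977a) (nat_lit 3332))
)))))) (.node (nat_lit 0x1c20459f0a) (.node (nat_lit 0x1c20449b5a) (.node (nat_lit 0x1c2044934a) (.node (nat_lit 0x1c20439f6a) (.node (nat_lit 0x1c20439b5a) (.leaf (nat_lit 0x1c20439b4a) (nat_lit 3076))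
 (.leaf (nat_lit 0x1c20439b5a) (nat_lit 2564))
) (.node (nat_lit 0x1c20439f7a) (.leaf (nat_lit 0x1c20439f6a) (nat_lit 3076))
 (.leaf (nat_lit 0x1c20439f7a) (nat_lit 2050))
)) (.node (nat_lit 0x1c2044976a) (.node (nat_lit 0x1c2044935a) (.leaf (nat_lit 0x1c2044934a) (nat_lit 1026))
 (.leaf (nat_lit 0x1c2044935a) (nat_lit 3076))
) (.node (nat_lit 0x1c2044977a) (.leaf (nat_lit 0x1c2044976a) (nat_lit 2048))
 (.node (nat_lit 0x1c20449b4a) (.leaf (nat_lit 0x1c2044977a) (nat_lit 3076))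
 (.leaf (nat_lit 0x1c20449b4a) (nat_lit 2820))
)))) (.node (nat_lit 0x1c2045933a) (.node (nat_lit 0x1c20449f7a) (.node (nat_lit 0x1c20449f6a) (.leaf (nat_lit 0x1c20449b5a) (nat_lit 2816))
 (.leaf (nat_lit 0x1c20449f6a) (nat_lit 2820))
) (.node (nat_lit 0x1c2045932a) (.leaf (nat_lit 0x1c20449f7a) (nat_lit 2306))
 (.leaf (nat_lit 0x1c2045932a) (nat_lit 2048))
)) (.node (nat_lit 0x1c2045971a) (.node (nat_lit 0x1c2045970a) (.leaf (nat_lit 0x1c2045933a) (nat_lit 2561))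
 (.leaf (nat_lit 0x1c2045970a) (nat_lit 1540))
) (.node (nat_lit 0x1c20459b2a) (.leaf (nat_lit 0x1c2045971a) (nat_lit 2562))
 (.node (nat_lit 0x1c20459b3a) (.leaf (nat_lit 0x1c20459b2a) (nat_lit 2306))
 (.leaf (nat_lit 0x1c20459b3a) (nat_lit 2820))
))))) (.node (nat_lit 0x1c20468f5a) (.node (nat_lit 0x1c2046874a) (.node (nat_lit 0x1c2046836a) (.node (nat_lit 0x1c20459f1a) (.leaf (nat_lit 0x1c20459f0a) (nat_lit 2305))
 (.leaf (nat_lit 0x1c20459f1a) (nat_lit 2818))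
) (.node (nat_lit 0x1c2046837a) (.leaf (nat_lit 0x1c2046836a) (nat_lit 1540))
 (.leaf (nat_lit 0x1c2046837a) (nat_lit 2561))
)) (.node (nat_lit 0x1c20468b6a) (.node (nat_lit 0x1c2046875a) (.leaf (nat_lit 0x1c2046874a) (nat_lit 2052))
 (.leaf (nat_lit 0x1c2046875a) (nat_lit 2562))
) (.node (nat_lit 0x1c20468b7a) (.leaf (nat_lit 0x1c20468b6a) (nat_lit 2306))
 (.node (nat_lit 0x1c20468f4a) (.leaf (nat_lit 0x1c20468b7a) (nat_lit 2820))
 (.leaf (nat_lit 0x1c20468f4a) (nat_lit 2305))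
)))) (.node (nat_lit 0x1c2047873a) (.node (nat_lit 0x1c2047831a) (.node (nat_lit 0x1c2047830a) (.leaf (nat_lit 0x1c20468f5a) (nat_lit 2820))
 (.leaf (nat_lit 0x1c2047830a) (nat_lit 1026))
) (.node (nat_lit 0x1c2047872a) (.leaf (nat_lit 0x1c2047831a) (nat_lit 3075))
 (.leaf (nat_lit 0x1c2047872a) (nat_lit 2052))
)) (.node (nat_lit 0x1c20478b1a) (.node (nat_lit 0x1c20478b0a) (.leaf (nat_lit 0x1c2047873a) (nat_lit 3076))
 (.leaf (nat_lit 0x1c20478b0a) (nat_lit 2820))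
) (.node (nat_lit 0x1c20478f2a) (.leaf (nat_lit 0x1c20478b1a) (nat_lit 2820))
 (.node (nat_lit 0x1c20478f3a) (.leaf (nat_lit 0x1c20478f2a) (nat_lit 2820))
 (.leaf (nat_lit 0x1c20478f3a) (nat_lit 2306))
)))))))))) (.node (nat_lit 0x1e10c401c4) (.node (nat_lit 0x1c308282d6) (.node (nat_lit 0x1c30418366) (.node (nat_lit 0x1c20c489ca) (.node (nat_lit 0x1c20c2958a) (.node (nat_lit 0x1c20c191ea) (.node (nat_lit 0x1c20c0898a) (.node (nat_lit 0x1c20c0859a) (.node (nat_lit 0x1c20c081ba) (.leaf (nat_lit 0x1c20c0818a) (nat_lit 1027))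
 (.leaf (nat_lit 0x1c20c081ba) (nat_lit 2819))
) (.node (nat_lit 0x1c20c085aa) (.leaf (nat_lit 0x1c20c0859a) (nat_lit 3076))
 (.leaf (nat_lit 0x1c20c085aa) (nat_lit 3073))
)) (.node (nat_lit 0x1c20c08d9a) (.node (nat_lit 0x1c20c089ba) (.leaf (nat_lit 0x1c20c0898a) (nat_lit 3074))
 (.leaf (nat_lit 0x1c20c089ba) (nat_lit 3588))
) (.node (nat_lit 0x1c20c08daa) (.leaf (nat_lit 0x1c20c08d9a) (nat_lit 3328))
 (.node (nat_lit 0x1c20c191da) (.leaf (nat_lit 0x1c20c08daa) (nat_lit 2560))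
 (.leaf (nat_lit 0x1c20c191da) (nat_lit 2564))
)))) (.node (nat_lit 0x1c20c199ea) (.node (nat_lit 0x1c20c195fa) (.node (nat_lit 0x1c20c195ca) (.leaf (nat_lit 0x1c20c191ea) (nat_lit 2819))
 (.leaf (nat_lit 0x1c20c195ca) (nat_lit 1796))
) (.node (nat_lit 0x1c20c199da) (.leaf (nat_lit 0x1c20c195fa) (nat_lit 3330))
 (.leaf (nat_lit 0x1c20c199da) (nat_lit 3329))
)) (.node (nat_lit 0x1c20c19dfa) (.node (nat_lit 0x1c20c19dca) (.leaf (nat_lit 0x1c20c199ea) (nat_lit 1794))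
 (.leaf (nat_lit 0x1c20c19dca) (nat_lit 2817))
) (.node (nat_lit 0x1c20c2919a) (.leaf (nat_lit 0x1c20c19dfa) (nat_lit 2561))
 (.node (nat_lit 0x1c20c291aa) (.leaf (nat_lit 0x1c20c2919a) (nat_lit 3072))
 (.leaf (nat_lit 0x1c20c291aa) (nat_lit 2307))
))))) (.node (nat_lit 0x1c20c385ea) (.node (nat_lit 0x1c20c29d8a) (.node (nat_lit 0x1c20c2999a) (.node (nat_lit 0x1c20c295ba) (.leaf (nat_lit 0x1c20c2958a) (nat_lit 1792))
 (.leaf (nat_lit 0x1c20c295ba) (nat_lit 3332))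
) (.node (nat_lit 0x1c20c299aa) (.leaf (nat_lit 0x1c20c2999a) (nat_lit 3332))
 (.leaf (nat_lit 0x1c20c299aa) (nat_lit 1794))
)) (.node (nat_lit 0x1c20c381ca) (.node (nat_lit 0x1c20c29dba) (.leaf (nat_lit 0x1c20c29d8a) (nat_lit 2305))
 (.leaf (nat_lit 0x1c20c29dba) (nat_lit 3073))
) (.node (nat_lit 0x1c20c381fa) (.leaf (nat_lit 0x1c20c381ca) (nat_lit 1539))
 (.node (nat_lit 0x1c20c385da) (.leaf (nat_lit 0x1c20c381fa) (nat_lit 2307))
 (.leaf (nat_lit 0x1c20c385da) (nat_lit 3074))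
)))) (.node (nat_lit 0x1c20c38dea) (.node (nat_lit 0x1c20c389fa) (.node (nat_lit 0x1c20c389ca) (.leaf (nat_lit 0x1c20c385ea) (nat_lit 3076))
 (.leaf (nat_lit 0x1c20c389ca) (nat_lit 3076))
) (.node (nat_lit 0x1c20c38dda) (.leaf (nat_lit 0x1c20c389fa) (nat_lit 3586))
 (.leaf (nat_lit 0x1c20c38dda) (nat_lit 2820))
)) (.node (nat_lit 0x1c20c481fa) (.node (nat_lit 0x1c20c481ca) (.leaf (nat_lit 0x1c20c38dea) (nat_lit 2052))
 (.leaf (nat_lit 0x1c20c481ca) (nat_lit 1283))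
) (.node (nat_lit 0x1c20c485da) (.leaf (nat_lit 0x1c20c481fa) (nat_lit 2563))
 (.node (nat_lit 0x1c20c485ea) (.leaf (nat_lit 0x1c20c485da) (nat_lit 2820))
 (.leaf (nat_lit 0x1c20c485ea) (nat_lit 2817))
)))))) (.node (nat_lit 0x1c20c69dca) (.node (nat_lit 0x1c20c599aa) (.node (nat_lit 0x1c20c5919a) (.node (nat_lit 0x1c20c48dda) (.node (nat_lit 0x1c20c489fa) (.leaf (nat_lit 0x1c20c489ca) (nat_lit 2818))
 (.leaf (nat_lit 0x1c20c489fa) (nat_lit 3332))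
) (.node (nat_lit 0x1c20c48dea) (.leaf (nat_lit 0x1c20c48dda) (nat_lit 3072))
 (.leaf (nat_lit 0x1c20c48dea) (nat_lit 2304))
)) (.node (nat_lit 0x1c20c5958a) (.node (nat_lit 0x1c20c591aa) (.leaf (nat_lit 0x1c20c5919a) (nat_lit 2820))
 (.leaf (nat_lit 0x1c20c591aa) (nat_lit 2563))
) (.node (nat_lit 0x1c20c595ba) (.leaf (nat_lit 0x1c20c5958a) (nat_lit 1540))
 (.node (nat_lit 0x1c20c5999a) (.leaf (nat_lit 0x1c20c595ba) (nat_lit 3074))
 (.leaf (nat_lit 0x1c20c5999a) (nat_lit 3073))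
)))) (.node (nat_lit 0x1c20c691ea) (.node (nat_lit 0x1c20c59dba) (.node (nat_lit 0x1c20c59d8a) (.leaf (nat_lit 0x1c20c599aa) (nat_lit 2050))
 (.leaf (nat_lit 0x1c20c59d8a) (nat_lit 2561))
) (.node (nat_lit 0x1c20c691da) (.leaf (nat_lit 0x1c20c59dba) (nat_lit 2817))
 (.leaf (nat_lit 0x1c20c691da) (nat_lit 2816))
)) (.node (nat_lit 0x1c20c695fa) (.node (nat_lit 0x1c20c695ca) (.leaf (nat_lit 0x1c20c691ea) (nat_lit 2563))
 (.leaf (nat_lit 0x1c20c695ca) (nat_lit 2048))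
) (.node (nat_lit 0x1c20c699da) (.leaf (nat_lit 0x1c20c695fa) (nat_lit 3076))
 (.node (nat_lit 0x1c20c699ea) (.leaf (nat_lit 0x1c20c699da) (nat_lit 3076))
 (.leaf (nat_lit 0x1c20c699ea) (nat_lit 1538))
))))) (.node (nat_lit 0x1c20c78daa) (.node (nat_lit 0x1c20c7859a) (.node (nat_lit 0x1c20c7818a) (.node (nat_lit 0x1c20c69dfa) (.leaf (nat_lit 0x1c20c69dca) (nat_lit 2561))
 (.leaf (nat_lit 0x1c20c69dfa) (nat_lit 2817))
) (.node (nat_lit 0x1c20c781ba) (.leaf (nat_lit 0x1c20c7818a) (nat_lit 1283))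
 (.leaf (nat_lit 0x1c20c781ba) (nat_lit 2563))
)) (.node (nat_lit 0x1c20c7898a) (.node (nat_lit 0x1c20c785aa) (.leaf (nat_lit 0x1c20c7859a) (nat_lit 2818))
 (.leaf (nat_lit 0x1c20c785aa) (nat_lit 2820))
) (.node (nat_lit 0x1c20c789ba) (.leaf (nat_lit 0x1c20c7898a) (nat_lit 2820))
 (.node (nat_lit 0x1c20c78d9a) (.leaf (nat_lit 0x1c20c789ba) (nat_lit 3330))
 (.leaf (nat_lit 0x1c20c78d9a) (nat_lit 3076))
)))) (.node (nat_lit 0x1c30408736) (.node (nat_lit 0x1c30408316) (.node (nat_lit 0x1c30408306) (.leaf (nat_lit 0x1c20c78daa) (nat_lit 2308))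
 (.leaf (nat_lit 0x1c30408306) (nat_lit 516))
) (.node (nat_lit 0x1c30408726) (.leaf (nat_lit 0x1c30408316) (nat_lit 3586))
 (.leaf (nat_lit 0x1c30408726) (nat_lit 3072))
)) (.node (nat_lit 0x1c30408b36) (.node (nat_lit 0x1c30408b26) (.leaf (nat_lit 0x1c30408736) (nat_lit 2562))
 (.leaf (nat_lit 0x1c30408b26) (nat_lit 2820))
) (.node (nat_lit 0x1c30408f06) (.leaf (nat_lit 0x1c30408b36) (nat_lit 3328))
 (.node (nat_lit 0x1c30408f16) (.leaf (nat_lit 0x1c30408f06) (nat_lit 2304))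
 (.leaf (nat_lit 0x1c30408f16) (nat_lit 3330))
))))))) (.node (nat_lit 0x1c30459b46) (.node (nat_lit 0x1c30439726) (.node (nat_lit 0x1c30429376) (.node (nat_lit 0x1c30418b46) (.node (nat_lit 0x1c30418746) (.node (nat_lit 0x1c30418376) (.leaf (nat_lit 0x1c30418366) (nat_lit 1536))
 (.leaf (nat_lit 0x1c30418376) (nat_lit 2561))
) (.node (nat_lit 0x1c30418756) (.leaf (nat_lit 0x1c30418746) (nat_lit 2052))
 (.leaf (nat_lit 0x1c30418756) (nat_lit 2050))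
)) (.node (nat_lit 0x1c30418f66) (.node (nat_lit 0x1c30418b56) (.leaf (nat_lit 0x1c30418b46) (nat_lit 2304))
 (.leaf (nat_lit 0x1c30418b56) (nat_lit 3332))
) (.node (nat_lit 0x1c30418f76) (.leaf (nat_lit 0x1c30418f66) (nat_lit 2820))
 (.node (nat_lit 0x1c30429366) (.leaf (nat_lit 0x1c30418f76) (nat_lit 2818))
 (.leaf (nat_lit 0x1c30429366) (nat_lit 1540))
)))) (.node (nat_lit 0x1c30429b56) (.node (nat_lit 0x1c30429756) (.node (nat_lit 0x1c30429746) (.leaf (nat_lit 0x1c30429376) (nat_lit 3073))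
 (.leaf (nat_lit 0x1c30429746) (nat_lit 2560))
) (.node (nat_lit 0x1c30429b46) (.leaf (nat_lit 0x1c30429756) (nat_lit 2050))
 (.leaf (nat_lit 0x1c30429b46) (nat_lit 1796))
)) (.node (nat_lit 0x1c30429f76) (.node (nat_lit 0x1c30429f66) (.leaf (nat_lit 0x1c30429b56) (nat_lit 3330))
 (.leaf (nat_lit 0x1c30429f66) (nat_lit 2816))
) (.node (nat_lit 0x1c30439306) (.leaf (nat_lit 0x1c30429f76) (nat_lit 2306))
 (.node (nat_lit 0x1c30439316) (.leaf (nat_lit 0x1c30439306) (nat_lit 1024))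
 (.leaf (nat_lit 0x1c30439316) (nat_lit 3587))
))))) (.node (nat_lit 0x1c30449736) (.node (nat_lit 0x1c30439f06) (.node (nat_lit 0x1c30439b26) (.node (nat_lit 0x1c30439736) (.leaf (nat_lit 0x1c30439726) (nat_lit 3076))
 (.leaf (nat_lit 0x1c30439736) (nat_lit 2050))
) (.node (nat_lit 0x1c30439b36) (.leaf (nat_lit 0x1c30439b26) (nat_lit 2816))
 (.leaf (nat_lit 0x1c30439b36) (nat_lit 2820))
)) (.node (nat_lit 0x1c30449306) (.node (nat_lit 0x1c30439f16) (.leaf (nat_lit 0x1c30439f06) (nat_lit 1796))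
 (.leaf (nat_lit 0x1c30439f16) (nat_lit 3330))
) (.node (nat_lit 0x1c30449316) (.leaf (nat_lit 0x1c30449306) (nat_lit 772))
 (.node (nat_lit 0x1c30449726) (.leaf (nat_lit 0x1c30449316) (nat_lit 3330))
 (.leaf (nat_lit 0x1c30449726) (nat_lit 3328))
)))) (.node (nat_lit 0x1c30449f16) (.node (nat_lit 0x1c30449b36) (.node (nat_lit 0x1c30449b26) (.leaf (nat_lit 0x1c30449736) (nat_lit 2306))
 (.leaf (nat_lit 0x1c30449b26) (nat_lit 2564))
) (.node (nat_lit 0x1c30449f06) (.leaf (nat_lit 0x1c30449b36) (nat_lit 3072))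
 (.leaf (nat_lit 0x1c30449f06) (nat_lit 2048))
)) (.node (nat_lit 0x1c30459376) (.node (nat_lit 0x1c30459366) (.leaf (nat_lit 0x1c30449f16) (nat_lit 3074))
 (.leaf (nat_lit 0x1c30459366) (nat_lit 1792))
) (.node (nat_lit 0x1c30459746) (.leaf (nat_lit 0x1c30459376) (nat_lit 2817))
 (.node (nat_lit 0x1c30459756) (.leaf (nat_lit 0x1c30459746) (nat_lit 2308))
 (.leaf (nat_lit 0x1c30459756) (nat_lit 1794))
)))))) (.node (nat_lit 0x1c30478f06) (.node (nat_lit 0x1c30468b56) (.node (nat_lit 0x1c30468366) (.node (nat_lit 0x1c30459f66) (.node (nat_lit 0x1c30459b56) (.leaf (nat_lit 0x1c30459b46) (nat_lit 2048))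
 (.leaf (nat_lit 0x1c30459b56) (nat_lit 3076))
) (.node (nat_lit 0x1c30459f76) (.leaf (nat_lit 0x1c30459f66) (nat_lit 2564))
 (.leaf (nat_lit 0x1c30459f76) (nat_lit 2562))
)) (.node (nat_lit 0x1c30468746) (.node (nat_lit 0x1c30468376) (.leaf (nat_lit 0x1c30468366) (nat_lit 1284))
 (.leaf (nat_lit 0x1c30468376) (nat_lit 2817))
) (.node (nat_lit 0x1c30468756) (.leaf (nat_lit 0x1c30468746) (nat_lit 2304))
 (.node (nat_lit 0x1c30468b46) (.leaf (nat_lit 0x1c30468756) (nat_lit 2306))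
 (.leaf (nat_lit 0x1c30468b46) (nat_lit 2052))
)))) (.node (nat_lit 0x1c30478316) (.node (nat_lit 0x1c30468f76) (.node (nat_lit 0x1c30468f66) (.leaf (nat_lit 0x1c30468b56) (nat_lit 3074))
 (.leaf (nat_lit 0x1c30468f66) (nat_lit 3072))
) (.node (nat_lit 0x1c30478306) (.leaf (nat_lit 0x1c30468f76) (nat_lit 2562))
 (.leaf (nat_lit 0x1c30478306) (nat_lit 768))
)) (.node (nat_lit 0x1c30478736) (.node (nat_lit 0x1c30478726) (.leaf (nat_lit 0x1c30478316) (nat_lit 3331))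
 (.leaf (nat_lit 0x1c30478726) (nat_lit 2820))
) (.node (nat_lit 0x1c30478b26) (.leaf (nat_lit 0x1c30478736) (nat_lit 2306))
 (.node (nat_lit 0x1c30478b36) (.leaf (nat_lit 0x1c30478b26) (nat_lit 3072))
 (.leaf (nat_lit 0x1c30478b36) (nat_lit 3076))
))))) (.node (nat_lit 0x1c30808ea6) (.node (nat_lit 0x1c30808696) (.node (nat_lit 0x1c30808286) (.node (nat_lit 0x1c30478f16) (.leaf (nat_lit 0x1c30478f06) (nat_lit 2052))
 (.leaf (nat_lit 0x1c30478f16) (nat_lit 3074))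
) (.node (nat_lit 0x1c308082a6) (.leaf (nat_lit 0x1c30808286) (nat_lit 772))
 (.leaf (nat_lit 0x1c308082a6) (nat_lit 3076))
)) (.node (nat_lit 0x1c30808a96) (.node (nat_lit 0x1c308086b6) (.leaf (nat_lit 0x1c30808696) (nat_lit 3330))
 (.leaf (nat_lit 0x1c308086b6) (nat_lit 3330))
) (.node (nat_lit 0x1c30808ab6) (.leaf (nat_lit 0x1c30808a96) (nat_lit 3585))
 (.node (nat_lit 0x1c30808e86) (.leaf (nat_lit 0x1c30808ab6) (nat_lit 2819))
 (.leaf (nat_lit 0x1c30808e86) (nat_lit 2560))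
)))) (.node (nat_lit 0x1c308196e6) (.node (nat_lit 0x1c308192f6) (.node (nat_lit 0x1c308192d6) (.leaf (nat_lit 0x1c30808ea6) (nat_lit 3328))
 (.leaf (nat_lit 0x1c308192d6) (nat_lit 2308))
) (.node (nat_lit 0x1c308196c6) (.leaf (nat_lit 0x1c308192f6) (nat_lit 3075))
 (.leaf (nat_lit 0x1c308196c6) (nat_lit 2308))
)) (.node (nat_lit 0x1c30819ae6) (.node (nat_lit 0x1c30819ac6) (.leaf (nat_lit 0x1c308196e6) (nat_lit 3076))
 (.leaf (nat_lit 0x1c30819ac6) (nat_lit 2560))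
) (.node (nat_lit 0x1c30819ed6) (.leaf (nat_lit 0x1c30819ae6) (nat_lit 1792))
 (.node (nat_lit 0x1c30819ef6) (.leaf (nat_lit 0x1c30819ed6) (nat_lit 3330))
 (.leaf (nat_lit 0x1c30819ef6) (nat_lit 2562))
)))))))) (.node (nat_lit 0x1e108390c4) (.node (nat_lit 0x1c30869ac6) (.node (nat_lit 0x1c30849696) (.node (nat_lit 0x1c308392a6) (.node (nat_lit 0x1c30828ac6) (.node (nat_lit 0x1c308286c6) (.node (nat_lit 0x1c308282f6) (.leaf (nat_lit 0x1c308282d6) (nat_lit 2304))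
 (.leaf (nat_lit 0x1c308282f6) (nat_lit 2563))
) (.node (nat_lit 0x1c308286e6) (.leaf (nat_lit 0x1c308286c6) (nat_lit 2816))
 (.leaf (nat_lit 0x1c308286e6) (nat_lit 3072))
)) (.node (nat_lit 0x1c30828ed6) (.node (nat_lit 0x1c30828ae6) (.leaf (nat_lit 0x1c30828ac6) (nat_lit 2052))
 (.leaf (nat_lit 0x1c30828ae6) (nat_lit 1796))
) (.node (nat_lit 0x1c30828ef6) (.leaf (nat_lit 0x1c30828ed6) (nat_lit 3330))
 (.node (nat_lit 0x1c30839286) (.leaf (nat_lit 0x1c30828ef6) (nat_lit 3074))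
 (.leaf (nat_lit 0x1c30839286) (nat_lit 1280))
)))) (.node (nat_lit 0x1c30839ab6) (.node (nat_lit 0x1c308396b6) (.node (nat_lit 0x1c30839696) (.leaf (nat_lit 0x1c308392a6) (nat_lit 3072))
 (.leaf (nat_lit 0x1c30839696) (nat_lit 3330))
) (.node (nat_lit 0x1c30839a96) (.leaf (nat_lit 0x1c308396b6) (nat_lit 2818))
 (.leaf (nat_lit 0x1c30839a96) (nat_lit 3588))
)) (.node (nat_lit 0x1c30839ea6) (.node (nat_lit 0x1c30839e86) (.leaf (nat_lit 0x1c30839ab6) (nat_lit 2307))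
 (.leaf (nat_lit 0x1c30839e86) (nat_lit 2052))
) (.node (nat_lit 0x1c30849286) (.leaf (nat_lit 0x1c30839ea6) (nat_lit 3332))
 (.node (nat_lit 0x1c308492a6) (.leaf (nat_lit 0x1c30849286) (nat_lit 1028))
 (.leaf (nat_lit 0x1c308492a6) (nat_lit 2820))
))))) (.node (nat_lit 0x1c308586e6) (.node (nat_lit 0x1c30849e86) (.node (nat_lit 0x1c30849a96) (.node (nat_lit 0x1c308496b6) (.leaf (nat_lit 0x1c30849696) (nat_lit 3332))
 (.leaf (nat_lit 0x1c308496b6) (nat_lit 3074))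
) (.node (nat_lit 0x1c30849ab6) (.leaf (nat_lit 0x1c30849a96) (nat_lit 3329))
 (.leaf (nat_lit 0x1c30849ab6) (nat_lit 2563))
)) (.node (nat_lit 0x1c308582d6) (.node (nat_lit 0x1c30849ea6) (.leaf (nat_lit 0x1c30849e86) (nat_lit 2304))
 (.leaf (nat_lit 0x1c30849ea6) (nat_lit 3584))
) (.node (nat_lit 0x1c308582f6) (.leaf (nat_lit 0x1c308582d6) (nat_lit 2052))
 (.node (nat_lit 0x1c308586c6) (.leaf (nat_lit 0x1c308582f6) (nat_lit 2819))
 (.leaf (nat_lit 0x1c308586c6) (nat_lit 2564))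
)))) (.node (nat_lit 0x1c30858ef6) (.node (nat_lit 0x1c30858ae6) (.node (nat_lit 0x1c30858ac6) (.leaf (nat_lit 0x1c308586e6) (nat_lit 2820))
 (.leaf (nat_lit 0x1c30858ac6) (nat_lit 2304))
) (.node (nat_lit 0x1c30858ed6) (.leaf (nat_lit 0x1c30858ae6) (nat_lit 2048))
 (.leaf (nat_lit 0x1c30858ed6) (nat_lit 3074))
)) (.node (nat_lit 0x1c308692f6) (.node (nat_lit 0x1c308692d6) (.leaf (nat_lit 0x1c30858ef6) (nat_lit 2818))
 (.leaf (nat_lit 0x1c308692d6) (nat_lit 2560))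
) (.node (nat_lit 0x1c308696c6) (.leaf (nat_lit 0x1c308692f6) (nat_lit 2819))
 (.node (nat_lit 0x1c308696e6) (.leaf (nat_lit 0x1c308696c6) (nat_lit 2560))
 (.leaf (nat_lit 0x1c308696e6) (nat_lit 3328))
)))))) (.node (nat_lit 0x1e10808e9c) (.node (nat_lit 0x1c30878ab6) (.node (nat_lit 0x1c30878286) (.node (nat_lit 0x1c30869ed6) (.node (nat_lit 0x1c30869ae6) (.leaf (nat_lit 0x1c30869ac6) (nat_lit 2308))
 (.leaf (nat_lit 0x1c30869ae6) (nat_lit 1540))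
) (.node (nat_lit 0x1c30869ef6) (.leaf (nat_lit 0x1c30869ed6) (nat_lit 3332))
 (.leaf (nat_lit 0x1c30869ef6) (nat_lit 2818))
)) (.node (nat_lit 0x1c30878696) (.node (nat_lit 0x1c308782a6) (.leaf (nat_lit 0x1c30878286) (nat_lit 1024))
 (.leaf (nat_lit 0x1c308782a6) (nat_lit 3328))
) (.node (nat_lit 0x1c308786b6) (.leaf (nat_lit 0x1c30878696) (nat_lit 3074))
 (.node (nat_lit 0x1c30878a96) (.leaf (nat_lit 0x1c308786b6) (nat_lit 3074))
 (.leaf (nat_lit 0x1c30878a96) (nat_lit 3332))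
)))) (.node (nat_lit 0x1e108082ac) (.node (nat_lit 0x1c30878ea6) (.node (nat_lit 0x1c30878e86) (.leaf (nat_lit 0x1c30878ab6) (nat_lit 2563))
 (.leaf (nat_lit 0x1c30878e86) (nat_lit 2308))
) (.node (nat_lit 0x1e1080828c) (.leaf (nat_lit 0x1c30878ea6) (nat_lit 3076))
 (.leaf (nat_lit 0x1e1080828c) (nat_lit 1282))
)) (.node (nat_lit 0x1e108086ac) (.node (nat_lit 0x1e1080868c) (.leaf (nat_lit 0x1e108082ac) (nat_lit 2820))
 (.leaf (nat_lit 0x1e1080868c) (nat_lit 2816))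
) (.node (nat_lit 0x1e10808a9c) (.leaf (nat_lit 0x1e108086ac) (nat_lit 3328))
 (.node (nat_lit 0x1e10808abc) (.leaf (nat_lit 0x1e10808a9c) (nat_lit 3073))
 (.leaf (nat_lit 0x1e10808abc) (nat_lit 3331))
))))) (.node (nat_lit 0x1e10819cac) (.node (nat_lit 0x1e1081949c) (.node (nat_lit 0x1e1081909c) (.node (nat_lit 0x1e10808ebc) (.leaf (nat_lit 0x1e10808e9c) (nat_lit 3328))
 (.leaf (nat_lit 0x1e10808ebc) (nat_lit 2562))
) (.node (nat_lit 0x1e108190bc) (.leaf (nat_lit 0x1e1081909c) (nat_lit 2563))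
 (.leaf (nat_lit 0x1e108190bc) (nat_lit 3329))
)) (.node (nat_lit 0x1e1081988c) (.node (nat_lit 0x1e108194bc) (.leaf (nat_lit 0x1e1081949c) (nat_lit 2306))
 (.leaf (nat_lit 0x1e108194bc) (nat_lit 3076))
) (.node (nat_lit 0x1e108198ac) (.leaf (nat_lit 0x1e1081988c) (nat_lit 2048))
 (.node (nat_lit 0x1e10819c8c) (.leaf (nat_lit 0x1e108198ac) (nat_lit 2562))
 (.leaf (nat_lit 0x1e10819c8c) (nat_lit 2049))
)))) (.node (nat_lit 0x1e108286f4) (.node (nat_lit 0x1e108282f4) (.node (nat_lit 0x1e108282d4) (.leaf (nat_lit 0x1e10819cac) (nat_lit 3332))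
 (.leaf (nat_lit 0x1e108282d4) (nat_lit 2563))
) (.node (nat_lit 0x1e108286d4) (.leaf (nat_lit 0x1e108282f4) (nat_lit 2305))
 (.leaf (nat_lit 0x1e108286d4) (nat_lit 2818))
)) (.node (nat_lit 0x1e10828ae4) (.node (nat_lit 0x1e10828ac4) (.leaf (nat_lit 0x1e108286f4) (nat_lit 3076))
 (.leaf (nat_lit 0x1e10828ac4) (nat_lit 2052))
) (.node (nat_lit 0x1e10828ec4) (.leaf (nat_lit 0x1e10828ae4) (nat_lit 2050))
 (.node (nat_lit 0x1e10828ee4) (.leaf (nat_lit 0x1e10828ec4) (nat_lit 3073))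
 (.leaf (nat_lit 0x1e10828ee4) (nat_lit 2816))
))))))) (.node (nat_lit 0x1e10870a9c) (.node (nat_lit 0x1e108506d4) (.node (nat_lit 0x1e108410e4) (.node (nat_lit 0x1e108398d4) (.node (nat_lit 0x1e108394c4) (.node (nat_lit 0x1e108390e4) (.leaf (nat_lit 0x1e108390c4) (nat_lit 1794))
 (.leaf (nat_lit 0x1e108390e4) (nat_lit 2816))
) (.node (nat_lit 0x1e108394e4) (.leaf (nat_lit 0x1e108394c4) (nat_lit 3332))
 (.leaf (nat_lit 0x1e108394e4) (nat_lit 2308))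
)) (.node (nat_lit 0x1e10839cd4) (.node (nat_lit 0x1e108398f4) (.leaf (nat_lit 0x1e108398d4) (nat_lit 2564))
 (.leaf (nat_lit 0x1e108398f4) (nat_lit 3331))
) (.node (nat_lit 0x1e10839cf4) (.leaf (nat_lit 0x1e10839cd4) (nat_lit 3332))
 (.node (nat_lit 0x1e108410c4) (.leaf (nat_lit 0x1e10839cf4) (nat_lit 2050))
 (.leaf (nat_lit 0x1e108410c4) (nat_lit 1538))
)))) (.node (nat_lit 0x1e108418f4) (.node (nat_lit 0x1e108414e4) (.node (nat_lit 0x1e108414c4) (.leaf (nat_lit 0x1e108410e4) (nat_lit 2564))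
 (.leaf (nat_lit 0x1e108414c4) (nat_lit 3075))
) (.node (nat_lit 0x1e108418d4) (.leaf (nat_lit 0x1e108414e4) (nat_lit 2560))
 (.leaf (nat_lit 0x1e108418d4) (nat_lit 2816))
)) (.node (nat_lit 0x1e10841cf4) (.node (nat_lit 0x1e10841cd4) (.leaf (nat_lit 0x1e108418f4) (nat_lit 3076))
 (.leaf (nat_lit 0x1e10841cd4) (nat_lit 3332))
) (.node (nat_lit 0x1e108502d4) (.leaf (nat_lit 0x1e10841cf4) (nat_lit 2306))
 (.node (nat_lit 0x1e108502f4) (.leaf (nat_lit 0x1e108502d4) (nat_lit 2307))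
 (.leaf (nat_lit 0x1e108502f4) (nat_lit 2561))
))))) (.node (nat_lit 0x1e108614bc) (.node (nat_lit 0x1e10850ec4) (.node (nat_lit 0x1e10850ac4) (.node (nat_lit 0x1e108506f4) (.leaf (nat_lit 0x1e108506d4) (nat_lit 2562))
 (.leaf (nat_lit 0x1e108506f4) (nat_lit 2820))
) (.node (nat_lit 0x1e10850ae4) (.leaf (nat_lit 0x1e10850ac4) (nat_lit 2304))
 (.leaf (nat_lit 0x1e10850ae4) (nat_lit 2306))
)) (.node (nat_lit 0x1e1086109c) (.node (nat_lit 0x1e10850ee4) (.leaf (nat_lit 0x1e10850ec4) (nat_lit 2817))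
 (.leaf (nat_lit 0x1e10850ee4) (nat_lit 2564))
) (.node (nat_lit 0x1e108610bc) (.leaf (nat_lit 0x1e1086109c) (nat_lit 2819))
 (.node (nat_lit 0x1e1086149c) (.leaf (nat_lit 0x1e108610bc) (nat_lit 3073))
 (.leaf (nat_lit 0x1e1086149c) (nat_lit 2562))
)))) (.node (nat_lit 0x1e10861cac) (.node (nat_lit 0x1e108618ac) (.node (nat_lit 0x1e1086188c) (.leaf (nat_lit 0x1e108614bc) (nat_lit 3076))
 (.leaf (nat_lit 0x1e1086188c) (nat_lit 1796))
) (.node (nat_lit 0x1e10861c8c) (.leaf (nat_lit 0x1e108618ac) (nat_lit 2306))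
 (.leaf (nat_lit 0x1e10861c8c) (nat_lit 2305))
)) (.node (nat_lit 0x1e108702ac) (.node (nat_lit 0x1e1087028c) (.leaf (nat_lit 0x1e10861cac) (nat_lit 3332))
 (.leaf (nat_lit 0x1e1087028c) (nat_lit 1538))
) (.node (nat_lit 0x1e1087068c) (.leaf (nat_lit 0x1e108702ac) (nat_lit 3072))
 (.node (nat_lit 0x1e108706ac) (.leaf (nat_lit 0x1e1087068c) (nat_lit 2564))
 (.leaf (nat_lit 0x1e108706ac) (nat_lit 3076))
)))))) (.node (nat_lit 0x1e10c19f8c) (.node (nat_lit 0x1e10c089ac) (.node (nat_lit 0x1e10c0818c) (.node (nat_lit 0x1e10870e9c) (.node (nat_lit 0x1e10870abc) (.leaf (nat_lit 0x1e10870a9c) (nat_lit 2820))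
 (.leaf (nat_lit 0x1e10870abc) (nat_lit 3075))
) (.node (nat_lit 0x1e10870ebc) (.leaf (nat_lit 0x1e10870e9c) (nat_lit 3076))
 (.leaf (nat_lit 0x1e10870ebc) (nat_lit 2306))
)) (.node (nat_lit 0x1e10c0858c) (.node (nat_lit 0x1e10c081bc) (.leaf (nat_lit 0x1e10c0818c) (nat_lit 1284))
 (.leaf (nat_lit 0x1e10c081bc) (nat_lit 2819))
) (.node (nat_lit 0x1e10c085bc) (.leaf (nat_lit 0x1e10c0858c) (nat_lit 2560))
 (.node (nat_lit 0x1e10c0899c) (.leaf (nat_lit 0x1e10c085bc) (nat_lit 3074))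
 (.leaf (nat_lit 0x1e10c0899c) (nat_lit 3072))
)))) (.node (nat_lit 0x1e10c193ac) (.node (nat_lit 0x1e10c08dac) (.node (nat_lit 0x1e10c08d9c) (.leaf (nat_lit 0x1e10c089ac) (nat_lit 2564))
 (.leaf (nat_lit 0x1e10c08d9c) (nat_lit 3074))
) (.node (nat_lit 0x1e10c1939c) (.leaf (nat_lit 0x1e10c08dac) (nat_lit 3328))
 (.leaf (nat_lit 0x1e10c1939c) (nat_lit 2564))
)) (.node (nat_lit 0x1e10c197ac) (.node (nat_lit 0x1e10c1979c) (.leaf (nat_lit 0x1e10c193ac) (nat_lit 2560))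
 (.leaf (nat_lit 0x1e10c1979c) (nat_lit 2306))
) (.node (nat_lit 0x1e10c19b8c) (.leaf (nat_lit 0x1e10c197ac) (nat_lit 3332))
 (.node (nat_lit 0x1e10c19bbc) (.leaf (nat_lit 0x1e10c19b8c) (nat_lit 1792))
 (.leaf (nat_lit 0x1e10c19bbc) (nat_lit 3076))
))))) (.node (nat_lit 0x1e10c29ff4) (.node (nat_lit 0x1e10c297d4) (.node (nat_lit 0x1e10c293d4) (.node (nat_lit 0x1e10c19fbc) (.leaf (nat_lit 0x1e10c19f8c) (nat_lit 2052))
 (.leaf (nat_lit 0x1e10c19fbc) (nat_lit 3330))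
) (.node (nat_lit 0x1e10c293e4) (.leaf (nat_lit 0x1e10c293d4) (nat_lit 3072))
 (.leaf (nat_lit 0x1e10c293e4) (nat_lit 2052))
)) (.node (nat_lit 0x1e10c29bc4) (.node (nat_lit 0x1e10c297e4) (.leaf (nat_lit 0x1e10c297d4) (nat_lit 2306))
 (.leaf (nat_lit 0x1e10c297e4) (nat_lit 2816))
) (.node (nat_lit 0x1e10c29bf4) (.leaf (nat_lit 0x1e10c29bc4) (nat_lit 1796))
 (.node (nat_lit 0x1e10c29fc4) (.leaf (nat_lit 0x1e10c29bf4) (nat_lit 3072))
 (.leaf (nat_lit 0x1e10c29fc4) (nat_lit 3072))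
)))) (.node (nat_lit 0x1e10c385f4) (.node (nat_lit 0x1e10c381f4) (.node (nat_lit 0x1e10c381c4) (.leaf (nat_lit 0x1e10c29ff4) (nat_lit 2306))
 (.leaf (nat_lit 0x1e10c381c4) (nat_lit 1792))
) (.node (nat_lit 0x1e10c385c4) (.leaf (nat_lit 0x1e10c381f4) (nat_lit 2307))
 (.leaf (nat_lit 0x1e10c385c4) (nat_lit 3076))
)) (.node (nat_lit 0x1e10c389e4) (.node (nat_lit 0x1e10c389d4) (.leaf (nat_lit 0x1e10c385f4) (nat_lit 3074))
 (.leaf (nat_lit 0x1e10c389d4) (nat_lit 3076))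
) (.node (nat_lit 0x1e10c38dd4) (.leaf (nat_lit 0x1e10c389e4) (nat_lit 2560))
 (.node (nat_lit 0x1e10c38de4) (.leaf (nat_lit 0x1e10c38dd4) (nat_lit 2562))
 (.leaf (nat_lit 0x1e10c38de4) (nat_lit 2308))
))))))))) (.node (nat_lit 0x1e20c613d2) (.node (nat_lit 0x1e2045112a) (.node (nat_lit 0x1e20408b0a) (.node (nat_lit 0x1e10c6179c) (.node (nat_lit 0x1e10c513e4) (.node (nat_lit 0x1e10c409d4) (.node (nat_lit 0x1e10c405c4) (.node (nat_lit 0x1e10c401f4) (.leaf (nat_lit 0x1e10c401c4) (nat_lit 1540))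
 (.leaf (nat_lit 0x1e10c401f4) (nat_lit 2563))
) (.node (nat_lit 0x1e10c405f4) (.leaf (nat_lit 0x1e10c405c4) (nat_lit 2818))
 (.leaf (nat_lit 0x1e10c405f4) (nat_lit 3076))
)) (.node (nat_lit 0x1e10c40dd4) (.node (nat_lit 0x1e10c409e4) (.leaf (nat_lit 0x1e10c409d4) (nat_lit 3328))
 (.leaf (nat_lit 0x1e10c409e4) (nat_lit 2308))
) (.node (nat_lit 0x1e10c40de4) (.leaf (nat_lit 0x1e10c40dd4) (nat_lit 2818))
 (.node (nat_lit 0x1e10c513d4) (.leaf (nat_lit 0x1e10c40de4) (nat_lit 2560))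
 (.leaf (nat_lit 0x1e10c513d4) (nat_lit 2820))
)))) (.node (nat_lit 0x1e10c51bf4) (.node (nat_lit 0x1e10c517e4) (.node (nat_lit 0x1e10c517d4) (.leaf (nat_lit 0x1e10c513e4) (nat_lit 2304))
 (.leaf (nat_lit 0x1e10c517d4) (nat_lit 2050))
) (.node (nat_lit 0x1e10c51bc4) (.leaf (nat_lit 0x1e10c517e4) (nat_lit 2564))
 (.leaf (nat_lit 0x1e10c51bc4) (nat_lit 2048))
)) (.node (nat_lit 0x1e10c51ff4) (.node (nat_lit 0x1e10c51fc4) (.leaf (nat_lit 0x1e10c51bf4) (nat_lit 2820))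
 (.leaf (nat_lit 0x1e10c51fc4) (nat_lit 2820))
) (.node (nat_lit 0x1e10c6139c) (.leaf (nat_lit 0x1e10c51ff4) (nat_lit 2562))
 (.node (nat_lit 0x1e10c613ac) (.leaf (nat_lit 0x1e10c6139c) (nat_lit 2816))
 (.leaf (nat_lit 0x1e10c613ac) (nat_lit 2308))
))))) (.node (nat_lit 0x1e10c705bc) (.node (nat_lit 0x1e10c61f8c) (.node (nat_lit 0x1e10c61b8c) (.node (nat_lit 0x1e10c617ac) (.leaf (nat_lit 0x1e10c6179c) (nat_lit 2562))
 (.leaf (nat_lit 0x1e10c617ac) (nat_lit 3074))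
) (.node (nat_lit 0x1e10c61bbc) (.leaf (nat_lit 0x1e10c61b8c) (nat_lit 1540))
 (.leaf (nat_lit 0x1e10c61bbc) (nat_lit 3074))
)) (.node (nat_lit 0x1e10c7018c) (.node (nat_lit 0x1e10c61fbc) (.leaf (nat_lit 0x1e10c61f8c) (nat_lit 2304))
 (.leaf (nat_lit 0x1e10c61fbc) (nat_lit 3074))
) (.node (nat_lit 0x1e10c701bc) (.leaf (nat_lit 0x1e10c7018c) (nat_lit 1536))
 (.node (nat_lit 0x1e10c7058c) (.leaf (nat_lit 0x1e10c701bc) (nat_lit 2563))
 (.leaf (nat_lit 0x1e10c7058c) (nat_lit 2308))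
)))) (.node (nat_lit 0x1e10c70dac) (.node (nat_lit 0x1e10c709ac) (.node (nat_lit 0x1e10c7099c) (.leaf (nat_lit 0x1e10c705bc) (nat_lit 2818))
 (.leaf (nat_lit 0x1e10c7099c) (nat_lit 2820))
) (.node (nat_lit 0x1e10c70d9c) (.leaf (nat_lit 0x1e10c709ac) (nat_lit 2816))
 (.leaf (nat_lit 0x1e10c70d9c) (nat_lit 2818))
)) (.node (nat_lit 0x1e2040831a) (.node (nat_lit 0x1e2040830a) (.leaf (nat_lit 0x1e10c70dac) (nat_lit 3076))
 (.leaf (nat_lit 0x1e2040830a) (nat_lit 1026))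
) (.node (nat_lit 0x1e2040872a) (.leaf (nat_lit 0x1e2040831a) (nat_lit 3076))
 (.node (nat_lit 0x1e2040873a) (.leaf (nat_lit 0x1e2040872a) (nat_lit 2561))
 (.leaf (nat_lit 0x1e2040873a) (nat_lit 3588))
)))))) (.node (nat_lit 0x1e20429d0a) (.node (nat_lit 0x1e20418b72) (.node (nat_lit 0x1e20418362) (.node (nat_lit 0x1e20408f2a) (.node (nat_lit 0x1e20408b1a) (.leaf (nat_lit 0x1e20408b0a) (nat_lit 2820))
 (.leaf (nat_lit 0x1e20408b1a) (nat_lit 3328))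
) (.node (nat_lit 0x1e20408f3a) (.leaf (nat_lit 0x1e20408f2a) (nat_lit 2820))
 (.leaf (nat_lit 0x1e20408f3a) (nat_lit 2306))
)) (.node (nat_lit 0x1e20418742) (.node (nat_lit 0x1e20418372) (.leaf (nat_lit 0x1e20418362) (nat_lit 2048))
 (.leaf (nat_lit 0x1e20418372) (nat_lit 2049))
) (.node (nat_lit 0x1e20418752) (.leaf (nat_lit 0x1e20418742) (nat_lit 2052))
 (.node (nat_lit 0x1e20418b62) (.leaf (nat_lit 0x1e20418752) (nat_lit 2050))
 (.leaf (nat_lit 0x1e20418b62) (nat_lit 2306))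
)))) (.node (nat_lit 0x1e2042913a) (.node (nat_lit 0x1e20418f52) (.node (nat_lit 0x1e20418f42) (.leaf (nat_lit 0x1e20418b72) (nat_lit 2820))
 (.leaf (nat_lit 0x1e20418f42) (nat_lit 2817))
) (.node (nat_lit 0x1e2042912a) (.leaf (nat_lit 0x1e20418f52) (nat_lit 2816))
 (.leaf (nat_lit 0x1e2042912a) (nat_lit 2052))
)) (.node (nat_lit 0x1e2042951a) (.node (nat_lit 0x1e2042950a) (.leaf (nat_lit 0x1e2042913a) (nat_lit 3073))
 (.leaf (nat_lit 0x1e2042950a) (nat_lit 2052))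
) (.node (nat_lit 0x1e2042992a) (.leaf (nat_lit 0x1e2042951a) (nat_lit 2562))
 (.node (nat_lit 0x1e2042993a) (.leaf (nat_lit 0x1e2042992a) (nat_lit 1794))
 (.leaf (nat_lit 0x1e2042993a) (nat_lit 2820))
))))) (.node (nat_lit 0x1e20439d72) (.node (nat_lit 0x1e20439562) (.node (nat_lit 0x1e20439142) (.node (nat_lit 0x1e20429d1a) (.leaf (nat_lit 0x1e20429d0a) (nat_lit 1793))
 (.leaf (nat_lit 0x1e20429d1a) (nat_lit 3332))
) (.node (nat_lit 0x1e20439152) (.leaf (nat_lit 0x1e20439142) (nat_lit 1538))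
 (.leaf (nat_lit 0x1e20439152) (nat_lit 3072))
)) (.node (nat_lit 0x1e20439942) (.node (nat_lit 0x1e20439572) (.leaf (nat_lit 0x1e20439562) (nat_lit 2052))
 (.leaf (nat_lit 0x1e20439572) (nat_lit 3076))
) (.node (nat_lit 0x1e20439952) (.leaf (nat_lit 0x1e20439942) (nat_lit 2816))
 (.node (nat_lit 0x1e20439d62) (.leaf (nat_lit 0x1e20439952) (nat_lit 2308))
 (.leaf (nat_lit 0x1e20439d62) (nat_lit 2820))
)))) (.node (nat_lit 0x1e20441572) (.node (nat_lit 0x1e20441152) (.node (nat_lit 0x1e20441142) (.leaf (nat_lit 0x1e20439d72) (nat_lit 1794))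
 (.leaf (nat_lit 0x1e20441142) (nat_lit 1282))
) (.node (nat_lit 0x1e20441562) (.leaf (nat_lit 0x1e20441152) (nat_lit 2820))
 (.leaf (nat_lit 0x1e20441562) (nat_lit 2304))
)) (.node (nat_lit 0x1e20441952) (.node (nat_lit 0x1e20441942) (.leaf (nat_lit 0x1e20441572) (nat_lit 2820))
 (.leaf (nat_lit 0x1e20441942) (nat_lit 2564))
) (.node (nat_lit 0x1e20441d62) (.leaf (nat_lit 0x1e20441952) (nat_lit 2560))
 (.node (nat_lit 0x1e20441d72) (.leaf (nat_lit 0x1e20441d62) (nat_lit 3076))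
 (.leaf (nat_lit 0x1e20441d72) (nat_lit 2050))
))))))) (.node (nat_lit 0x1e20c19bd2) (.node (nat_lit 0x1e2047072a) (.node (nat_lit 0x1e20460372) (.node (nat_lit 0x1e2045192a) (.node (nat_lit 0x1e2045150a) (.node (nat_lit 0x1e2045113a) (.leaf (nat_lit 0x1e2045112a) (nat_lit 2304))
 (.leaf (nat_lit 0x1e2045113a) (nat_lit 2817))
) (.node (nat_lit 0x1e2045151a) (.leaf (nat_lit 0x1e2045150a) (nat_lit 1796))
 (.leaf (nat_lit 0x1e2045151a) (nat_lit 2306))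
)) (.node (nat_lit 0x1e20451d0a) (.node (nat_lit 0x1e2045193a) (.leaf (nat_lit 0x1e2045192a) (nat_lit 2050))
 (.leaf (nat_lit 0x1e2045193a) (nat_lit 2564))
) (.node (nat_lit 0x1e20451d1a) (.leaf (nat_lit 0x1e20451d0a) (nat_lit 2049))
 (.node (nat_lit 0x1e20460362) (.leaf (nat_lit 0x1e20451d1a) (nat_lit 3076))
 (.leaf (nat_lit 0x1e20460362) (nat_lit 1796))
)))) (.node (nat_lit 0x1e20460b72) (.node (nat_lit 0x1e20460752) (.node (nat_lit 0x1e20460742) (.leaf (nat_lit 0x1e20460372) (nat_lit 2305))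
 (.leaf (nat_lit 0x1e20460742) (nat_lit 2308))
) (.node (nat_lit 0x1e20460b62) (.leaf (nat_lit 0x1e20460752) (nat_lit 2306))
 (.leaf (nat_lit 0x1e20460b62) (nat_lit 2050))
)) (.node (nat_lit 0x1e20460f52) (.node (nat_lit 0x1e20460f42) (.leaf (nat_lit 0x1e20460b72) (nat_lit 2564))
 (.leaf (nat_lit 0x1e20460f42) (nat_lit 2561))
) (.node (nat_lit 0x1e2047030a) (.leaf (nat_lit 0x1e20460f52) (nat_lit 2564))
 (.node (nat_lit 0x1e2047031a) (.leaf (nat_lit 0x1e2047030a) (nat_lit 1282))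
 (.leaf (nat_lit 0x1e2047031a) (nat_lit 2819))
))))) (.node (nat_lit 0x1e20c085aa) (.node (nat_lit 0x1e20470f2a) (.node (nat_lit 0x1e20470b0a) (.node (nat_lit 0x1e2047073a) (.leaf (nat_lit 0x1e2047072a) (nat_lit 2308))
 (.leaf (nat_lit 0x1e2047073a) (nat_lit 3332))
) (.node (nat_lit 0x1e20470b1a) (.leaf (nat_lit 0x1e20470b0a) (nat_lit 2564))
 (.leaf (nat_lit 0x1e20470b1a) (nat_lit 3076))
)) (.node (nat_lit 0x1e20c0818a) (.node (nat_lit 0x1e20470f3a) (.leaf (nat_lit 0x1e20470f2a) (nat_lit 2564))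
 (.leaf (nat_lit 0x1e20470f3a) (nat_lit 2050))
) (.node (nat_lit 0x1e20c081ba) (.leaf (nat_lit 0x1e20c0818a) (nat_lit 1283))
 (.node (nat_lit 0x1e20c0859a) (.leaf (nat_lit 0x1e20c081ba) (nat_lit 2563))
 (.leaf (nat_lit 0x1e20c0859a) (nat_lit 2820))
)))) (.node (nat_lit 0x1e20c08daa) (.node (nat_lit 0x1e20c089ba) (.node (nat_lit 0x1e20c0898a) (.leaf (nat_lit 0x1e20c085aa) (nat_lit 2816))
 (.leaf (nat_lit 0x1e20c0898a) (nat_lit 2818))
) (.node (nat_lit 0x1e20c08d9a) (.leaf (nat_lit 0x1e20c089ba) (nat_lit 3330))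
 (.leaf (nat_lit 0x1e20c08d9a) (nat_lit 3584))
)) (.node (nat_lit 0x1e20c193e2) (.node (nat_lit 0x1e20c193d2) (.leaf (nat_lit 0x1e20c08daa) (nat_lit 2817))
 (.leaf (nat_lit 0x1e20c193d2) (nat_lit 2308))
) (.node (nat_lit 0x1e20c197c2) (.leaf (nat_lit 0x1e20c193e2) (nat_lit 2563))
 (.node (nat_lit 0x1e20c197f2) (.leaf (nat_lit 0x1e20c197c2) (nat_lit 2052))
 (.leaf (nat_lit 0x1e20c197f2) (nat_lit 3076))
)))))) (.node (nat_lit 0x1e20c38dd2) (.node (nat_lit 0x1e20c29baa) (.node (nat_lit 0x1e20c2939a) (.node (nat_lit 0x1e20c19fc2) (.node (nat_lit 0x1e20c19be2) (.leaf (nat_lit 0x1e20c19bd2) (nat_lit 3072))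
 (.leaf (nat_lit 0x1e20c19be2) (nat_lit 2050))
) (.node (nat_lit 0x1e20c19ff2) (.leaf (nat_lit 0x1e20c19fc2) (nat_lit 3073))
 (.leaf (nat_lit 0x1e20c19ff2) (nat_lit 2305))
)) (.node (nat_lit 0x1e20c2978a) (.node (nat_lit 0x1e20c293aa) (.leaf (nat_lit 0x1e20c2939a) (nat_lit 2816))
 (.leaf (nat_lit 0x1e20c293aa) (nat_lit 2051))
) (.node (nat_lit 0x1e20c297ba) (.leaf (nat_lit 0x1e20c2978a) (nat_lit 2048))
 (.node (nat_lit 0x1e20c29b9a) (.leaf (nat_lit 0x1e20c297ba) (nat_lit 3076))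
 (.leaf (nat_lit 0x1e20c29b9a) (nat_lit 3330))
)))) (.node (nat_lit 0x1e20c381f2) (.node (nat_lit 0x1e20c29fba) (.node (nat_lit 0x1e20c29f8a) (.leaf (nat_lit 0x1e20c29baa) (nat_lit 2050))
 (.leaf (nat_lit 0x1e20c29f8a) (nat_lit 2049))
) (.node (nat_lit 0x1e20c381c2) (.leaf (nat_lit 0x1e20c29fba) (nat_lit 3329))
 (.leaf (nat_lit 0x1e20c381c2) (nat_lit 1795))
)) (.node (nat_lit 0x1e20c385e2) (.node (nat_lit 0x1e20c385d2) (.leaf (nat_lit 0x1e20c381f2) (nat_lit 2051))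
 (.leaf (nat_lit 0x1e20c385d2) (nat_lit 2816))
) (.node (nat_lit 0x1e20c389c2) (.leaf (nat_lit 0x1e20c385e2) (nat_lit 2820))
 (.node (nat_lit 0x1e20c389f2) (.leaf (nat_lit 0x1e20c389c2) (nat_lit 2818))
 (.leaf (nat_lit 0x1e20c389f2) (nat_lit 3330))
))))) (.node (nat_lit 0x1e20c40de2) (.node (nat_lit 0x1e20c405d2) (.node (nat_lit 0x1e20c401c2) (.node (nat_lit 0x1e20c38de2) (.leaf (nat_lit 0x1e20c38dd2) (nat_lit 2564))
 (.leaf (nat_lit 0x1e20c38de2) (nat_lit 2308))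
) (.node (nat_lit 0x1e20c401f2) (.leaf (nat_lit 0x1e20c401c2) (nat_lit 1539))
 (.leaf (nat_lit 0x1e20c401f2) (nat_lit 2307))
)) (.node (nat_lit 0x1e20c409c2) (.node (nat_lit 0x1e20c405e2) (.leaf (nat_lit 0x1e20c405d2) (nat_lit 2564))
 (.leaf (nat_lit 0x1e20c405e2) (nat_lit 3072))
) (.node (nat_lit 0x1e20c409f2) (.leaf (nat_lit 0x1e20c409c2) (nat_lit 2562))
 (.node (nat_lit 0x1e20c40dd2) (.leaf (nat_lit 0x1e20c409f2) (nat_lit 3076))
 (.leaf (nat_lit 0x1e20c40dd2) (nat_lit 2816))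
)))) (.node (nat_lit 0x1e20c517ba) (.node (nat_lit 0x1e20c513aa) (.node (nat_lit 0x1e20c5139a) (.leaf (nat_lit 0x1e20c40de2) (nat_lit 2560))
 (.leaf (nat_lit 0x1e20c5139a) (nat_lit 2564))
) (.node (nat_lit 0x1e20c5178a) (.leaf (nat_lit 0x1e20c513aa) (nat_lit 2307))
 (.leaf (nat_lit 0x1e20c5178a) (nat_lit 1796))
)) (.node (nat_lit 0x1e20c51baa) (.node (nat_lit 0x1e20c51b9a) (.leaf (nat_lit 0x1e20c517ba) (nat_lit 2818))
 (.leaf (nat_lit 0x1e20c51b9a) (nat_lit 3074))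
) (.node (nat_lit 0x1e20c51f8a) (.leaf (nat_lit 0x1e20c51baa) (nat_lit 2306))
 (.node (nat_lit 0x1e20c51fba) (.leaf (nat_lit 0x1e20c51f8a) (nat_lit 2305))
 (.leaf (nat_lit 0x1e20c51fba) (nat_lit 3073))
)))))))) (.node (nat_lit 0x1e30470306) (.node (nat_lit 0x1e3042994e) (.node (nat_lit 0x1e30408726) (.node (nat_lit 0x1e20c701ba) (.node (nat_lit 0x1e20c61bd2) (.node (nat_lit 0x1e20c617c2) (.node (nat_lit 0x1e20c613e2) (.leaf (nat_lit 0x1e20c613d2) (nat_lit 2560))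
 (.leaf (nat_lit 0x1e20c613e2) (nat_lit 2307))
) (.node (nat_lit 0x1e20c617f2) (.leaf (nat_lit 0x1e20c617c2) (nat_lit 2304))
 (.leaf (nat_lit 0x1e20c617f2) (nat_lit 2820))
)) (.node (nat_lit 0x1e20c61fc2) (.node (nat_lit 0x1e20c61be2) (.leaf (nat_lit 0x1e20c61bd2) (nat_lit 2820))
 (.leaf (nat_lit 0x1e20c61be2) (nat_lit 1794))
) (.node (nat_lit 0x1e20c61ff2) (.leaf (nat_lit 0x1e20c61fc2) (nat_lit 2817))
 (.node (nat_lit 0x1e20c7018a) (.leaf (nat_lit 0x1e20c61ff2) (nat_lit 2561))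
 (.leaf (nat_lit 0x1e20c7018a) (nat_lit 1539))
)))) (.node (nat_lit 0x1e20c709ba) (.node (nat_lit 0x1e20c705aa) (.node (nat_lit 0x1e20c7059a) (.leaf (nat_lit 0x1e20c701ba) (nat_lit 2307))
 (.leaf (nat_lit 0x1e20c7059a) (nat_lit 2562))
) (.node (nat_lit 0x1e20c7098a) (.leaf (nat_lit 0x1e20c705aa) (nat_lit 2564))
 (.leaf (nat_lit 0x1e20c7098a) (nat_lit 2564))
)) (.node (nat_lit 0x1e20c70daa) (.node (nat_lit 0x1e20c70d9a) (.leaf (nat_lit 0x1e20c709ba) (nat_lit 3074))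
 (.leaf (nat_lit 0x1e20c70d9a) (nat_lit 3332))
) (.node (nat_lit 0x1e30408306) (.leaf (nat_lit 0x1e20c70daa) (nat_lit 2564))
 (.node (nat_lit 0x1e30408316) (.leaf (nat_lit 0x1e30408306) (nat_lit 772))
 (.leaf (nat_lit 0x1e30408316) (nat_lit 3330))
))))) (.node (nat_lit 0x1e3041875e) (.node (nat_lit 0x1e30408f06) (.node (nat_lit 0x1e30408b26) (.node (nat_lit 0x1e30408736) (.leaf (nat_lit 0x1e30408726) (nat_lit 3328))
 (.leaf (nat_lit 0x1e30408736) (nat_lit 2818))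
) (.node (nat_lit 0x1e30408b36) (.leaf (nat_lit 0x1e30408b26) (nat_lit 2564))
 (.leaf (nat_lit 0x1e30408b36) (nat_lit 3072))
)) (.node (nat_lit 0x1e3041836e) (.node (nat_lit 0x1e30408f16) (.leaf (nat_lit 0x1e30408f06) (nat_lit 2048))
 (.leaf (nat_lit 0x1e30408f16) (nat_lit 3074))
) (.node (nat_lit 0x1e3041837e) (.leaf (nat_lit 0x1e3041836e) (nat_lit 1792))
 (.node (nat_lit 0x1e3041874e) (.leaf (nat_lit 0x1e3041837e) (nat_lit 2305))
 (.leaf (nat_lit 0x1e3041874e) (nat_lit 1796))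
)))) (.node (nat_lit 0x1e30418f7e) (.node (nat_lit 0x1e30418b5e) (.node (nat_lit 0x1e30418b4e) (.leaf (nat_lit 0x1e3041875e) (nat_lit 2306))
 (.leaf (nat_lit 0x1e30418b4e) (nat_lit 2048))
) (.node (nat_lit 0x1e30418f6e) (.leaf (nat_lit 0x1e30418b5e) (nat_lit 3074))
 (.leaf (nat_lit 0x1e30418f6e) (nat_lit 3076))
)) (.node (nat_lit 0x1e3042917e) (.node (nat_lit 0x1e3042916e) (.leaf (nat_lit 0x1e30418f7e) (nat_lit 3074))
 (.leaf (nat_lit 0x1e3042916e) (nat_lit 1796))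
) (.node (nat_lit 0x1e3042954e) (.leaf (nat_lit 0x1e3042917e) (nat_lit 3329))
 (.node (nat_lit 0x1e3042955e) (.leaf (nat_lit 0x1e3042954e) (nat_lit 2304))
 (.leaf (nat_lit 0x1e3042955e) (nat_lit 2306))
)))))) (.node (nat_lit 0x1e30441d06) (.node (nat_lit 0x1e30439936) (.node (nat_lit 0x1e30439106) (.node (nat_lit 0x1e30429d6e) (.node (nat_lit 0x1e3042995e) (.leaf (nat_lit 0x1e3042994e) (nat_lit 1540))
 (.leaf (nat_lit 0x1e3042995e) (nat_lit 3074))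
) (.node (nat_lit 0x1e30429d7e) (.leaf (nat_lit 0x1e30429d6e) (nat_lit 3072))
 (.leaf (nat_lit 0x1e30429d7e) (nat_lit 2050))
)) (.node (nat_lit 0x1e30439526) (.node (nat_lit 0x1e30439116) (.leaf (nat_lit 0x1e30439106) (nat_lit 1280))
 (.leaf (nat_lit 0x1e30439116) (nat_lit 3330))
) (.node (nat_lit 0x1e30439536) (.leaf (nat_lit 0x1e30439526) (nat_lit 3332))
 (.node (nat_lit 0x1e30439926) (.leaf (nat_lit 0x1e30439536) (nat_lit 2306))
 (.leaf (nat_lit 0x1e30439926) (nat_lit 2560))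
)))) (.node (nat_lit 0x1e30441116) (.node (nat_lit 0x1e30439d16) (.node (nat_lit 0x1e30439d06) (.leaf (nat_lit 0x1e30439936) (nat_lit 2564))
 (.leaf (nat_lit 0x1e30439d06) (nat_lit 1540))
) (.node (nat_lit 0x1e30441106) (.leaf (nat_lit 0x1e30439d16) (nat_lit 3074))
 (.leaf (nat_lit 0x1e30441106) (nat_lit 1028))
)) (.node (nat_lit 0x1e30441536) (.node (nat_lit 0x1e30441526) (.leaf (nat_lit 0x1e30441116) (nat_lit 3074))
 (.leaf (nat_lit 0x1e30441526) (nat_lit 3074))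
) (.node (nat_lit 0x1e30441926) (.leaf (nat_lit 0x1e30441536) (nat_lit 2562))
 (.node (nat_lit 0x1e30441936) (.leaf (nat_lit 0x1e30441926) (nat_lit 2308))
 (.leaf (nat_lit 0x1e30441936) (nat_lit 2816))
))))) (.node (nat_lit 0x1e30451d7e) (.node (nat_lit 0x1e3045154e) (.node (nat_lit 0x1e3045116e) (.node (nat_lit 0x1e30441d16) (.leaf (nat_lit 0x1e30441d06) (nat_lit 1792))
 (.leaf (nat_lit 0x1e30441d16) (nat_lit 3330))
) (.node (nat_lit 0x1e3045117e) (.leaf (nat_lit 0x1e3045116e) (nat_lit 2048))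
 (.leaf (nat_lit 0x1e3045117e) (nat_lit 3073))
)) (.node (nat_lit 0x1e3045194e) (.node (nat_lit 0x1e3045155e) (.leaf (nat_lit 0x1e3045154e) (nat_lit 2052))
 (.leaf (nat_lit 0x1e3045155e) (nat_lit 2050))
) (.node (nat_lit 0x1e3045195e) (.leaf (nat_lit 0x1e3045194e) (nat_lit 1792))
 (.node (nat_lit 0x1e30451d6e) (.leaf (nat_lit 0x1e3045195e) (nat_lit 2820))
 (.leaf (nat_lit 0x1e30451d6e) (nat_lit 2820))
)))) (.node (nat_lit 0x1e3046075e) (.node (nat_lit 0x1e3046037e) (.node (nat_lit 0x1e3046036e) (.leaf (nat_lit 0x1e30451d7e) (nat_lit 2306))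
 (.leaf (nat_lit 0x1e3046036e) (nat_lit 1540))
) (.node (nat_lit 0x1e3046074e) (.leaf (nat_lit 0x1e3046037e) (nat_lit 2561))
 (.leaf (nat_lit 0x1e3046074e) (nat_lit 2048))
)) (.node (nat_lit 0x1e30460b5e) (.node (nat_lit 0x1e30460b4e) (.leaf (nat_lit 0x1e3046075e) (nat_lit 2562))
 (.leaf (nat_lit 0x1e30460b4e) (nat_lit 1796))
) (.node (nat_lit 0x1e30460f6e) (.leaf (nat_lit 0x1e30460b5e) (nat_lit 2818))
 (.node (nat_lit 0x1e30460f7e) (.leaf (nat_lit 0x1e30460f6e) (nat_lit 2818))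
 (.leaf (nat_lit 0x1e30460f7e) (nat_lit 2818))
))))))) (.node (nat_lit 0x1e30839896) (.node (nat_lit 0x1e308194ce) (.node (nat_lit 0x1e308082a6) (.node (nat_lit 0x1e30470b26) (.node (nat_lit 0x1e30470726) (.node (nat_lit 0x1e30470316) (.leaf (nat_lit 0x1e30470306) (nat_lit 1024))
 (.leaf (nat_lit 0x1e30470316) (nat_lit 3075))
) (.node (nat_lit 0x1e30470736) (.leaf (nat_lit 0x1e30470726) (nat_lit 3076))
 (.leaf (nat_lit 0x1e30470736) (nat_lit 2562))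
)) (.node (nat_lit 0x1e30470f06) (.node (nat_lit 0x1e30470b36) (.leaf (nat_lit 0x1e30470b26) (nat_lit 2816))
 (.leaf (nat_lit 0x1e30470b36) (nat_lit 2820))
) (.node (nat_lit 0x1e30470f16) (.leaf (nat_lit 0x1e30470f06) (nat_lit 1796))
 (.node (nat_lit 0x1e30808286) (.leaf (nat_lit 0x1e30470f16) (nat_lit 2818))
 (.leaf (nat_lit 0x1e30808286) (nat_lit 1028))
)))) (.node (nat_lit 0x1e30808ab6) (.node (nat_lit 0x1e308086b6) (.node (nat_lit 0x1e30808696) (.leaf (nat_lit 0x1e308082a6) (nat_lit 2820))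
 (.leaf (nat_lit 0x1e30808696) (nat_lit 3074))
) (.node (nat_lit 0x1e30808a96) (.leaf (nat_lit 0x1e308086b6) (nat_lit 3328))
 (.leaf (nat_lit 0x1e30808a96) (nat_lit 3328))
)) (.node (nat_lit 0x1e30808ea6) (.node (nat_lit 0x1e30808e86) (.leaf (nat_lit 0x1e30808ab6) (nat_lit 3075))
 (.leaf (nat_lit 0x1e30808e86) (nat_lit 2304))
) (.node (nat_lit 0x1e308190de) (.leaf (nat_lit 0x1e30808ea6) (nat_lit 3584))
 (.node (nat_lit 0x1e308190fe) (.leaf (nat_lit 0x1e308190de) (nat_lit 2564))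
 (.leaf (nat_lit 0x1e308190fe) (nat_lit 3331))
))))) (.node (nat_lit 0x1e308286ee) (.node (nat_lit 0x1e30819cde) (.node (nat_lit 0x1e308198ce) (.node (nat_lit 0x1e308194ee) (.leaf (nat_lit 0x1e308194ce) (nat_lit 2052))
 (.leaf (nat_lit 0x1e308194ee) (nat_lit 3330))
) (.node (nat_lit 0x1e308198ee) (.leaf (nat_lit 0x1e308198ce) (nat_lit 2304))
 (.leaf (nat_lit 0x1e308198ee) (nat_lit 2048))
)) (.node (nat_lit 0x1e308282de) (.node (nat_lit 0x1e30819cfe) (.leaf (nat_lit 0x1e30819cde) (nat_lit 3328))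
 (.leaf (nat_lit 0x1e30819cfe) (nat_lit 2306))
) (.node (nat_lit 0x1e308282fe) (.leaf (nat_lit 0x1e308282de) (nat_lit 2560))
 (.node (nat_lit 0x1e308286ce) (.leaf (nat_lit 0x1e308282fe) (nat_lit 2307))
 (.leaf (nat_lit 0x1e308286ce) (nat_lit 2560))
)))) (.node (nat_lit 0x1e30828efe) (.node (nat_lit 0x1e30828aee) (.node (nat_lit 0x1e30828ace) (.leaf (nat_lit 0x1e308286ee) (nat_lit 3330))
 (.leaf (nat_lit 0x1e30828ace) (nat_lit 1796))
) (.node (nat_lit 0x1e30828ede) (.leaf (nat_lit 0x1e30828aee) (nat_lit 2052))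
 (.leaf (nat_lit 0x1e30828ede) (nat_lit 3074))
)) (.node (nat_lit 0x1e308390a6) (.node (nat_lit 0x1e30839086) (.leaf (nat_lit 0x1e30828efe) (nat_lit 3330))
 (.leaf (nat_lit 0x1e30839086) (nat_lit 1536))
) (.node (nat_lit 0x1e30839496) (.leaf (nat_lit 0x1e308390a6) (nat_lit 2816))
 (.node (nat_lit 0x1e308394b6) (.leaf (nat_lit 0x1e30839496) (nat_lit 3328))
 (.leaf (nat_lit 0x1e308394b6) (nat_lit 2562))
)))))) (.node (nat_lit 0x1e30850ede) (.node (nat_lit 0x1e308418b6) (.node (nat_lit 0x1e30841086) (.node (nat_lit 0x1e30839c86) (.node (nat_lit 0x1e308398b6) (.leaf (nat_lit 0x1e30839896) (nat_lit 3332))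
 (.leaf (nat_lit 0x1e308398b6) (nat_lit 2563))
) (.node (nat_lit 0x1e30839ca6) (.leaf (nat_lit 0x1e30839c86) (nat_lit 1796))
 (.leaf (nat_lit 0x1e30839ca6) (nat_lit 3588))
)) (.node (nat_lit 0x1e30841496) (.node (nat_lit 0x1e308410a6) (.leaf (nat_lit 0x1e30841086) (nat_lit 1284))
 (.leaf (nat_lit 0x1e308410a6) (nat_lit 2564))
) (.node (nat_lit 0x1e308414b6) (.leaf (nat_lit 0x1e30841496) (nat_lit 3076))
 (.node (nat_lit 0x1e30841896) (.leaf (nat_lit 0x1e308414b6) (nat_lit 2818))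
 (.leaf (nat_lit 0x1e30841896) (nat_lit 3330))
)))) (.node (nat_lit 0x1e308502fe) (.node (nat_lit 0x1e30841ca6) (.node (nat_lit 0x1e30841c86) (.leaf (nat_lit 0x1e308418b6) (nat_lit 2819))
 (.leaf (nat_lit 0x1e30841c86) (nat_lit 2048))
) (.node (nat_lit 0x1e308502de) (.leaf (nat_lit 0x1e30841ca6) (nat_lit 3331))
 (.leaf (nat_lit 0x1e308502de) (nat_lit 2308))
)) (.node (nat_lit 0x1e308506ee) (.node (nat_lit 0x1e308506ce) (.leaf (nat_lit 0x1e308502fe) (nat_lit 2563))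
 (.leaf (nat_lit 0x1e308506ce) (nat_lit 2308))
) (.node (nat_lit 0x1e30850ace) (.leaf (nat_lit 0x1e308506ee) (nat_lit 3074))
 (.node (nat_lit 0x1e30850aee) (.leaf (nat_lit 0x1e30850ace) (nat_lit 2048))
 (.leaf (nat_lit 0x1e30850aee) (nat_lit 2304))
))))) (.node (nat_lit 0x1e30861cfe) (.node (nat_lit 0x1e308614ce) (.node (nat_lit 0x1e308610de) (.node (nat_lit 0x1e30850efe) (.leaf (nat_lit 0x1e30850ede) (nat_lit 2818))
 (.leaf (nat_lit 0x1e30850efe) (nat_lit 3074))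
) (.node (nat_lit 0x1e308610fe) (.leaf (nat_lit 0x1e308610de) (nat_lit 2816))
 (.leaf (nat_lit 0x1e308610fe) (nat_lit 3075))
)) (.node (nat_lit 0x1e308618ce) (.node (nat_lit 0x1e308614ee) (.leaf (nat_lit 0x1e308614ce) (nat_lit 2304))
 (.leaf (nat_lit 0x1e308614ee) (nat_lit 3075))
) (.node (nat_lit 0x1e308618ee) (.leaf (nat_lit 0x1e308618ce) (nat_lit 2052))
 (.node (nat_lit 0x1e30861cde) (.leaf (nat_lit 0x1e308618ee) (nat_lit 1796))
 (.leaf (nat_lit 0x1e30861cde) (nat_lit 3076))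
)))) (.node (nat_lit 0x1e308706b6) (.node (nat_lit 0x1e308702a6) (.node (nat_lit 0x1e30870286) (.leaf (nat_lit 0x1e30861cfe) (nat_lit 2562))
 (.leaf (nat_lit 0x1e30870286) (nat_lit 1280))
) (.node (nat_lit 0x1e30870696) (.leaf (nat_lit 0x1e308702a6) (nat_lit 3072))
 (.leaf (nat_lit 0x1e30870696) (nat_lit 2818))
)) (.node (nat_lit 0x1e30870ab6) (.node (nat_lit 0x1e30870a96) (.leaf (nat_lit 0x1e308706b6) (nat_lit 3076))
 (.leaf (nat_lit 0x1e30870a96) (nat_lit 3076))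
) (.node (nat_lit 0x1e30870e86) (.leaf (nat_lit 0x1e30870ab6) (nat_lit 2819))
 (.node (nat_lit 0x1e30870ea6) (.leaf (nat_lit 0x1e30870e86) (nat_lit 2052))
 (.leaf (nat_lit 0x1e30870ea6) (nat_lit 3332))
)))))))))))))

theorem P2_ok : genOK A2 [(nat_lit 0x1020448102), (nat_lit 0x1220408102), (nat_lit 0x1030408106), (nat_lit 0x1020c08182), (nat_lit 0x1820408302)] P2_t (nat_lit 4608) = true := by decide +kernel

noncomputable def K4_t : ST :=
(.node (nat_lit 0x103542b116) (.node (nat_lit 0x95add46e6) (.node (nat_lit 0x4f336790c) (.node (nat_lit 0x2d0a948d4) (.node (nat_lit 0x1bf312144) (.node (nat_lit 0x10f5e3002) (.node (nat_lit 0xc6bf58c0) (.node (nat_lit 0xa1a339c0) (.node (nat_lit 0x873b3840) (.node (nat_lit 0x852d2840) (.node (nat_lit 0x842d0840) (.leaf (nat_lit 0x84210840) (nat_lit 2821))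
 (.node (nat_lit 0x85212840) (.leaf (nat_lit 0x842d0840) (nat_lit 2564))
 (.leaf (nat_lit 0x85212840) (nat_lit 2564))
)) (.node (nat_lit 0x863b1840) (.node (nat_lit 0x86371840) (.leaf (nat_lit 0x852d2840) (nat_lit 2816))
 (.leaf (nat_lit 0x86371840) (nat_lit 2561))
) (.node (nat_lit 0x87373840) (.leaf (nat_lit 0x863b1840) (nat_lit 2821))
 (.leaf (nat_lit 0x87373840) (nat_lit 2816))
))) (.node (nat_lit 0xa0a319c0) (.node (nat_lit 0xa0210940) (.leaf (nat_lit 0x873b3840) (nat_lit 2817))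
 (.node (nat_lit 0xa02d0940) (.leaf (nat_lit 0xa0210940) (nat_lit 2304))
 (.leaf (nat_lit 0xa02d0940) (nat_lit 1794))
)) (.node (nat_lit 0xa1212940) (.node (nat_lit 0xa0af19c0) (.leaf (nat_lit 0xa0a319c0) (nat_lit 2304))
 (.leaf (nat_lit 0xa0af19c0) (nat_lit 1538))
) (.node (nat_lit 0xa12d2940) (.leaf (nat_lit 0xa1212940) (nat_lit 2049))
 (.leaf (nat_lit 0xa12d2940) (nat_lit 2050))
)))) (.node (nat_lit 0xa6bb11c0) (.node (nat_lit 0xa42d0140) (.node (nat_lit 0xa1af39c0) (.leaf (nat_lit 0xa1a339c0) (nat_lit 2052))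
 (.node (nat_lit 0xa4210140) (.leaf (nat_lit 0xa1af39c0) (nat_lit 1794))
 (.leaf (nat_lit 0xa4210140) (nat_lit 3333))
)) (.node (nat_lit 0xa52d2140) (.node (nat_lit 0xa5212140) (.leaf (nat_lit 0xa42d0140) (nat_lit 2564))
 (.leaf (nat_lit 0xa5212140) (nat_lit 3077))
) (.node (nat_lit 0xa6b711c0) (.leaf (nat_lit 0xa52d2140) (nat_lit 2564))
 (.leaf (nat_lit 0xa6b711c0) (nat_lit 2561))
))) (.node (nat_lit 0xc4a948c0) (.node (nat_lit 0xa7bb31c0) (.node (nat_lit 0xa7b731c0) (.leaf (nat_lit 0xa6bb11c0) (nat_lit 3076))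
 (.leaf (nat_lit 0xa7b731c0) (nat_lit 2564))
) (.node (nat_lit 0xc4a548c0) (.leaf (nat_lit 0xa7bb31c0) (nat_lit 3073))
 (.leaf (nat_lit 0xc4a548c0) (nat_lit 2565))
)) (.node (nat_lit 0xc5a968c0) (.node (nat_lit 0xc5a568c0) (.leaf (nat_lit 0xc4a948c0) (nat_lit 2305))
 (.leaf (nat_lit 0xc5a568c0) (nat_lit 2821))
) (.node (nat_lit 0xc6b358c0) (.leaf (nat_lit 0xc5a968c0) (nat_lit 2560))
 (.leaf (nat_lit 0xc6b358c0) (nat_lit 2560))
))))) (.node (nat_lit 0xe6314140) (.node (nat_lit 0xe3377940) (.node (nat_lit 0xe2375940) (.node (nat_lit 0xc7b378c0) (.leaf (nat_lit 0xc6bf58c0) (nat_lit 2562))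
 (.node (nat_lit 0xc7bf78c0) (.leaf (nat_lit 0xc7b378c0) (nat_lit 2308))
 (.leaf (nat_lit 0xc7bf78c0) (nat_lit 2565))
)) (.node (nat_lit 0xe2b549c0) (.node (nat_lit 0xe23b5940) (.leaf (nat_lit 0xe2375940) (nat_lit 2565))
 (.leaf (nat_lit 0xe23b5940) (nat_lit 2053))
) (.node (nat_lit 0xe2b949c0) (.leaf (nat_lit 0xe2b549c0) (nat_lit 2309))
 (.leaf (nat_lit 0xe2b949c0) (nat_lit 2053))
))) (.node (nat_lit 0xe4a751c0) (.node (nat_lit 0xe3b569c0) (.node (nat_lit 0xe33b7940) (.leaf (nat_lit 0xe3377940) (nat_lit 2309))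
 (.leaf (nat_lit 0xe33b7940) (nat_lit 2309))
) (.node (nat_lit 0xe3b969c0) (.leaf (nat_lit 0xe3b569c0) (nat_lit 2565))
 (.leaf (nat_lit 0xe3b969c0) (nat_lit 1797))
)) (.node (nat_lit 0xe5a771c0) (.node (nat_lit 0xe4ab51c0) (.leaf (nat_lit 0xe4a751c0) (nat_lit 2821))
 (.leaf (nat_lit 0xe4ab51c0) (nat_lit 2817))
) (.node (nat_lit 0xe5ab71c0) (.leaf (nat_lit 0xe5a771c0) (nat_lit 2821))
 (.leaf (nat_lit 0xe5ab71c0) (nat_lit 2820))
)))) (.node (nat_lit 0x10a1f1050) (.node (nat_lit 0xe73d6140) (.node (nat_lit 0xe63d4140) (.leaf (nat_lit 0xe6314140) (nat_lit 3072))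
 (.node (nat_lit 0xe7316140) (.leaf (nat_lit 0xe63d4140) (nat_lit 2821))
 (.leaf (nat_lit 0xe7316140) (nat_lit 2820))
)) (.node (nat_lit 0x108421012) (.node (nat_lit 0x1080a1010) (.leaf (nat_lit 0xe73d6140) (nat_lit 2821))
 (.leaf (nat_lit 0x1080a1010) (nat_lit 3075))
) (.node (nat_lit 0x1084a1002) (.leaf (nat_lit 0x108421012) (nat_lit 2304))
 (.leaf (nat_lit 0x1084a1002) (nat_lit 3587))
))) (.node (nat_lit 0x10c461012) (.node (nat_lit 0x10b5a3002) (.node (nat_lit 0x10b573052) (.leaf (nat_lit 0x10a1f1050) (nat_lit 2305))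
 (.leaf (nat_lit 0x10b573052) (nat_lit 2562))
) (.node (nat_lit 0x10c0e1010) (.leaf (nat_lit 0x10b5a3002) (nat_lit 2818))
 (.leaf (nat_lit 0x10c0e1010) (nat_lit 2561))
)) (.node (nat_lit 0x10e1b1050) (.node (nat_lit 0x10c4e1002) (.leaf (nat_lit 0x10c461012) (nat_lit 1025))
 (.leaf (nat_lit 0x10c4e1002) (nat_lit 2561))
) (.node (nat_lit 0x10f533052) (.leaf (nat_lit 0x10e1b1050) (nat_lit 2816))
 (.leaf (nat_lit 0x10f533052) (nat_lit 1795))
)))))) (.node (nat_lit 0x15b1b7054) (.node (nat_lit 0x148425012) (.node (nat_lit 0x11c471056) (.node (nat_lit 0x1194f3046) (.node (nat_lit 0x118431056) (.leaf (nat_lit 0x10f5e3002) (nat_lit 3331))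
 (.node (nat_lit 0x1190e3014) (.leaf (nat_lit 0x118431056) (nat_lit 2048))
 (.leaf (nat_lit 0x1190e3014) (nat_lit 2560))
)) (.node (nat_lit 0x11b1b3054) (.node (nat_lit 0x11a5f1046) (.leaf (nat_lit 0x1194f3046) (nat_lit 3075))
 (.leaf (nat_lit 0x11a5f1046) (nat_lit 2305))
) (.node (nat_lit 0x11b563016) (.leaf (nat_lit 0x11b1b3054) (nat_lit 2560))
 (.leaf (nat_lit 0x11b563016) (nat_lit 2563))
))) (.node (nat_lit 0x11e5b1046) (.node (nat_lit 0x11d0a3014) (.leaf (nat_lit 0x11c471056) (nat_lit 1281))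
 (.node (nat_lit 0x11d4b3046) (.leaf (nat_lit 0x11d0a3014) (nat_lit 2305))
 (.leaf (nat_lit 0x11d4b3046) (nat_lit 2561))
)) (.node (nat_lit 0x11f523016) (.node (nat_lit 0x11f1f3054) (.leaf (nat_lit 0x11e5b1046) (nat_lit 3332))
 (.leaf (nat_lit 0x11f1f3054) (nat_lit 2561))
) (.node (nat_lit 0x1480a5010) (.leaf (nat_lit 0x11f523016) (nat_lit 2307))
 (.leaf (nat_lit 0x1480a5010) (nat_lit 2817))
)))) (.node (nat_lit 0x14c4e5002) (.node (nat_lit 0x14b577052) (.node (nat_lit 0x1484a5002) (.leaf (nat_lit 0x148425012) (nat_lit 2049))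
 (.node (nat_lit 0x14a1f5050) (.leaf (nat_lit 0x1484a5002) (nat_lit 3587))
 (.leaf (nat_lit 0x14a1f5050) (nat_lit 2560))
)) (.node (nat_lit 0x14c0e5010) (.node (nat_lit 0x14b5a7002) (.leaf (nat_lit 0x14b577052) (nat_lit 2819))
 (.leaf (nat_lit 0x14b5a7002) (nat_lit 2817))
) (.node (nat_lit 0x14c465012) (.leaf (nat_lit 0x14c0e5010) (nat_lit 2816))
 (.leaf (nat_lit 0x14c465012) (nat_lit 1280))
))) (.node (nat_lit 0x158435056) (.node (nat_lit 0x14f537052) (.node (nat_lit 0x14e1b5050) (.leaf (nat_lit 0x14c4e5002) (nat_lit 2562))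
 (.leaf (nat_lit 0x14e1b5050) (nat_lit 2561))
) (.node (nat_lit 0x14f5e7002) (.leaf (nat_lit 0x14f537052) (nat_lit 2051))
 (.leaf (nat_lit 0x14f5e7002) (nat_lit 3330))
)) (.node (nat_lit 0x1594f7046) (.node (nat_lit 0x1590e7014) (.leaf (nat_lit 0x158435056) (nat_lit 1793))
 (.leaf (nat_lit 0x1590e7014) (nat_lit 2305))
) (.node (nat_lit 0x15a5f5046) (.leaf (nat_lit 0x1594f7046) (nat_lit 3075))
 (.leaf (nat_lit 0x15a5f5046) (nat_lit 2308))
))))) (.node (nat_lit 0x18de63082) (.node (nat_lit 0x15f527016) (.node (nat_lit 0x15d0a7014) (.node (nat_lit 0x15b567016) (.leaf (nat_lit 0x15b1b7054) (nat_lit 2305))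
 (.node (nat_lit 0x15c475056) (.leaf (nat_lit 0x15b567016) (nat_lit 2308))
 (.leaf (nat_lit 0x15c475056) (nat_lit 1536))
)) (.node (nat_lit 0x15e5b5046) (.node (nat_lit 0x15d4b7046) (.leaf (nat_lit 0x15d0a7014) (nat_lit 2560))
 (.leaf (nat_lit 0x15d4b7046) (nat_lit 2564))
) (.node (nat_lit 0x15f1f7054) (.leaf (nat_lit 0x15e5b5046) (nat_lit 3329))
 (.leaf (nat_lit 0x15f1f7054) (nat_lit 2816))
))) (.node (nat_lit 0x18a3d0c70) (.node (nat_lit 0x188e21cb2) (.node (nat_lit 0x1882a1c30) (.leaf (nat_lit 0x15f527016) (nat_lit 2051))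
 (.leaf (nat_lit 0x1882a1c30) (nat_lit 2821))
) (.node (nat_lit 0x188ea1082) (.leaf (nat_lit 0x188e21cb2) (nat_lit 2563))
 (.leaf (nat_lit 0x188ea1082) (nat_lit 3330))
)) (.node (nat_lit 0x18bfa3082) (.node (nat_lit 0x18bf52cf2) (.leaf (nat_lit 0x18a3d0c70) (nat_lit 2563))
 (.leaf (nat_lit 0x18bf52cf2) (nat_lit 2821))
) (.node (nat_lit 0x18c210c70) (.leaf (nat_lit 0x18bfa3082) (nat_lit 3074))
 (.leaf (nat_lit 0x18c210c70) (nat_lit 3072))
)))) (.node (nat_lit 0x1b9ee3db6) (.node (nat_lit 0x18ef61082) (.node (nat_lit 0x18de92cf2) (.leaf (nat_lit 0x18de63082) (nat_lit 3077))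
 (.node (nat_lit 0x18e361c30) (.leaf (nat_lit 0x18de92cf2) (nat_lit 1541))
 (.leaf (nat_lit 0x18e361c30) (nat_lit 2817))
)) (.node (nat_lit 0x1b8210d74) (.node (nat_lit 0x18efe1cb2) (.leaf (nat_lit 0x18ef61082) (nat_lit 2819))
 (.leaf (nat_lit 0x18efe1cb2) (nat_lit 1283))
) (.node (nat_lit 0x1b92d2144) (.leaf (nat_lit 0x1b8210d74) (nat_lit 2307))
 (.leaf (nat_lit 0x1b92d2144) (nat_lit 2821))
))) (.node (nat_lit 0x1bc210144) (.node (nat_lit 0x1bb363d34) (.node (nat_lit 0x1ba3d0144) (.leaf (nat_lit 0x1b9ee3db6) (nat_lit 2308))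
 (.leaf (nat_lit 0x1ba3d0144) (nat_lit 2563))
) (.node (nat_lit 0x1bbf92df6) (.leaf (nat_lit 0x1bb363d34) (nat_lit 2309))
 (.leaf (nat_lit 0x1bbf92df6) (nat_lit 2565))
)) (.node (nat_lit 0x1bde52df6) (.node (nat_lit 0x1bd2a3d34) (.leaf (nat_lit 0x1bc210144) (nat_lit 3077))
 (.leaf (nat_lit 0x1bd2a3d34) (nat_lit 2053))
) (.node (nat_lit 0x1be3d0d74) (.leaf (nat_lit 0x1bde52df6) (nat_lit 2819))
 (.leaf (nat_lit 0x1be3d0d74) (nat_lit 1539))
))))))) (.node (nat_lit 0x220c40982) (.node (nat_lit 0x2029c0ca0) (.node (nat_lit 0x1f82d4144) (.node (nat_lit 0x1cb3d6c70) (.node (nat_lit 0x1c9e27cb2) (.node (nat_lit 0x1bff23db6) (.leaf (nat_lit 0x1bf312144) (nat_lit 2819))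
 (.node (nat_lit 0x1c92a7c30) (.leaf (nat_lit 0x1bff23db6) (nat_lit 2563))
 (.leaf (nat_lit 0x1c92a7c30) (nat_lit 2817))
)) (.node (nat_lit 0x1caf54cf2) (.node (nat_lit 0x1c9ea7082) (.leaf (nat_lit 0x1c9e27cb2) (nat_lit 2307))
 (.leaf (nat_lit 0x1c9ea7082) (nat_lit 3329))
) (.node (nat_lit 0x1cafa5082) (.leaf (nat_lit 0x1caf54cf2) (nat_lit 2565))
 (.leaf (nat_lit 0x1cafa5082) (nat_lit 3073))
))) (.node (nat_lit 0x1cd216c70) (.node (nat_lit 0x1cce65082) (.leaf (nat_lit 0x1cb3d6c70) (nat_lit 2819))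
 (.node (nat_lit 0x1cce94cf2) (.leaf (nat_lit 0x1cce65082) (nat_lit 3077))
 (.leaf (nat_lit 0x1cce94cf2) (nat_lit 1797))
)) (.node (nat_lit 0x1cff67082) (.node (nat_lit 0x1cf367c30) (.leaf (nat_lit 0x1cd216c70) (nat_lit 2820))
 (.leaf (nat_lit 0x1cf367c30) (nat_lit 3077))
) (.node (nat_lit 0x1cffe7cb2) (.leaf (nat_lit 0x1cff67082) (nat_lit 2819))
 (.leaf (nat_lit 0x1cffe7cb2) (nat_lit 1539))
)))) (.node (nat_lit 0x1fce54df6) (.node (nat_lit 0x1fa365d34) (.node (nat_lit 0x1f8ee5db6) (.leaf (nat_lit 0x1f82d4144) (nat_lit 2821))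
 (.node (nat_lit 0x1f9216d74) (.leaf (nat_lit 0x1f8ee5db6) (nat_lit 2308))
 (.leaf (nat_lit 0x1f9216d74) (nat_lit 2051))
)) (.node (nat_lit 0x1fb3d6144) (.node (nat_lit 0x1faf94df6) (.leaf (nat_lit 0x1fa365d34) (nat_lit 2565))
 (.leaf (nat_lit 0x1faf94df6) (nat_lit 2561))
) (.node (nat_lit 0x1fc2a5d34) (.leaf (nat_lit 0x1fb3d6144) (nat_lit 2564))
 (.leaf (nat_lit 0x1fc2a5d34) (nat_lit 1797))
))) (.node (nat_lit 0x1ff3d6d74) (.node (nat_lit 0x1fe314144) (.node (nat_lit 0x1fd216144) (.leaf (nat_lit 0x1fce54df6) (nat_lit 2821))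
 (.leaf (nat_lit 0x1fd216144) (nat_lit 3077))
) (.node (nat_lit 0x1fef25db6) (.leaf (nat_lit 0x1fe314144) (nat_lit 2820))
 (.leaf (nat_lit 0x1fef25db6) (nat_lit 2819))
)) (.node (nat_lit 0x2021c0c20) (.node (nat_lit 0x202140420) (.leaf (nat_lit 0x1ff3d6d74) (nat_lit 1795))
 (.leaf (nat_lit 0x202140420) (nat_lit 2821))
) (.node (nat_lit 0x2029404a0) (.leaf (nat_lit 0x2021c0c20) (nat_lit 2820))
 (.leaf (nat_lit 0x2029404a0) (nat_lit 2564))
))))) (.node (nat_lit 0x214440c26) (.node (nat_lit 0x210840084) (.node (nat_lit 0x2044c0802) (.node (nat_lit 0x2040c0810) (.leaf (nat_lit 0x2029c0ca0) (nat_lit 2820))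
 (.node (nat_lit 0x204440812) (.leaf (nat_lit 0x2040c0810) (nat_lit 2820))
 (.leaf (nat_lit 0x204440812) (nat_lit 1284))
)) (.node (nat_lit 0x206d40882) (.node (nat_lit 0x206140430) (.leaf (nat_lit 0x2044c0802) (nat_lit 2562))
 (.leaf (nat_lit 0x206140430) (nat_lit 3076))
) (.node (nat_lit 0x206dc04b2) (.leaf (nat_lit 0x206d40882) (nat_lit 2819))
 (.leaf (nat_lit 0x206dc04b2) (nat_lit 1540))
))) (.node (nat_lit 0x212140424) (.node (nat_lit 0x210840894) (.node (nat_lit 0x2108404a4) (.leaf (nat_lit 0x210840084) (nat_lit 2563))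
 (.leaf (nat_lit 0x2108404a4) (nat_lit 2052))
) (.node (nat_lit 0x210840cb4) (.leaf (nat_lit 0x210840894) (nat_lit 2052))
 (.leaf (nat_lit 0x210840cb4) (nat_lit 2308))
)) (.node (nat_lit 0x212940084) (.node (nat_lit 0x2125c0c36) (.leaf (nat_lit 0x212140424) (nat_lit 2821))
 (.leaf (nat_lit 0x2125c0c36) (nat_lit 2308))
) (.node (nat_lit 0x212dc0896) (.leaf (nat_lit 0x212940084) (nat_lit 3076))
 (.leaf (nat_lit 0x212dc0896) (nat_lit 2565))
)))) (.node (nat_lit 0x220440522) (.node (nat_lit 0x216140434) (.node (nat_lit 0x2148c0084) (.leaf (nat_lit 0x214440c26) (nat_lit 1538))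
 (.node (nat_lit 0x214cc04b6) (.leaf (nat_lit 0x2148c0084) (nat_lit 2564))
 (.leaf (nat_lit 0x214cc04b6) (nat_lit 2308))
)) (.node (nat_lit 0x216d40ca6) (.node (nat_lit 0x2169c0084) (.leaf (nat_lit 0x216140434) (nat_lit 2565))
 (.leaf (nat_lit 0x2169c0084) (nat_lit 2308))
) (.node (nat_lit 0x2200c0910) (.leaf (nat_lit 0x216d40ca6) (nat_lit 2820))
 (.leaf (nat_lit 0x2200c0910) (nat_lit 2051))
))) (.node (nat_lit 0x2204c0902) (.node (nat_lit 0x220440912) (.node (nat_lit 0x220440532) (.leaf (nat_lit 0x220440522) (nat_lit 1537))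
 (.leaf (nat_lit 0x220440532) (nat_lit 515))
) (.node (nat_lit 0x220440d22) (.leaf (nat_lit 0x220440912) (nat_lit 257))
 (.leaf (nat_lit 0x220440d22) (nat_lit 514))
)) (.node (nat_lit 0x220c40182) (.node (nat_lit 0x2208c05b0) (.leaf (nat_lit 0x2204c0902) (nat_lit 1794))
 (.leaf (nat_lit 0x2208c05b0) (nat_lit 1794))
) (.node (nat_lit 0x220c405a2) (.leaf (nat_lit 0x220c40182) (nat_lit 2818))
 (.leaf (nat_lit 0x220c405a2) (nat_lit 2306))
)))))) (.node (nat_lit 0x282b61ca0) (.node (nat_lit 0x230440116) (.node (nat_lit 0x2240c0110) (.node (nat_lit 0x222540102) (.node (nat_lit 0x220c40da2) (.leaf (nat_lit 0x220c40982) (nat_lit 2562))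
 (.node (nat_lit 0x220cc0182) (.leaf (nat_lit 0x220c40da2) (nat_lit 2306))
 (.leaf (nat_lit 0x220cc0182) (nat_lit 2562))
)) (.node (nat_lit 0x222d40182) (.node (nat_lit 0x2225c0102) (.leaf (nat_lit 0x222540102) (nat_lit 4100))
 (.leaf (nat_lit 0x2225c0102) (nat_lit 3074))
) (.node (nat_lit 0x222dc0182) (.leaf (nat_lit 0x222d40182) (nat_lit 3330))
 (.leaf (nat_lit 0x222dc0182) (nat_lit 2818))
))) (.node (nat_lit 0x226540102) (.node (nat_lit 0x224440112) (.leaf (nat_lit 0x2240c0110) (nat_lit 2818))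
 (.node (nat_lit 0x2244c0102) (.leaf (nat_lit 0x224440112) (nat_lit 1284))
 (.leaf (nat_lit 0x2244c0102) (nat_lit 2820))
)) (.node (nat_lit 0x226940db0) (.node (nat_lit 0x2265c0d32) (.leaf (nat_lit 0x226540102) (nat_lit 3076))
 (.leaf (nat_lit 0x2265c0d32) (nat_lit 1540))
) (.node (nat_lit 0x230440106) (.leaf (nat_lit 0x226940db0) (nat_lit 2564))
 (.leaf (nat_lit 0x230440106) (nat_lit 2309))
)))) (.node (nat_lit 0x234440106) (.node (nat_lit 0x2321c0114) (.node (nat_lit 0x230440526) (.leaf (nat_lit 0x230440116) (nat_lit 2052))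
 (.node (nat_lit 0x230440536) (.leaf (nat_lit 0x230440526) (nat_lit 1796))
 (.leaf (nat_lit 0x230440536) (nat_lit 1796))
)) (.node (nat_lit 0x2329c05b4) (.node (nat_lit 0x232540106) (.leaf (nat_lit 0x2321c0114) (nat_lit 2564))
 (.leaf (nat_lit 0x232540106) (nat_lit 3077))
) (.node (nat_lit 0x232d405a6) (.leaf (nat_lit 0x2329c05b4) (nat_lit 2564))
 (.leaf (nat_lit 0x232d405a6) (nat_lit 2818))
))) (.node (nat_lit 0x236540106) (.node (nat_lit 0x234cc0996) (.node (nat_lit 0x2348c0da4) (.leaf (nat_lit 0x234440106) (nat_lit 2052))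
 (.leaf (nat_lit 0x2348c0da4) (nat_lit 2821))
) (.node (nat_lit 0x2361c0d24) (.leaf (nat_lit 0x234cc0996) (nat_lit 2564))
 (.leaf (nat_lit 0x2361c0d24) (nat_lit 1795))
)) (.node (nat_lit 0x282361c20) (.node (nat_lit 0x236940994) (.leaf (nat_lit 0x236540106) (nat_lit 2820))
 (.leaf (nat_lit 0x236940994) (nat_lit 2564))
) (.node (nat_lit 0x2823e1420) (.leaf (nat_lit 0x282361c20) (nat_lit 2561))
 (.leaf (nat_lit 0x2823e1420) (nat_lit 2561))
))))) (.node (nat_lit 0x2a1e42182) (.node (nat_lit 0x287fc2882) (.node (nat_lit 0x285642802) (.node (nat_lit 0x282be14a0) (.leaf (nat_lit 0x282b61ca0) (nat_lit 2305))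
 (.node (nat_lit 0x284210850) (.leaf (nat_lit 0x282be14a0) (nat_lit 2561))
 (.leaf (nat_lit 0x284210850) (nat_lit 2821))
)) (.node (nat_lit 0x2863b1470) (.node (nat_lit 0x285692852) (.leaf (nat_lit 0x285642802) (nat_lit 2818))
 (.leaf (nat_lit 0x285692852) (nat_lit 1796))
) (.node (nat_lit 0x287f334f2) (.leaf (nat_lit 0x2863b1470) (nat_lit 2816))
 (.leaf (nat_lit 0x287f334f2) (nat_lit 2052))
))) (.node (nat_lit 0x2a1692952) (.node (nat_lit 0x2a0a315f0) (.node (nat_lit 0x2a0210950) (.leaf (nat_lit 0x287fc2882) (nat_lit 3075))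
 (.leaf (nat_lit 0x2a0210950) (nat_lit 2306))
) (.node (nat_lit 0x2a1642902) (.leaf (nat_lit 0x2a0a315f0) (nat_lit 2050))
 (.leaf (nat_lit 0x2a1642902) (nat_lit 2050))
)) (.node (nat_lit 0x2a16e3522) (.node (nat_lit 0x2a16b3572) (.leaf (nat_lit 0x2a1692952) (nat_lit 1282))
 (.leaf (nat_lit 0x2a16b3572) (nat_lit 1026))
) (.node (nat_lit 0x2a16e3d22) (.leaf (nat_lit 0x2a16e3522) (nat_lit 1796))
 (.leaf (nat_lit 0x2a16e3d22) (nat_lit 1285))
)))) (.node (nat_lit 0x2a3f42182) (.node (nat_lit 0x2a1ee35a2) (.node (nat_lit 0x2a1ec2182) (.leaf (nat_lit 0x2a1e42182) (nat_lit 2562))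
 (.node (nat_lit 0x2a1ec2982) (.leaf (nat_lit 0x2a1ec2182) (nat_lit 2562))
 (.leaf (nat_lit 0x2a1ec2982) (nat_lit 2562))
)) (.node (nat_lit 0x2a3742102) (.node (nat_lit 0x2a1ee3da2) (.leaf (nat_lit 0x2a1ee35a2) (nat_lit 2308))
 (.leaf (nat_lit 0x2a1ee3da2) (nat_lit 2306))
) (.node (nat_lit 0x2a37c2102) (.leaf (nat_lit 0x2a3742102) (nat_lit 3845))
 (.leaf (nat_lit 0x2a37c2102) (nat_lit 3332))
))) (.node (nat_lit 0x2a5692152) (.node (nat_lit 0x2a4210150) (.node (nat_lit 0x2a3fc2182) (.leaf (nat_lit 0x2a3f42182) (nat_lit 3330))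
 (.leaf (nat_lit 0x2a3fc2182) (nat_lit 2820))
) (.node (nat_lit 0x2a5642102) (.leaf (nat_lit 0x2a4210150) (nat_lit 3073))
 (.leaf (nat_lit 0x2a5642102) (nat_lit 3588))
)) (.node (nat_lit 0x2a7733d72) (.node (nat_lit 0x2a6bb1df0) (.leaf (nat_lit 0x2a5692152) (nat_lit 2052))
 (.leaf (nat_lit 0x2a6bb1df0) (nat_lit 2820))
) (.node (nat_lit 0x2a77c2102) (.leaf (nat_lit 0x2a7733d72) (nat_lit 2053))
 (.leaf (nat_lit 0x2a77c2102) (nat_lit 3586))
)))))))) (.node (nat_lit 0x3dc2f5464) (.node (nat_lit 0x36c425912) (.node (nat_lit 0x308421812) (.node (nat_lit 0x2f1696156) (.node (nat_lit 0x2d3f168d6) (.node (nat_lit 0x2d0ae54a4) (.node (nat_lit 0x2d0ab5cf4) (.leaf (nat_lit 0x2d0a948d4) (nat_lit 2308))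
 (.node (nat_lit 0x2d0ac4084) (.leaf (nat_lit 0x2d0ab5cf4) (nat_lit 2564))
 (.leaf (nat_lit 0x2d0ac4084) (nat_lit 2565))
)) (.node (nat_lit 0x2d2bc4084) (.node (nat_lit 0x2d23e5424) (.leaf (nat_lit 0x2d0ae54a4) (nat_lit 2565))
 (.leaf (nat_lit 0x2d23e5424) (nat_lit 2816))
) (.node (nat_lit 0x2d3737c76) (.leaf (nat_lit 0x2d2bc4084) (nat_lit 3076))
 (.leaf (nat_lit 0x2d3737c76) (nat_lit 2564))
))) (.node (nat_lit 0x2d5e374f6) (.node (nat_lit 0x2d4a44084) (.leaf (nat_lit 0x2d3f168d6) (nat_lit 2561))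
 (.node (nat_lit 0x2d56e7c26) (.leaf (nat_lit 0x2d4a44084) (nat_lit 3076))
 (.leaf (nat_lit 0x2d56e7c26) (nat_lit 2052))
)) (.node (nat_lit 0x2d6b44084) (.node (nat_lit 0x2d63b5474) (.leaf (nat_lit 0x2d5e374f6) (nat_lit 2305))
 (.leaf (nat_lit 0x2d63b5474) (nat_lit 2561))
) (.node (nat_lit 0x2d7fe7ca6) (.leaf (nat_lit 0x2d6b44084) (nat_lit 2564))
 (.leaf (nat_lit 0x2d7fe7ca6) (nat_lit 3077))
)))) (.node (nat_lit 0x2f3fe75a6) (.node (nat_lit 0x2f16e7526) (.node (nat_lit 0x2f16b7576) (.leaf (nat_lit 0x2f1696156) (nat_lit 2308))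
 (.node (nat_lit 0x2f16c6106) (.leaf (nat_lit 0x2f16b7576) (nat_lit 2052))
 (.leaf (nat_lit 0x2f16c6106) (nat_lit 2819))
)) (.node (nat_lit 0x2f2b355f4) (.node (nat_lit 0x2f2314154) (.leaf (nat_lit 0x2f16e7526) (nat_lit 2564))
 (.leaf (nat_lit 0x2f2314154) (nat_lit 2820))
) (.node (nat_lit 0x2f37c6106) (.leaf (nat_lit 0x2f2b355f4) (nat_lit 2821))
 (.leaf (nat_lit 0x2f37c6106) (nat_lit 2820))
))) (.node (nat_lit 0x2f6365d24) (.node (nat_lit 0x2f56c6106) (.node (nat_lit 0x2f4a65da4) (.leaf (nat_lit 0x2f3fe75a6) (nat_lit 2565))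
 (.leaf (nat_lit 0x2f4a65da4) (nat_lit 2817))
) (.node (nat_lit 0x2f5e169d6) (.leaf (nat_lit 0x2f56c6106) (nat_lit 2308))
 (.leaf (nat_lit 0x2f5e169d6) (nat_lit 2309))
)) (.node (nat_lit 0x2f77c6106) (.node (nat_lit 0x2f6b949d4) (.leaf (nat_lit 0x2f6365d24) (nat_lit 2308))
 (.leaf (nat_lit 0x2f6b949d4) (nat_lit 2561))
) (.node (nat_lit 0x3080a1810) (.leaf (nat_lit 0x2f77c6106) (nat_lit 3076))
 (.leaf (nat_lit 0x3080a1810) (nat_lit 3077))
))))) (.node (nat_lit 0x31d823894) (.node (nat_lit 0x30f9524e0) (.node (nat_lit 0x30bd23882) (.node (nat_lit 0x3084a1802) (.leaf (nat_lit 0x308421812) (nat_lit 1541))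
 (.node (nat_lit 0x30a150470) (.leaf (nat_lit 0x3084a1802) (nat_lit 2821))
 (.leaf (nat_lit 0x30a150470) (nat_lit 2819))
)) (.node (nat_lit 0x30e150460) (.node (nat_lit 0x30bdd24f2) (.leaf (nat_lit 0x30bd23882) (nat_lit 3077))
 (.leaf (nat_lit 0x30bdd24f2) (nat_lit 1797))
) (.node (nat_lit 0x30e1b1c60) (.leaf (nat_lit 0x30e150460) (nat_lit 2563))
 (.leaf (nat_lit 0x30e1b1c60) (nat_lit 3077))
))) (.node (nat_lit 0x319cd24f6) (.node (nat_lit 0x318431c66) (.node (nat_lit 0x30f9b3ce0) (.leaf (nat_lit 0x30f9524e0) (nat_lit 2816))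
 (.leaf (nat_lit 0x30f9b3ce0) (nat_lit 2563))
) (.node (nat_lit 0x3198c2084) (.leaf (nat_lit 0x318431c66) (nat_lit 1793))
 (.leaf (nat_lit 0x3198c2084) (nat_lit 2821))
)) (.node (nat_lit 0x31b9c2084) (.node (nat_lit 0x31a150474) (.leaf (nat_lit 0x319cd24f6) (nat_lit 2560))
 (.leaf (nat_lit 0x31a150474) (nat_lit 2307))
) (.node (nat_lit 0x31bd33ce6) (.leaf (nat_lit 0x31b9c2084) (nat_lit 2565))
 (.leaf (nat_lit 0x31bd33ce6) (nat_lit 3077))
)))) (.node (nat_lit 0x31fda3896) (.node (nat_lit 0x31d8524e4) (.node (nat_lit 0x31d833cf4) (.leaf (nat_lit 0x31d823894) (nat_lit 2309))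
 (.node (nat_lit 0x31d842084) (.leaf (nat_lit 0x31d833cf4) (nat_lit 2565))
 (.leaf (nat_lit 0x31d842084) (nat_lit 2821))
)) (.node (nat_lit 0x31e5b1c76) (.node (nat_lit 0x31e150464) (.leaf (nat_lit 0x31d8524e4) (nat_lit 2309))
 (.leaf (nat_lit 0x31e150464) (nat_lit 2563))
) (.node (nat_lit 0x31f942084) (.leaf (nat_lit 0x31e5b1c76) (nat_lit 2565))
 (.leaf (nat_lit 0x31f942084) (nat_lit 3076))
))) (.node (nat_lit 0x36a544102) (.node (nat_lit 0x368444112) (.node (nat_lit 0x3680c4110) (.leaf (nat_lit 0x31fda3896) (nat_lit 2308))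
 (.leaf (nat_lit 0x3680c4110) (nat_lit 3077))
) (.node (nat_lit 0x3684c4102) (.leaf (nat_lit 0x368444112) (nat_lit 1541))
 (.leaf (nat_lit 0x3684c4102) (nat_lit 3076))
)) (.node (nat_lit 0x36b937df0) (.node (nat_lit 0x36a5b5d72) (.leaf (nat_lit 0x36a544102) (nat_lit 3333))
 (.leaf (nat_lit 0x36a5b5d72) (nat_lit 1797))
) (.node (nat_lit 0x36c0a5910) (.leaf (nat_lit 0x36b937df0) (nat_lit 2821))
 (.leaf (nat_lit 0x36c0a5910) (nat_lit 2309))
)))))) (.node (nat_lit 0x3882a1430) (.node (nat_lit 0x36fdc6182) (.node (nat_lit 0x36dc37de2) (.node (nat_lit 0x36c454572) (.node (nat_lit 0x36c435d62) (.leaf (nat_lit 0x36c425912) (nat_lit 517))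
 (.node (nat_lit 0x36c454562) (.leaf (nat_lit 0x36c435d62) (nat_lit 773))
 (.leaf (nat_lit 0x36c454562) (nat_lit 1797))
)) (.node (nat_lit 0x36d8d65f0) (.node (nat_lit 0x36c4a5902) (.leaf (nat_lit 0x36c454572) (nat_lit 773))
 (.leaf (nat_lit 0x36c4a5902) (nat_lit 2053))
) (.node (nat_lit 0x36dc27982) (.leaf (nat_lit 0x36d8d65f0) (nat_lit 2053))
 (.leaf (nat_lit 0x36dc27982) (nat_lit 2821))
))) (.node (nat_lit 0x36dcc6182) (.node (nat_lit 0x36dc46182) (.leaf (nat_lit 0x36dc37de2) (nat_lit 2565))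
 (.node (nat_lit 0x36dc565e2) (.leaf (nat_lit 0x36dc46182) (nat_lit 3075))
 (.leaf (nat_lit 0x36dc565e2) (nat_lit 2565))
)) (.node (nat_lit 0x36e5c4102) (.node (nat_lit 0x36e544102) (.leaf (nat_lit 0x36dcc6182) (nat_lit 2821))
 (.leaf (nat_lit 0x36e544102) (nat_lit 3844))
) (.node (nat_lit 0x36fd46182) (.leaf (nat_lit 0x36e5c4102) (nat_lit 3330))
 (.leaf (nat_lit 0x36fd46182) (nat_lit 3330))
)))) (.node (nat_lit 0x37c444106) (.node (nat_lit 0x379ca7996) (.node (nat_lit 0x378444106) (.leaf (nat_lit 0x36fdc6182) (nat_lit 3077))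
 (.node (nat_lit 0x3798b7de4) (.leaf (nat_lit 0x378444106) (nat_lit 2052))
 (.leaf (nat_lit 0x3798b7de4) (nat_lit 2562))
)) (.node (nat_lit 0x37a544106) (.node (nat_lit 0x37a1b5d64) (.leaf (nat_lit 0x379ca7996) (nat_lit 2564))
 (.leaf (nat_lit 0x37a1b5d64) (nat_lit 2053))
) (.node (nat_lit 0x37b927994) (.leaf (nat_lit 0x37a544106) (nat_lit 3077))
 (.leaf (nat_lit 0x37b927994) (nat_lit 2821))
))) (.node (nat_lit 0x37e1c4114) (.node (nat_lit 0x37c454566) (.node (nat_lit 0x37c444116) (.leaf (nat_lit 0x37c444106) (nat_lit 2052))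
 (.leaf (nat_lit 0x37c444116) (nat_lit 2052))
) (.node (nat_lit 0x37c454576) (.leaf (nat_lit 0x37c454566) (nat_lit 2053))
 (.leaf (nat_lit 0x37c454576) (nat_lit 1793))
)) (.node (nat_lit 0x37f9d65f4) (.node (nat_lit 0x37e544106) (.leaf (nat_lit 0x37e1c4114) (nat_lit 2821))
 (.leaf (nat_lit 0x37e544106) (nat_lit 2820))
) (.node (nat_lit 0x37fd565e6) (.leaf (nat_lit 0x37f9d65f4) (nat_lit 2821))
 (.leaf (nat_lit 0x37fd565e6) (nat_lit 3072))
))))) (.node (nat_lit 0x3bbb12de4) (.node (nat_lit 0x38c2f1460) (.node (nat_lit 0x38a371850) (.node (nat_lit 0x388e214b2) (.leaf (nat_lit 0x3882a1430) (nat_lit 3072))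
 (.node (nat_lit 0x388ea1882) (.leaf (nat_lit 0x388e214b2) (nat_lit 1795))
 (.leaf (nat_lit 0x388ea1882) (nat_lit 3075))
)) (.node (nat_lit 0x38b7f3852) (.node (nat_lit 0x38b723802) (.leaf (nat_lit 0x38a371850) (nat_lit 2561))
 (.leaf (nat_lit 0x38b723802) (nat_lit 2818))
) (.node (nat_lit 0x38c210c60) (.leaf (nat_lit 0x38b7f3852) (nat_lit 2051))
 (.leaf (nat_lit 0x38c210c60) (nat_lit 2821))
))) (.node (nat_lit 0x3b96c2106) (.node (nat_lit 0x38daf34e0) (.node (nat_lit 0x38da12ce0) (.leaf (nat_lit 0x38c2f1460) (nat_lit 2305))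
 (.leaf (nat_lit 0x38da12ce0) (nat_lit 2305))
) (.node (nat_lit 0x3b8210d64) (.leaf (nat_lit 0x38daf34e0) (nat_lit 2821))
 (.leaf (nat_lit 0x3b8210d64) (nat_lit 2051))
)) (.node (nat_lit 0x3baf719d6) (.node (nat_lit 0x3b9af39d4) (.leaf (nat_lit 0x3b96c2106) (nat_lit 3075))
 (.leaf (nat_lit 0x3b9af39d4) (nat_lit 2819))
) (.node (nat_lit 0x3bb7c2106) (.leaf (nat_lit 0x3baf719d6) (nat_lit 2049))
 (.leaf (nat_lit 0x3bb7c2106) (nat_lit 2564))
)))) (.node (nat_lit 0x3bf7c2106) (.node (nat_lit 0x3bd6c2106) (.node (nat_lit 0x3bc210154) (.leaf (nat_lit 0x3bbb12de4) (nat_lit 2817))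
 (.node (nat_lit 0x3bcef15e6) (.leaf (nat_lit 0x3bc210154) (nat_lit 2819))
 (.leaf (nat_lit 0x3bcef15e6) (nat_lit 2305))
)) (.node (nat_lit 0x3bf792156) (.node (nat_lit 0x3bda235b4) (.leaf (nat_lit 0x3bd6c2106) (nat_lit 3076))
 (.leaf (nat_lit 0x3bda235b4) (nat_lit 2564))
) (.node (nat_lit 0x3bf7a3536) (.leaf (nat_lit 0x3bf792156) (nat_lit 2308))
 (.leaf (nat_lit 0x3bf7a3536) (nat_lit 2052))
))) (.node (nat_lit 0x3d9a46084) (.node (nat_lit 0x3d82a5434) (.node (nat_lit 0x3bf7f3566) (.leaf (nat_lit 0x3bf7c2106) (nat_lit 2820))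
 (.leaf (nat_lit 0x3bf7f3566) (nat_lit 2563))
) (.node (nat_lit 0x3d8e94ce6) (.leaf (nat_lit 0x3d82a5434) (nat_lit 2305))
 (.leaf (nat_lit 0x3d8e94ce6) (nat_lit 2819))
)) (.node (nat_lit 0x3db796c66) (.node (nat_lit 0x3daf254b6) (.leaf (nat_lit 0x3d9a46084) (nat_lit 2308))
 (.leaf (nat_lit 0x3daf254b6) (nat_lit 2565))
) (.node (nat_lit 0x3dbb46084) (.leaf (nat_lit 0x3db796c66) (nat_lit 2050))
 (.leaf (nat_lit 0x3dbb46084) (nat_lit 3076))
))))))) (.node (nat_lit 0x455037c6c) (.node (nat_lit 0x3efb275b0) (.node (nat_lit 0x3ece44182) (.node (nat_lit 0x3dfbf78d4) (.node (nat_lit 0x3ddac6084) (.node (nat_lit 0x3dce758d6) (.leaf (nat_lit 0x3dc2f5464) (nat_lit 3072))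
 (.node (nat_lit 0x3dd646c36) (.leaf (nat_lit 0x3dce758d6) (nat_lit 2561))
 (.leaf (nat_lit 0x3dd646c36) (nat_lit 2564))
)) (.node (nat_lit 0x3dfbc6cb4) (.node (nat_lit 0x3dfbc6084) (.leaf (nat_lit 0x3ddac6084) (nat_lit 2820))
 (.leaf (nat_lit 0x3dfbc6084) (nat_lit 2308))
) (.node (nat_lit 0x3dfbf74e4) (.leaf (nat_lit 0x3dfbc6cb4) (nat_lit 2308))
 (.leaf (nat_lit 0x3dfbf74e4) (nat_lit 2307))
))) (.node (nat_lit 0x3e9ac6db0) (.node (nat_lit 0x3e9646d32) (.leaf (nat_lit 0x3dfbf78d4) (nat_lit 2051))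
 (.node (nat_lit 0x3e96c6102) (.leaf (nat_lit 0x3e9646d32) (nat_lit 1795))
 (.leaf (nat_lit 0x3e96c6102) (nat_lit 3332))
)) (.node (nat_lit 0x3eb746102) (.node (nat_lit 0x3ea314150) (.leaf (nat_lit 0x3e9ac6db0) (nat_lit 3077))
 (.leaf (nat_lit 0x3ea314150) (nat_lit 3074))
) (.node (nat_lit 0x3eb796152) (.leaf (nat_lit 0x3eb746102) (nat_lit 3588))
 (.leaf (nat_lit 0x3eb796152) (nat_lit 2051))
)))) (.node (nat_lit 0x3eefa5982) (.node (nat_lit 0x3ed6c6102) (.node (nat_lit 0x3ecec4182) (.leaf (nat_lit 0x3ece44182) (nat_lit 3330))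
 (.node (nat_lit 0x3ed646102) (.leaf (nat_lit 0x3ecec4182) (nat_lit 3077))
 (.leaf (nat_lit 0x3ed646102) (nat_lit 3587))
)) (.node (nat_lit 0x3eef44182) (.node (nat_lit 0x3ee375950) (.leaf (nat_lit 0x3ed6c6102) (nat_lit 3588))
 (.leaf (nat_lit 0x3ee375950) (nat_lit 2307))
) (.node (nat_lit 0x3eef94de2) (.leaf (nat_lit 0x3eef44182) (nat_lit 2818))
 (.leaf (nat_lit 0x3eef94de2) (nat_lit 2562))
))) (.node (nat_lit 0x3ef796d62) (.node (nat_lit 0x3eeff55e2) (.node (nat_lit 0x3eefc4182) (.leaf (nat_lit 0x3eefa5982) (nat_lit 2818))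
 (.leaf (nat_lit 0x3eefc4182) (nat_lit 2821))
) (.node (nat_lit 0x3ef727902) (.leaf (nat_lit 0x3eeff55e2) (nat_lit 2565))
 (.leaf (nat_lit 0x3ef727902) (nat_lit 2307))
)) (.node (nat_lit 0x3ef7f7562) (.node (nat_lit 0x3ef7a7532) (.leaf (nat_lit 0x3ef796d62) (nat_lit 1027))
 (.leaf (nat_lit 0x3ef7a7532) (nat_lit 771))
) (.node (nat_lit 0x3ef7f7952) (.leaf (nat_lit 0x3ef7f7562) (nat_lit 2051))
 (.leaf (nat_lit 0x3ef7f7952) (nat_lit 1027))
))))) (.node (nat_lit 0x421063d38) (.node (nat_lit 0x41506380c) (.node (nat_lit 0x405042818) (.node (nat_lit 0x405002808) (.leaf (nat_lit 0x3efb275b0) (nat_lit 2306))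
 (.node (nat_lit 0x405012848) (.leaf (nat_lit 0x405002808) (nat_lit 2563))
 (.leaf (nat_lit 0x405012848) (nat_lit 2308))
)) (.node (nat_lit 0x41502381c) (.node (nat_lit 0x405052858) (.leaf (nat_lit 0x405042818) (nat_lit 2308))
 (.leaf (nat_lit 0x405052858) (nat_lit 2560))
) (.node (nat_lit 0x41503385c) (.leaf (nat_lit 0x41502381c) (nat_lit 2051))
 (.leaf (nat_lit 0x41503385c) (nat_lit 2307))
))) (.node (nat_lit 0x421023d28) (.node (nat_lit 0x421002908) (.node (nat_lit 0x41507384c) (.leaf (nat_lit 0x41506380c) (nat_lit 2562))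
 (.leaf (nat_lit 0x41507384c) (nat_lit 2564))
) (.node (nat_lit 0x421012948) (.leaf (nat_lit 0x421002908) (nat_lit 2053))
 (.leaf (nat_lit 0x421012948) (nat_lit 1797))
)) (.node (nat_lit 0x421042918) (.node (nat_lit 0x421033d68) (.leaf (nat_lit 0x421023d28) (nat_lit 1797))
 (.leaf (nat_lit 0x421033d68) (nat_lit 1541))
) (.node (nat_lit 0x421052958) (.leaf (nat_lit 0x421042918) (nat_lit 1538))
 (.leaf (nat_lit 0x421052958) (nat_lit 1794))
)))) (.node (nat_lit 0x43503357c) (.node (nat_lit 0x425012148) (.node (nat_lit 0x421073d78) (.leaf (nat_lit 0x421063d38) (nat_lit 1540))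
 (.node (nat_lit 0x425002108) (.leaf (nat_lit 0x421073d78) (nat_lit 1792))
 (.leaf (nat_lit 0x425002108) (nat_lit 3076))
)) (.node (nat_lit 0x425052158) (.node (nat_lit 0x425042118) (.leaf (nat_lit 0x425012148) (nat_lit 2820))
 (.leaf (nat_lit 0x425042118) (nat_lit 2308))
) (.node (nat_lit 0x43502353c) (.leaf (nat_lit 0x425052158) (nat_lit 2560))
 (.leaf (nat_lit 0x43502353c) (nat_lit 2051))
))) (.node (nat_lit 0x445016c78) (.node (nat_lit 0x43507356c) (.node (nat_lit 0x43506352c) (.leaf (nat_lit 0x43503357c) (nat_lit 1795))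
 (.leaf (nat_lit 0x43506352c) (nat_lit 2564))
) (.node (nat_lit 0x445006c38) (.leaf (nat_lit 0x43507356c) (nat_lit 2820))
 (.leaf (nat_lit 0x445006c38) (nat_lit 2565))
)) (.node (nat_lit 0x445056c68) (.node (nat_lit 0x445046c28) (.leaf (nat_lit 0x445016c78) (nat_lit 2564))
 (.leaf (nat_lit 0x445046c28) (nat_lit 2563))
) (.node (nat_lit 0x455027c2c) (.leaf (nat_lit 0x445056c68) (nat_lit 2819))
 (.leaf (nat_lit 0x455027c2c) (nat_lit 2562))
)))))) (.node (nat_lit 0x4a0a31de8) (.node (nat_lit 0x47107794c) (.node (nat_lit 0x471006d3c) (.node (nat_lit 0x465027538) (.node (nat_lit 0x455067c3c) (.leaf (nat_lit 0x455037c6c) (nat_lit 2306))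
 (.node (nat_lit 0x455077c7c) (.leaf (nat_lit 0x455067c3c) (nat_lit 2308))
 (.leaf (nat_lit 0x455077c7c) (nat_lit 2307))
)) (.node (nat_lit 0x465067528) (.node (nat_lit 0x465037578) (.leaf (nat_lit 0x465027538) (nat_lit 2050))
 (.leaf (nat_lit 0x465037578) (nat_lit 2306))
) (.node (nat_lit 0x465077568) (.leaf (nat_lit 0x465067528) (nat_lit 2564))
 (.leaf (nat_lit 0x465077568) (nat_lit 2563))
))) (.node (nat_lit 0x47103795c) (.node (nat_lit 0x471016d7c) (.leaf (nat_lit 0x471006d3c) (nat_lit 2051))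
 (.node (nat_lit 0x47102791c) (.leaf (nat_lit 0x471016d7c) (nat_lit 1795))
 (.leaf (nat_lit 0x47102791c) (nat_lit 1539))
)) (.node (nat_lit 0x471056d6c) (.node (nat_lit 0x471046d2c) (.leaf (nat_lit 0x47103795c) (nat_lit 1795))
 (.leaf (nat_lit 0x471046d2c) (nat_lit 1283))
) (.node (nat_lit 0x47106790c) (.leaf (nat_lit 0x471056d6c) (nat_lit 1539))
 (.leaf (nat_lit 0x47106790c) (nat_lit 1795))
)))) (.node (nat_lit 0x485202808) (.node (nat_lit 0x47504611c) (.node (nat_lit 0x47500610c) (.leaf (nat_lit 0x47107794c) (nat_lit 1539))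
 (.node (nat_lit 0x47501614c) (.leaf (nat_lit 0x47500610c) (nat_lit 3072))
 (.leaf (nat_lit 0x47501614c) (nat_lit 2820))
)) (.node (nat_lit 0x484210848) (.node (nat_lit 0x47505615c) (.leaf (nat_lit 0x47504611c) (nat_lit 2307))
 (.leaf (nat_lit 0x47505615c) (nat_lit 2563))
) (.node (nat_lit 0x4846d085a) (.leaf (nat_lit 0x484210848) (nat_lit 2821))
 (.leaf (nat_lit 0x4846d085a) (nat_lit 2052))
))) (.node (nat_lit 0x49736380c) (.node (nat_lit 0x49637184c) (.node (nat_lit 0x4856c281a) (.leaf (nat_lit 0x485202808) (nat_lit 2819))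
 (.leaf (nat_lit 0x4856c281a) (nat_lit 2304))
) (.node (nat_lit 0x4967b185e) (.leaf (nat_lit 0x49637184c) (nat_lit 2561))
 (.leaf (nat_lit 0x4967b185e) (nat_lit 2309))
)) (.node (nat_lit 0x4a0210948) (.node (nat_lit 0x4977a381e) (.leaf (nat_lit 0x49736380c) (nat_lit 2816))
 (.leaf (nat_lit 0x4977a381e) (nat_lit 2049))
) (.node (nat_lit 0x4a06d095a) (.leaf (nat_lit 0x4a0210948) (nat_lit 2306))
 (.leaf (nat_lit 0x4a06d095a) (nat_lit 1794))
))))) (.node (nat_lit 0x4c4e94cfa) (.node (nat_lit 0x4a46d015a) (.node (nat_lit 0x4a16c291a) (.node (nat_lit 0x4a0ef1dfa) (.leaf (nat_lit 0x4a0a31de8) (nat_lit 2306))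
 (.node (nat_lit 0x4a1202908) (.leaf (nat_lit 0x4a0ef1dfa) (nat_lit 1793))
 (.leaf (nat_lit 0x4a1202908) (nat_lit 2305))
)) (.node (nat_lit 0x4a1ee3dba) (.node (nat_lit 0x4a1a23da8) (.leaf (nat_lit 0x4a16c291a) (nat_lit 2050))
 (.leaf (nat_lit 0x4a1a23da8) (nat_lit 2050))
) (.node (nat_lit 0x4a4210148) (.leaf (nat_lit 0x4a1ee3dba) (nat_lit 2052))
 (.leaf (nat_lit 0x4a4210148) (nat_lit 3332))
))) (.node (nat_lit 0x4b6fb15fe) (.node (nat_lit 0x4a56c211a) (.node (nat_lit 0x4a5202108) (.leaf (nat_lit 0x4a46d015a) (nat_lit 2561))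
 (.leaf (nat_lit 0x4a5202108) (nat_lit 3333))
) (.node (nat_lit 0x4b6b715ec) (.leaf (nat_lit 0x4a56c211a) (nat_lit 2817))
 (.leaf (nat_lit 0x4b6b715ec) (nat_lit 2305))
)) (.node (nat_lit 0x4b7fa35be) (.node (nat_lit 0x4b7b635ac) (.leaf (nat_lit 0x4b6fb15fe) (nat_lit 2309))
 (.leaf (nat_lit 0x4b7b635ac) (nat_lit 2560))
) (.node (nat_lit 0x4c4a54ce8) (.leaf (nat_lit 0x4b7fa35be) (nat_lit 2053))
 (.leaf (nat_lit 0x4c4a54ce8) (nat_lit 2565))
)))) (.node (nat_lit 0x4e4a755e8) (.node (nat_lit 0x4d6b35cec) (.node (nat_lit 0x4c5a46ca8) (.leaf (nat_lit 0x4c4e94cfa) (nat_lit 2049))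
 (.node (nat_lit 0x4c5e86cba) (.leaf (nat_lit 0x4c5a46ca8) (nat_lit 2561))
 (.leaf (nat_lit 0x4c5e86cba) (nat_lit 2304))
)) (.node (nat_lit 0x4d7b27cac) (.node (nat_lit 0x4d6ff5cfe) (.leaf (nat_lit 0x4d6b35cec) (nat_lit 2563))
 (.leaf (nat_lit 0x4d6ff5cfe) (nat_lit 2305))
) (.node (nat_lit 0x4d7fe7cbe) (.leaf (nat_lit 0x4d7b27cac) (nat_lit 2307))
 (.leaf (nat_lit 0x4d7fe7cbe) (nat_lit 2309))
))) (.node (nat_lit 0x4f237594c) (.node (nat_lit 0x4e5a675a8) (.node (nat_lit 0x4e4eb55fa) (.leaf (nat_lit 0x4e4a755e8) (nat_lit 2821))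
 (.leaf (nat_lit 0x4e4eb55fa) (nat_lit 1793))
) (.node (nat_lit 0x4e5ea75ba) (.leaf (nat_lit 0x4e5a675a8) (nat_lit 2565))
 (.leaf (nat_lit 0x4e5ea75ba) (nat_lit 2048))
)) (.node (nat_lit 0x4f2b54dec) (.node (nat_lit 0x4f27b595e) (.leaf (nat_lit 0x4f237594c) (nat_lit 2565))
 (.leaf (nat_lit 0x4f27b595e) (nat_lit 2053))
) (.node (nat_lit 0x4f2f94dfe) (.leaf (nat_lit 0x4f2b54dec) (nat_lit 2309))
 (.leaf (nat_lit 0x4f2f94dfe) (nat_lit 2309))
))))))))) (.node (nat_lit 0x72b902988) (.node (nat_lit 0x620c711da) (.node (nat_lit 0x58c210c78) (.node (nat_lit 0x53edb1dee) (.node (nat_lit 0x51843147e) (.node (nat_lit 0x4f77c611e) (.node (nat_lit 0x4f3f86dbe) (.node (nat_lit 0x4f37a791e) (.leaf (nat_lit 0x4f336790c) (nat_lit 2565))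
 (.node (nat_lit 0x4f3b46dac) (.leaf (nat_lit 0x4f37a791e) (nat_lit 2051))
 (.leaf (nat_lit 0x4f3b46dac) (nat_lit 2565))
)) (.node (nat_lit 0x4f67d415e) (.node (nat_lit 0x4f631414c) (.leaf (nat_lit 0x4f3f86dbe) (nat_lit 2053))
 (.leaf (nat_lit 0x4f631414c) (nat_lit 3076))
) (.node (nat_lit 0x4f730610c) (.leaf (nat_lit 0x4f67d415e) (nat_lit 2820))
 (.leaf (nat_lit 0x4f730610c) (nat_lit 3075))
))) (.node (nat_lit 0x508ca1caa) (.node (nat_lit 0x50842143a) (.leaf (nat_lit 0x4f77c611e) (nat_lit 2820))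
 (.node (nat_lit 0x5088a1898) (.leaf (nat_lit 0x50842143a) (nat_lit 1536))
 (.leaf (nat_lit 0x5088a1898) (nat_lit 2565))
)) (.node (nat_lit 0x50d882888) (.node (nat_lit 0x50c47146a) (.leaf (nat_lit 0x508ca1caa) (nat_lit 2563))
 (.leaf (nat_lit 0x50c47146a) (nat_lit 1281))
) (.node (nat_lit 0x50dc92cfa) (.leaf (nat_lit 0x50d882888) (nat_lit 2561))
 (.leaf (nat_lit 0x50dc92cfa) (nat_lit 1793))
)))) (.node (nat_lit 0x52b152158) (.node (nat_lit 0x51c46142e) (.node (nat_lit 0x5198c289c) (.leaf (nat_lit 0x51843147e) (nat_lit 1792))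
 (.node (nat_lit 0x519cd2cee) (.leaf (nat_lit 0x5198c289c) (nat_lit 2307))
 (.leaf (nat_lit 0x519cd2cee) (nat_lit 2821))
)) (.node (nat_lit 0x51cce1cbe) (.node (nat_lit 0x51c8e188c) (.leaf (nat_lit 0x51c46142e) (nat_lit 1537))
 (.leaf (nat_lit 0x51c8e188c) (nat_lit 2305))
) (.node (nat_lit 0x52adf1dfa) (.leaf (nat_lit 0x51cce1cbe) (nat_lit 2053))
 (.leaf (nat_lit 0x52adf1dfa) (nat_lit 2049))
))) (.node (nat_lit 0x52fdd2dea) (.node (nat_lit 0x52e9b19d8) (.node (nat_lit 0x52b982988) (.leaf (nat_lit 0x52b152158) (nat_lit 2816))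
 (.leaf (nat_lit 0x52b982988) (nat_lit 2304))
) (.node (nat_lit 0x52f102108) (.leaf (nat_lit 0x52e9b19d8) (nat_lit 2304))
 (.leaf (nat_lit 0x52f102108) (nat_lit 2820))
)) (.node (nat_lit 0x53b14211c) (.node (nat_lit 0x53a9f19cc) (.leaf (nat_lit 0x52fdd2dea) (nat_lit 2561))
 (.leaf (nat_lit 0x53a9f19cc) (nat_lit 2309))
) (.node (nat_lit 0x53bd92dfe) (.leaf (nat_lit 0x53b14211c) (nat_lit 2563))
 (.leaf (nat_lit 0x53bd92dfe) (nat_lit 2565))
))))) (.node (nat_lit 0x56ade5dba) (.node (nat_lit 0x54d8968c8) (.node (nat_lit 0x54843547a) (.node (nat_lit 0x53f11214c) (.leaf (nat_lit 0x53edb1dee) (nat_lit 2819))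
 (.node (nat_lit 0x53f9c299c) (.leaf (nat_lit 0x53f11214c) (nat_lit 2563))
 (.leaf (nat_lit 0x53f9c299c) (nat_lit 2309))
)) (.node (nat_lit 0x548cb5cea) (.node (nat_lit 0x5488b58d8) (.leaf (nat_lit 0x54843547a) (nat_lit 1281))
 (.leaf (nat_lit 0x5488b58d8) (nat_lit 2565))
) (.node (nat_lit 0x54c46542a) (.leaf (nat_lit 0x548cb5cea) (nat_lit 2307))
 (.leaf (nat_lit 0x54c46542a) (nat_lit 1536))
))) (.node (nat_lit 0x559cc6cae) (.node (nat_lit 0x55842543e) (.node (nat_lit 0x54dc86cba) (.leaf (nat_lit 0x54d8968c8) (nat_lit 2564))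
 (.leaf (nat_lit 0x54dc86cba) (nat_lit 2048))
) (.node (nat_lit 0x5598d68dc) (.leaf (nat_lit 0x55842543e) (nat_lit 1537))
 (.leaf (nat_lit 0x5598d68dc) (nat_lit 2305))
)) (.node (nat_lit 0x55c8f58cc) (.node (nat_lit 0x55c47546e) (.leaf (nat_lit 0x559cc6cae) (nat_lit 2565))
 (.leaf (nat_lit 0x55c47546e) (nat_lit 1792))
) (.node (nat_lit 0x55ccf5cfe) (.leaf (nat_lit 0x55c8f58cc) (nat_lit 2560))
 (.leaf (nat_lit 0x55ccf5cfe) (nat_lit 2309))
)))) (.node (nat_lit 0x57b15615c) (.node (nat_lit 0x56e9a5998) (.node (nat_lit 0x56b146118) (.leaf (nat_lit 0x56ade5dba) (nat_lit 2304))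
 (.node (nat_lit 0x56b9969c8) (.leaf (nat_lit 0x56b146118) (nat_lit 2564))
 (.leaf (nat_lit 0x56b9969c8) (nat_lit 2049))
)) (.node (nat_lit 0x56fdc6daa) (.node (nat_lit 0x56f116148) (.leaf (nat_lit 0x56e9a5998) (nat_lit 2049))
 (.leaf (nat_lit 0x56f116148) (nat_lit 2564))
) (.node (nat_lit 0x57a9e598c) (.leaf (nat_lit 0x56fdc6daa) (nat_lit 2562))
 (.leaf (nat_lit 0x57a9e598c) (nat_lit 2565))
))) (.node (nat_lit 0x57f9d69dc) (.node (nat_lit 0x57eda5dae) (.node (nat_lit 0x57bd86dbe) (.leaf (nat_lit 0x57b15615c) (nat_lit 2819))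
 (.leaf (nat_lit 0x57bd86dbe) (nat_lit 2309))
) (.node (nat_lit 0x57f10610c) (.leaf (nat_lit 0x57eda5dae) (nat_lit 2817))
 (.leaf (nat_lit 0x57f10610c) (nat_lit 2819))
)) (.node (nat_lit 0x588aa14b8) (.node (nat_lit 0x5886a1c2a) (.leaf (nat_lit 0x57f9d69dc) (nat_lit 2565))
 (.leaf (nat_lit 0x5886a1c2a) (nat_lit 2565))
) (.node (nat_lit 0x588e2189a) (.leaf (nat_lit 0x588aa14b8) (nat_lit 2565))
 (.leaf (nat_lit 0x588e2189a) (nat_lit 2051))
)))))) (.node (nat_lit 0x5db7c6c2e) (.node (nat_lit 0x5aff339da) (.node (nat_lit 0x59ebe188c) (.node (nat_lit 0x59a7d0c6e) (.node (nat_lit 0x58da82888) (.leaf (nat_lit 0x58c210c78) (nat_lit 2821))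
 (.node (nat_lit 0x58de734ea) (.leaf (nat_lit 0x58da82888) (nat_lit 2309))
 (.leaf (nat_lit 0x58de734ea) (nat_lit 2821))
)) (.node (nat_lit 0x59bf4289e) (.node (nat_lit 0x59bbb34fc) (.leaf (nat_lit 0x59a7d0c6e) (nat_lit 2306))
 (.leaf (nat_lit 0x59bbb34fc) (nat_lit 2304))
) (.node (nat_lit 0x59e361c3c) (.leaf (nat_lit 0x59bf4289e) (nat_lit 2309))
 (.leaf (nat_lit 0x59e361c3c) (nat_lit 2563))
))) (.node (nat_lit 0x5ab373d78) (.node (nat_lit 0x59ef614ae) (.leaf (nat_lit 0x59ebe188c) (nat_lit 2051))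
 (.node (nat_lit 0x5aa7d015a) (.leaf (nat_lit 0x59ef614ae) (nat_lit 2561))
 (.leaf (nat_lit 0x5aa7d015a) (nat_lit 2563))
)) (.node (nat_lit 0x5ae7d0d6a) (.node (nat_lit 0x5abb82988) (.leaf (nat_lit 0x5ab373d78) (nat_lit 2565))
 (.leaf (nat_lit 0x5abb82988) (nat_lit 2560))
) (.node (nat_lit 0x5af302108) (.leaf (nat_lit 0x5ae7d0d6a) (nat_lit 1539))
 (.leaf (nat_lit 0x5af302108) (nat_lit 3076))
)))) (.node (nat_lit 0x5c96b7c6a) (.node (nat_lit 0x5b9af39cc) (.node (nat_lit 0x5b8210d7c) (.leaf (nat_lit 0x5aff339da) (nat_lit 2305))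
 (.node (nat_lit 0x5b96c211e) (.leaf (nat_lit 0x5b8210d7c) (nat_lit 2051))
 (.leaf (nat_lit 0x5b96c211e) (nat_lit 2821))
)) (.node (nat_lit 0x5bd6b3d6e) (.node (nat_lit 0x5bc21014c) (.leaf (nat_lit 0x5b9af39cc) (nat_lit 2565))
 (.leaf (nat_lit 0x5bc21014c) (nat_lit 3329))
) (.node (nat_lit 0x5bde4299e) (.leaf (nat_lit 0x5bd6b3d6e) (nat_lit 2053))
 (.leaf (nat_lit 0x5bde4299e) (nat_lit 2561))
))) (.node (nat_lit 0x5cce654aa) (.node (nat_lit 0x5c9e378da) (.node (nat_lit 0x5c9ab74f8) (.leaf (nat_lit 0x5c96b7c6a) (nat_lit 2305))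
 (.leaf (nat_lit 0x5c9ab74f8) (nat_lit 2309))
) (.node (nat_lit 0x5cca948c8) (.leaf (nat_lit 0x5c9e378da) (nat_lit 1795))
 (.leaf (nat_lit 0x5cca948c8) (nat_lit 2053))
)) (.node (nat_lit 0x5daba54bc) (.node (nat_lit 0x5cd206c38) (.leaf (nat_lit 0x5cce654aa) (nat_lit 3077))
 (.leaf (nat_lit 0x5cd206c38) (nat_lit 2817))
) (.node (nat_lit 0x5daf548de) (.leaf (nat_lit 0x5daba54bc) (nat_lit 2049))
 (.leaf (nat_lit 0x5daf548de) (nat_lit 2053))
))))) (.node (nat_lit 0x5fd20610c) (.node (nat_lit 0x5ee314148) (.node (nat_lit 0x5dff774ee) (.node (nat_lit 0x5df377c7c) (.leaf (nat_lit 0x5db7c6c2e) (nat_lit 2562))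
 (.node (nat_lit 0x5dfbf78cc) (.leaf (nat_lit 0x5df377c7c) (nat_lit 2819))
 (.leaf (nat_lit 0x5dfbf78cc) (nat_lit 1795))
)) (.node (nat_lit 0x5eab949c8) (.node (nat_lit 0x5ea365d38) (.leaf (nat_lit 0x5dff774ee) (nat_lit 2819))
 (.leaf (nat_lit 0x5ea365d38) (nat_lit 2309))
) (.node (nat_lit 0x5eb7c611a) (.leaf (nat_lit 0x5eab949c8) (nat_lit 2305))
 (.leaf (nat_lit 0x5eb7c611a) (nat_lit 2564))
))) (.node (nat_lit 0x5f8ae598c) (.node (nat_lit 0x5ef7c6d2a) (.node (nat_lit 0x5eef2599a) (.leaf (nat_lit 0x5ee314148) (nat_lit 3076))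
 (.leaf (nat_lit 0x5eef2599a) (nat_lit 2560))
) (.node (nat_lit 0x5f86d415e) (.leaf (nat_lit 0x5ef7c6d2a) (nat_lit 1795))
 (.leaf (nat_lit 0x5f86d415e) (nat_lit 2821))
)) (.node (nat_lit 0x5fc6a5d2e) (.node (nat_lit 0x5f9206d3c) (.leaf (nat_lit 0x5f8ae598c) (nat_lit 2562))
 (.leaf (nat_lit 0x5f9206d3c) (nat_lit 2307))
) (.node (nat_lit 0x5fce549de) (.leaf (nat_lit 0x5fc6a5d2e) (nat_lit 1797))
 (.leaf (nat_lit 0x5fce549de) (nat_lit 2565))
)))) (.node (nat_lit 0x610861cac) (.node (nat_lit 0x60549285a) (.node (nat_lit 0x60445084a) (.leaf (nat_lit 0x5fd20610c) (nat_lit 3333))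
 (.node (nat_lit 0x605082808) (.leaf (nat_lit 0x60445084a) (nat_lit 1540))
 (.leaf (nat_lit 0x605082808) (nat_lit 2817))
)) (.node (nat_lit 0x6108614bc) (.node (nat_lit 0x61086109c) (.leaf (nat_lit 0x60549285a) (nat_lit 2052))
 (.leaf (nat_lit 0x61086109c) (nat_lit 1795))
) (.node (nat_lit 0x61086188c) (.leaf (nat_lit 0x6108614bc) (nat_lit 2051))
 (.leaf (nat_lit 0x61086188c) (nat_lit 2307))
))) (.node (nat_lit 0x62045056a) (.node (nat_lit 0x6158a309c) (.node (nat_lit 0x614450c7e) (.leaf (nat_lit 0x610861cac) (nat_lit 1795))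
 (.leaf (nat_lit 0x614450c7e) (nat_lit 1540))
) (.node (nat_lit 0x615cb34ee) (.leaf (nat_lit 0x6158a309c) (nat_lit 2050))
 (.leaf (nat_lit 0x615cb34ee) (nat_lit 2561))
)) (.node (nat_lit 0x62045094a) (.node (nat_lit 0x62045057a) (.leaf (nat_lit 0x62045056a) (nat_lit 1283))
 (.leaf (nat_lit 0x62045057a) (nat_lit 769))
) (.node (nat_lit 0x620450d7a) (.leaf (nat_lit 0x62045094a) (nat_lit 1284))
 (.leaf (nat_lit 0x620450d7a) (nat_lit 1027))
))))))) (.node (nat_lit 0x6a12a3528) (.node (nat_lit 0x65614442c) (.node (nat_lit 0x63045057e) (.node (nat_lit 0x621cb31da) (.node (nat_lit 0x620c71dfa) (.node (nat_lit 0x620c715fa) (.leaf (nat_lit 0x620c711da) (nat_lit 2050))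
 (.node (nat_lit 0x620c719da) (.leaf (nat_lit 0x620c715fa) (nat_lit 1793))
 (.leaf (nat_lit 0x620c719da) (nat_lit 1793))
)) (.node (nat_lit 0x62149295a) (.node (nat_lit 0x621082908) (.leaf (nat_lit 0x620c71dfa) (nat_lit 2562))
 (.leaf (nat_lit 0x621082908) (nat_lit 2050))
) (.node (nat_lit 0x6218a35a8) (.leaf (nat_lit 0x62149295a) (nat_lit 1538))
 (.leaf (nat_lit 0x6218a35a8) (nat_lit 2050))
))) (.node (nat_lit 0x62549215a) (.node (nat_lit 0x62445014a) (.leaf (nat_lit 0x621cb31da) (nat_lit 1540))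
 (.node (nat_lit 0x625082108) (.leaf (nat_lit 0x62445014a) (nat_lit 1540))
 (.leaf (nat_lit 0x625082108) (nat_lit 2817))
)) (.node (nat_lit 0x63045015e) (.node (nat_lit 0x63045014e) (.leaf (nat_lit 0x62549215a) (nat_lit 2308))
 (.leaf (nat_lit 0x63045014e) (nat_lit 2052))
) (.node (nat_lit 0x63045056e) (.leaf (nat_lit 0x63045015e) (nat_lit 2053))
 (.leaf (nat_lit 0x63045056e) (nat_lit 2052))
)))) (.node (nat_lit 0x6439a7cb8) (.node (nat_lit 0x635cb39ce) (.node (nat_lit 0x63445015e) (.leaf (nat_lit 0x63045057e) (nat_lit 1797))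
 (.node (nat_lit 0x6358a3dbc) (.leaf (nat_lit 0x63445015e) (nat_lit 2052))
 (.leaf (nat_lit 0x6358a3dbc) (nat_lit 2562))
)) (.node (nat_lit 0x6429654b8) (.node (nat_lit 0x642144438) (.leaf (nat_lit 0x635cb39ce) (nat_lit 2564))
 (.leaf (nat_lit 0x642144438) (nat_lit 2563))
) (.node (nat_lit 0x643186c38) (.leaf (nat_lit 0x6429654b8) (nat_lit 2821))
 (.leaf (nat_lit 0x643186c38) (nat_lit 2819))
))) (.node (nat_lit 0x65214443c) (.node (nat_lit 0x646d758da) (.node (nat_lit 0x646144428) (.leaf (nat_lit 0x6439a7cb8) (nat_lit 2563))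
 (.leaf (nat_lit 0x646144428) (nat_lit 2564))
) (.node (nat_lit 0x647db74ea) (.leaf (nat_lit 0x646d758da) (nat_lit 2052))
 (.leaf (nat_lit 0x647db74ea) (nat_lit 1795))
)) (.node (nat_lit 0x653596c6e) (.node (nat_lit 0x65296509c) (.leaf (nat_lit 0x65214443c) (nat_lit 2563))
 (.leaf (nat_lit 0x65296509c) (nat_lit 2563))
) (.node (nat_lit 0x653db78ce) (.leaf (nat_lit 0x653596c6e) (nat_lit 2306))
 (.leaf (nat_lit 0x653db78ce) (nat_lit 2308))
))))) (.node (nat_lit 0x67696598c) (.node (nat_lit 0x66655415a) (.node (nat_lit 0x66255415a) (.node (nat_lit 0x656d75cfe) (.leaf (nat_lit 0x65614442c) (nat_lit 2307))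
 (.node (nat_lit 0x6579a709c) (.leaf (nat_lit 0x656d75cfe) (nat_lit 2818))
 (.leaf (nat_lit 0x6579a709c) (nat_lit 1795))
)) (.node (nat_lit 0x66359615a) (.node (nat_lit 0x662d751da) (.leaf (nat_lit 0x66255415a) (nat_lit 3077))
 (.leaf (nat_lit 0x662d751da) (nat_lit 2818))
) (.node (nat_lit 0x663db71da) (.leaf (nat_lit 0x66359615a) (nat_lit 2307))
 (.leaf (nat_lit 0x663db71da) (nat_lit 1796))
))) (.node (nat_lit 0x672d755fe) (.node (nat_lit 0x667596d6a) (.node (nat_lit 0x666965da8) (.leaf (nat_lit 0x66655415a) (nat_lit 2563))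
 (.leaf (nat_lit 0x666965da8) (nat_lit 2307))
) (.node (nat_lit 0x67255415e) (.leaf (nat_lit 0x667596d6a) (nat_lit 1283))
 (.leaf (nat_lit 0x67255415e) (nat_lit 3077))
)) (.node (nat_lit 0x6739a75ac) (.node (nat_lit 0x67318610c) (.leaf (nat_lit 0x672d755fe) (nat_lit 2565))
 (.leaf (nat_lit 0x67318610c) (nat_lit 2819))
) (.node (nat_lit 0x67655415e) (.leaf (nat_lit 0x6739a75ac) (nat_lit 2563))
 (.leaf (nat_lit 0x67655415e) (nat_lit 3075))
)))) (.node (nat_lit 0x692b6188c) (.node (nat_lit 0x685282808) (.node (nat_lit 0x677186d3c) (.leaf (nat_lit 0x67696598c) (nat_lit 2563))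
 (.node (nat_lit 0x684210858) (.leaf (nat_lit 0x677186d3c) (nat_lit 1795))
 (.leaf (nat_lit 0x684210858) (nat_lit 2816))
)) (.node (nat_lit 0x692361c2c) (.node (nat_lit 0x68565284a) (.leaf (nat_lit 0x685282808) (nat_lit 2560))
 (.leaf (nat_lit 0x68565284a) (nat_lit 3076))
) (.node (nat_lit 0x6927e143e) (.leaf (nat_lit 0x692361c2c) (nat_lit 2817))
 (.leaf (nat_lit 0x6927e143e) (nat_lit 2049))
))) (.node (nat_lit 0x697f2309e) (.node (nat_lit 0x6967b146e) (.node (nat_lit 0x692fe109e) (.leaf (nat_lit 0x692b6188c) (nat_lit 2817))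
 (.leaf (nat_lit 0x692fe109e) (nat_lit 2563))
) (.node (nat_lit 0x697bd2cfc) (.leaf (nat_lit 0x6967b146e) (nat_lit 3072))
 (.leaf (nat_lit 0x697bd2cfc) (nat_lit 2820))
)) (.node (nat_lit 0x6a0a311d8) (.node (nat_lit 0x6a0210958) (.leaf (nat_lit 0x697f2309e) (nat_lit 2563))
 (.leaf (nat_lit 0x6a0210958) (nat_lit 2050))
) (.node (nat_lit 0x6a1282908) (.leaf (nat_lit 0x6a0a311d8) (nat_lit 2052))
 (.leaf (nat_lit 0x6a1282908) (nat_lit 1794))
)))))) (.node (nat_lit 0x6d0ee509e) (.node (nat_lit 0x6b3bd25fc) (.node (nat_lit 0x6a1af39d8) (.node (nat_lit 0x6a165294a) (.node (nat_lit 0x6a12f3578) (.leaf (nat_lit 0x6a12a3528) (nat_lit 2050))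
 (.node (nat_lit 0x6a12f3d78) (.leaf (nat_lit 0x6a12f3578) (nat_lit 2050))
 (.leaf (nat_lit 0x6a12f3d78) (nat_lit 1797))
)) (.node (nat_lit 0x6a1ad2df8) (.node (nat_lit 0x6a1ad25f8) (.leaf (nat_lit 0x6a165294a) (nat_lit 2051))
 (.leaf (nat_lit 0x6a1ad25f8) (nat_lit 1794))
) (.node (nat_lit 0x6a1af31d8) (.leaf (nat_lit 0x6a1ad2df8) (nat_lit 2307))
 (.leaf (nat_lit 0x6a1af31d8) (nat_lit 2050))
))) (.node (nat_lit 0x6a5282108) (.node (nat_lit 0x6a1e525ea) (.leaf (nat_lit 0x6a1af39d8) (nat_lit 2048))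
 (.node (nat_lit 0x6a4210158) (.leaf (nat_lit 0x6a1e525ea) (nat_lit 2052))
 (.leaf (nat_lit 0x6a4210158) (nat_lit 2816))
)) (.node (nat_lit 0x6b33d215c) (.node (nat_lit 0x6a565214a) (.leaf (nat_lit 0x6a5282108) (nat_lit 2560))
 (.leaf (nat_lit 0x6a565214a) (nat_lit 3074))
) (.node (nat_lit 0x6b375214e) (.leaf (nat_lit 0x6b33d215c) (nat_lit 2820))
 (.leaf (nat_lit 0x6b375214e) (nat_lit 3077))
)))) (.node (nat_lit 0x6c3727c3a) (.node (nat_lit 0x6b73d215c) (.node (nat_lit 0x6b3f525ee) (.leaf (nat_lit 0x6b3bd25fc) (nat_lit 2562))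
 (.node (nat_lit 0x6b6fb19ce) (.leaf (nat_lit 0x6b3f525ee) (nat_lit 2820))
 (.leaf (nat_lit 0x6b6fb19ce) (nat_lit 3077))
)) (.node (nat_lit 0x6c27e543a) (.node (nat_lit 0x6b7723d3e) (.leaf (nat_lit 0x6b73d215c) (nat_lit 3330))
 (.leaf (nat_lit 0x6b7723d3e) (nat_lit 2051))
) (.node (nat_lit 0x6c2fc44ba) (.leaf (nat_lit 0x6c27e543a) (nat_lit 1792))
 (.leaf (nat_lit 0x6c2fc44ba) (nat_lit 2560))
))) (.node (nat_lit 0x6c7bf78d8) (.node (nat_lit 0x6c67b546a) (.node (nat_lit 0x6c3f06cba) (.leaf (nat_lit 0x6c3727c3a) (nat_lit 3076))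
 (.leaf (nat_lit 0x6c3f06cba) (nat_lit 3077))
) (.node (nat_lit 0x6c6b444a8) (.leaf (nat_lit 0x6c67b546a) (nat_lit 2817))
 (.leaf (nat_lit 0x6c6b444a8) (nat_lit 2307))
)) (.node (nat_lit 0x6d0eb58ce) (.node (nat_lit 0x6d0e94cee) (.leaf (nat_lit 0x6c7bf78d8) (nat_lit 2560))
 (.leaf (nat_lit 0x6d0e94cee) (nat_lit 2563))
) (.node (nat_lit 0x6d0ec44be) (.leaf (nat_lit 0x6d0eb58ce) (nat_lit 2307))
 (.leaf (nat_lit 0x6d0ec44be) (nat_lit 1797))
))))) (.node (nat_lit 0x6f4a6598c) (.node (nat_lit 0x6e3bf71d8) (.node (nat_lit 0x6d5e2709e) (.node (nat_lit 0x6d4a444ac) (.leaf (nat_lit 0x6d0ee509e) (nat_lit 2053))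
 (.node (nat_lit 0x6d52f7c7c) (.leaf (nat_lit 0x6d4a444ac) (nat_lit 2820))
 (.leaf (nat_lit 0x6d52f7c7c) (nat_lit 2304))
)) (.node (nat_lit 0x6e2b351d8) (.node (nat_lit 0x6e2314158) (.leaf (nat_lit 0x6d5e2709e) (nat_lit 2562))
 (.leaf (nat_lit 0x6e2314158) (nat_lit 2821))
) (.node (nat_lit 0x6e33d6158) (.leaf (nat_lit 0x6e2b351d8) (nat_lit 2565))
 (.leaf (nat_lit 0x6e33d6158) (nat_lit 3076))
))) (.node (nat_lit 0x6f128610c) (.node (nat_lit 0x6e6f94dea) (.node (nat_lit 0x6e6365d28) (.leaf (nat_lit 0x6e3bf71d8) (nat_lit 2562))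
 (.leaf (nat_lit 0x6e6365d28) (nat_lit 2053))
) (.node (nat_lit 0x6e73d6158) (.leaf (nat_lit 0x6e6f94dea) (nat_lit 2818))
 (.leaf (nat_lit 0x6e73d6158) (nat_lit 3072))
)) (.node (nat_lit 0x6f12d615c) (.node (nat_lit 0x6f12a752c) (.leaf (nat_lit 0x6f128610c) (nat_lit 2816))
 (.leaf (nat_lit 0x6f12a752c) (nat_lit 2560))
) (.node (nat_lit 0x6f12f757c) (.leaf (nat_lit 0x6f12d615c) (nat_lit 2819))
 (.leaf (nat_lit 0x6f12f757c) (nat_lit 2051))
)))) (.node (nat_lit 0x70d812ce8) (.node (nat_lit 0x708421c3a) (.node (nat_lit 0x6f52d615c) (.leaf (nat_lit 0x6f4a6598c) (nat_lit 2816))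
 (.node (nat_lit 0x6f5e06dbe) (.leaf (nat_lit 0x6f52d615c) (nat_lit 2816))
 (.leaf (nat_lit 0x6f5e06dbe) (nat_lit 3075))
)) (.node (nat_lit 0x708ca14aa) (.node (nat_lit 0x7088a1098) (.leaf (nat_lit 0x708421c3a) (nat_lit 1797))
 (.leaf (nat_lit 0x7088a1098) (nat_lit 2309))
) (.node (nat_lit 0x70d802888) (.leaf (nat_lit 0x708ca14aa) (nat_lit 2817))
 (.leaf (nat_lit 0x70d802888) (nat_lit 2565))
))) (.node (nat_lit 0x7190e380c) (.node (nat_lit 0x70d8734f8) (.node (nat_lit 0x70d863098) (.leaf (nat_lit 0x70d812ce8) (nat_lit 2053))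
 (.leaf (nat_lit 0x70d863098) (nat_lit 2053))
) (.node (nat_lit 0x71843184e) (.leaf (nat_lit 0x70d8734f8) (nat_lit 2309))
 (.leaf (nat_lit 0x71843184e) (nat_lit 1797))
)) (.node (nat_lit 0x72a55015a) (.node (nat_lit 0x7194f385e) (.leaf (nat_lit 0x7190e380c) (nat_lit 2816))
 (.leaf (nat_lit 0x7194f385e) (nat_lit 2309))
) (.node (nat_lit 0x72b1f3d78) (.leaf (nat_lit 0x72a55015a) (nat_lit 3333))
 (.leaf (nat_lit 0x72b1f3d78) (nat_lit 2053))
)))))))) (.node (nat_lit 0x840465a12) (.node (nat_lit 0x7ab3d2158) (.node (nat_lit 0x76c44452a) (.node (nat_lit 0x74bd06cba) (.node (nat_lit 0x73b912dec) (.node (nat_lit 0x72f182108) (.node (nat_lit 0x72e55015a) (.leaf (nat_lit 0x72b902988) (nat_lit 2821))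
 (.node (nat_lit 0x72e9b15e8) (.leaf (nat_lit 0x72e55015a) (nat_lit 2819))
 (.leaf (nat_lit 0x72e9b15e8) (nat_lit 2821))
)) (.node (nat_lit 0x73a55015e) (.node (nat_lit 0x72fd635ba) (.leaf (nat_lit 0x72f182108) (nat_lit 3077))
 (.leaf (nat_lit 0x72fd635ba) (nat_lit 2304))
) (.node (nat_lit 0x73b5e3d2e) (.leaf (nat_lit 0x73a55015e) (nat_lit 2821))
 (.leaf (nat_lit 0x73b5e3d2e) (nat_lit 1541))
))) (.node (nat_lit 0x73f59215e) (.node (nat_lit 0x73e55015e) (.leaf (nat_lit 0x73b912dec) (nat_lit 2565))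
 (.node (nat_lit 0x73edb11de) (.leaf (nat_lit 0x73e55015e) (nat_lit 2819))
 (.leaf (nat_lit 0x73edb11de) (nat_lit 2053))
)) (.node (nat_lit 0x74a154468) (.node (nat_lit 0x73fd731de) (.leaf (nat_lit 0x73f59215e) (nat_lit 2565))
 (.leaf (nat_lit 0x73fd731de) (nat_lit 2816))
) (.node (nat_lit 0x74a9a5098) (.leaf (nat_lit 0x74a154468) (nat_lit 2565))
 (.leaf (nat_lit 0x74a9a5098) (nat_lit 2053))
)))) (.node (nat_lit 0x75bd168de) (.node (nat_lit 0x74f5e7c2a) (.node (nat_lit 0x74e154478) (.leaf (nat_lit 0x74bd06cba) (nat_lit 3077))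
 (.node (nat_lit 0x74edd48ca) (.leaf (nat_lit 0x74e154478) (nat_lit 2820))
 (.leaf (nat_lit 0x74edd48ca) (nat_lit 2565))
)) (.node (nat_lit 0x75a15446c) (.node (nat_lit 0x74f967098) (.leaf (nat_lit 0x74f5e7c2a) (nat_lit 2565))
 (.leaf (nat_lit 0x74f967098) (nat_lit 2820))
) (.node (nat_lit 0x75ada54ae) (.leaf (nat_lit 0x75a15446c) (nat_lit 2821))
 (.leaf (nat_lit 0x75ada54ae) (nat_lit 2053))
))) (.node (nat_lit 0x75f9774fc) (.node (nat_lit 0x75e9d4cfc) (.node (nat_lit 0x75e15447c) (.leaf (nat_lit 0x75bd168de) (nat_lit 2309))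
 (.leaf (nat_lit 0x75e15447c) (nat_lit 2307))
) (.node (nat_lit 0x75f1f7c7c) (.leaf (nat_lit 0x75e9d4cfc) (nat_lit 2820))
 (.leaf (nat_lit 0x75f1f7c7c) (nat_lit 2817))
)) (.node (nat_lit 0x7688d4df8) (.node (nat_lit 0x76845415a) (.leaf (nat_lit 0x75f9774fc) (nat_lit 2560))
 (.leaf (nat_lit 0x76845415a) (nat_lit 2309))
) (.node (nat_lit 0x768cd49ca) (.leaf (nat_lit 0x7688d4df8) (nat_lit 2821))
 (.leaf (nat_lit 0x768cd49ca) (nat_lit 2821))
))))) (.node (nat_lit 0x77dc06dbe) (.node (nat_lit 0x77c425d3e) (.node (nat_lit 0x76c45415a) (.node (nat_lit 0x76c44453a) (.leaf (nat_lit 0x76c44452a) (nat_lit 2308))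
 (.node (nat_lit 0x76c45414a) (.leaf (nat_lit 0x76c44453a) (nat_lit 1536))
 (.leaf (nat_lit 0x76c45414a) (nat_lit 2309))
)) (.node (nat_lit 0x77908610c) (.node (nat_lit 0x77845414e) (.leaf (nat_lit 0x76c45415a) (nat_lit 1796))
 (.leaf (nat_lit 0x77845414e) (nat_lit 1797))
) (.node (nat_lit 0x77949615e) (.leaf (nat_lit 0x77908610c) (nat_lit 3077))
 (.leaf (nat_lit 0x77949615e) (nat_lit 2565))
))) (.node (nat_lit 0x77c8b55ec) (.node (nat_lit 0x77c44452e) (.node (nat_lit 0x77c43594e) (.leaf (nat_lit 0x77c425d3e) (nat_lit 1285))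
 (.leaf (nat_lit 0x77c43594e) (nat_lit 1284))
) (.node (nat_lit 0x77c44453e) (.leaf (nat_lit 0x77c44452e) (nat_lit 1541))
 (.leaf (nat_lit 0x77c44453e) (nat_lit 1029))
)) (.node (nat_lit 0x77d0e790c) (.node (nat_lit 0x77ccb51de) (.leaf (nat_lit 0x77c8b55ec) (nat_lit 2309))
 (.leaf (nat_lit 0x77ccb51de) (nat_lit 1797))
) (.node (nat_lit 0x77d4f795e) (.leaf (nat_lit 0x77d0e790c) (nat_lit 2309))
 (.leaf (nat_lit 0x77d4f795e) (nat_lit 1797))
)))) (.node (nat_lit 0x78c210c68) (.node (nat_lit 0x77dc771de) (.node (nat_lit 0x77dc169de) (.leaf (nat_lit 0x77dc06dbe) (nat_lit 2819))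
 (.node (nat_lit 0x77dc675be) (.leaf (nat_lit 0x77dc169de) (nat_lit 2053))
 (.leaf (nat_lit 0x77dc675be) (nat_lit 2053))
)) (.node (nat_lit 0x788aa1cb8) (.node (nat_lit 0x7886a142a) (.leaf (nat_lit 0x77dc771de) (nat_lit 2309))
 (.leaf (nat_lit 0x7886a142a) (nat_lit 2819))
) (.node (nat_lit 0x788e2109a) (.leaf (nat_lit 0x788aa1cb8) (nat_lit 2819))
 (.leaf (nat_lit 0x788e2109a) (nat_lit 2307))
))) (.node (nat_lit 0x79a37185c) (.node (nat_lit 0x78da02888) (.node (nat_lit 0x78c6f147a) (.leaf (nat_lit 0x78c210c68) (nat_lit 3076))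
 (.leaf (nat_lit 0x78c6f147a) (nat_lit 1793))
) (.node (nat_lit 0x78dee309a) (.leaf (nat_lit 0x78da02888) (nat_lit 2817))
 (.leaf (nat_lit 0x78dee309a) (nat_lit 2304))
)) (.node (nat_lit 0x79b73384e) (.node (nat_lit 0x79b3e380c) (.leaf (nat_lit 0x79a37185c) (nat_lit 2564))
 (.leaf (nat_lit 0x79b3e380c) (nat_lit 2563))
) (.node (nat_lit 0x7aaf71dfa) (.leaf (nat_lit 0x79b73384e) (nat_lit 3330))
 (.leaf (nat_lit 0x7aaf71dfa) (nat_lit 3073))
)))))) (.node (nat_lit 0x7e9ed69ca) (.node (nat_lit 0x7cb386c38) (.node (nat_lit 0x7b92d215c) (.node (nat_lit 0x7af3b3568) (.node (nat_lit 0x7abb02988) (.leaf (nat_lit 0x7ab3d2158) (nat_lit 2816))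
 (.node (nat_lit 0x7af382108) (.leaf (nat_lit 0x7abb02988) (nat_lit 2816))
 (.leaf (nat_lit 0x7af382108) (nat_lit 3072))
)) (.node (nat_lit 0x7af3e3538) (.node (nat_lit 0x7af3d2158) (.leaf (nat_lit 0x7af3b3568) (nat_lit 2816))
 (.leaf (nat_lit 0x7af3d2158) (nat_lit 2820))
) (.node (nat_lit 0x7b8210d6c) (.leaf (nat_lit 0x7af3e3538) (nat_lit 2306))
 (.leaf (nat_lit 0x7b8210d6c) (nat_lit 1795))
))) (.node (nat_lit 0x7bcaf11dc) (.node (nat_lit 0x7b9ee3dae) (.leaf (nat_lit 0x7b92d215c) (nat_lit 2820))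
 (.node (nat_lit 0x7bc21015c) (.leaf (nat_lit 0x7b9ee3dae) (nat_lit 2819))
 (.leaf (nat_lit 0x7bc21015c) (nat_lit 2564))
)) (.node (nat_lit 0x7bda331dc) (.node (nat_lit 0x7bd2d215c) (.leaf (nat_lit 0x7bcaf11dc) (nat_lit 2561))
 (.leaf (nat_lit 0x7bd2d215c) (nat_lit 3072))
) (.node (nat_lit 0x7caf2509a) (.leaf (nat_lit 0x7bda331dc) (nat_lit 2308))
 (.leaf (nat_lit 0x7caf2509a) (nat_lit 2821))
)))) (.node (nat_lit 0x7d8a948dc) (.node (nat_lit 0x7cffd68ca) (.node (nat_lit 0x7cbb564e8) (.leaf (nat_lit 0x7cb386c38) (nat_lit 2563))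
 (.node (nat_lit 0x7cffd64fa) (.leaf (nat_lit 0x7cbb564e8) (nat_lit 2820))
 (.leaf (nat_lit 0x7cffd64fa) (nat_lit 1540))
)) (.node (nat_lit 0x7cffe7caa) (.node (nat_lit 0x7cffe709a) (.leaf (nat_lit 0x7cffd68ca) (nat_lit 2051))
 (.leaf (nat_lit 0x7cffe709a) (nat_lit 1795))
) (.node (nat_lit 0x7d86a542e) (.leaf (nat_lit 0x7cffe7caa) (nat_lit 2307))
 (.leaf (nat_lit 0x7d86a542e) (nat_lit 3073))
))) (.node (nat_lit 0x7dd656c7e) (.node (nat_lit 0x7dc6f547e) (.node (nat_lit 0x7d9a564ec) (.leaf (nat_lit 0x7d8a948dc) (nat_lit 2564))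
 (.leaf (nat_lit 0x7d9a564ec) (nat_lit 2051))
) (.node (nat_lit 0x7dce75cfe) (.leaf (nat_lit 0x7dc6f547e) (nat_lit 2048))
 (.leaf (nat_lit 0x7dce75cfe) (nat_lit 2819))
)) (.node (nat_lit 0x7e92d6158) (.node (nat_lit 0x7dded64fe) (.leaf (nat_lit 0x7dd656c7e) (nat_lit 2820))
 (.leaf (nat_lit 0x7dded64fe) (nat_lit 2308))
) (.node (nat_lit 0x7e9656d7a) (.leaf (nat_lit 0x7e92d6158) (nat_lit 3076))
 (.leaf (nat_lit 0x7e9656d7a) (nat_lit 1795))
))))) (.node (nat_lit 0x7ff3b756c) (.node (nat_lit 0x7fb75614e) (.node (nat_lit 0x7ed2d6158) (.node (nat_lit 0x7ecac45b8) (.leaf (nat_lit 0x7e9ed69ca) (nat_lit 2820))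
 (.node (nat_lit 0x7ece445aa) (.leaf (nat_lit 0x7ecac45b8) (nat_lit 2816))
 (.leaf (nat_lit 0x7ece445aa) (nat_lit 3076))
)) (.node (nat_lit 0x7fa31415c) (.node (nat_lit 0x7ed65614a) (.leaf (nat_lit 0x7ed2d6158) (nat_lit 3076))
 (.leaf (nat_lit 0x7ed65614a) (nat_lit 2820))
) (.node (nat_lit 0x7fb38610c) (.leaf (nat_lit 0x7fa31415c) (nat_lit 2819))
 (.leaf (nat_lit 0x7fb38610c) (nat_lit 2563))
))) (.node (nat_lit 0x7febc45bc) (.node (nat_lit 0x7feb949dc) (.node (nat_lit 0x7fe37595c) (.leaf (nat_lit 0x7fb75614e) (nat_lit 3076))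
 (.leaf (nat_lit 0x7fe37595c) (nat_lit 2051))
) (.node (nat_lit 0x7feba5dbc) (.leaf (nat_lit 0x7feb949dc) (nat_lit 2309))
 (.leaf (nat_lit 0x7feba5dbc) (nat_lit 2563))
)) (.node (nat_lit 0x7fef445ae) (.node (nat_lit 0x7febf51dc) (.leaf (nat_lit 0x7febc45bc) (nat_lit 2053))
 (.leaf (nat_lit 0x7febf51dc) (nat_lit 2309))
) (.node (nat_lit 0x7ff386d3c) (.leaf (nat_lit 0x7fef445ae) (nat_lit 2309))
 (.leaf (nat_lit 0x7ff386d3c) (nat_lit 1539))
)))) (.node (nat_lit 0x8400c4a10) (.node (nat_lit 0x7ff73794e) (.node (nat_lit 0x7ff3e753c) (.leaf (nat_lit 0x7ff3b756c) (nat_lit 1795))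
 (.node (nat_lit 0x7ff3e790c) (.leaf (nat_lit 0x7ff3e753c) (nat_lit 1795))
 (.leaf (nat_lit 0x7ff3e790c) (nat_lit 1795))
)) (.node (nat_lit 0x840084210) (.node (nat_lit 0x7ffb371dc) (.leaf (nat_lit 0x7ff73794e) (nat_lit 2307))
 (.leaf (nat_lit 0x7ffb371dc) (nat_lit 2307))
) (.node (nat_lit 0x8400a5210) (.leaf (nat_lit 0x840084210) (nat_lit 2565))
 (.leaf (nat_lit 0x8400a5210) (nat_lit 2565))
))) (.node (nat_lit 0x840425212) (.node (nat_lit 0x840404212) (.node (nat_lit 0x8400e5a10) (.leaf (nat_lit 0x8400c4a10) (nat_lit 2309))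
 (.leaf (nat_lit 0x8400e5a10) (nat_lit 2565))
) (.node (nat_lit 0x840414672) (.leaf (nat_lit 0x840404212) (nat_lit 2053))
 (.leaf (nat_lit 0x840414672) (nat_lit 1285))
)) (.node (nat_lit 0x840444a12) (.node (nat_lit 0x840435672) (.leaf (nat_lit 0x840425212) (nat_lit 1797))
 (.leaf (nat_lit 0x840435672) (nat_lit 1029))
) (.node (nat_lit 0x840454e72) (.leaf (nat_lit 0x840444a12) (nat_lit 773))
 (.leaf (nat_lit 0x840454e72) (nat_lit 1541))
))))))) (.node (nat_lit 0x8b6fb17f6) (.node (nat_lit 0x841c37ad2) (.node (nat_lit 0x841086e30) (.node (nat_lit 0x8408b5ad0) (.node (nat_lit 0x8404a5202) (.node (nat_lit 0x840475e72) (.leaf (nat_lit 0x840465a12) (nat_lit 1029))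
 (.node (nat_lit 0x840484202) (.leaf (nat_lit 0x840475e72) (nat_lit 1797))
 (.leaf (nat_lit 0x840484202) (nat_lit 3587))
)) (.node (nat_lit 0x8404e5a02) (.node (nat_lit 0x8404c4a02) (.leaf (nat_lit 0x8404a5202) (nat_lit 3331))
 (.leaf (nat_lit 0x8404c4a02) (nat_lit 2309))
) (.node (nat_lit 0x840894ad0) (.leaf (nat_lit 0x8404e5a02) (nat_lit 2565))
 (.leaf (nat_lit 0x840894ad0) (nat_lit 2307))
))) (.node (nat_lit 0x840c94ee2) (.node (nat_lit 0x8408d42d0) (.leaf (nat_lit 0x8408b5ad0) (nat_lit 2309))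
 (.node (nat_lit 0x8408f52d0) (.leaf (nat_lit 0x8408d42d0) (nat_lit 2309))
 (.leaf (nat_lit 0x8408f52d0) (nat_lit 2565))
)) (.node (nat_lit 0x840cd46e2) (.node (nat_lit 0x840cb5ee2) (.leaf (nat_lit 0x840c94ee2) (nat_lit 2307))
 (.leaf (nat_lit 0x840cb5ee2) (nat_lit 2051))
) (.node (nat_lit 0x840cf56e2) (.leaf (nat_lit 0x840cd46e2) (nat_lit 2053))
 (.leaf (nat_lit 0x840cf56e2) (nat_lit 2309))
)))) (.node (nat_lit 0x8414f7662) (.node (nat_lit 0x8410e7630) (.node (nat_lit 0x8410a7e30) (.leaf (nat_lit 0x841086e30) (nat_lit 2309))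
 (.node (nat_lit 0x8410c6630) (.leaf (nat_lit 0x8410a7e30) (nat_lit 2565))
 (.leaf (nat_lit 0x8410c6630) (nat_lit 2565))
)) (.node (nat_lit 0x8414b7e62) (.node (nat_lit 0x841496e62) (.leaf (nat_lit 0x8410e7630) (nat_lit 2565))
 (.leaf (nat_lit 0x841496e62) (nat_lit 1797))
) (.node (nat_lit 0x8414d6662) (.leaf (nat_lit 0x8414b7e62) (nat_lit 2053))
 (.leaf (nat_lit 0x8414d6662) (nat_lit 2563))
))) (.node (nat_lit 0x8418f7ef0) (.node (nat_lit 0x8418b76f0) (.node (nat_lit 0x8418966f0) (.leaf (nat_lit 0x8414f7662) (nat_lit 2307))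
 (.leaf (nat_lit 0x8418966f0) (nat_lit 2309))
) (.node (nat_lit 0x8418d6ef0) (.leaf (nat_lit 0x8418b76f0) (nat_lit 2053))
 (.leaf (nat_lit 0x8418d6ef0) (nat_lit 2819))
)) (.node (nat_lit 0x841c16ad2) (.node (nat_lit 0x841c06eb2) (.leaf (nat_lit 0x8418f7ef0) (nat_lit 2563))
 (.leaf (nat_lit 0x841c06eb2) (nat_lit 2307))
) (.node (nat_lit 0x841c27eb2) (.leaf (nat_lit 0x841c16ad2) (nat_lit 1283))
 (.leaf (nat_lit 0x841c27eb2) (nat_lit 2051))
))))) (.node (nat_lit 0x897792a56) (.node (nat_lit 0x841cc6a82) (.node (nat_lit 0x841c676b2) (.node (nat_lit 0x841c466b2) (.leaf (nat_lit 0x841c37ad2) (nat_lit 1539))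
 (.node (nat_lit 0x841c562d2) (.leaf (nat_lit 0x841c466b2) (nat_lit 1027))
 (.leaf (nat_lit 0x841c562d2) (nat_lit 2051))
)) (.node (nat_lit 0x841c86282) (.node (nat_lit 0x841c772d2) (.leaf (nat_lit 0x841c676b2) (nat_lit 1283))
 (.leaf (nat_lit 0x841c772d2) (nat_lit 1795))
) (.node (nat_lit 0x841ca7282) (.leaf (nat_lit 0x841c86282) (nat_lit 3333))
 (.leaf (nat_lit 0x841ca7282) (nat_lit 3077))
))) (.node (nat_lit 0x895233a54) (.node (nat_lit 0x894210a54) (.node (nat_lit 0x841ce7a82) (.leaf (nat_lit 0x841cc6a82) (nat_lit 2563))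
 (.leaf (nat_lit 0x841ce7a82) (nat_lit 2819))
) (.node (nat_lit 0x894ad02d4) (.leaf (nat_lit 0x894210a54) (nat_lit 2565))
 (.leaf (nat_lit 0x894ad02d4) (nat_lit 2306))
)) (.node (nat_lit 0x8967b1a56) (.node (nat_lit 0x895af32d4) (.leaf (nat_lit 0x895233a54) (nat_lit 2563))
 (.leaf (nat_lit 0x895af32d4) (nat_lit 2562))
) (.node (nat_lit 0x896f712d6) (.leaf (nat_lit 0x8967b1a56) (nat_lit 2048))
 (.leaf (nat_lit 0x896f712d6) (nat_lit 2561))
)))) (.node (nat_lit 0x8a12d2760) (.node (nat_lit 0x8a02f1760) (.node (nat_lit 0x897f522d6) (.leaf (nat_lit 0x897792a56) (nat_lit 1793))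
 (.node (nat_lit 0x8a0210f60) (.leaf (nat_lit 0x897f522d6) (nat_lit 2816))
 (.leaf (nat_lit 0x8a0210f60) (nat_lit 2048))
)) (.node (nat_lit 0x8a0ad07e0) (.node (nat_lit 0x8a0a31fe0) (.leaf (nat_lit 0x8a02f1760) (nat_lit 2050))
 (.leaf (nat_lit 0x8a0a31fe0) (nat_lit 2050))
) (.node (nat_lit 0x8a1233f60) (.leaf (nat_lit 0x8a0ad07e0) (nat_lit 1794))
 (.leaf (nat_lit 0x8a1233f60) (nat_lit 1793))
))) (.node (nat_lit 0x8b4ad0ff4) (.node (nat_lit 0x8a1af37e0) (.node (nat_lit 0x8a1a12fe0) (.leaf (nat_lit 0x8a12d2760) (nat_lit 2052))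
 (.leaf (nat_lit 0x8a1a12fe0) (nat_lit 1794))
) (.node (nat_lit 0x8b4210774) (.leaf (nat_lit 0x8a1af37e0) (nat_lit 2050))
 (.leaf (nat_lit 0x8b4210774) (nat_lit 2307))
)) (.node (nat_lit 0x8b5af3ff4) (.node (nat_lit 0x8b5233774) (.leaf (nat_lit 0x8b4ad0ff4) (nat_lit 2818))
 (.leaf (nat_lit 0x8b5233774) (nat_lit 2051))
) (.node (nat_lit 0x8b6771f76) (.leaf (nat_lit 0x8b5af3ff4) (nat_lit 3074))
 (.leaf (nat_lit 0x8b6771f76) (nat_lit 2561))
)))))) (.node (nat_lit 0x90a9f12d0) (.node (nat_lit 0x8d6704216) (.node (nat_lit 0x8c3746a02) (.node (nat_lit 0x8c2765a02) (.node (nat_lit 0x8b7752f76) (.leaf (nat_lit 0x8b6fb17f6) (nat_lit 2309))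
 (.node (nat_lit 0x8b7f927f6) (.leaf (nat_lit 0x8b7752f76) (nat_lit 2816))
 (.leaf (nat_lit 0x8b7f927f6) (nat_lit 2305))
)) (.node (nat_lit 0x8c2f44a82) (.node (nat_lit 0x8c2784202) (.leaf (nat_lit 0x8c2765a02) (nat_lit 2821))
 (.leaf (nat_lit 0x8c2784202) (nat_lit 2821))
) (.node (nat_lit 0x8c2fa5282) (.leaf (nat_lit 0x8c2f44a82) (nat_lit 2821))
 (.leaf (nat_lit 0x8c2fa5282) (nat_lit 2821))
))) (.node (nat_lit 0x8d4284214) (.node (nat_lit 0x8c3f67a82) (.node (nat_lit 0x8c37a7202) (.leaf (nat_lit 0x8c3746a02) (nat_lit 2565))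
 (.leaf (nat_lit 0x8c37a7202) (nat_lit 2565))
) (.node (nat_lit 0x8c3f86282) (.leaf (nat_lit 0x8c3f67a82) (nat_lit 3077))
 (.leaf (nat_lit 0x8c3f86282) (nat_lit 3075))
)) (.node (nat_lit 0x8d52a7214) (.node (nat_lit 0x8d4a44a94) (.leaf (nat_lit 0x8d4284214) (nat_lit 2561))
 (.leaf (nat_lit 0x8d4a44a94) (nat_lit 2563))
) (.node (nat_lit 0x8d5a67a94) (.leaf (nat_lit 0x8d52a7214) (nat_lit 2816))
 (.leaf (nat_lit 0x8d5a67a94) (nat_lit 2561))
)))) (.node (nat_lit 0x8f5a467b4) (.node (nat_lit 0x8d7fe7a96) (.node (nat_lit 0x8d6fc4a96) (.leaf (nat_lit 0x8d6704216) (nat_lit 2563))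
 (.node (nat_lit 0x8d7727216) (.leaf (nat_lit 0x8d6fc4a96) (nat_lit 2561))
 (.leaf (nat_lit 0x8d7727216) (nat_lit 2307))
)) (.node (nat_lit 0x8f4a657b4) (.node (nat_lit 0x8f42a5f34) (.leaf (nat_lit 0x8d7fe7a96) (nat_lit 2817))
 (.leaf (nat_lit 0x8f42a5f34) (nat_lit 2049))
) (.node (nat_lit 0x8f5286f34) (.leaf (nat_lit 0x8f4a657b4) (nat_lit 2565))
 (.leaf (nat_lit 0x8f5286f34) (nat_lit 2304))
))) (.node (nat_lit 0x8f7f06fb6) (.node (nat_lit 0x8f6f25fb6) (.node (nat_lit 0x8f67e5736) (.leaf (nat_lit 0x8f5a467b4) (nat_lit 2309))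
 (.leaf (nat_lit 0x8f67e5736) (nat_lit 2564))
) (.node (nat_lit 0x8f77c6736) (.leaf (nat_lit 0x8f6f25fb6) (nat_lit 3076))
 (.leaf (nat_lit 0x8f77c6736) (nat_lit 2309))
)) (.node (nat_lit 0x908421212) (.node (nat_lit 0x9080a1210) (.leaf (nat_lit 0x8f7f06fb6) (nat_lit 2819))
 (.leaf (nat_lit 0x9080a1210) (nat_lit 3072))
) (.node (nat_lit 0x9084a1202) (.leaf (nat_lit 0x908421212) (nat_lit 2053))
 (.leaf (nat_lit 0x9084a1202) (nat_lit 3587))
))))) (.node (nat_lit 0x93c471f76) (.node (nat_lit 0x91b9b36f4) (.node (nat_lit 0x918431676) (.node (nat_lit 0x90bd732d2) (.leaf (nat_lit 0x90a9f12d0) (nat_lit 2561))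
 (.node (nat_lit 0x90bda3282) (.leaf (nat_lit 0x90bd732d2) (nat_lit 2562))
 (.leaf (nat_lit 0x90bda3282) (nat_lit 3333))
)) (.node (nat_lit 0x9194f3666) (.node (nat_lit 0x9190e3634) (.leaf (nat_lit 0x918431676) (nat_lit 2048))
 (.leaf (nat_lit 0x9190e3634) (nat_lit 2565))
) (.node (nat_lit 0x91adf16e6) (.leaf (nat_lit 0x9194f3666) (nat_lit 2819))
 (.leaf (nat_lit 0x91adf16e6) (nat_lit 2561))
))) (.node (nat_lit 0x92c4e1b02) (.node (nat_lit 0x92c0e1b10) (.node (nat_lit 0x91bd636b6) (.leaf (nat_lit 0x91b9b36f4) (nat_lit 2560))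
 (.leaf (nat_lit 0x91bd636b6) (nat_lit 2564))
) (.node (nat_lit 0x92c461b12) (.leaf (nat_lit 0x92c0e1b10) (nat_lit 2563))
 (.leaf (nat_lit 0x92c461b12) (nat_lit 1025))
)) (.node (nat_lit 0x92fd33bd2) (.node (nat_lit 0x92e9b1bd0) (.leaf (nat_lit 0x92c4e1b02) (nat_lit 2561))
 (.leaf (nat_lit 0x92e9b1bd0) (nat_lit 2560))
) (.node (nat_lit 0x92fde3b82) (.leaf (nat_lit 0x92fd33bd2) (nat_lit 2053))
 (.leaf (nat_lit 0x92fde3b82) (nat_lit 3330))
)))) (.node (nat_lit 0x948404212) (.node (nat_lit 0x93edb1fe6) (.node (nat_lit 0x93d0a3f34) (.leaf (nat_lit 0x93c471f76) (nat_lit 1793))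
 (.node (nat_lit 0x93d4b3f66) (.leaf (nat_lit 0x93d0a3f34) (nat_lit 2305))
 (.leaf (nat_lit 0x93d4b3f66) (nat_lit 2305))
)) (.node (nat_lit 0x93fd23fb6) (.node (nat_lit 0x93f9f3ff4) (.leaf (nat_lit 0x93edb1fe6) (nat_lit 2821))
 (.leaf (nat_lit 0x93f9f3ff4) (nat_lit 3075))
) (.node (nat_lit 0x948084210) (.leaf (nat_lit 0x93fd23fb6) (nat_lit 2307))
 (.leaf (nat_lit 0x948084210) (nat_lit 2817))
))) (.node (nat_lit 0x94bd86282) (.node (nat_lit 0x94a9d42d0) (.node (nat_lit 0x948484202) (.leaf (nat_lit 0x948404212) (nat_lit 2305))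
 (.leaf (nat_lit 0x948484202) (nat_lit 3845))
) (.node (nat_lit 0x94bd562d2) (.leaf (nat_lit 0x94a9d42d0) (nat_lit 2821))
 (.leaf (nat_lit 0x94bd562d2) (nat_lit 2818))
)) (.node (nat_lit 0x9590c6634) (.node (nat_lit 0x958414676) (.leaf (nat_lit 0x94bd86282) (nat_lit 3331))
 (.leaf (nat_lit 0x958414676) (nat_lit 1793))
) (.node (nat_lit 0x9594d6666) (.leaf (nat_lit 0x9590c6634) (nat_lit 2561))
 (.leaf (nat_lit 0x9594d6666) (nat_lit 2820))
)))))))))) (.node (nat_lit 0xdc9a966f8) (.node (nat_lit 0xb6b116f70) (.node (nat_lit 0xa748b57e4) (.node (nat_lit 0x9f9237b54) (.node (nat_lit 0x9ade927f2) (.node (nat_lit 0x97fd06fb6) (.node (nat_lit 0x96fd16bd2) (.node (nat_lit 0x96c0c4b10) (.node (nat_lit 0x95b9966f4) (.leaf (nat_lit 0x95add46e6) (nat_lit 2309))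
 (.node (nat_lit 0x95bd466b6) (.leaf (nat_lit 0x95b9966f4) (nat_lit 2305))
 (.leaf (nat_lit 0x95bd466b6) (nat_lit 2308))
)) (.node (nat_lit 0x96c4c4b02) (.node (nat_lit 0x96c444b12) (.leaf (nat_lit 0x96c0c4b10) (nat_lit 2819))
 (.leaf (nat_lit 0x96c444b12) (nat_lit 1280))
) (.node (nat_lit 0x96e994bd0) (.leaf (nat_lit 0x96c4c4b02) (nat_lit 2562))
 (.leaf (nat_lit 0x96e994bd0) (nat_lit 2305))
))) (.node (nat_lit 0x97d086f34) (.node (nat_lit 0x96fdc6b82) (.leaf (nat_lit 0x96fd16bd2) (nat_lit 1795))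
 (.node (nat_lit 0x97c454f76) (.leaf (nat_lit 0x96fdc6b82) (nat_lit 3074))
 (.leaf (nat_lit 0x97c454f76) (nat_lit 1797))
)) (.node (nat_lit 0x97ed94fe6) (.node (nat_lit 0x97d496f66) (.leaf (nat_lit 0x97d086f34) (nat_lit 2560))
 (.leaf (nat_lit 0x97d496f66) (nat_lit 2560))
) (.node (nat_lit 0x97f9d6ff4) (.leaf (nat_lit 0x97ed94fe6) (nat_lit 2817))
 (.leaf (nat_lit 0x97f9d6ff4) (nat_lit 3077))
)))) (.node (nat_lit 0x99c210e64) (.node (nat_lit 0x988ea1282) (.node (nat_lit 0x9882a1e30) (.leaf (nat_lit 0x97fd06fb6) (nat_lit 2563))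
 (.node (nat_lit 0x988e21eb2) (.leaf (nat_lit 0x9882a1e30) (nat_lit 2821))
 (.leaf (nat_lit 0x988e21eb2) (nat_lit 2307))
)) (.node (nat_lit 0x98b752e72) (.node (nat_lit 0x98abd0ef0) (.leaf (nat_lit 0x988ea1282) (nat_lit 3333))
 (.leaf (nat_lit 0x98abd0ef0) (nat_lit 2818))
) (.node (nat_lit 0x98b7a3202) (.leaf (nat_lit 0x98b752e72) (nat_lit 2309))
 (.leaf (nat_lit 0x98b7a3202) (nat_lit 3074))
))) (.node (nat_lit 0x99f723216) (.node (nat_lit 0x99de522d6) (.node (nat_lit 0x99d2a3214) (.leaf (nat_lit 0x99c210e64) (nat_lit 2821))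
 (.leaf (nat_lit 0x99d2a3214) (nat_lit 2053))
) (.node (nat_lit 0x99ebd02d4) (.leaf (nat_lit 0x99de522d6) (nat_lit 2818))
 (.leaf (nat_lit 0x99ebd02d4) (nat_lit 2051))
)) (.node (nat_lit 0x9ac210770) (.node (nat_lit 0x99fb12ee4) (.leaf (nat_lit 0x99f723216) (nat_lit 2563))
 (.leaf (nat_lit 0x99fb12ee4) (nat_lit 2306))
) (.node (nat_lit 0x9ade63b82) (.leaf (nat_lit 0x9ac210770) (nat_lit 2818))
 (.leaf (nat_lit 0x9ade63b82) (nat_lit 3330))
))))) (.node (nat_lit 0x9cbbf7ef0) (.node (nat_lit 0x9babd07e4) (.node (nat_lit 0x9aeb617b0) (.node (nat_lit 0x9ae761b02) (.leaf (nat_lit 0x9ade927f2) (nat_lit 1797))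
 (.node (nat_lit 0x9ae7e1732) (.leaf (nat_lit 0x9ae761b02) (nat_lit 2819))
 (.leaf (nat_lit 0x9ae7e1732) (nat_lit 1283))
)) (.node (nat_lit 0x9b92d2764) (.node (nat_lit 0x9b8210b54) (.leaf (nat_lit 0x9aeb617b0) (nat_lit 2305))
 (.leaf (nat_lit 0x9b8210b54) (nat_lit 2307))
) (.node (nat_lit 0x9b9ee3b96) (.leaf (nat_lit 0x9b92d2764) (nat_lit 2565))
 (.leaf (nat_lit 0x9b9ee3b96) (nat_lit 2819))
))) (.node (nat_lit 0x9c9e06eb2) (.node (nat_lit 0x9bbb63b94) (.node (nat_lit 0x9bb792b56) (.leaf (nat_lit 0x9babd07e4) (nat_lit 2562))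
 (.leaf (nat_lit 0x9bb792b56) (nat_lit 2560))
) (.node (nat_lit 0x9c9286e30) (.leaf (nat_lit 0x9bbb63b94) (nat_lit 2565))
 (.leaf (nat_lit 0x9c9286e30) (nat_lit 2565))
)) (.node (nat_lit 0x9ca775e72) (.node (nat_lit 0x9c9e86282) (.leaf (nat_lit 0x9c9e06eb2) (nat_lit 2563))
 (.leaf (nat_lit 0x9c9e86282) (nat_lit 3586))
) (.node (nat_lit 0x9ca784202) (.leaf (nat_lit 0x9ca775e72) (nat_lit 2565))
 (.leaf (nat_lit 0x9ca784202) (nat_lit 3073))
)))) (.node (nat_lit 0x9ece44b82) (.node (nat_lit 0x9dd237e64) (.node (nat_lit 0x9dc284214) (.leaf (nat_lit 0x9cbbf7ef0) (nat_lit 3074))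
 (.node (nat_lit 0x9dce752d6) (.leaf (nat_lit 0x9dc284214) (nat_lit 2309))
 (.leaf (nat_lit 0x9dce752d6) (nat_lit 2818))
)) (.node (nat_lit 0x9deb35ee4) (.node (nat_lit 0x9de704216) (.leaf (nat_lit 0x9dd237e64) (nat_lit 2562))
 (.leaf (nat_lit 0x9de704216) (nat_lit 2819))
) (.node (nat_lit 0x9dfbf72d4) (.leaf (nat_lit 0x9deb35ee4) (nat_lit 2562))
 (.leaf (nat_lit 0x9dfbf72d4) (nat_lit 2051))
))) (.node (nat_lit 0x9ef7c6732) (.node (nat_lit 0x9ed237770) (.node (nat_lit 0x9eceb57f2) (.leaf (nat_lit 0x9ece44b82) (nat_lit 3077))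
 (.leaf (nat_lit 0x9eceb57f2) (nat_lit 1541))
) (.node (nat_lit 0x9ef746b02) (.leaf (nat_lit 0x9ed237770) (nat_lit 2562))
 (.leaf (nat_lit 0x9ef746b02) (nat_lit 2819))
)) (.node (nat_lit 0x9f82f5764) (.node (nat_lit 0x9efb467b0) (.leaf (nat_lit 0x9ef7c6732) (nat_lit 1539))
 (.leaf (nat_lit 0x9efb467b0) (nat_lit 2560))
) (.node (nat_lit 0x9f8ec4b96) (.leaf (nat_lit 0x9f82f5764) (nat_lit 2564))
 (.leaf (nat_lit 0x9f8ec4b96) (nat_lit 2564))
)))))) (.node (nat_lit 0xa235e3b02) (.node (nat_lit 0xa13952ac4) (.node (nat_lit 0xa039c26a0) (.node (nat_lit 0x9fbbf77e4) (.node (nat_lit 0x9fa7b5b56) (.leaf (nat_lit 0x9f9237b54) (nat_lit 2051))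
 (.node (nat_lit 0x9fab44b94) (.leaf (nat_lit 0x9fa7b5b56) (nat_lit 2305))
 (.leaf (nat_lit 0x9fab44b94) (nat_lit 2309))
)) (.node (nat_lit 0xa031c2620) (.node (nat_lit 0xa03142e20) (.leaf (nat_lit 0x9fbbf77e4) (nat_lit 2563))
 (.leaf (nat_lit 0xa03142e20) (nat_lit 2309))
) (.node (nat_lit 0xa03942ea0) (.leaf (nat_lit 0xa031c2620) (nat_lit 2561))
 (.leaf (nat_lit 0xa03942ea0) (nat_lit 2561))
))) (.node (nat_lit 0xa10850ac4) (.node (nat_lit 0xa108502d4) (.leaf (nat_lit 0xa039c26a0) (nat_lit 2305))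
 (.node (nat_lit 0xa108506f4) (.leaf (nat_lit 0xa108502d4) (nat_lit 2051))
 (.leaf (nat_lit 0xa108506f4) (nat_lit 1793))
)) (.node (nat_lit 0xa13152e64) (.node (nat_lit 0xa10850ee4) (.leaf (nat_lit 0xa10850ac4) (nat_lit 2051))
 (.leaf (nat_lit 0xa10850ee4) (nat_lit 2051))
) (.node (nat_lit 0xa135d2676) (.leaf (nat_lit 0xa13152e64) (nat_lit 2565))
 (.leaf (nat_lit 0xa135d2676) (nat_lit 2305))
)))) (.node (nat_lit 0xa204e1302) (.node (nat_lit 0xa20461312) (.node (nat_lit 0xa13dd22d6) (.leaf (nat_lit 0xa13952ac4) (nat_lit 2821))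
 (.node (nat_lit 0xa200e1310) (.leaf (nat_lit 0xa13dd22d6) (nat_lit 2305))
 (.leaf (nat_lit 0xa200e1310) (nat_lit 2050))
)) (.node (nat_lit 0xa20461f22) (.node (nat_lit 0xa20461722) (.leaf (nat_lit 0xa20461312) (nat_lit 516))
 (.leaf (nat_lit 0xa20461722) (nat_lit 772))
) (.node (nat_lit 0xa20461f32) (.leaf (nat_lit 0xa20461f22) (nat_lit 1281))
 (.leaf (nat_lit 0xa20461f32) (nat_lit 772))
))) (.node (nat_lit 0xa20c61b82) (.node (nat_lit 0xa20c61382) (.node (nat_lit 0xa208e1fb0) (.leaf (nat_lit 0xa204e1302) (nat_lit 2050))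
 (.leaf (nat_lit 0xa208e1fb0) (nat_lit 2050))
) (.node (nat_lit 0xa20c617a2) (.leaf (nat_lit 0xa20c61382) (nat_lit 2562))
 (.leaf (nat_lit 0xa20c617a2) (nat_lit 2305))
)) (.node (nat_lit 0xa20ce1b82) (.node (nat_lit 0xa20c61fa2) (.leaf (nat_lit 0xa20c61b82) (nat_lit 2562))
 (.leaf (nat_lit 0xa20c61fa2) (nat_lit 2306))
) (.node (nat_lit 0xa23563b02) (.leaf (nat_lit 0xa20ce1b82) (nat_lit 2562))
 (.leaf (nat_lit 0xa23563b02) (nat_lit 3589))
))))) (.node (nat_lit 0xa47d06282) (.node (nat_lit 0xa331f3b54) (.node (nat_lit 0xa30471b46) (.node (nat_lit 0xa23d63b82) (.leaf (nat_lit 0xa235e3b02) (nat_lit 2561))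
 (.node (nat_lit 0xa23de3b82) (.leaf (nat_lit 0xa23d63b82) (nat_lit 3586))
 (.leaf (nat_lit 0xa23de3b82) (nat_lit 3073))
)) (.node (nat_lit 0xa30471f66) (.node (nat_lit 0xa30471b56) (.leaf (nat_lit 0xa30471b46) (nat_lit 1797))
 (.leaf (nat_lit 0xa30471b56) (nat_lit 1793))
) (.node (nat_lit 0xa30471f76) (.leaf (nat_lit 0xa30471f66) (nat_lit 1793))
 (.leaf (nat_lit 0xa30471f76) (nat_lit 1793))
))) (.node (nat_lit 0xa44084210) (.node (nat_lit 0xa339f3ff4) (.node (nat_lit 0xa33573b46) (.leaf (nat_lit 0xa331f3b54) (nat_lit 2305))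
 (.leaf (nat_lit 0xa33573b46) (nat_lit 2565))
) (.node (nat_lit 0xa33d73fe6) (.leaf (nat_lit 0xa339f3ff4) (nat_lit 2561))
 (.leaf (nat_lit 0xa33d73fe6) (nat_lit 2819))
)) (.node (nat_lit 0xa44484202) (.node (nat_lit 0xa44404212) (.leaf (nat_lit 0xa44084210) (nat_lit 2817))
 (.leaf (nat_lit 0xa44404212) (nat_lit 1281))
) (.node (nat_lit 0xa47106e30) (.leaf (nat_lit 0xa44484202) (nat_lit 2817))
 (.leaf (nat_lit 0xa47106e30) (nat_lit 2561))
)))) (.node (nat_lit 0xa57d166e6) (.node (nat_lit 0xa54894ac4) (.node (nat_lit 0xa47d86eb2) (.leaf (nat_lit 0xa47d06282) (nat_lit 3075))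
 (.node (nat_lit 0xa54414666) (.leaf (nat_lit 0xa47d86eb2) (nat_lit 1539))
 (.leaf (nat_lit 0xa54414666) (nat_lit 1793))
)) (.node (nat_lit 0xa57116e74) (.node (nat_lit 0xa54c94ef6) (.leaf (nat_lit 0xa54894ac4) (nat_lit 2306))
 (.leaf (nat_lit 0xa54c94ef6) (nat_lit 2305))
) (.node (nat_lit 0xa57996ac4) (.leaf (nat_lit 0xa57116e74) (nat_lit 2307))
 (.leaf (nat_lit 0xa57996ac4) (nat_lit 1793))
))) (.node (nat_lit 0xa67527b02) (.node (nat_lit 0xa64425b12) (.node (nat_lit 0xa640a5b10) (.leaf (nat_lit 0xa57d166e6) (nat_lit 2819))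
 (.leaf (nat_lit 0xa640a5b10) (nat_lit 2561))
) (.node (nat_lit 0xa644a5b02) (.leaf (nat_lit 0xa64425b12) (nat_lit 769))
 (.leaf (nat_lit 0xa644a5b02) (nat_lit 2305))
)) (.node (nat_lit 0xa679277b0) (.node (nat_lit 0xa675a7732) (.leaf (nat_lit 0xa67527b02) (nat_lit 2563))
 (.leaf (nat_lit 0xa675a7732) (nat_lit 1027))
) (.node (nat_lit 0xa74435b46) (.leaf (nat_lit 0xa679277b0) (nat_lit 2562))
 (.leaf (nat_lit 0xa74435b46) (nat_lit 1540))
))))))) (.node (nat_lit 0xaf1ed6fe6) (.node (nat_lit 0xaa2f61b82) (.node (nat_lit 0xa97be3eb4) (.node (nat_lit 0xa83b636a0) (.node (nat_lit 0xa77537b46) (.node (nat_lit 0xa74cb53d6) (.leaf (nat_lit 0xa748b57e4) (nat_lit 2561))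
 (.node (nat_lit 0xa771b7764) (.leaf (nat_lit 0xa74cb53d6) (nat_lit 2049))
 (.leaf (nat_lit 0xa771b7764) (nat_lit 2051))
)) (.node (nat_lit 0xa83363620) (.node (nat_lit 0xa779373d4) (.leaf (nat_lit 0xa77537b46) (nat_lit 2563))
 (.leaf (nat_lit 0xa779373d4) (nat_lit 2563))
) (.node (nat_lit 0xa833e3e20) (.leaf (nat_lit 0xa83363620) (nat_lit 2820))
 (.leaf (nat_lit 0xa833e3e20) (nat_lit 2564))
))) (.node (nat_lit 0xa95663e36) (.node (nat_lit 0xa83be3ea0) (.leaf (nat_lit 0xa83b636a0) (nat_lit 2564))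
 (.node (nat_lit 0xa94210a44) (.leaf (nat_lit 0xa83be3ea0) (nat_lit 2309))
 (.leaf (nat_lit 0xa94210a44) (nat_lit 2562))
)) (.node (nat_lit 0xa967b1666) (.node (nat_lit 0xa95eb36e6) (.leaf (nat_lit 0xa95663e36) (nat_lit 2308))
 (.leaf (nat_lit 0xa95eb36e6) (nat_lit 2304))
) (.node (nat_lit 0xa97312a44) (.leaf (nat_lit 0xa967b1666) (nat_lit 3333))
 (.leaf (nat_lit 0xa97312a44) (nat_lit 2053))
)))) (.node (nat_lit 0xaa16e3b02) (.node (nat_lit 0xaa1663b02) (.node (nat_lit 0xaa0210f70) (.leaf (nat_lit 0xa97be3eb4) (nat_lit 2565))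
 (.node (nat_lit 0xaa0a313d0) (.leaf (nat_lit 0xaa0210f70) (nat_lit 2306))
 (.leaf (nat_lit 0xaa0a313d0) (nat_lit 2306))
)) (.node (nat_lit 0xaa16c2f22) (.node (nat_lit 0xaa16c2722) (.leaf (nat_lit 0xaa1663b02) (nat_lit 2818))
 (.leaf (nat_lit 0xaa16c2722) (nat_lit 2564))
) (.node (nat_lit 0xaa16e3302) (.leaf (nat_lit 0xaa16c2f22) (nat_lit 2048))
 (.leaf (nat_lit 0xaa16e3302) (nat_lit 2818))
))) (.node (nat_lit 0xaa1ec27a2) (.node (nat_lit 0xaa1e92ff2) (.node (nat_lit 0xaa1e63382) (.leaf (nat_lit 0xaa16e3b02) (nat_lit 2306))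
 (.leaf (nat_lit 0xaa1e63382) (nat_lit 2306))
) (.node (nat_lit 0xaa1eb33d2) (.leaf (nat_lit 0xaa1e92ff2) (nat_lit 1285))
 (.leaf (nat_lit 0xaa1eb33d2) (nat_lit 1284))
)) (.node (nat_lit 0xaa2761b02) (.node (nat_lit 0xaa1ec2fa2) (.leaf (nat_lit 0xaa1ec27a2) (nat_lit 1541))
 (.leaf (nat_lit 0xaa1ec2fa2) (nat_lit 1538))
) (.node (nat_lit 0xaa27e1b02) (.leaf (nat_lit 0xaa2761b02) (nat_lit 3842))
 (.leaf (nat_lit 0xaa27e1b02) (nat_lit 2817))
))))) (.node (nat_lit 0xad02a5634) (.node (nat_lit 0xab7b127e4) (.node (nat_lit 0xab5663316) (.node (nat_lit 0xaa2fe1b82) (.leaf (nat_lit 0xaa2f61b82) (nat_lit 3333))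
 (.node (nat_lit 0xab4210764) (.leaf (nat_lit 0xaa2fe1b82) (nat_lit 2817))
 (.leaf (nat_lit 0xab4210764) (nat_lit 3330))
)) (.node (nat_lit 0xab6fb1bc6) (.node (nat_lit 0xab5eb3bc6) (.leaf (nat_lit 0xab5663316) (nat_lit 2819))
 (.leaf (nat_lit 0xab5eb3bc6) (nat_lit 2308))
) (.node (nat_lit 0xab73e3314) (.leaf (nat_lit 0xab6fb1bc6) (nat_lit 2818))
 (.leaf (nat_lit 0xab73e3314) (nat_lit 2564))
))) (.node (nat_lit 0xac6775e72) (.node (nat_lit 0xac5e06282) (.node (nat_lit 0xac4a542d0) (.leaf (nat_lit 0xab7b127e4) (nat_lit 2309))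
 (.leaf (nat_lit 0xac4a542d0) (nat_lit 2816))
) (.node (nat_lit 0xac5ed62d2) (.leaf (nat_lit 0xac5e06282) (nat_lit 3330))
 (.leaf (nat_lit 0xac5ed62d2) (nat_lit 2048))
)) (.node (nat_lit 0xac7bf7ef0) (.node (nat_lit 0xac6784202) (.leaf (nat_lit 0xac6775e72) (nat_lit 2053))
 (.leaf (nat_lit 0xac6784202) (nat_lit 3589))
) (.node (nat_lit 0xad0284214) (.leaf (nat_lit 0xac7bf7ef0) (nat_lit 2816))
 (.leaf (nat_lit 0xad0284214) (nat_lit 2309))
)))) (.node (nat_lit 0xae4a75bd0) (.node (nat_lit 0xad2704216) (.node (nat_lit 0xad02d4a44) (.leaf (nat_lit 0xad02a5634) (nat_lit 2053))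
 (.node (nat_lit 0xad02f5e64) (.leaf (nat_lit 0xad02d4a44) (nat_lit 2053))
 (.leaf (nat_lit 0xad02f5e64) (nat_lit 2309))
)) (.node (nat_lit 0xad33d6a44) (.node (nat_lit 0xad2f256b6) (.leaf (nat_lit 0xad2704216) (nat_lit 2816))
 (.leaf (nat_lit 0xad2f256b6) (nat_lit 2564))
) (.node (nat_lit 0xad3bf7ee4) (.leaf (nat_lit 0xad33d6a44) (nat_lit 2819))
 (.leaf (nat_lit 0xad3bf7ee4) (nat_lit 2563))
))) (.node (nat_lit 0xae6fa5b82) (.node (nat_lit 0xae5ef7bd2) (.node (nat_lit 0xae5e27b82) (.leaf (nat_lit 0xae4a75bd0) (nat_lit 2816))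
 (.leaf (nat_lit 0xae5e27b82) (nat_lit 3074))
) (.node (nat_lit 0xae6f547f2) (.leaf (nat_lit 0xae5ef7bd2) (nat_lit 1797))
 (.leaf (nat_lit 0xae6f547f2) (nat_lit 1541))
)) (.node (nat_lit 0xaf1e86fb6) (.node (nat_lit 0xae73d6770) (.leaf (nat_lit 0xae6fa5b82) (nat_lit 3077))
 (.leaf (nat_lit 0xae73d6770) (nat_lit 2820))
) (.node (nat_lit 0xaf1ea7b96) (.leaf (nat_lit 0xaf1e86fb6) (nat_lit 2304))
 (.leaf (nat_lit 0xaf1ea7b96) (nat_lit 2308))
)))))) (.node (nat_lit 0xb3f5a3736) (.node (nat_lit 0xb19cd22d6) (.node (nat_lit 0xb08421a12) (.node (nat_lit 0xaf2ff5bc6) (.node (nat_lit 0xaf1ef7bc6) (.leaf (nat_lit 0xaf1ed6fe6) (nat_lit 2563))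
 (.node (nat_lit 0xaf27d4f66) (.leaf (nat_lit 0xaf1ef7bc6) (nat_lit 2307))
 (.leaf (nat_lit 0xaf27d4f66) (nat_lit 2304))
)) (.node (nat_lit 0xaf3b27b94) (.node (nat_lit 0xaf3306f34) (.leaf (nat_lit 0xaf2ff5bc6) (nat_lit 2560))
 (.leaf (nat_lit 0xaf3306f34) (nat_lit 2821))
) (.node (nat_lit 0xb080a1a10) (.leaf (nat_lit 0xaf3b27b94) (nat_lit 2820))
 (.leaf (nat_lit 0xb080a1a10) (nat_lit 2816))
))) (.node (nat_lit 0xb0b523a02) (.node (nat_lit 0xb084a1a02) (.leaf (nat_lit 0xb08421a12) (nat_lit 1285))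
 (.node (nat_lit 0xb0a9506f0) (.leaf (nat_lit 0xb084a1a02) (nat_lit 2562))
 (.leaf (nat_lit 0xb0a9506f0) (nat_lit 2562))
)) (.node (nat_lit 0xb18431a46) (.node (nat_lit 0xb0b5d2672) (.leaf (nat_lit 0xb0b523a02) (nat_lit 2821))
 (.leaf (nat_lit 0xb0b5d2672) (nat_lit 1541))
) (.node (nat_lit 0xb198c26a4) (.leaf (nat_lit 0xb18431a46) (nat_lit 1796))
 (.leaf (nat_lit 0xb198c26a4) (nat_lit 2820))
)))) (.node (nat_lit 0xb2f1b3760) (.node (nat_lit 0xb1b533a46) (.node (nat_lit 0xb1a9502d4) (.leaf (nat_lit 0xb19cd22d6) (nat_lit 2304))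
 (.node (nat_lit 0xb1b1c2624) (.leaf (nat_lit 0xb1a9502d4) (nat_lit 2819))
 (.leaf (nat_lit 0xb1b1c2624) (nat_lit 2052))
)) (.node (nat_lit 0xb2e9b17e0) (.node (nat_lit 0xb2e950fe0) (.leaf (nat_lit 0xb1b533a46) (nat_lit 3077))
 (.leaf (nat_lit 0xb2e950fe0) (nat_lit 2306))
) (.node (nat_lit 0xb2f152f60) (.leaf (nat_lit 0xb2e9b17e0) (nat_lit 2816))
 (.leaf (nat_lit 0xb2f152f60) (nat_lit 2304))
))) (.node (nat_lit 0xb3d852bc4) (.node (nat_lit 0xb3d8333d4) (.node (nat_lit 0xb3d8237b4) (.leaf (nat_lit 0xb2f1b3760) (nat_lit 3072))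
 (.leaf (nat_lit 0xb3d8237b4) (nat_lit 2308))
) (.node (nat_lit 0xb3d842fa4) (.leaf (nat_lit 0xb3d8333d4) (nat_lit 2052))
 (.leaf (nat_lit 0xb3d842fa4) (nat_lit 2309))
)) (.node (nat_lit 0xb3edb13d6) (.node (nat_lit 0xb3e950bc4) (.leaf (nat_lit 0xb3d852bc4) (nat_lit 2565))
 (.leaf (nat_lit 0xb3e950bc4) (nat_lit 2307))
) (.node (nat_lit 0xb3f142f24) (.leaf (nat_lit 0xb3edb13d6) (nat_lit 2305))
 (.leaf (nat_lit 0xb3f142f24) (nat_lit 2563))
))))) (.node (nat_lit 0xb4f567a02) (.node (nat_lit 0xb4d8f7ef0) (.node (nat_lit 0xb4c414662) (.node (nat_lit 0xb4c084210) (.leaf (nat_lit 0xb3f5a3736) (nat_lit 2308))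
 (.node (nat_lit 0xb4c404212) (.leaf (nat_lit 0xb4c084210) (nat_lit 2565))
 (.leaf (nat_lit 0xb4c404212) (nat_lit 1029))
)) (.node (nat_lit 0xb4c475e72) (.node (nat_lit 0xb4c475e62) (.leaf (nat_lit 0xb4c414662) (nat_lit 1285))
 (.leaf (nat_lit 0xb4c475e62) (nat_lit 1797))
) (.node (nat_lit 0xb4c484202) (.leaf (nat_lit 0xb4c475e72) (nat_lit 1285))
 (.leaf (nat_lit 0xb4c484202) (nat_lit 2565))
))) (.node (nat_lit 0xb4dc77ee2) (.node (nat_lit 0xb4dc166e2) (.node (nat_lit 0xb4dc06282) (.leaf (nat_lit 0xb4d8f7ef0) (nat_lit 2565))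
 (.leaf (nat_lit 0xb4dc06282) (nat_lit 3077))
) (.node (nat_lit 0xb4dc67a82) (.leaf (nat_lit 0xb4dc166e2) (nat_lit 2821))
 (.leaf (nat_lit 0xb4dc67a82) (nat_lit 3075))
)) (.node (nat_lit 0xb4ed65a82) (.node (nat_lit 0xb4dce7a82) (.leaf (nat_lit 0xb4dc77ee2) (nat_lit 2307))
 (.leaf (nat_lit 0xb4dce7a82) (nat_lit 3077))
) (.node (nat_lit 0xb4ede5a82) (.leaf (nat_lit 0xb4ed65a82) (nat_lit 3075))
 (.leaf (nat_lit 0xb4ede5a82) (nat_lit 3074))
)))) (.node (nat_lit 0xb5ed65ea6) (.node (nat_lit 0xb5c465e36) (.node (nat_lit 0xb4f5e7a02) (.leaf (nat_lit 0xb4f567a02) (nat_lit 3331))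
 (.node (nat_lit 0xb5c465e26) (.leaf (nat_lit 0xb4f5e7a02) (nat_lit 2818))
 (.leaf (nat_lit 0xb5c465e26) (nat_lit 1538))
)) (.node (nat_lit 0xb5c475a56) (.node (nat_lit 0xb5c475a46) (.leaf (nat_lit 0xb5c465e36) (nat_lit 1540))
 (.leaf (nat_lit 0xb5c475a46) (nat_lit 1792))
) (.node (nat_lit 0xb5e9e5eb4) (.leaf (nat_lit 0xb5c475a56) (nat_lit 1796))
 (.leaf (nat_lit 0xb5e9e5eb4) (nat_lit 2564))
))) (.node (nat_lit 0xb68465312) (.node (nat_lit 0xb5f577a46) (.node (nat_lit 0xb5f1f7a54) (.leaf (nat_lit 0xb5ed65ea6) (nat_lit 2562))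
 (.leaf (nat_lit 0xb5f1f7a54) (nat_lit 2816))
) (.node (nat_lit 0xb680e5310) (.leaf (nat_lit 0xb5f577a46) (nat_lit 2560))
 (.leaf (nat_lit 0xb680e5310) (nat_lit 2818))
)) (.node (nat_lit 0xb6ad65382) (.node (nat_lit 0xb684e5302) (.leaf (nat_lit 0xb68465312) (nat_lit 1284))
 (.leaf (nat_lit 0xb684e5302) (nat_lit 2818))
) (.node (nat_lit 0xb6ad94ff2) (.leaf (nat_lit 0xb6ad65382) (nat_lit 3074))
 (.leaf (nat_lit 0xb6ad94ff2) (nat_lit 1796))
)))))))) (.node (nat_lit 0xc87f426ba) (.node (nat_lit 0xbfc2d4b44) (.node (nat_lit 0xbbb312b44) (.node (nat_lit 0xb9cef1ac6) (.node (nat_lit 0xb882a1630) (.node (nat_lit 0xb79c86fb6) (.node (nat_lit 0xb78465726) (.leaf (nat_lit 0xb6b116f70) (nat_lit 3075))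
 (.node (nat_lit 0xb79896bc4) (.leaf (nat_lit 0xb78465726) (nat_lit 1540))
 (.leaf (nat_lit 0xb79896bc4) (nat_lit 2306))
)) (.node (nat_lit 0xb7ad657a6) (.node (nat_lit 0xb7a994bc4) (.leaf (nat_lit 0xb79c86fb6) (nat_lit 2561))
 (.leaf (nat_lit 0xb7a994bc4) (nat_lit 2308))
) (.node (nat_lit 0xb7b106f34) (.leaf (nat_lit 0xb7ad657a6) (nat_lit 3074))
 (.leaf (nat_lit 0xb7b106f34) (nat_lit 2821))
))) (.node (nat_lit 0xb8ab71ad0) (.node (nat_lit 0xb88e216b2) (.leaf (nat_lit 0xb882a1630) (nat_lit 3077))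
 (.node (nat_lit 0xb88ea1a82) (.leaf (nat_lit 0xb88e216b2) (nat_lit 1539))
 (.leaf (nat_lit 0xb88ea1a82) (nat_lit 2819))
)) (.node (nat_lit 0xb8bff3ad2) (.node (nat_lit 0xb8bf23a82) (.leaf (nat_lit 0xb8ab71ad0) (nat_lit 2821))
 (.leaf (nat_lit 0xb8bf23a82) (nat_lit 3074))
) (.node (nat_lit 0xb9c210e74) (.leaf (nat_lit 0xb8bff3ad2) (nat_lit 1795))
 (.leaf (nat_lit 0xb9c210e74) (nat_lit 2563))
)))) (.node (nat_lit 0xbac210760) (.node (nat_lit 0xb9ff92ef6) (.node (nat_lit 0xb9d6c2e26) (.leaf (nat_lit 0xb9cef1ac6) (nat_lit 2049))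
 (.node (nat_lit 0xb9da23a94) (.leaf (nat_lit 0xb9d6c2e26) (nat_lit 2309))
 (.leaf (nat_lit 0xb9da23a94) (nat_lit 2561))
)) (.node (nat_lit 0xb9ffc2ea6) (.node (nat_lit 0xb9ffa3a96) (.leaf (nat_lit 0xb9ff92ef6) (nat_lit 1796))
 (.leaf (nat_lit 0xb9ffa3a96) (nat_lit 2052))
) (.node (nat_lit 0xb9fff3ac6) (.leaf (nat_lit 0xb9ffc2ea6) (nat_lit 2306))
 (.leaf (nat_lit 0xb9fff3ac6) (nat_lit 2562))
))) (.node (nat_lit 0xbb8210b44) (.node (nat_lit 0xbada127e0) (.node (nat_lit 0xbac2f1f60) (.leaf (nat_lit 0xbac210760) (nat_lit 3075))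
 (.leaf (nat_lit 0xbac2f1f60) (nat_lit 2305))
) (.node (nat_lit 0xbadaf3fe0) (.leaf (nat_lit 0xbada127e0) (nat_lit 2817))
 (.leaf (nat_lit 0xbadaf3fe0) (nat_lit 2306))
)) (.node (nat_lit 0xbb9af3ff4) (.node (nat_lit 0xbb96c2726) (.leaf (nat_lit 0xbb8210b44) (nat_lit 2052))
 (.leaf (nat_lit 0xbb96c2726) (nat_lit 3076))
) (.node (nat_lit 0xbba771f76) (.leaf (nat_lit 0xbb9af3ff4) (nat_lit 2563))
 (.leaf (nat_lit 0xbba771f76) (nat_lit 2561))
))))) (.node (nat_lit 0xbcffb76e2) (.node (nat_lit 0xbce784202) (.node (nat_lit 0xbccee5a82) (.node (nat_lit 0xbbbfc27a6) (.leaf (nat_lit 0xbbb312b44) (nat_lit 2820))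
 (.node (nat_lit 0xbcce65a82) (.leaf (nat_lit 0xbbbfc27a6) (nat_lit 1796))
 (.leaf (nat_lit 0xbcce65a82) (nat_lit 3075))
)) (.node (nat_lit 0xbcd6e7a02) (.node (nat_lit 0xbcd667a02) (.leaf (nat_lit 0xbccee5a82) (nat_lit 3074))
 (.leaf (nat_lit 0xbcd667a02) (nat_lit 3331))
) (.node (nat_lit 0xbce765a02) (.leaf (nat_lit 0xbcd6e7a02) (nat_lit 2818))
 (.leaf (nat_lit 0xbce765a02) (nat_lit 3330))
))) (.node (nat_lit 0xbceb542d0) (.node (nat_lit 0xbce7d4e62) (.node (nat_lit 0xbce7b5662) (.leaf (nat_lit 0xbce784202) (nat_lit 3330))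
 (.leaf (nat_lit 0xbce7b5662) (nat_lit 2565))
) (.node (nat_lit 0xbce7e5a02) (.leaf (nat_lit 0xbce7d4e62) (nat_lit 2053))
 (.leaf (nat_lit 0xbce7e5a02) (nat_lit 2821))
)) (.node (nat_lit 0xbcff06282) (.node (nat_lit 0xbcf306e30) (.leaf (nat_lit 0xbceb542d0) (nat_lit 2565))
 (.leaf (nat_lit 0xbcf306e30) (nat_lit 2309))
) (.node (nat_lit 0xbcff86eb2) (.leaf (nat_lit 0xbcff06282) (nat_lit 2819))
 (.leaf (nat_lit 0xbcff86eb2) (nat_lit 1283))
)))) (.node (nat_lit 0xbdb367624) (.node (nat_lit 0xbd8284214) (.node (nat_lit 0xbcffd62d2) (.leaf (nat_lit 0xbcffb76e2) (nat_lit 1539))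
 (.node (nat_lit 0xbcffd6ee2) (.leaf (nat_lit 0xbcffd62d2) (nat_lit 1539))
 (.leaf (nat_lit 0xbcffd6ee2) (nat_lit 2051))
)) (.node (nat_lit 0xbd9a676a4) (.node (nat_lit 0xbd8eb5ac6) (.leaf (nat_lit 0xbd8284214) (nat_lit 2561))
 (.leaf (nat_lit 0xbd8eb5ac6) (nat_lit 2563))
) (.node (nat_lit 0xbda704216) (.leaf (nat_lit 0xbd9a676a4) (nat_lit 1796))
 (.leaf (nat_lit 0xbda704216) (nat_lit 3076))
))) (.node (nat_lit 0xbe9ae7fb0) (.node (nat_lit 0xbe9667f32) (.node (nat_lit 0xbdbfb7ac6) (.leaf (nat_lit 0xbdb367624) (nat_lit 3076))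
 (.leaf (nat_lit 0xbdbfb7ac6) (nat_lit 2052))
) (.node (nat_lit 0xbe96e7302) (.leaf (nat_lit 0xbe9667f32) (nat_lit 1540))
 (.leaf (nat_lit 0xbe96e7302) (nat_lit 3075))
)) (.node (nat_lit 0xbebf67382) (.node (nat_lit 0xbeab353d0) (.leaf (nat_lit 0xbe9ae7fb0) (nat_lit 2821))
 (.leaf (nat_lit 0xbeab353d0) (nat_lit 2821))
) (.node (nat_lit 0xbebfb73d2) (.leaf (nat_lit 0xbebf67382) (nat_lit 3076))
 (.leaf (nat_lit 0xbebfb73d2) (nat_lit 1540))
)))))) (.node (nat_lit 0xc37da37be) (.node (nat_lit 0xc175d266e) (.node (nat_lit 0xbff3e7f24) (.node (nat_lit 0xbfdae7fa4) (.node (nat_lit 0xbfce547f6) (.leaf (nat_lit 0xbfc2d4b44) (nat_lit 2821))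
 (.node (nat_lit 0xbfd667316) (.leaf (nat_lit 0xbfce547f6) (nat_lit 2564))
 (.leaf (nat_lit 0xbfd667316) (nat_lit 2820))
)) (.node (nat_lit 0xbff3d6b44) (.node (nat_lit 0xbff3d6774) (.leaf (nat_lit 0xbfdae7fa4) (nat_lit 2565))
 (.leaf (nat_lit 0xbff3d6774) (nat_lit 2052))
) (.node (nat_lit 0xbff3e7314) (.leaf (nat_lit 0xbff3d6b44) (nat_lit 2051))
 (.leaf (nat_lit 0xbff3e7314) (nat_lit 1796))
))) (.node (nat_lit 0xc071c2638) (.node (nat_lit 0xc07182a08) (.leaf (nat_lit 0xbff3e7f24) (nat_lit 1795))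
 (.node (nat_lit 0xc071b3a48) (.leaf (nat_lit 0xc07182a08) (nat_lit 2309))
 (.leaf (nat_lit 0xc071b3a48) (nat_lit 2565))
)) (.node (nat_lit 0xc17592a5e) (.node (nat_lit 0xc071f3678) (.leaf (nat_lit 0xc071c2638) (nat_lit 2309))
 (.leaf (nat_lit 0xc071f3678) (nat_lit 2309))
) (.node (nat_lit 0xc175a3a1e) (.leaf (nat_lit 0xc17592a5e) (nat_lit 1541))
 (.leaf (nat_lit 0xc175a3a1e) (nat_lit 1797))
)))) (.node (nat_lit 0xc218523d8) (.node (nat_lit 0xc21812fe8) (.node (nat_lit 0xc175e362e) (.leaf (nat_lit 0xc175d266e) (nat_lit 2821))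
 (.node (nat_lit 0xc21802b88) (.leaf (nat_lit 0xc175e362e) (nat_lit 2565))
 (.leaf (nat_lit 0xc21802b88) (nat_lit 2048))
)) (.node (nat_lit 0xc21833bc8) (.node (nat_lit 0xc21823fa8) (.leaf (nat_lit 0xc21812fe8) (nat_lit 1538))
 (.leaf (nat_lit 0xc21823fa8) (nat_lit 1794))
) (.node (nat_lit 0xc218427b8) (.leaf (nat_lit 0xc21833bc8) (nat_lit 1796))
 (.leaf (nat_lit 0xc218427b8) (nat_lit 1282))
))) (.node (nat_lit 0xc279b33c8) (.node (nat_lit 0xc218737f8) (.node (nat_lit 0xc21863398) (.leaf (nat_lit 0xc218523d8) (nat_lit 2048))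
 (.leaf (nat_lit 0xc21863398) (nat_lit 1796))
) (.node (nat_lit 0xc27982388) (.leaf (nat_lit 0xc218737f8) (nat_lit 1538))
 (.leaf (nat_lit 0xc27982388) (nat_lit 3077))
)) (.node (nat_lit 0xc279f3ff8) (.node (nat_lit 0xc279c2fb8) (.leaf (nat_lit 0xc279b33c8) (nat_lit 2821))
 (.leaf (nat_lit 0xc279c2fb8) (nat_lit 2309))
) (.node (nat_lit 0xc37d927fe) (.leaf (nat_lit 0xc279f3ff8) (nat_lit 2565))
 (.leaf (nat_lit 0xc37d927fe) (nat_lit 2053))
))))) (.node (nat_lit 0xc5658420e) (.node (nat_lit 0xc5040421e) (.node (nat_lit 0xc46184218) (.node (nat_lit 0xc37dd2bce) (.leaf (nat_lit 0xc37da37be) (nat_lit 1797))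
 (.node (nat_lit 0xc37de3b8e) (.leaf (nat_lit 0xc37dd2bce) (nat_lit 2565))
 (.leaf (nat_lit 0xc37de3b8e) (nat_lit 2565))
)) (.node (nat_lit 0xc461c4e28) (.node (nat_lit 0xc461b5258) (.leaf (nat_lit 0xc46184218) (nat_lit 2309))
 (.leaf (nat_lit 0xc461b5258) (nat_lit 2309))
) (.node (nat_lit 0xc461f5e68) (.leaf (nat_lit 0xc461c4e28) (nat_lit 2309))
 (.leaf (nat_lit 0xc461f5e68) (nat_lit 2565))
))) (.node (nat_lit 0xc50444e2e) (.node (nat_lit 0xc5042563e) (.node (nat_lit 0xc5041467e) (.leaf (nat_lit 0xc5040421e) (nat_lit 1797))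
 (.leaf (nat_lit 0xc5041467e) (nat_lit 1541))
) (.node (nat_lit 0xc5043525e) (.leaf (nat_lit 0xc5042563e) (nat_lit 1285))
 (.leaf (nat_lit 0xc5043525e) (nat_lit 1541))
)) (.node (nat_lit 0xc50465a0e) (.node (nat_lit 0xc50454a4e) (.leaf (nat_lit 0xc50444e2e) (nat_lit 1029))
 (.leaf (nat_lit 0xc50454a4e) (nat_lit 1285))
) (.node (nat_lit 0xc50475e6e) (.leaf (nat_lit 0xc50465a0e) (nat_lit 1541))
 (.leaf (nat_lit 0xc50475e6e) (nat_lit 1285))
)))) (.node (nat_lit 0xc669e57a8) (.node (nat_lit 0xc565f5e7e) (.node (nat_lit 0xc565b524e) (.leaf (nat_lit 0xc5658420e) (nat_lit 3333))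
 (.node (nat_lit 0xc565c4e3e) (.leaf (nat_lit 0xc565b524e) (nat_lit 3077))
 (.leaf (nat_lit 0xc565c4e3e) (nat_lit 2053))
)) (.node (nat_lit 0xc669a5b98) (.node (nat_lit 0xc66994bd8) (.leaf (nat_lit 0xc565f5e7e) (nat_lit 2309))
 (.leaf (nat_lit 0xc66994bd8) (nat_lit 2053))
) (.node (nat_lit 0xc669d47e8) (.leaf (nat_lit 0xc669a5b98) (nat_lit 1797))
 (.leaf (nat_lit 0xc669d47e8) (nat_lit 2309))
))) (.node (nat_lit 0xc76de539e) (.node (nat_lit 0xc76da5fae) (.node (nat_lit 0xc76d94fee) (.leaf (nat_lit 0xc669e57a8) (nat_lit 2565))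
 (.leaf (nat_lit 0xc76d94fee) (nat_lit 2565))
) (.node (nat_lit 0xc76dd43de) (.leaf (nat_lit 0xc76da5fae) (nat_lit 2565))
 (.leaf (nat_lit 0xc76dd43de) (nat_lit 2053))
)) (.node (nat_lit 0xc86f716fa) (.node (nat_lit 0xc863b1a48) (.leaf (nat_lit 0xc76de539e) (nat_lit 2309))
 (.leaf (nat_lit 0xc863b1a48) (nat_lit 2816))
) (.node (nat_lit 0xc87382a08) (.leaf (nat_lit 0xc86f716fa) (nat_lit 2049))
 (.leaf (nat_lit 0xc87382a08) (nat_lit 2561))
))))))) (.node (nat_lit 0xd2b9523d8) (.node (nat_lit 0xcd33b725c) (.node (nat_lit 0xca6bb13c8) (.node (nat_lit 0xca0a31bc8) (.node (nat_lit 0xc95223a1c) (.node (nat_lit 0xc94210a5c) (.leaf (nat_lit 0xc87f426ba) (nat_lit 2304))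
 (.node (nat_lit 0xc94ed06ee) (.leaf (nat_lit 0xc94210a5c) (nat_lit 2563))
 (.leaf (nat_lit 0xc94ed06ee) (nat_lit 2308))
)) (.node (nat_lit 0xca0210f68) (.node (nat_lit 0xc95ee36ae) (.leaf (nat_lit 0xc95223a1c) (nat_lit 2307))
 (.leaf (nat_lit 0xc95ee36ae) (nat_lit 2564))
) (.node (nat_lit 0xca06f177a) (.leaf (nat_lit 0xca0210f68) (nat_lit 2304))
 (.leaf (nat_lit 0xca06f177a) (nat_lit 1538))
))) (.node (nat_lit 0xca16c273a) (.node (nat_lit 0xca0ed03da) (.leaf (nat_lit 0xca0a31bc8) (nat_lit 2561))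
 (.node (nat_lit 0xca1223f28) (.leaf (nat_lit 0xca0ed03da) (nat_lit 1793))
 (.leaf (nat_lit 0xca1223f28) (nat_lit 2049))
)) (.node (nat_lit 0xca1ee339a) (.node (nat_lit 0xca1a02b88) (.leaf (nat_lit 0xca16c273a) (nat_lit 1794))
 (.leaf (nat_lit 0xca1a02b88) (nat_lit 2305))
) (.node (nat_lit 0xca6771f7a) (.leaf (nat_lit 0xca1ee339a) (nat_lit 2049))
 (.leaf (nat_lit 0xca6771f7a) (nat_lit 2561))
)))) (.node (nat_lit 0xcc670421a) (.node (nat_lit 0xcb421077c) (.node (nat_lit 0xca7742f3a) (.leaf (nat_lit 0xca6bb13c8) (nat_lit 3076))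
 (.node (nat_lit 0xca7b82388) (.leaf (nat_lit 0xca7742f3a) (nat_lit 2564))
 (.leaf (nat_lit 0xca7b82388) (nat_lit 3332))
)) (.node (nat_lit 0xcb522373c) (.node (nat_lit 0xcb4ed0bce) (.leaf (nat_lit 0xcb421077c) (nat_lit 2563))
 (.leaf (nat_lit 0xcb4ed0bce) (nat_lit 2564))
) (.node (nat_lit 0xcb5ee3b8e) (.leaf (nat_lit 0xcb522373c) (nat_lit 2307))
 (.leaf (nat_lit 0xcb5ee3b8e) (nat_lit 2816))
))) (.node (nat_lit 0xcd238421c) (.node (nat_lit 0xcc773725a) (.node (nat_lit 0xcc6bc4ea8) (.leaf (nat_lit 0xcc670421a) (nat_lit 2563))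
 (.leaf (nat_lit 0xcc6bc4ea8) (nat_lit 2818))
) (.node (nat_lit 0xcc7bf7ee8) (.leaf (nat_lit 0xcc773725a) (nat_lit 2307))
 (.leaf (nat_lit 0xcc7bf7ee8) (nat_lit 2819))
)) (.node (nat_lit 0xcd2ba56bc) (.node (nat_lit 0xcd2765a0e) (.leaf (nat_lit 0xcd238421c) (nat_lit 2307))
 (.leaf (nat_lit 0xcd2765a0e) (nat_lit 2819))
) (.node (nat_lit 0xcd2f44eae) (.leaf (nat_lit 0xcd2ba56bc) (nat_lit 1797))
 (.leaf (nat_lit 0xcd2f44eae) (nat_lit 2565))
))))) (.node (nat_lit 0xcf5a563dc) (.node (nat_lit 0xcd5a77efc) (.node (nat_lit 0xcd3f77eee) (.node (nat_lit 0xcd3756a4e) (.leaf (nat_lit 0xcd33b725c) (nat_lit 2053))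
 (.node (nat_lit 0xcd3b966fc) (.leaf (nat_lit 0xcd3756a4e) (nat_lit 2565))
 (.leaf (nat_lit 0xcd3b966fc) (nat_lit 2053))
)) (.node (nat_lit 0xcd4a44ebc) (.node (nat_lit 0xcd468420e) (.leaf (nat_lit 0xcd3f77eee) (nat_lit 2563))
 (.leaf (nat_lit 0xcd468420e) (nat_lit 2817))
) (.node (nat_lit 0xcd56b724e) (.leaf (nat_lit 0xcd4a44ebc) (nat_lit 3076))
 (.leaf (nat_lit 0xcd56b724e) (nat_lit 2820))
))) (.node (nat_lit 0xce7f16bda) (.node (nat_lit 0xce6f25b9a) (.node (nat_lit 0xce63e5728) (.leaf (nat_lit 0xcd5a77efc) (nat_lit 3076))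
 (.leaf (nat_lit 0xce63e5728) (nat_lit 2819))
) (.node (nat_lit 0xce73d6768) (.leaf (nat_lit 0xce6f25b9a) (nat_lit 2307))
 (.leaf (nat_lit 0xce73d6768) (nat_lit 2821))
)) (.node (nat_lit 0xcf4a6539c) (.node (nat_lit 0xcf46a5f2e) (.leaf (nat_lit 0xce7f16bda) (nat_lit 2051))
 (.leaf (nat_lit 0xcf46a5f2e) (nat_lit 2049))
) (.node (nat_lit 0xcf5696f6e) (.leaf (nat_lit 0xcf4a6539c) (nat_lit 2563))
 (.leaf (nat_lit 0xcf5696f6e) (nat_lit 2304))
)))) (.node (nat_lit 0xd1843125e) (.node (nat_lit 0xd08ca1eaa) (.node (nat_lit 0xd0842163a) (.leaf (nat_lit 0xcf5a563dc) (nat_lit 2561))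
 (.node (nat_lit 0xd088a1a98) (.leaf (nat_lit 0xd0842163a) (nat_lit 1792))
 (.leaf (nat_lit 0xd088a1a98) (nat_lit 2565))
)) (.node (nat_lit 0xd0f5d266a) (.node (nat_lit 0xd0e1b1258) (.leaf (nat_lit 0xd08ca1eaa) (nat_lit 2819))
 (.leaf (nat_lit 0xd0e1b1258) (nat_lit 2816))
) (.node (nat_lit 0xd0f902a88) (.leaf (nat_lit 0xd0f5d266a) (nat_lit 3075))
 (.leaf (nat_lit 0xd0f902a88) (nat_lit 2304))
))) (.node (nat_lit 0xd1f1c263c) (.node (nat_lit 0xd19cd2ace) (.node (nat_lit 0xd198c2ebc) (.leaf (nat_lit 0xd1843125e) (nat_lit 1797))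
 (.leaf (nat_lit 0xd198c2ebc) (nat_lit 2820))
) (.node (nat_lit 0xd1e5b124e) (.leaf (nat_lit 0xd19cd2ace) (nat_lit 2821))
 (.leaf (nat_lit 0xd1e5b124e) (nat_lit 3333))
)) (.node (nat_lit 0xd2a5f1f7a) (.node (nat_lit 0xd1f912eec) (.leaf (nat_lit 0xd1f1c263c) (nat_lit 2820))
 (.leaf (nat_lit 0xd1f912eec) (nat_lit 2050))
) (.node (nat_lit 0xd2b182b08) (.leaf (nat_lit 0xd2a5f1f7a) (nat_lit 2305))
 (.leaf (nat_lit 0xd2b182b08) (nat_lit 2816))
)))))) (.node (nat_lit 0xd7b5a7b1e) (.node (nat_lit 0xd4f5e762a) (.node (nat_lit 0xd3c461b0e) (.node (nat_lit 0xd2dc927fa) (.node (nat_lit 0xd2c471f6a) (.leaf (nat_lit 0xd2b9523d8) (nat_lit 2560))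
 (.node (nat_lit 0xd2d882388) (.leaf (nat_lit 0xd2c471f6a) (nat_lit 1281))
 (.leaf (nat_lit 0xd2d882388) (nat_lit 3073))
)) (.node (nat_lit 0xd3b592b5e) (.node (nat_lit 0xd3a1f1f6c) (.leaf (nat_lit 0xd2dc927fa) (nat_lit 2049))
 (.leaf (nat_lit 0xd3a1f1f6c) (nat_lit 2561))
) (.node (nat_lit 0xd3b9427bc) (.leaf (nat_lit 0xd3b592b5e) (nat_lit 2565))
 (.leaf (nat_lit 0xd3b9427bc) (nat_lit 2564))
))) (.node (nat_lit 0xd4841467a) (.node (nat_lit 0xd3c8e17ac) (.leaf (nat_lit 0xd3c461b0e) (nat_lit 1797))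
 (.node (nat_lit 0xd3cce139e) (.leaf (nat_lit 0xd3c8e17ac) (nat_lit 2817))
 (.leaf (nat_lit 0xd3cce139e) (nat_lit 2305))
)) (.node (nat_lit 0xd48c94eea) (.node (nat_lit 0xd48894ad8) (.leaf (nat_lit 0xd4841467a) (nat_lit 1537))
 (.leaf (nat_lit 0xd48894ad8) (nat_lit 2563))
) (.node (nat_lit 0xd4e184218) (.leaf (nat_lit 0xd48c94eea) (nat_lit 2563))
 (.leaf (nat_lit 0xd4e184218) (nat_lit 2561))
)))) (.node (nat_lit 0xd5f927eac) (.node (nat_lit 0xd598f7efc) (.node (nat_lit 0xd4f937ac8) (.leaf (nat_lit 0xd4f5e762a) (nat_lit 3076))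
 (.node (nat_lit 0xd5840421e) (.leaf (nat_lit 0xd4f937ac8) (nat_lit 2052))
 (.leaf (nat_lit 0xd5840421e) (nat_lit 2049))
)) (.node (nat_lit 0xd5e58420e) (.node (nat_lit 0xd59ce7a8e) (.leaf (nat_lit 0xd598f7efc) (nat_lit 3072))
 (.leaf (nat_lit 0xd59ce7a8e) (nat_lit 2819))
) (.node (nat_lit 0xd5f1f767c) (.leaf (nat_lit 0xd5e58420e) (nat_lit 3587))
 (.leaf (nat_lit 0xd5f1f767c) (nat_lit 2821))
))) (.node (nat_lit 0xd6c444f2a) (.node (nat_lit 0xd6b1b7b48) (.node (nat_lit 0xd6a5c4f3a) (.leaf (nat_lit 0xd5f927eac) (nat_lit 2051))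
 (.leaf (nat_lit 0xd6a5c4f3a) (nat_lit 2308))
) (.node (nat_lit 0xd6b967398) (.leaf (nat_lit 0xd6b1b7b48) (nat_lit 2561))
 (.leaf (nat_lit 0xd6b967398) (nat_lit 2308))
)) (.node (nat_lit 0xd6dca77ba) (.node (nat_lit 0xd6d8b73c8) (.leaf (nat_lit 0xd6c444f2a) (nat_lit 1536))
 (.leaf (nat_lit 0xd6d8b73c8) (nat_lit 3077))
) (.node (nat_lit 0xd7a1c4f2c) (.leaf (nat_lit 0xd6dca77ba) (nat_lit 2304))
 (.leaf (nat_lit 0xd7a1c4f2c) (nat_lit 2816))
))))) (.node (nat_lit 0xd9d6b324e) (.node (nat_lit 0xd88e21a9a) (.node (nat_lit 0xd7c8d47ec) (.node (nat_lit 0xd7b9777fc) (.leaf (nat_lit 0xd7b5a7b1e) (nat_lit 2307))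
 (.node (nat_lit 0xd7c454b4e) (.leaf (nat_lit 0xd7b9777fc) (nat_lit 2307))
 (.leaf (nat_lit 0xd7c454b4e) (nat_lit 1541))
)) (.node (nat_lit 0xd886a1e2a) (.node (nat_lit 0xd7ccd43de) (.leaf (nat_lit 0xd7c8d47ec) (nat_lit 2565))
 (.leaf (nat_lit 0xd7ccd43de) (nat_lit 2560))
) (.node (nat_lit 0xd88aa16b8) (.leaf (nat_lit 0xd886a1e2a) (nat_lit 2309))
 (.leaf (nat_lit 0xd88aa16b8) (nat_lit 2565))
))) (.node (nat_lit 0xd9afd0ace) (.node (nat_lit 0xd8f73325a) (.node (nat_lit 0xd8efd06ea) (.leaf (nat_lit 0xd88e21a9a) (nat_lit 1795))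
 (.leaf (nat_lit 0xd8efd06ea) (nat_lit 1539))
) (.node (nat_lit 0xd8fb02a88) (.leaf (nat_lit 0xd8f73325a) (nat_lit 2051))
 (.leaf (nat_lit 0xd8fb02a88) (nat_lit 2561))
)) (.node (nat_lit 0xd9b742e3e) (.node (nat_lit 0xd9b3b325c) (.leaf (nat_lit 0xd9afd0ace) (nat_lit 2561))
 (.leaf (nat_lit 0xd9b3b325c) (nat_lit 2820))
) (.node (nat_lit 0xd9c210e6c) (.leaf (nat_lit 0xd9b742e3e) (nat_lit 2309))
 (.leaf (nat_lit 0xd9c210e6c) (nat_lit 2565))
)))) (.node (nat_lit 0xdade73fea) (.node (nat_lit 0xdab382b08) (.node (nat_lit 0xd9de426be) (.leaf (nat_lit 0xd9d6b324e) (nat_lit 2309))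
 (.node (nat_lit 0xdaafd03da) (.leaf (nat_lit 0xd9de426be) (nat_lit 2053))
 (.leaf (nat_lit 0xdaafd03da) (nat_lit 2049))
)) (.node (nat_lit 0xdac210778) (.node (nat_lit 0xdabb73ff8) (.leaf (nat_lit 0xdab382b08) (nat_lit 2560))
 (.leaf (nat_lit 0xdabb73ff8) (nat_lit 2821))
) (.node (nat_lit 0xdada82388) (.leaf (nat_lit 0xdac210778) (nat_lit 2562))
 (.leaf (nat_lit 0xdada82388) (nat_lit 2821))
))) (.node (nat_lit 0xdbe3e172c) (.node (nat_lit 0xdb96c273e) (.node (nat_lit 0xdb8210b5c) (.leaf (nat_lit 0xdade73fea) (nat_lit 2817))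
 (.leaf (nat_lit 0xdb8210b5c) (nat_lit 2051))
) (.node (nat_lit 0xdb9af3fec) (.leaf (nat_lit 0xdb96c273e) (nat_lit 2053))
 (.leaf (nat_lit 0xdb9af3fec) (nat_lit 3076))
)) (.node (nat_lit 0xdbeb6139c) (.node (nat_lit 0xdbe761b0e) (.leaf (nat_lit 0xdbe3e172c) (nat_lit 1795))
 (.leaf (nat_lit 0xdbe761b0e) (nat_lit 2563))
) (.node (nat_lit 0xdc9696e6a) (.leaf (nat_lit 0xdbeb6139c) (nat_lit 2307))
 (.leaf (nat_lit 0xdc9696e6a) (nat_lit 2053))
))))))))) (.node (nat_lit 0xfd9a772cc) (.node (nat_lit 0xec3fe7a9a) (.node (nat_lit 0xe4441466a) (.node (nat_lit 0xe10871efc) (.node (nat_lit 0xdecab53c8) (.node (nat_lit 0xddbfe7a8e) (.node (nat_lit 0xdceb35ac8) (.node (nat_lit 0xdc9e16ada) (.leaf (nat_lit 0xdc9a966f8) (nat_lit 2561))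
 (.node (nat_lit 0xdce70421a) (.leaf (nat_lit 0xdc9e16ada) (nat_lit 1539))
 (.leaf (nat_lit 0xdce70421a) (nat_lit 2307))
)) (.node (nat_lit 0xdda38421c) (.node (nat_lit 0xdcffe76aa) (.leaf (nat_lit 0xdceb35ac8) (nat_lit 2817))
 (.leaf (nat_lit 0xdcffe76aa) (nat_lit 1795))
) (.node (nat_lit 0xdda775e7e) (.leaf (nat_lit 0xdda38421c) (nat_lit 2563))
 (.leaf (nat_lit 0xdda775e7e) (nat_lit 2565))
))) (.node (nat_lit 0xddd227e2c) (.node (nat_lit 0xddc68420e) (.leaf (nat_lit 0xddbfe7a8e) (nat_lit 2817))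
 (.node (nat_lit 0xddce756fe) (.leaf (nat_lit 0xddc68420e) (nat_lit 2565))
 (.leaf (nat_lit 0xddce756fe) (nat_lit 2309))
)) (.node (nat_lit 0xdeab44fb8) (.node (nat_lit 0xdea3b5b48) (.leaf (nat_lit 0xddd227e2c) (nat_lit 2821))
 (.leaf (nat_lit 0xdea3b5b48) (nat_lit 2305))
) (.node (nat_lit 0xdebfe739a) (.leaf (nat_lit 0xdeab44fb8) (nat_lit 2565))
 (.leaf (nat_lit 0xdebfe739a) (nat_lit 2305))
)))) (.node (nat_lit 0xdff756b4e) (.node (nat_lit 0xdf86f577e) (.node (nat_lit 0xdece44faa) (.leaf (nat_lit 0xdecab53c8) (nat_lit 2565))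
 (.node (nat_lit 0xded227738) (.leaf (nat_lit 0xdece44faa) (nat_lit 2818))
 (.leaf (nat_lit 0xded227738) (nat_lit 2306))
)) (.node (nat_lit 0xdf9227b1c) (.node (nat_lit 0xdf8ac4fac) (.leaf (nat_lit 0xdf86f577e) (nat_lit 2308))
 (.leaf (nat_lit 0xdf8ac4fac) (nat_lit 2821))
) (.node (nat_lit 0xdff3d676c) (.leaf (nat_lit 0xdf9227b1c) (nat_lit 1795))
 (.leaf (nat_lit 0xdff3d676c) (nat_lit 2051))
))) (.node (nat_lit 0xe07d336fa) (.node (nat_lit 0xe06df1aca) (.node (nat_lit 0xdffb563dc) (.leaf (nat_lit 0xdff756b4e) (nat_lit 2819))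
 (.leaf (nat_lit 0xdffb563dc) (nat_lit 2563))
) (.node (nat_lit 0xe07102a08) (.leaf (nat_lit 0xe06df1aca) (nat_lit 1796))
 (.leaf (nat_lit 0xe07102a08) (nat_lit 2561))
)) (.node (nat_lit 0xe108716ec) (.node (nat_lit 0xe108712cc) (.leaf (nat_lit 0xe07d336fa) (nat_lit 2308))
 (.leaf (nat_lit 0xe108712cc) (nat_lit 2308))
) (.node (nat_lit 0xe10871adc) (.leaf (nat_lit 0xe108716ec) (nat_lit 2049))
 (.leaf (nat_lit 0xe10871adc) (nat_lit 2051))
))))) (.node (nat_lit 0xe21c92ffa) (.node (nat_lit 0xe20471b5a) (.node (nat_lit 0xe17d2329e) (.node (nat_lit 0xe169f1efc) (.leaf (nat_lit 0xe10871efc) (nat_lit 2307))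
 (.node (nat_lit 0xe17112a4c) (.leaf (nat_lit 0xe169f1efc) (nat_lit 2308))
 (.leaf (nat_lit 0xe17112a4c) (nat_lit 2305))
)) (.node (nat_lit 0xe2047176a) (.node (nat_lit 0xe2047135a) (.leaf (nat_lit 0xe17d2329e) (nat_lit 2819))
 (.leaf (nat_lit 0xe2047135a) (nat_lit 770))
) (.node (nat_lit 0xe20471b4a) (.leaf (nat_lit 0xe2047176a) (nat_lit 1026))
 (.leaf (nat_lit 0xe20471b4a) (nat_lit 1026))
))) (.node (nat_lit 0xe20c50ffa) (.node (nat_lit 0xe20c507fa) (.node (nat_lit 0xe20c503da) (.leaf (nat_lit 0xe20471b5a) (nat_lit 1027))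
 (.leaf (nat_lit 0xe20c503da) (nat_lit 2306))
) (.node (nat_lit 0xe20c50bda) (.leaf (nat_lit 0xe20c507fa) (nat_lit 1537))
 (.leaf (nat_lit 0xe20c50bda) (nat_lit 2049))
)) (.node (nat_lit 0xe214b377a) (.node (nat_lit 0xe210a3728) (.leaf (nat_lit 0xe20c50ffa) (nat_lit 2306))
 (.leaf (nat_lit 0xe210a3728) (nat_lit 2306))
) (.node (nat_lit 0xe21882b88) (.leaf (nat_lit 0xe214b377a) (nat_lit 1282))
 (.leaf (nat_lit 0xe21882b88) (nat_lit 1794))
)))) (.node (nat_lit 0xe30461f3e) (.node (nat_lit 0xe27902388) (.node (nat_lit 0xe265f134a) (.leaf (nat_lit 0xe21c92ffa) (nat_lit 1537))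
 (.node (nat_lit 0xe27533f7a) (.leaf (nat_lit 0xe265f134a) (nat_lit 1796))
 (.leaf (nat_lit 0xe27533f7a) (nat_lit 2305))
)) (.node (nat_lit 0xe30461b1e) (.node (nat_lit 0xe30461b0e) (.leaf (nat_lit 0xe27902388) (nat_lit 2817))
 (.leaf (nat_lit 0xe30461b0e) (nat_lit 2049))
) (.node (nat_lit 0xe30461f2e) (.leaf (nat_lit 0xe30461b1e) (nat_lit 1797))
 (.leaf (nat_lit 0xe30461f2e) (nat_lit 1537))
))) (.node (nat_lit 0xe42184218) (.node (nat_lit 0xe37523f3e) (.node (nat_lit 0xe361f135c) (.leaf (nat_lit 0xe30461f3e) (nat_lit 1541))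
 (.leaf (nat_lit 0xe361f135c) (nat_lit 1796))
) (.node (nat_lit 0xe379127ec) (.leaf (nat_lit 0xe37523f3e) (nat_lit 2307))
 (.leaf (nat_lit 0xe379127ec) (nat_lit 2561))
)) (.node (nat_lit 0xe43146a18) (.node (nat_lit 0xe429a5298) (.leaf (nat_lit 0xe42184218) (nat_lit 2561))
 (.leaf (nat_lit 0xe429a5298) (nat_lit 2305))
) (.node (nat_lit 0xe43967a98) (.leaf (nat_lit 0xe43146a18) (nat_lit 2309))
 (.leaf (nat_lit 0xe43967a98) (nat_lit 2561))
)))))) (.node (nat_lit 0xe93b732cc) (.node (nat_lit 0xe64435f6a) (.node (nat_lit 0xe5440421e) (.node (nat_lit 0xe5258420e) (.node (nat_lit 0xe450c6628) (.leaf (nat_lit 0xe4441466a) (nat_lit 1537))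
 (.node (nat_lit 0xe454d667a) (.leaf (nat_lit 0xe450c6628) (nat_lit 2561))
 (.leaf (nat_lit 0xe454d667a) (nat_lit 2049))
)) (.node (nat_lit 0xe53156a5c) (.node (nat_lit 0xe52da56ae) (.leaf (nat_lit 0xe5258420e) (nat_lit 2561))
 (.leaf (nat_lit 0xe52da56ae) (nat_lit 2305))
) (.node (nat_lit 0xe53977efc) (.leaf (nat_lit 0xe53156a5c) (nat_lit 2561))
 (.leaf (nat_lit 0xe53977efc) (nat_lit 3332))
))) (.node (nat_lit 0xe625b5f7a) (.node (nat_lit 0xe558f7efc) (.leaf (nat_lit 0xe5440421e) (nat_lit 1537))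
 (.node (nat_lit 0xe55ce7a8e) (.leaf (nat_lit 0xe558f7efc) (nat_lit 2817))
 (.leaf (nat_lit 0xe55ce7a8e) (nat_lit 2305))
)) (.node (nat_lit 0xe63577f7a) (.node (nat_lit 0xe62d94ffa) (.leaf (nat_lit 0xe625b5f7a) (nat_lit 2049))
 (.leaf (nat_lit 0xe62d94ffa) (nat_lit 2052))
) (.node (nat_lit 0xe63d56ffa) (.leaf (nat_lit 0xe63577f7a) (nat_lit 3333))
 (.leaf (nat_lit 0xe63d56ffa) (nat_lit 2817))
)))) (.node (nat_lit 0xe74425f3e) (.node (nat_lit 0xe721b5f6c) (.node (nat_lit 0xe650e7f28) (.leaf (nat_lit 0xe64435f6a) (nat_lit 1025))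
 (.node (nat_lit 0xe654f7f7a) (.leaf (nat_lit 0xe650e7f28) (nat_lit 2049))
 (.leaf (nat_lit 0xe654f7f7a) (nat_lit 2305))
)) (.node (nat_lit 0xe73567f3e) (.node (nat_lit 0xe72994bcc) (.leaf (nat_lit 0xe721b5f6c) (nat_lit 2305))
 (.leaf (nat_lit 0xe72994bcc) (nat_lit 2564))
) (.node (nat_lit 0xe73d46b9e) (.leaf (nat_lit 0xe73567f3e) (nat_lit 2309))
 (.leaf (nat_lit 0xe73d46b9e) (nat_lit 2305))
))) (.node (nat_lit 0xe87302a08) (.node (nat_lit 0xe75cc67ae) (.node (nat_lit 0xe758d63dc) (.leaf (nat_lit 0xe74425f3e) (nat_lit 1537))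
 (.leaf (nat_lit 0xe758d63dc) (nat_lit 2561))
) (.node (nat_lit 0xe863b1678) (.leaf (nat_lit 0xe75cc67ae) (nat_lit 2049))
 (.leaf (nat_lit 0xe863b1678) (nat_lit 2821))
)) (.node (nat_lit 0xe9337366c) (.node (nat_lit 0xe87ff3aca) (.leaf (nat_lit 0xe87302a08) (nat_lit 2309))
 (.leaf (nat_lit 0xe87ff3aca) (nat_lit 3077))
) (.node (nat_lit 0xe937f3e7e) (.leaf (nat_lit 0xe9337366c) (nat_lit 3076))
 (.leaf (nat_lit 0xe937f3e7e) (nat_lit 2564))
))))) (.node (nat_lit 0xea1ad2bd8) (.node (nat_lit 0xea12d2778) (.node (nat_lit 0xe95673e7e) (.node (nat_lit 0xe93ff3ade) (.leaf (nat_lit 0xe93b732cc) (nat_lit 2820))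
 (.node (nat_lit 0xe94210a4c) (.leaf (nat_lit 0xe93ff3ade) (nat_lit 2564))
 (.leaf (nat_lit 0xe94210a4c) (nat_lit 2818))
)) (.node (nat_lit 0xea0210f78) (.node (nat_lit 0xe95aa329c) (.leaf (nat_lit 0xe95673e7e) (nat_lit 3076))
 (.leaf (nat_lit 0xe95aa329c) (nat_lit 1794))
) (.node (nat_lit 0xea0a317f8) (.leaf (nat_lit 0xea0210f78) (nat_lit 2048))
 (.leaf (nat_lit 0xea0a317f8) (nat_lit 1794))
))) (.node (nat_lit 0xea1673b4a) (.node (nat_lit 0xea12f3358) (.node (nat_lit 0xea12d2f78) (.leaf (nat_lit 0xea12d2778) (nat_lit 2306))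
 (.leaf (nat_lit 0xea12d2f78) (nat_lit 2048))
) (.node (nat_lit 0xea12f3b58) (.leaf (nat_lit 0xea12f3358) (nat_lit 2050))
 (.leaf (nat_lit 0xea12f3b58) (nat_lit 2051))
)) (.node (nat_lit 0xea1aa37a8) (.node (nat_lit 0xea1a82b88) (.leaf (nat_lit 0xea1673b4a) (nat_lit 1794))
 (.leaf (nat_lit 0xea1a82b88) (nat_lit 1538))
) (.node (nat_lit 0xea1ad23d8) (.leaf (nat_lit 0xea1aa37a8) (nat_lit 1794))
 (.leaf (nat_lit 0xea1ad23d8) (nat_lit 1794))
)))) (.node (nat_lit 0xeb2be1fbc) (.node (nat_lit 0xea77f334a) (.node (nat_lit 0xea1e737ea) (.leaf (nat_lit 0xea1ad2bd8) (nat_lit 1797))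
 (.node (nat_lit 0xea6bb1ff8) (.leaf (nat_lit 0xea1e737ea) (nat_lit 2050))
 (.leaf (nat_lit 0xea6bb1ff8) (nat_lit 2564))
)) (.node (nat_lit 0xeb23e1b1c) (.node (nat_lit 0xea7b02388) (.leaf (nat_lit 0xea77f334a) (nat_lit 2820))
 (.leaf (nat_lit 0xea7b02388) (nat_lit 2565))
) (.node (nat_lit 0xeb2761b0e) (.leaf (nat_lit 0xeb23e1b1c) (nat_lit 2307))
 (.leaf (nat_lit 0xeb2761b0e) (nat_lit 2817))
))) (.node (nat_lit 0xeb5aa3fbc) (.node (nat_lit 0xeb421076c) (.node (nat_lit 0xeb2f61fae) (.leaf (nat_lit 0xeb2be1fbc) (nat_lit 2305))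
 (.leaf (nat_lit 0xeb2f61fae) (nat_lit 2817))
) (.node (nat_lit 0xeb567335e) (.leaf (nat_lit 0xeb421076c) (nat_lit 3072))
 (.leaf (nat_lit 0xeb567335e) (nat_lit 3074))
)) (.node (nat_lit 0xec2f2529a) (.node (nat_lit 0xec270421a) (.leaf (nat_lit 0xeb5aa3fbc) (nat_lit 2306))
 (.leaf (nat_lit 0xec270421a) (nat_lit 3331))
) (.node (nat_lit 0xec37c6a1a) (.leaf (nat_lit 0xec2f2529a) (nat_lit 3077))
 (.leaf (nat_lit 0xec37c6a1a) (nat_lit 2308))
))))))) (.node (nat_lit 0xf5c40421e) (.node (nat_lit 0xf0ed50ada) (.node (nat_lit 0xee3b37ff8) (.node (nat_lit 0xed06f5e7e) (.node (nat_lit 0xec5e166ea) (.node (nat_lit 0xec4a546f8) (.leaf (nat_lit 0xec3fe7a9a) (nat_lit 2051))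
 (.node (nat_lit 0xec5ac66a8) (.leaf (nat_lit 0xec4a546f8) (nat_lit 2560))
 (.leaf (nat_lit 0xec5ac66a8) (nat_lit 2050))
)) (.node (nat_lit 0xed06a562e) (.node (nat_lit 0xed068420e) (.leaf (nat_lit 0xec5e166ea) (nat_lit 3073))
 (.leaf (nat_lit 0xed068420e) (nat_lit 3072))
) (.node (nat_lit 0xed06d4a5e) (.leaf (nat_lit 0xed06a562e) (nat_lit 2816))
 (.leaf (nat_lit 0xed06d4a5e) (nat_lit 1797))
))) (.node (nat_lit 0xed7fe7a8e) (.node (nat_lit 0xed638421c) (.leaf (nat_lit 0xed06f5e7e) (nat_lit 2565))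
 (.node (nat_lit 0xed6775e7e) (.leaf (nat_lit 0xed638421c) (nat_lit 2817))
 (.leaf (nat_lit 0xed6775e7e) (nat_lit 3072))
)) (.node (nat_lit 0xee2bf5ff8) (.node (nat_lit 0xee23d4f78) (.leaf (nat_lit 0xed7fe7a8e) (nat_lit 2818))
 (.leaf (nat_lit 0xee23d4f78) (nat_lit 2565))
) (.node (nat_lit 0xee3316f78) (.leaf (nat_lit 0xee2bf5ff8) (nat_lit 2820))
 (.leaf (nat_lit 0xee3316f78) (nat_lit 2819))
)))) (.node (nat_lit 0xef1ae7fbc) (.node (nat_lit 0xee5e37fea) (.node (nat_lit 0xee4a75ff8) (.leaf (nat_lit 0xee3b37ff8) (nat_lit 2820))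
 (.node (nat_lit 0xee5ae7fa8) (.leaf (nat_lit 0xee4a75ff8) (nat_lit 2820))
 (.leaf (nat_lit 0xee5ae7fa8) (nat_lit 2050))
)) (.node (nat_lit 0xef1ab7fec) (.node (nat_lit 0xef1a96bcc) (.leaf (nat_lit 0xee5e37fea) (nat_lit 2817))
 (.leaf (nat_lit 0xef1a96bcc) (nat_lit 2050))
) (.node (nat_lit 0xef1ac6b9c) (.leaf (nat_lit 0xef1ab7fec) (nat_lit 2306))
 (.leaf (nat_lit 0xef1ac6b9c) (nat_lit 2051))
))) (.node (nat_lit 0xf08421e3a) (.node (nat_lit 0xef6f543de) (.node (nat_lit 0xef6ba5fbc) (.leaf (nat_lit 0xef1ae7fbc) (nat_lit 2307))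
 (.leaf (nat_lit 0xef6ba5fbc) (nat_lit 2819))
) (.node (nat_lit 0xef77c672e) (.leaf (nat_lit 0xef6f543de) (nat_lit 2560))
 (.leaf (nat_lit 0xef77c672e) (nat_lit 3077))
)) (.node (nat_lit 0xf08ca16aa) (.node (nat_lit 0xf088a1298) (.leaf (nat_lit 0xf08421e3a) (nat_lit 2050))
 (.leaf (nat_lit 0xf088a1298) (nat_lit 2561))
) (.node (nat_lit 0xf0e1b1e68) (.leaf (nat_lit 0xf08ca16aa) (nat_lit 2565))
 (.leaf (nat_lit 0xf0e1b1e68) (nat_lit 2816))
))))) (.node (nat_lit 0xf2d863b98) (.node (nat_lit 0xf1ed50efe) (.node (nat_lit 0xf18431e6e) (.node (nat_lit 0xf0f563e3a) (.leaf (nat_lit 0xf0ed50ada) (nat_lit 2051))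
 (.node (nat_lit 0xf0f982a88) (.leaf (nat_lit 0xf0f563e3a) (nat_lit 2304))
 (.leaf (nat_lit 0xf0f982a88) (nat_lit 2820))
)) (.node (nat_lit 0xf194f3e7e) (.node (nat_lit 0xf190e3e2c) (.leaf (nat_lit 0xf18431e6e) (nat_lit 1541))
 (.leaf (nat_lit 0xf190e3e2c) (nat_lit 2560))
) (.node (nat_lit 0xf1e5b1e7e) (.leaf (nat_lit 0xf194f3e7e) (nat_lit 2564))
 (.leaf (nat_lit 0xf1e5b1e7e) (nat_lit 2308))
))) (.node (nat_lit 0xf2b102b08) (.node (nat_lit 0xf1fd92efe) (.node (nat_lit 0xf1f573e7e) (.leaf (nat_lit 0xf1ed50efe) (nat_lit 2562))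
 (.leaf (nat_lit 0xf1f573e7e) (nat_lit 3076))
) (.node (nat_lit 0xf2ad503da) (.leaf (nat_lit 0xf1fd92efe) (nat_lit 2052))
 (.leaf (nat_lit 0xf2ad503da) (nat_lit 3074))
)) (.node (nat_lit 0xf2d802388) (.node (nat_lit 0xf2b9f3ff8) (.leaf (nat_lit 0xf2b102b08) (nat_lit 2821))
 (.leaf (nat_lit 0xf2b9f3ff8) (nat_lit 2821))
) (.node (nat_lit 0xf2d8127e8) (.leaf (nat_lit 0xf2d802388) (nat_lit 2821))
 (.leaf (nat_lit 0xf2d8127e8) (nat_lit 2565))
)))) (.node (nat_lit 0xf4b527e3a) (.node (nat_lit 0xf3b112b4c) (.node (nat_lit 0xf2d873ff8) (.leaf (nat_lit 0xf2d863b98) (nat_lit 2053))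
 (.node (nat_lit 0xf3ad507fe) (.leaf (nat_lit 0xf2d873ff8) (nat_lit 2821))
 (.leaf (nat_lit 0xf3ad507fe) (nat_lit 2308))
)) (.node (nat_lit 0xf4a184218) (.node (nat_lit 0xf3bde3b8e) (.leaf (nat_lit 0xf3b112b4c) (nat_lit 3076))
 (.leaf (nat_lit 0xf3bde3b8e) (nat_lit 2309))
) (.node (nat_lit 0xf4a9756e8) (.leaf (nat_lit 0xf4a184218) (nat_lit 2309))
 (.leaf (nat_lit 0xf4a9756e8) (nat_lit 2820))
))) (.node (nat_lit 0xf4c475a5a) (.node (nat_lit 0xf4c465e3a) (.node (nat_lit 0xf4c465e2a) (.leaf (nat_lit 0xf4b527e3a) (nat_lit 2821))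
 (.leaf (nat_lit 0xf4c465e2a) (nat_lit 2050))
) (.node (nat_lit 0xf4c475a4a) (.leaf (nat_lit 0xf4c465e3a) (nat_lit 1536))
 (.leaf (nat_lit 0xf4c475a4a) (nat_lit 1794))
)) (.node (nat_lit 0xf5a9752cc) (.node (nat_lit 0xf5a58420e) (.leaf (nat_lit 0xf4c475a5a) (nat_lit 1284))
 (.leaf (nat_lit 0xf5a58420e) (nat_lit 2309))
) (.node (nat_lit 0xf5b537e7e) (.leaf (nat_lit 0xf5a9752cc) (nat_lit 2820))
 (.leaf (nat_lit 0xf5b537e7e) (nat_lit 2565))
)))))) (.node (nat_lit 0xf8fb82a88) (.node (nat_lit 0xf68cf5bca) (.node (nat_lit 0xf5d4d667e) (.node (nat_lit 0xf5c465a1e) (.node (nat_lit 0xf5c41466e) (.leaf (nat_lit 0xf5c40421e) (nat_lit 1285))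
 (.node (nat_lit 0xf5c465a0e) (.leaf (nat_lit 0xf5c41466e) (nat_lit 1541))
 (.leaf (nat_lit 0xf5c465a0e) (nat_lit 1541))
)) (.node (nat_lit 0xf5cc94efe) (.node (nat_lit 0xf5c894acc) (.leaf (nat_lit 0xf5c465a1e) (nat_lit 1541))
 (.leaf (nat_lit 0xf5c894acc) (nat_lit 2050))
) (.node (nat_lit 0xf5d0c662c) (.leaf (nat_lit 0xf5cc94efe) (nat_lit 2053))
 (.leaf (nat_lit 0xf5d0c662c) (nat_lit 2306))
))) (.node (nat_lit 0xf5dc46a9e) (.node (nat_lit 0xf5dc2729e) (.leaf (nat_lit 0xf5d4d667e) (nat_lit 1797))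
 (.node (nat_lit 0xf5dc376fe) (.leaf (nat_lit 0xf5dc2729e) (nat_lit 2306))
 (.leaf (nat_lit 0xf5dc376fe) (nat_lit 2053))
)) (.node (nat_lit 0xf6847535a) (.node (nat_lit 0xf5dc56efe) (.leaf (nat_lit 0xf5dc46a9e) (nat_lit 2307))
 (.leaf (nat_lit 0xf5dc56efe) (nat_lit 2563))
) (.node (nat_lit 0xf688f5ff8) (.leaf (nat_lit 0xf6847535a) (nat_lit 1538))
 (.leaf (nat_lit 0xf688f5ff8) (nat_lit 2820))
)))) (.node (nat_lit 0xf794b777e) (.node (nat_lit 0xf6f146b18) (.node (nat_lit 0xf6e5f534a) (.leaf (nat_lit 0xf68cf5bca) (nat_lit 2564))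
 (.node (nat_lit 0xf6e975ff8) (.leaf (nat_lit 0xf6e5f534a) (nat_lit 2564))
 (.leaf (nat_lit 0xf6e975ff8) (nat_lit 3076))
)) (.node (nat_lit 0xf7847576e) (.node (nat_lit 0xf6fdc67aa) (.leaf (nat_lit 0xf6f146b18) (nat_lit 2818))
 (.leaf (nat_lit 0xf6fdc67aa) (nat_lit 2820))
) (.node (nat_lit 0xf790a772c) (.leaf (nat_lit 0xf7847576e) (nat_lit 1794))
 (.leaf (nat_lit 0xf790a772c) (nat_lit 2817))
))) (.node (nat_lit 0xf7f9d63dc) (.node (nat_lit 0xf7e975bdc) (.node (nat_lit 0xf7e1f535c) (.leaf (nat_lit 0xf794b777e) (nat_lit 2308))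
 (.leaf (nat_lit 0xf7e1f535c) (nat_lit 2564))
) (.node (nat_lit 0xf7f156b5c) (.leaf (nat_lit 0xf7e975bdc) (nat_lit 2308))
 (.leaf (nat_lit 0xf7f156b5c) (nat_lit 2307))
)) (.node (nat_lit 0xf88aa1eb8) (.node (nat_lit 0xf886a162a) (.leaf (nat_lit 0xf7f9d63dc) (nat_lit 2560))
 (.leaf (nat_lit 0xf886a162a) (nat_lit 3075))
) (.node (nat_lit 0xf88e2129a) (.leaf (nat_lit 0xf88aa1eb8) (nat_lit 2563))
 (.leaf (nat_lit 0xf88e2129a) (nat_lit 2051))
))))) (.node (nat_lit 0xfac6f1f7a) (.node (nat_lit 0xf9c210e7c) (.node (nat_lit 0xf8fbe3eb8) (.node (nat_lit 0xf8fbb3ee8) (.leaf (nat_lit 0xf8fb82a88) (nat_lit 2564))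
 (.node (nat_lit 0xf8fbd2ad8) (.leaf (nat_lit 0xf8fbb3ee8) (nat_lit 2307))
 (.leaf (nat_lit 0xf8fbd2ad8) (nat_lit 2304))
)) (.node (nat_lit 0xf9bbe3eac) (.node (nat_lit 0xf9ab71efc) (.leaf (nat_lit 0xf8fbe3eb8) (nat_lit 2309))
 (.leaf (nat_lit 0xf9ab71efc) (nat_lit 3077))
) (.node (nat_lit 0xf9bf33eee) (.leaf (nat_lit 0xf9bbe3eac) (nat_lit 1795))
 (.leaf (nat_lit 0xf9bf33eee) (nat_lit 2819))
))) (.node (nat_lit 0xfaa771f7a) (.node (nat_lit 0xf9d2d2e7c) (.node (nat_lit 0xf9caf1efc) (.leaf (nat_lit 0xf9c210e7c) (nat_lit 2307))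
 (.leaf (nat_lit 0xf9caf1efc) (nat_lit 2561))
) (.node (nat_lit 0xf9da33efc) (.leaf (nat_lit 0xf9d2d2e7c) (nat_lit 2560))
 (.leaf (nat_lit 0xf9da33efc) (nat_lit 2819))
)) (.node (nat_lit 0xfabbd23d8) (.node (nat_lit 0xfab302b08) (.leaf (nat_lit 0xfaa771f7a) (nat_lit 3584))
 (.leaf (nat_lit 0xfab302b08) (nat_lit 3072))
) (.node (nat_lit 0xfac210768) (.leaf (nat_lit 0xfabbd23d8) (nat_lit 2307))
 (.leaf (nat_lit 0xfac210768) (nat_lit 3075))
)))) (.node (nat_lit 0xfcb377668) (.node (nat_lit 0xfb8210b4c) (.node (nat_lit 0xfada02388) (.leaf (nat_lit 0xfac6f1f7a) (nat_lit 2561))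
 (.node (nat_lit 0xfadee3b9a) (.leaf (nat_lit 0xfada02388) (nat_lit 3072))
 (.leaf (nat_lit 0xfadee3b9a) (nat_lit 2560))
)) (.node (nat_lit 0xfb9ee3b8e) (.node (nat_lit 0xfb92d277c) (.leaf (nat_lit 0xfb8210b4c) (nat_lit 2051))
 (.leaf (nat_lit 0xfb92d277c) (nat_lit 2563))
) (.node (nat_lit 0xfca70421a) (.leaf (nat_lit 0xfb9ee3b8e) (nat_lit 3075))
 (.leaf (nat_lit 0xfca70421a) (nat_lit 3074))
))) (.node (nat_lit 0xfcd2f7a58) (.node (nat_lit 0xfccae5eb8) (.node (nat_lit 0xfcbba7eb8) (.leaf (nat_lit 0xfcb377668) (nat_lit 2819))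
 (.leaf (nat_lit 0xfcbba7eb8) (nat_lit 2307))
) (.node (nat_lit 0xfcce65eaa) (.leaf (nat_lit 0xfccae5eb8) (nat_lit 2816))
 (.leaf (nat_lit 0xfcce65eaa) (nat_lit 2819))
)) (.node (nat_lit 0xfd868420e) (.node (nat_lit 0xfcd677a4a) (.leaf (nat_lit 0xfcd2f7a58) (nat_lit 2564))
 (.leaf (nat_lit 0xfcd677a4a) (nat_lit 2562))
) (.node (nat_lit 0xfd8ab5efc) (.leaf (nat_lit 0xfd868420e) (nat_lit 3331))
 (.leaf (nat_lit 0xfd8ab5efc) (nat_lit 2821))
)))))))) (.node (nat_lit 0x1020448d22) (.node (nat_lit 0x1010848084) (.node (nat_lit 0x10029484a0) (.node (nat_lit 0xfe9677f7a) (.node (nat_lit 0xfdf316e7c) (.node (nat_lit 0xfde3d4e7c) (.node (nat_lit 0xfde38421c) (.leaf (nat_lit 0xfd9a772cc) (nat_lit 2051))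
 (.node (nat_lit 0xfde3b567c) (.leaf (nat_lit 0xfde38421c) (nat_lit 2565))
 (.leaf (nat_lit 0xfde3b567c) (nat_lit 2309))
)) (.node (nat_lit 0xfde765a0e) (.node (nat_lit 0xfde3e5a1c) (.leaf (nat_lit 0xfde3d4e7c) (nat_lit 2053))
 (.leaf (nat_lit 0xfde3e5a1c) (nat_lit 2307))
) (.node (nat_lit 0xfdeb546fc) (.leaf (nat_lit 0xfde765a0e) (nat_lit 2309))
 (.leaf (nat_lit 0xfdeb546fc) (nat_lit 1797))
))) (.node (nat_lit 0xfdfbc66ac) (.node (nat_lit 0xfdfb96acc) (.leaf (nat_lit 0xfdf316e7c) (nat_lit 2051))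
 (.node (nat_lit 0xfdfba729c) (.leaf (nat_lit 0xfdfb96acc) (nat_lit 1541))
 (.leaf (nat_lit 0xfdfba729c) (nat_lit 1539))
)) (.node (nat_lit 0xfdff166ee) (.node (nat_lit 0xfdfbc6a9c) (.leaf (nat_lit 0xfdfbc66ac) (nat_lit 1795))
 (.leaf (nat_lit 0xfdfbc6a9c) (nat_lit 1283))
) (.node (nat_lit 0xfe92f7358) (.leaf (nat_lit 0xfdff166ee) (nat_lit 2563))
 (.leaf (nat_lit 0xfe92f7358) (nat_lit 2818))
)))) (.node (nat_lit 0xffbba77ac) (.node (nat_lit 0xfef7c6b1a) (.node (nat_lit 0xfe9ef7bca) (.leaf (nat_lit 0xfe9677f7a) (nat_lit 2563))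
 (.node (nat_lit 0xfef7c672a) (.leaf (nat_lit 0xfe9ef7bca) (nat_lit 2821))
 (.leaf (nat_lit 0xfef7c672a) (nat_lit 2564))
)) (.node (nat_lit 0xfef7f7f7a) (.node (nat_lit 0xfef7f734a) (.leaf (nat_lit 0xfef7c6b1a) (nat_lit 1795))
 (.leaf (nat_lit 0xfef7f734a) (nat_lit 2563))
) (.node (nat_lit 0xffab357fc) (.leaf (nat_lit 0xfef7f7f7a) (nat_lit 2052))
 (.leaf (nat_lit 0xffab357fc) (nat_lit 2565))
))) (.node (nat_lit 0xffd67735e) (.node (nat_lit 0xffc6d4b5e) (.node (nat_lit 0xffbf777ee) (.leaf (nat_lit 0xffbba77ac) (nat_lit 2307))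
 (.leaf (nat_lit 0xffbf777ee) (nat_lit 2818))
) (.node (nat_lit 0xffce543de) (.leaf (nat_lit 0xffc6d4b5e) (nat_lit 2565))
 (.leaf (nat_lit 0xffce543de) (nat_lit 3072))
)) (.node (nat_lit 0x1002148420) (.node (nat_lit 0xffdef7bde) (.leaf (nat_lit 0xffd67735e) (nat_lit 3076))
 (.leaf (nat_lit 0xffdef7bde) (nat_lit 2053))
) (.node (nat_lit 0x10021c8c20) (.leaf (nat_lit 0x1002148420) (nat_lit 2564))
 (.leaf (nat_lit 0x10021c8c20) (nat_lit 2564))
))))) (.node (nat_lit 0x100544a802) (.node (nat_lit 0x1004418842) (.node (nat_lit 0x10031ebc20) (.node (nat_lit 0x10029c8ca0) (.leaf (nat_lit 0x10029484a0) (nat_lit 2308))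
 (.node (nat_lit 0x100316b420) (.leaf (nat_lit 0x10029c8ca0) (nat_lit 2564))
 (.leaf (nat_lit 0x100316b420) (nat_lit 2564))
)) (.node (nat_lit 0x10039ebca0) (.node (nat_lit 0x100396b4a0) (.leaf (nat_lit 0x10031ebc20) (nat_lit 2308))
 (.leaf (nat_lit 0x100396b4a0) (nat_lit 2308))
) (.node (nat_lit 0x10040c8810) (.leaf (nat_lit 0x10039ebca0) (nat_lit 2306))
 (.leaf (nat_lit 0x10040c8810) (nat_lit 2564))
))) (.node (nat_lit 0x10044c8802) (.node (nat_lit 0x1004448812) (.node (nat_lit 0x1004418852) (.leaf (nat_lit 0x1004418842) (nat_lit 1796))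
 (.leaf (nat_lit 0x1004418852) (nat_lit 1284))
) (.node (nat_lit 0x1004458842) (.leaf (nat_lit 0x1004448812) (nat_lit 1028))
 (.leaf (nat_lit 0x1004458842) (nat_lit 1284))
)) (.node (nat_lit 0x100540a802) (.node (nat_lit 0x100509a850) (.leaf (nat_lit 0x10044c8802) (nat_lit 2306))
 (.leaf (nat_lit 0x100509a850) (nat_lit 2306))
) (.node (nat_lit 0x100541a842) (.leaf (nat_lit 0x100540a802) (nat_lit 3076))
 (.leaf (nat_lit 0x100541a842) (nat_lit 2562))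
)))) (.node (nat_lit 0x1006dc84b2) (.node (nat_lit 0x1006148430) (.node (nat_lit 0x100545a842) (.leaf (nat_lit 0x100544a802) (nat_lit 2562))
 (.node (nat_lit 0x100548a802) (.leaf (nat_lit 0x100545a842) (nat_lit 2818))
 (.leaf (nat_lit 0x100548a802) (nat_lit 2562))
)) (.node (nat_lit 0x1006db94f2) (.node (nat_lit 0x1006d48882) (.leaf (nat_lit 0x1006148430) (nat_lit 2820))
 (.leaf (nat_lit 0x1006d48882) (nat_lit 2563))
) (.node (nat_lit 0x1006db98c2) (.leaf (nat_lit 0x1006db94f2) (nat_lit 1285))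
 (.leaf (nat_lit 0x1006db98c2) (nat_lit 2052))
))) (.node (nat_lit 0x1007d8a882) (.node (nat_lit 0x100713b470) (.node (nat_lit 0x1006df98c2) (.leaf (nat_lit 0x1006dc84b2) (nat_lit 1284))
 (.leaf (nat_lit 0x1006df98c2) (nat_lit 1540))
) (.node (nat_lit 0x1007d0a882) (.leaf (nat_lit 0x100713b470) (nat_lit 2563))
 (.leaf (nat_lit 0x1007d0a882) (nat_lit 2819))
)) (.node (nat_lit 0x1007dca882) (.node (nat_lit 0x1007dbb8c2) (.leaf (nat_lit 0x1007d8a882) (nat_lit 2820))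
 (.leaf (nat_lit 0x1007dbb8c2) (nat_lit 2564))
) (.node (nat_lit 0x1007dfb8c2) (.leaf (nat_lit 0x1007dca882) (nat_lit 2819))
 (.leaf (nat_lit 0x1007dfb8c2) (nat_lit 3076))
)))))) (.node (nat_lit 0x10169b90c4) (.node (nat_lit 0x101397b0c4) (.node (nat_lit 0x1010879cf4) (.node (nat_lit 0x1010848cb4) (.node (nat_lit 0x10108484a4) (.leaf (nat_lit 0x1010848084) (nat_lit 2308))
 (.node (nat_lit 0x1010848894) (.leaf (nat_lit 0x10108484a4) (nat_lit 1796))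
 (.leaf (nat_lit 0x1010848894) (nat_lit 1796))
)) (.node (nat_lit 0x10108794e4) (.node (nat_lit 0x10108790c4) (.leaf (nat_lit 0x1010848cb4) (nat_lit 2052))
 (.leaf (nat_lit 0x10108790c4) (nat_lit 2052))
) (.node (nat_lit 0x10108798d4) (.leaf (nat_lit 0x10108794e4) (nat_lit 1797))
 (.leaf (nat_lit 0x10108798d4) (nat_lit 1796))
))) (.node (nat_lit 0x1012948084) (.node (nat_lit 0x1012148424) (.leaf (nat_lit 0x1010879cf4) (nat_lit 2052))
 (.node (nat_lit 0x10125c8c36) (.leaf (nat_lit 0x1012148424) (nat_lit 2820))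
 (.leaf (nat_lit 0x10125c8c36) (nat_lit 2052))
)) (.node (nat_lit 0x101317b464) (.node (nat_lit 0x1012dc8896) (.leaf (nat_lit 0x1012948084) (nat_lit 2820))
 (.leaf (nat_lit 0x1012dc8896) (nat_lit 2564))
) (.node (nat_lit 0x10135fbc76) (.leaf (nat_lit 0x101317b464) (nat_lit 2820))
 (.leaf (nat_lit 0x10135fbc76) (nat_lit 2308))
)))) (.node (nat_lit 0x1014cc84b6) (.node (nat_lit 0x1014418c76) (.node (nat_lit 0x1013dfb8d6) (.leaf (nat_lit 0x101397b0c4) (nat_lit 2564))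
 (.node (nat_lit 0x1014418c66) (.leaf (nat_lit 0x1013dfb8d6) (nat_lit 2308))
 (.leaf (nat_lit 0x1014418c66) (nat_lit 1540))
)) (.node (nat_lit 0x1014458c76) (.node (nat_lit 0x1014448c26) (.leaf (nat_lit 0x1014418c76) (nat_lit 1540))
 (.leaf (nat_lit 0x1014448c26) (nat_lit 1282))
) (.node (nat_lit 0x10148c8084) (.leaf (nat_lit 0x1014458c76) (nat_lit 1284))
 (.leaf (nat_lit 0x10148c8084) (nat_lit 2308))
))) (.node (nat_lit 0x101547bc76) (.node (nat_lit 0x101543bc76) (.node (nat_lit 0x101542bc36) (.leaf (nat_lit 0x1014cc84b6) (nat_lit 2052))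
 (.leaf (nat_lit 0x101542bc36) (nat_lit 2564))
) (.node (nat_lit 0x101546bc36) (.leaf (nat_lit 0x101543bc76) (nat_lit 2564))
 (.leaf (nat_lit 0x101546bc36) (nat_lit 2052))
)) (.node (nat_lit 0x1015cab4b6) (.node (nat_lit 0x10158bb0c4) (.leaf (nat_lit 0x101547bc76) (nat_lit 2820))
 (.leaf (nat_lit 0x10158bb0c4) (nat_lit 2820))
) (.node (nat_lit 0x1016148434) (.leaf (nat_lit 0x1015cab4b6) (nat_lit 1796))
 (.leaf (nat_lit 0x1016148434) (nat_lit 2565))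
))))) (.node (nat_lit 0x1020418942) (.node (nat_lit 0x10179abcb4) (.node (nat_lit 0x10169f9cf4) (.node (nat_lit 0x10169b9cf4) (.leaf (nat_lit 0x10169b90c4) (nat_lit 2308))
 (.node (nat_lit 0x10169c8084) (.leaf (nat_lit 0x10169b9cf4) (nat_lit 1796))
 (.leaf (nat_lit 0x10169c8084) (nat_lit 2052))
)) (.node (nat_lit 0x101712b434) (.node (nat_lit 0x1016d48ca6) (.leaf (nat_lit 0x10169f9cf4) (nat_lit 2052))
 (.leaf (nat_lit 0x1016d48ca6) (nat_lit 2564))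
) (.node (nat_lit 0x101799acf4) (.leaf (nat_lit 0x101712b434) (nat_lit 2308))
 (.leaf (nat_lit 0x101799acf4) (nat_lit 2306))
))) (.node (nat_lit 0x10200a9110) (.node (nat_lit 0x10179ebcb4) (.node (nat_lit 0x10179dacf4) (.leaf (nat_lit 0x10179abcb4) (nat_lit 2562))
 (.leaf (nat_lit 0x10179dacf4) (nat_lit 2564))
) (.node (nat_lit 0x1017d1ace6) (.leaf (nat_lit 0x10179ebcb4) (nat_lit 2817))
 (.leaf (nat_lit 0x1017d1ace6) (nat_lit 2308))
)) (.node (nat_lit 0x10200c8910) (.node (nat_lit 0x10200a9910) (.leaf (nat_lit 0x10200a9110) (nat_lit 2050))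
 (.leaf (nat_lit 0x10200a9910) (nat_lit 1795))
) (.node (nat_lit 0x10200e9110) (.leaf (nat_lit 0x10200c8910) (nat_lit 1795))
 (.leaf (nat_lit 0x10200e9110) (nat_lit 1794))
)))) (.node (nat_lit 0x1020429d32) (.node (nat_lit 0x1020418d72) (.node (nat_lit 0x1020418952) (.leaf (nat_lit 0x1020418942) (nat_lit 1028))
 (.node (nat_lit 0x1020418d62) (.leaf (nat_lit 0x1020418952) (nat_lit 1026))
 (.leaf (nat_lit 0x1020418d62) (nat_lit 771))
)) (.node (nat_lit 0x1020429532) (.node (nat_lit 0x1020429112) (.leaf (nat_lit 0x1020418d72) (nat_lit 773))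
 (.leaf (nat_lit 0x1020429112) (nat_lit 1283))
) (.node (nat_lit 0x1020429912) (.leaf (nat_lit 0x1020429532) (nat_lit 515))
 (.leaf (nat_lit 0x1020429912) (nat_lit 261))
))) (.node (nat_lit 0x1020439d62) (.node (nat_lit 0x1020439572) (.node (nat_lit 0x1020439152) (.leaf (nat_lit 0x1020429d32) (nat_lit 1026))
 (.leaf (nat_lit 0x1020439152) (nat_lit 1027))
) (.node (nat_lit 0x1020439942) (.leaf (nat_lit 0x1020439572) (nat_lit 770))
 (.leaf (nat_lit 0x1020439942) (nat_lit 772))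
)) (.node (nat_lit 0x1020448532) (.node (nat_lit 0x1020448522) (.leaf (nat_lit 0x1020439d62) (nat_lit 517))
 (.leaf (nat_lit 0x1020448522) (nat_lit 1285))
) (.node (nat_lit 0x1020448912) (.leaf (nat_lit 0x1020448532) (nat_lit 259))
 (.leaf (nat_lit 0x1020448912) (nat_lit 0))
))))))) (.node (nat_lit 0x1021c6b182) (.node (nat_lit 0x1020ca9182) (.node (nat_lit 0x10204a9902) (.node (nat_lit 0x1020469d22) (.node (nat_lit 0x1020458942) (.node (nat_lit 0x1020458562) (.leaf (nat_lit 0x1020448d22) (nat_lit 258))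
 (.node (nat_lit 0x1020458572) (.leaf (nat_lit 0x1020458562) (nat_lit 1027))
 (.leaf (nat_lit 0x1020458572) (nat_lit 517))
)) (.node (nat_lit 0x1020469112) (.node (nat_lit 0x1020458d72) (.leaf (nat_lit 0x1020458942) (nat_lit 1028))
 (.leaf (nat_lit 0x1020458d72) (nat_lit 771))
) (.node (nat_lit 0x1020469522) (.leaf (nat_lit 0x1020469112) (nat_lit 260))
 (.leaf (nat_lit 0x1020469522) (nat_lit 516))
))) (.node (nat_lit 0x1020479562) (.node (nat_lit 0x1020469d32) (.leaf (nat_lit 0x1020469d22) (nat_lit 1029))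
 (.node (nat_lit 0x1020479152) (.leaf (nat_lit 0x1020469d32) (nat_lit 516))
 (.leaf (nat_lit 0x1020479152) (nat_lit 514))
)) (.node (nat_lit 0x1020479952) (.node (nat_lit 0x1020479942) (.leaf (nat_lit 0x1020479562) (nat_lit 770))
 (.leaf (nat_lit 0x1020479942) (nat_lit 770))
) (.node (nat_lit 0x10204a9102) (.leaf (nat_lit 0x1020479952) (nat_lit 771))
 (.leaf (nat_lit 0x10204a9102) (nat_lit 2818))
)))) (.node (nat_lit 0x1020c48182) (.node (nat_lit 0x10208a95b0) (.node (nat_lit 0x10204c8902) (.leaf (nat_lit 0x10204a9902) (nat_lit 1794))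
 (.node (nat_lit 0x10204e9102) (.leaf (nat_lit 0x10204c8902) (nat_lit 1538))
 (.leaf (nat_lit 0x10204e9102) (nat_lit 1794))
)) (.node (nat_lit 0x10208c85b0) (.node (nat_lit 0x10208a9db0) (.leaf (nat_lit 0x10208a95b0) (nat_lit 1541))
 (.leaf (nat_lit 0x10208a9db0) (nat_lit 2306))
) (.node (nat_lit 0x10208e9db0) (.leaf (nat_lit 0x10208c85b0) (nat_lit 1538))
 (.leaf (nat_lit 0x10208e9db0) (nat_lit 1794))
))) (.node (nat_lit 0x1020c69182) (.node (nat_lit 0x1020c48982) (.node (nat_lit 0x1020c485a2) (.leaf (nat_lit 0x1020c48182) (nat_lit 2562))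
 (.leaf (nat_lit 0x1020c485a2) (nat_lit 2050))
) (.node (nat_lit 0x1020c48da2) (.leaf (nat_lit 0x1020c48982) (nat_lit 2306))
 (.leaf (nat_lit 0x1020c48da2) (nat_lit 2050))
)) (.node (nat_lit 0x1020c69982) (.node (nat_lit 0x1020c695a2) (.leaf (nat_lit 0x1020c69182) (nat_lit 2306))
 (.leaf (nat_lit 0x1020c695a2) (nat_lit 2053))
) (.node (nat_lit 0x1020c69da2) (.leaf (nat_lit 0x1020c69982) (nat_lit 2306))
 (.leaf (nat_lit 0x1020c69da2) (nat_lit 2050))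
))))) (.node (nat_lit 0x102147b942) (.node (nat_lit 0x10210fb950) (.node (nat_lit 0x1020ce9982) (.node (nat_lit 0x1020ca9982) (.leaf (nat_lit 0x1020ca9182) (nat_lit 2562))
 (.node (nat_lit 0x1020cc8182) (.leaf (nat_lit 0x1020ca9982) (nat_lit 2050))
 (.leaf (nat_lit 0x1020cc8182) (nat_lit 2306))
)) (.node (nat_lit 0x10210bb150) (.node (nat_lit 0x102109a950) (.leaf (nat_lit 0x1020ce9982) (nat_lit 2306))
 (.leaf (nat_lit 0x102109a950) (nat_lit 1539))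
) (.node (nat_lit 0x10210fb150) (.leaf (nat_lit 0x10210bb150) (nat_lit 1540))
 (.leaf (nat_lit 0x10210fb150) (nat_lit 1794))
))) (.node (nat_lit 0x102143b942) (.node (nat_lit 0x102141a942) (.node (nat_lit 0x102140a902) (.leaf (nat_lit 0x10210fb950) (nat_lit 1795))
 (.leaf (nat_lit 0x102140a902) (nat_lit 2818))
) (.node (nat_lit 0x102142b902) (.leaf (nat_lit 0x102141a942) (nat_lit 1794))
 (.leaf (nat_lit 0x102142b902) (nat_lit 2050))
)) (.node (nat_lit 0x102145a942) (.node (nat_lit 0x102144a902) (.leaf (nat_lit 0x102143b942) (nat_lit 2051))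
 (.leaf (nat_lit 0x102144a902) (nat_lit 1794))
) (.node (nat_lit 0x102146b902) (.leaf (nat_lit 0x102145a942) (nat_lit 1795))
 (.leaf (nat_lit 0x102146b902) (nat_lit 2562))
)))) (.node (nat_lit 0x10218da5f0) (.node (nat_lit 0x10214eb102) (.node (nat_lit 0x102148a902) (.leaf (nat_lit 0x102147b942) (nat_lit 1538))
 (.node (nat_lit 0x10214ab102) (.leaf (nat_lit 0x102148a902) (nat_lit 1794))
 (.leaf (nat_lit 0x10214ab102) (nat_lit 2050))
)) (.node (nat_lit 0x102189adf0) (.node (nat_lit 0x10214eb902) (.leaf (nat_lit 0x10214eb102) (nat_lit 2562))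
 (.leaf (nat_lit 0x10214eb902) (nat_lit 2050))
) (.node (nat_lit 0x10218bb5f0) (.leaf (nat_lit 0x102189adf0) (nat_lit 1538))
 (.leaf (nat_lit 0x10218bb5f0) (nat_lit 1282))
))) (.node (nat_lit 0x1021c2b982) (.node (nat_lit 0x1021c0a982) (.node (nat_lit 0x10218dadf0) (.leaf (nat_lit 0x10218da5f0) (nat_lit 1538))
 (.leaf (nat_lit 0x10218dadf0) (nat_lit 2051))
) (.node (nat_lit 0x1021c1ade2) (.leaf (nat_lit 0x1021c0a982) (nat_lit 2562))
 (.leaf (nat_lit 0x1021c1ade2) (nat_lit 2052))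
)) (.node (nat_lit 0x1021c4a182) (.node (nat_lit 0x1021c3bde2) (.leaf (nat_lit 0x1021c2b982) (nat_lit 2306))
 (.leaf (nat_lit 0x1021c3bde2) (nat_lit 2050))
) (.node (nat_lit 0x1021c5a5e2) (.leaf (nat_lit 0x1021c4a182) (nat_lit 2306))
 (.leaf (nat_lit 0x1021c5a5e2) (nat_lit 1796))
)))))) (.node (nat_lit 0x10265f9142) (.node (nat_lit 0x1024418142) (.node (nat_lit 0x10225c8102) (.node (nat_lit 0x1021cab182) (.node (nat_lit 0x1021c7b5e2) (.leaf (nat_lit 0x1021c6b182) (nat_lit 2050))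
 (.node (nat_lit 0x1021c8a982) (.leaf (nat_lit 0x1021c7b5e2) (nat_lit 1794))
 (.leaf (nat_lit 0x1021c8a982) (nat_lit 2050))
)) (.node (nat_lit 0x1021cca982) (.node (nat_lit 0x1021cca182) (.leaf (nat_lit 0x1021cab182) (nat_lit 2306))
 (.leaf (nat_lit 0x1021cca182) (nat_lit 2306))
) (.node (nat_lit 0x1022548102) (.leaf (nat_lit 0x1021cca982) (nat_lit 2306))
 (.leaf (nat_lit 0x1022548102) (nat_lit 3844))
))) (.node (nat_lit 0x10235ca102) (.node (nat_lit 0x1022dc8182) (.node (nat_lit 0x1022d48182) (.leaf (nat_lit 0x10225c8102) (nat_lit 2818))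
 (.leaf (nat_lit 0x1022d48182) (nat_lit 3074))
) (.node (nat_lit 0x102354a102) (.leaf (nat_lit 0x1022dc8182) (nat_lit 2562))
 (.leaf (nat_lit 0x102354a102) (nat_lit 3588))
)) (.node (nat_lit 0x1023dca182) (.node (nat_lit 0x1023d4a182) (.leaf (nat_lit 0x10235ca102) (nat_lit 3076))
 (.leaf (nat_lit 0x1023d4a182) (nat_lit 3074))
) (.node (nat_lit 0x10240c8110) (.leaf (nat_lit 0x1023dca182) (nat_lit 2564))
 (.leaf (nat_lit 0x10240c8110) (nat_lit 2562))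
)))) (.node (nat_lit 0x102541a142) (.node (nat_lit 0x1024458142) (.node (nat_lit 0x1024418152) (.leaf (nat_lit 0x1024418142) (nat_lit 2308))
 (.node (nat_lit 0x1024448112) (.leaf (nat_lit 0x1024418152) (nat_lit 1284))
 (.leaf (nat_lit 0x1024448112) (nat_lit 1028))
)) (.node (nat_lit 0x102509a150) (.node (nat_lit 0x10244c8102) (.leaf (nat_lit 0x1024458142) (nat_lit 1284))
 (.leaf (nat_lit 0x10244c8102) (nat_lit 2564))
) (.node (nat_lit 0x102540a102) (.leaf (nat_lit 0x102509a150) (nat_lit 2562))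
 (.leaf (nat_lit 0x102540a102) (nat_lit 3588))
))) (.node (nat_lit 0x1026548102) (.node (nat_lit 0x102545a142) (.node (nat_lit 0x102544a102) (.leaf (nat_lit 0x102541a142) (nat_lit 2820))
 (.leaf (nat_lit 0x102544a102) (nat_lit 3332))
) (.node (nat_lit 0x102548a102) (.leaf (nat_lit 0x102545a142) (nat_lit 2818))
 (.leaf (nat_lit 0x102548a102) (nat_lit 3332))
)) (.node (nat_lit 0x10265b9d72) (.node (nat_lit 0x10265b9142) (.leaf (nat_lit 0x1026548102) (nat_lit 2820))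
 (.leaf (nat_lit 0x10265b9142) (nat_lit 2564))
) (.node (nat_lit 0x10265c8d32) (.leaf (nat_lit 0x10265b9d72) (nat_lit 1540))
 (.leaf (nat_lit 0x10265c8d32) (nat_lit 1284))
))))) (.node (nat_lit 0x1030458576) (.node (nat_lit 0x102793bdf0) (.node (nat_lit 0x102758a102) (.node (nat_lit 0x1026948db0) (.leaf (nat_lit 0x10265f9142) (nat_lit 1540))
 (.node (nat_lit 0x102750a102) (.leaf (nat_lit 0x1026948db0) (nat_lit 2308))
 (.leaf (nat_lit 0x102750a102) (nat_lit 3330))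
)) (.node (nat_lit 0x10275ca102) (.node (nat_lit 0x10275bb142) (.leaf (nat_lit 0x102758a102) (nat_lit 3332))
 (.leaf (nat_lit 0x10275bb142) (nat_lit 2564))
) (.node (nat_lit 0x10275fb142) (.leaf (nat_lit 0x10275ca102) (nat_lit 3330))
 (.leaf (nat_lit 0x10275fb142) (nat_lit 2564))
))) (.node (nat_lit 0x1030448536) (.node (nat_lit 0x1030448116) (.node (nat_lit 0x1030448106) (.leaf (nat_lit 0x102793bdf0) (nat_lit 2564))
 (.leaf (nat_lit 0x1030448106) (nat_lit 2052))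
) (.node (nat_lit 0x1030448526) (.leaf (nat_lit 0x1030448116) (nat_lit 2052))
 (.leaf (nat_lit 0x1030448526) (nat_lit 1540))
)) (.node (nat_lit 0x1030458156) (.node (nat_lit 0x1030458146) (.leaf (nat_lit 0x1030448536) (nat_lit 1540))
 (.leaf (nat_lit 0x1030458146) (nat_lit 1796))
) (.node (nat_lit 0x1030458566) (.leaf (nat_lit 0x1030458156) (nat_lit 1796))
 (.leaf (nat_lit 0x1030458566) (nat_lit 1796))
)))) (.node (nat_lit 0x10339da5f4) (.node (nat_lit 0x10329c85b4) (.node (nat_lit 0x10321c8114) (.leaf (nat_lit 0x1030458576) (nat_lit 1796))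
 (.node (nat_lit 0x1032548106) (.leaf (nat_lit 0x10321c8114) (nat_lit 2308))
 (.leaf (nat_lit 0x1032548106) (nat_lit 2820))
)) (.node (nat_lit 0x10331da154) (.node (nat_lit 0x1032d485a6) (.leaf (nat_lit 0x10329c85b4) (nat_lit 2308))
 (.leaf (nat_lit 0x1032d485a6) (nat_lit 2562))
) (.node (nat_lit 0x103355a146) (.leaf (nat_lit 0x10331da154) (nat_lit 2564))
 (.leaf (nat_lit 0x103355a146) (nat_lit 2820))
))) (.node (nat_lit 0x1034448106) (.node (nat_lit 0x1034418146) (.node (nat_lit 0x1033d5a5e6) (.leaf (nat_lit 0x10339da5f4) (nat_lit 2306))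
 (.leaf (nat_lit 0x1033d5a5e6) (nat_lit 2564))
) (.node (nat_lit 0x1034418156) (.leaf (nat_lit 0x1034418146) (nat_lit 2052))
 (.leaf (nat_lit 0x1034418156) (nat_lit 1540))
)) (.node (nat_lit 0x10348c8da4) (.node (nat_lit 0x1034458156) (.leaf (nat_lit 0x1034448106) (nat_lit 1796))
 (.leaf (nat_lit 0x1034458156) (nat_lit 1796))
) (.node (nat_lit 0x1034cc8996) (.leaf (nat_lit 0x10348c8da4) (nat_lit 2820))
 (.leaf (nat_lit 0x1034cc8996) (nat_lit 2308))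
))))))))))) (.node (nat_lit 0x174d82f4b8) (.node (nat_lit 0x12f732fd24) (.node (nat_lit 0x10a560a102) (.node (nat_lit 0x106140ed32) (.node (nat_lit 0x10525bdc76) (.node (nat_lit 0x104447d842) (.node (nat_lit 0x10371da154) (.node (nat_lit 0x10361b9d64) (.node (nat_lit 0x103547b156) (.node (nat_lit 0x103543b156) (.leaf (nat_lit 0x103542b116) (nat_lit 2562))
 (.node (nat_lit 0x103546b116) (.leaf (nat_lit 0x103543b156) (nat_lit 2563))
 (.leaf (nat_lit 0x103546b116) (nat_lit 2564))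
)) (.node (nat_lit 0x1035cab996) (.node (nat_lit 0x10358bbde4) (.leaf (nat_lit 0x103547b156) (nat_lit 2818))
 (.leaf (nat_lit 0x10358bbde4) (nat_lit 2562))
) (.node (nat_lit 0x10361b9154) (.leaf (nat_lit 0x1035cab996) (nat_lit 2308))
 (.leaf (nat_lit 0x10361b9154) (nat_lit 1796))
))) (.node (nat_lit 0x1036548106) (.node (nat_lit 0x10361c8d24) (.leaf (nat_lit 0x10361b9d64) (nat_lit 1796))
 (.node (nat_lit 0x10361f9154) (.leaf (nat_lit 0x10361c8d24) (nat_lit 1539))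
 (.leaf (nat_lit 0x10361f9154) (nat_lit 1540))
)) (.node (nat_lit 0x103719a154) (.node (nat_lit 0x1036948994) (.leaf (nat_lit 0x1036548106) (nat_lit 2564))
 (.leaf (nat_lit 0x1036948994) (nat_lit 2308))
) (.node (nat_lit 0x10371ab114) (.leaf (nat_lit 0x103719a154) (nat_lit 2564))
 (.leaf (nat_lit 0x10371ab114) (nat_lit 2308))
)))) (.node (nat_lit 0x104299cce0) (.node (nat_lit 0x103792b994) (.node (nat_lit 0x10371eb114) (.leaf (nat_lit 0x10371da154) (nat_lit 3074))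
 (.node (nat_lit 0x103751a146) (.leaf (nat_lit 0x10371eb114) (nat_lit 2308))
 (.leaf (nat_lit 0x103751a146) (nat_lit 2820))
)) (.node (nat_lit 0x10421bdc60) (.node (nat_lit 0x104215c460) (.leaf (nat_lit 0x103792b994) (nat_lit 2052))
 (.leaf (nat_lit 0x104215c460) (nat_lit 2817))
) (.node (nat_lit 0x104297d4e0) (.leaf (nat_lit 0x10421bdc60) (nat_lit 2308))
 (.leaf (nat_lit 0x104297d4e0) (nat_lit 2564))
))) (.node (nat_lit 0x10439bfce0) (.node (nat_lit 0x104319ec60) (.node (nat_lit 0x104317f460) (.leaf (nat_lit 0x104299cce0) (nat_lit 2308))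
 (.leaf (nat_lit 0x104317f460) (nat_lit 2820))
) (.node (nat_lit 0x104395e4e0) (.leaf (nat_lit 0x104319ec60) (nat_lit 2052))
 (.leaf (nat_lit 0x104395e4e0) (nat_lit 2564))
)) (.node (nat_lit 0x104442d812) (.node (nat_lit 0x10440ad810) (.leaf (nat_lit 0x10439bfce0) (nat_lit 2562))
 (.leaf (nat_lit 0x10440ad810) (nat_lit 2562))
) (.node (nat_lit 0x104443d842) (.leaf (nat_lit 0x104442d812) (nat_lit 772))
 (.leaf (nat_lit 0x104443d842) (nat_lit 1028))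
))))) (.node (nat_lit 0x104712f430) (.node (nat_lit 0x104547f842) (.node (nat_lit 0x10450ff850) (.node (nat_lit 0x104447d852) (.leaf (nat_lit 0x104447d842) (nat_lit 1538))
 (.node (nat_lit 0x10444ad802) (.leaf (nat_lit 0x104447d852) (nat_lit 1028))
 (.leaf (nat_lit 0x10444ad802) (nat_lit 2308))
)) (.node (nat_lit 0x104543f842) (.node (nat_lit 0x104542f802) (.leaf (nat_lit 0x10450ff850) (nat_lit 2308))
 (.leaf (nat_lit 0x104542f802) (nat_lit 2818))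
) (.node (nat_lit 0x104546f802) (.leaf (nat_lit 0x104543f842) (nat_lit 2818))
 (.leaf (nat_lit 0x104546f802) (nat_lit 3075))
))) (.node (nat_lit 0x1046d9c8c2) (.node (nat_lit 0x104615c470) (.node (nat_lit 0x10454ef802) (.leaf (nat_lit 0x104547f842) (nat_lit 2306))
 (.leaf (nat_lit 0x10454ef802) (nat_lit 2562))
) (.node (nat_lit 0x1046d6d882) (.leaf (nat_lit 0x104615c470) (nat_lit 2564))
 (.leaf (nat_lit 0x1046d6d882) (nat_lit 2819))
)) (.node (nat_lit 0x1046ddc8c2) (.node (nat_lit 0x1046dad882) (.leaf (nat_lit 0x1046d9c8c2) (nat_lit 2820))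
 (.leaf (nat_lit 0x1046dad882) (nat_lit 2818))
) (.node (nat_lit 0x1046ded882) (.leaf (nat_lit 0x1046ddc8c2) (nat_lit 2563))
 (.leaf (nat_lit 0x1046ded882) (nat_lit 2818))
)))) (.node (nat_lit 0x105181e8d4) (.node (nat_lit 0x1047daf4b2) (.node (nat_lit 0x1047d2f882) (.leaf (nat_lit 0x104712f430) (nat_lit 2564))
 (.node (nat_lit 0x1047d9e8c2) (.leaf (nat_lit 0x1047d2f882) (nat_lit 2564))
 (.leaf (nat_lit 0x1047d9e8c2) (nat_lit 1284))
)) (.node (nat_lit 0x1047dde8c2) (.node (nat_lit 0x1047dde4f2) (.leaf (nat_lit 0x1047daf4b2) (nat_lit 1028))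
 (.leaf (nat_lit 0x1047dde4f2) (nat_lit 1284))
) (.node (nat_lit 0x105180ecb4) (.leaf (nat_lit 0x1047dde8c2) (nat_lit 1795))
 (.leaf (nat_lit 0x105180ecb4) (nat_lit 2308))
))) (.node (nat_lit 0x105185e4e4) (.node (nat_lit 0x105183fcf4) (.node (nat_lit 0x105182f894) (.leaf (nat_lit 0x105181e8d4) (nat_lit 2052))
 (.leaf (nat_lit 0x105182f894) (nat_lit 1796))
) (.node (nat_lit 0x105184e084) (.leaf (nat_lit 0x105183fcf4) (nat_lit 2052))
 (.leaf (nat_lit 0x105184e084) (nat_lit 2052))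
)) (.node (nat_lit 0x105187f0c4) (.node (nat_lit 0x105186f4a4) (.leaf (nat_lit 0x105185e4e4) (nat_lit 1796))
 (.leaf (nat_lit 0x105186f4a4) (nat_lit 1540))
) (.node (nat_lit 0x105215c464) (.leaf (nat_lit 0x105187f0c4) (nat_lit 1796))
 (.leaf (nat_lit 0x105215c464) (nat_lit 2819))
)))))) (.node (nat_lit 0x10579cecb4) (.node (nat_lit 0x105541ec76) (.node (nat_lit 0x105442dc36) (.node (nat_lit 0x105316f424) (.node (nat_lit 0x105297d0c4) (.leaf (nat_lit 0x10525bdc76) (nat_lit 2308))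
 (.node (nat_lit 0x1052d9c8d6) (.leaf (nat_lit 0x105297d0c4) (nat_lit 2564))
 (.leaf (nat_lit 0x1052d9c8d6) (nat_lit 2307))
)) (.node (nat_lit 0x105394e084) (.node (nat_lit 0x105358ec36) (.leaf (nat_lit 0x105316f424) (nat_lit 2820))
 (.leaf (nat_lit 0x105358ec36) (nat_lit 2308))
) (.node (nat_lit 0x1053daf896) (.leaf (nat_lit 0x105394e084) (nat_lit 2820))
 (.leaf (nat_lit 0x1053daf896) (nat_lit 2308))
))) (.node (nat_lit 0x105446dc36) (.node (nat_lit 0x105443dc66) (.leaf (nat_lit 0x105442dc36) (nat_lit 1282))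
 (.node (nat_lit 0x105446dc26) (.leaf (nat_lit 0x105443dc66) (nat_lit 1026))
 (.leaf (nat_lit 0x105446dc26) (nat_lit 1282))
)) (.node (nat_lit 0x1054cbd4f6) (.node (nat_lit 0x10548bd0c4) (.leaf (nat_lit 0x105446dc36) (nat_lit 1284))
 (.leaf (nat_lit 0x10548bd0c4) (nat_lit 2564))
) (.node (nat_lit 0x105540ec36) (.leaf (nat_lit 0x1054cbd4f6) (nat_lit 2052))
 (.leaf (nat_lit 0x105540ec36) (nat_lit 3077))
)))) (.node (nat_lit 0x10569adcb4) (.node (nat_lit 0x10558ce084) (.node (nat_lit 0x105544ec36) (.leaf (nat_lit 0x105541ec76) (nat_lit 2308))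
 (.node (nat_lit 0x105545ec76) (.leaf (nat_lit 0x105544ec36) (nat_lit 2308))
 (.leaf (nat_lit 0x105545ec76) (nat_lit 2564))
)) (.node (nat_lit 0x105615c474) (.node (nat_lit 0x1055cde4f6) (.leaf (nat_lit 0x10558ce084) (nat_lit 2564))
 (.leaf (nat_lit 0x1055cde4f6) (nat_lit 2052))
) (.node (nat_lit 0x105699ccf4) (.leaf (nat_lit 0x105615c474) (nat_lit 2308))
 (.leaf (nat_lit 0x105699ccf4) (nat_lit 2564))
))) (.node (nat_lit 0x105713f474) (.node (nat_lit 0x10569edcb4) (.node (nat_lit 0x10569dccf4) (.leaf (nat_lit 0x10569adcb4) (nat_lit 2562))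
 (.leaf (nat_lit 0x10569dccf4) (nat_lit 2564))
) (.node (nat_lit 0x1056d6dca6) (.leaf (nat_lit 0x10569edcb4) (nat_lit 2308))
 (.leaf (nat_lit 0x1056d6dca6) (nat_lit 2306))
)) (.node (nat_lit 0x10579bf0c4) (.node (nat_lit 0x105798ecb4) (.leaf (nat_lit 0x105713f474) (nat_lit 2564))
 (.leaf (nat_lit 0x105798ecb4) (nat_lit 1796))
) (.node (nat_lit 0x10579ce084) (.leaf (nat_lit 0x10579bf0c4) (nat_lit 2052))
 (.leaf (nat_lit 0x10579ce084) (nat_lit 2052))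
))))) (.node (nat_lit 0x10604ad102) (.node (nat_lit 0x106041c152) (.node (nat_lit 0x10600ad110) (.node (nat_lit 0x1057d3fce6) (.leaf (nat_lit 0x10579cecb4) (nat_lit 2052))
 (.node (nat_lit 0x106008c110) (.leaf (nat_lit 0x1057d3fce6) (nat_lit 2306))
 (.leaf (nat_lit 0x106008c110) (nat_lit 2820))
)) (.node (nat_lit 0x10600ed110) (.node (nat_lit 0x10600cc110) (.leaf (nat_lit 0x10600ad110) (nat_lit 2818))
 (.leaf (nat_lit 0x10600cc110) (nat_lit 2820))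
) (.node (nat_lit 0x106040c112) (.leaf (nat_lit 0x10600ed110) (nat_lit 2562))
 (.leaf (nat_lit 0x106040c112) (nat_lit 2308))
))) (.node (nat_lit 0x106045c152) (.node (nat_lit 0x106043d152) (.node (nat_lit 0x106042d112) (.leaf (nat_lit 0x106041c152) (nat_lit 1540))
 (.leaf (nat_lit 0x106042d112) (nat_lit 1538))
) (.node (nat_lit 0x106044c112) (.leaf (nat_lit 0x106043d152) (nat_lit 1284))
 (.leaf (nat_lit 0x106044c112) (nat_lit 1284))
)) (.node (nat_lit 0x106047d152) (.node (nat_lit 0x106046d112) (.leaf (nat_lit 0x106045c152) (nat_lit 2052))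
 (.leaf (nat_lit 0x106046d112) (nat_lit 1028))
) (.node (nat_lit 0x106048c102) (.leaf (nat_lit 0x106047d152) (nat_lit 1282))
 (.leaf (nat_lit 0x106048c102) (nat_lit 3844))
)))) (.node (nat_lit 0x1060c9c9c2) (.node (nat_lit 0x106089cdf0) (.node (nat_lit 0x10604cc102) (.leaf (nat_lit 0x10604ad102) (nat_lit 3075))
 (.node (nat_lit 0x10604ed102) (.leaf (nat_lit 0x10604cc102) (nat_lit 2820))
 (.leaf (nat_lit 0x10604ed102) (nat_lit 2562))
)) (.node (nat_lit 0x10608dcdf0) (.node (nat_lit 0x10608bddf0) (.leaf (nat_lit 0x106089cdf0) (nat_lit 2564))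
 (.leaf (nat_lit 0x10608bddf0) (nat_lit 2564))
) (.node (nat_lit 0x10608fddf0) (.leaf (nat_lit 0x10608dcdf0) (nat_lit 2820))
 (.leaf (nat_lit 0x10608fddf0) (nat_lit 2564))
))) (.node (nat_lit 0x106109e150) (.node (nat_lit 0x1060cdc9c2) (.node (nat_lit 0x1060cbd9c2) (.leaf (nat_lit 0x1060c9c9c2) (nat_lit 2564))
 (.leaf (nat_lit 0x1060cbd9c2) (nat_lit 2308))
) (.node (nat_lit 0x1060cfd9c2) (.leaf (nat_lit 0x1060cdc9c2) (nat_lit 2564))
 (.leaf (nat_lit 0x1060cfd9c2) (nat_lit 2308))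
)) (.node (nat_lit 0x10610de150) (.node (nat_lit 0x10610bf150) (.leaf (nat_lit 0x106109e150) (nat_lit 2564))
 (.leaf (nat_lit 0x10610bf150) (nat_lit 2308))
) (.node (nat_lit 0x10610ff150) (.leaf (nat_lit 0x10610de150) (nat_lit 2820))
 (.leaf (nat_lit 0x10610ff150) (nat_lit 2562))
))))))) (.node (nat_lit 0x107047d566) (.node (nat_lit 0x106440c112) (.node (nat_lit 0x10618cedb0) (.node (nat_lit 0x106147fd72) (.node (nat_lit 0x106143fd72) (.node (nat_lit 0x106141ed72) (.leaf (nat_lit 0x106140ed32) (nat_lit 2564))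
 (.node (nat_lit 0x106142fd32) (.leaf (nat_lit 0x106141ed72) (nat_lit 1540))
 (.leaf (nat_lit 0x106142fd32) (nat_lit 1795))
)) (.node (nat_lit 0x106145ed72) (.node (nat_lit 0x106144ed32) (.leaf (nat_lit 0x106143fd72) (nat_lit 1796))
 (.leaf (nat_lit 0x106144ed32) (nat_lit 1540))
) (.node (nat_lit 0x106146fd32) (.leaf (nat_lit 0x106145ed72) (nat_lit 1539))
 (.leaf (nat_lit 0x106146fd32) (nat_lit 1284))
))) (.node (nat_lit 0x10614ce102) (.node (nat_lit 0x106148e102) (.leaf (nat_lit 0x106147fd72) (nat_lit 2308))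
 (.node (nat_lit 0x10614af102) (.leaf (nat_lit 0x106148e102) (nat_lit 3588))
 (.leaf (nat_lit 0x10614af102) (nat_lit 2818))
)) (.node (nat_lit 0x106188edb0) (.node (nat_lit 0x10614ef102) (.leaf (nat_lit 0x10614ce102) (nat_lit 3076))
 (.leaf (nat_lit 0x10614ef102) (nat_lit 2819))
) (.node (nat_lit 0x10618afdb0) (.leaf (nat_lit 0x106188edb0) (nat_lit 2564))
 (.leaf (nat_lit 0x10618afdb0) (nat_lit 2818))
)))) (.node (nat_lit 0x106258c102) (.node (nat_lit 0x1061cbf9c2) (.node (nat_lit 0x10618efdb0) (.leaf (nat_lit 0x10618cedb0) (nat_lit 2820))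
 (.node (nat_lit 0x1061c9e9c2) (.leaf (nat_lit 0x10618efdb0) (nat_lit 2820))
 (.leaf (nat_lit 0x1061c9e9c2) (nat_lit 2052))
)) (.node (nat_lit 0x1061cff9c2) (.node (nat_lit 0x1061cde9c2) (.leaf (nat_lit 0x1061cbf9c2) (nat_lit 2308))
 (.leaf (nat_lit 0x1061cde9c2) (nat_lit 2564))
) (.node (nat_lit 0x106254c102) (.leaf (nat_lit 0x1061cff9c2) (nat_lit 2820))
 (.leaf (nat_lit 0x106254c102) (nat_lit 3076))
))) (.node (nat_lit 0x106358e102) (.node (nat_lit 0x1062dad182) (.node (nat_lit 0x1062d6d182) (.leaf (nat_lit 0x106258c102) (nat_lit 3074))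
 (.leaf (nat_lit 0x1062d6d182) (nat_lit 2818))
) (.node (nat_lit 0x106354e102) (.leaf (nat_lit 0x1062dad182) (nat_lit 2818))
 (.leaf (nat_lit 0x106354e102) (nat_lit 3332))
)) (.node (nat_lit 0x1063daf182) (.node (nat_lit 0x1063d6f182) (.leaf (nat_lit 0x106358e102) (nat_lit 3331))
 (.leaf (nat_lit 0x1063d6f182) (nat_lit 2818))
) (.node (nat_lit 0x106408c110) (.leaf (nat_lit 0x1063daf182) (nat_lit 2820))
 (.leaf (nat_lit 0x106408c110) (nat_lit 2818))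
))))) (.node (nat_lit 0x10665fd142) (.node (nat_lit 0x106541e142) (.node (nat_lit 0x106445c152) (.node (nat_lit 0x106441c142) (.leaf (nat_lit 0x106440c112) (nat_lit 1284))
 (.node (nat_lit 0x106445c142) (.leaf (nat_lit 0x106441c142) (nat_lit 1540))
 (.leaf (nat_lit 0x106445c142) (nat_lit 2052))
)) (.node (nat_lit 0x10650de150) (.node (nat_lit 0x106448c102) (.leaf (nat_lit 0x106445c152) (nat_lit 1540))
 (.leaf (nat_lit 0x106448c102) (nat_lit 2820))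
) (.node (nat_lit 0x106540e102) (.leaf (nat_lit 0x10650de150) (nat_lit 2820))
 (.leaf (nat_lit 0x106540e102) (nat_lit 3332))
))) (.node (nat_lit 0x106654c102) (.node (nat_lit 0x106545e142) (.node (nat_lit 0x106544e102) (.leaf (nat_lit 0x106541e142) (nat_lit 3074))
 (.leaf (nat_lit 0x106544e102) (nat_lit 3331))
) (.node (nat_lit 0x10654ce102) (.leaf (nat_lit 0x106545e142) (nat_lit 2564))
 (.leaf (nat_lit 0x10654ce102) (nat_lit 3332))
)) (.node (nat_lit 0x10665bd142) (.node (nat_lit 0x106658c102) (.leaf (nat_lit 0x106654c102) (nat_lit 3588))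
 (.leaf (nat_lit 0x106658c102) (nat_lit 3588))
) (.node (nat_lit 0x10665cc102) (.leaf (nat_lit 0x10665bd142) (nat_lit 2820))
 (.leaf (nat_lit 0x10665cc102) (nat_lit 3074))
)))) (.node (nat_lit 0x106790edb0) (.node (nat_lit 0x106758ed32) (.node (nat_lit 0x106697ddf0) (.leaf (nat_lit 0x10665fd142) (nat_lit 2308))
 (.node (nat_lit 0x106750e102) (.leaf (nat_lit 0x106697ddf0) (nat_lit 2820))
 (.leaf (nat_lit 0x106750e102) (nat_lit 3076))
)) (.node (nat_lit 0x10675ff142) (.node (nat_lit 0x10675bf142) (.leaf (nat_lit 0x106758ed32) (nat_lit 1540))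
 (.leaf (nat_lit 0x10675bf142) (nat_lit 1796))
) (.node (nat_lit 0x10675ffd72) (.leaf (nat_lit 0x10675ff142) (nat_lit 2308))
 (.leaf (nat_lit 0x10675ffd72) (nat_lit 1796))
))) (.node (nat_lit 0x107043d576) (.node (nat_lit 0x107041c156) (.node (nat_lit 0x107040c116) (.leaf (nat_lit 0x106790edb0) (nat_lit 2564))
 (.leaf (nat_lit 0x107040c116) (nat_lit 2052))
) (.node (nat_lit 0x107042d536) (.leaf (nat_lit 0x107041c156) (nat_lit 1796))
 (.leaf (nat_lit 0x107042d536) (nat_lit 1540))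
)) (.node (nat_lit 0x107045c146) (.node (nat_lit 0x107044c106) (.leaf (nat_lit 0x107043d576) (nat_lit 1796))
 (.leaf (nat_lit 0x107044c106) (nat_lit 1796))
) (.node (nat_lit 0x107046d526) (.leaf (nat_lit 0x107045c146) (nat_lit 1540))
 (.leaf (nat_lit 0x107046d526) (nat_lit 1284))
)))))) (.node (nat_lit 0x10771ef114) (.node (nat_lit 0x1074c9c9d6) (.node (nat_lit 0x10739bf5f4) (.node (nat_lit 0x10729ad5b4) (.node (nat_lit 0x107218c114) (.leaf (nat_lit 0x107047d566) (nat_lit 1540))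
 (.node (nat_lit 0x107254c106) (.leaf (nat_lit 0x107218c114) (nat_lit 2564))
 (.leaf (nat_lit 0x107254c106) (nat_lit 3076))
)) (.node (nat_lit 0x107319e154) (.node (nat_lit 0x1072d6d5a6) (.leaf (nat_lit 0x10729ad5b4) (nat_lit 2052))
 (.leaf (nat_lit 0x1072d6d5a6) (nat_lit 2818))
) (.node (nat_lit 0x107355e146) (.leaf (nat_lit 0x107319e154) (nat_lit 2308))
 (.leaf (nat_lit 0x107355e146) (nat_lit 2820))
))) (.node (nat_lit 0x107441c146) (.node (nat_lit 0x1073d7f5e6) (.leaf (nat_lit 0x10739bf5f4) (nat_lit 2050))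
 (.node (nat_lit 0x107440c116) (.leaf (nat_lit 0x1073d7f5e6) (nat_lit 2562))
 (.leaf (nat_lit 0x107440c116) (nat_lit 1540))
)) (.node (nat_lit 0x107444c116) (.node (nat_lit 0x107444c106) (.leaf (nat_lit 0x107441c146) (nat_lit 1796))
 (.leaf (nat_lit 0x107444c106) (nat_lit 1796))
) (.node (nat_lit 0x107489cde4) (.leaf (nat_lit 0x107444c116) (nat_lit 1796))
 (.leaf (nat_lit 0x107489cde4) (nat_lit 2308))
)))) (.node (nat_lit 0x107618c114) (.node (nat_lit 0x107546f116) (.node (nat_lit 0x107542f116) (.leaf (nat_lit 0x1074c9c9d6) (nat_lit 2308))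
 (.node (nat_lit 0x107543f156) (.leaf (nat_lit 0x107542f116) (nat_lit 2564))
 (.leaf (nat_lit 0x107543f156) (nat_lit 2308))
)) (.node (nat_lit 0x10758efda4) (.node (nat_lit 0x107547f156) (.leaf (nat_lit 0x107546f116) (nat_lit 2564))
 (.leaf (nat_lit 0x107547f156) (nat_lit 2820))
) (.node (nat_lit 0x1075cff9d6) (.leaf (nat_lit 0x10758efda4) (nat_lit 2562))
 (.leaf (nat_lit 0x1075cff9d6) (nat_lit 2052))
))) (.node (nat_lit 0x107654c106) (.node (nat_lit 0x10761cc114) (.node (nat_lit 0x10761bd154) (.leaf (nat_lit 0x107618c114) (nat_lit 2820))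
 (.leaf (nat_lit 0x10761bd154) (nat_lit 2564))
) (.node (nat_lit 0x10761fd154) (.leaf (nat_lit 0x10761cc114) (nat_lit 2564))
 (.leaf (nat_lit 0x10761fd154) (nat_lit 2308))
)) (.node (nat_lit 0x107719ed64) (.node (nat_lit 0x107697d9d4) (.leaf (nat_lit 0x107654c106) (nat_lit 2564))
 (.leaf (nat_lit 0x107697d9d4) (nat_lit 2052))
) (.node (nat_lit 0x10771af114) (.leaf (nat_lit 0x107719ed64) (nat_lit 1283))
 (.leaf (nat_lit 0x10771af114) (nat_lit 1539))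
))))) (.node (nat_lit 0x10a0e88982) (.node (nat_lit 0x108568a802) (.node (nat_lit 0x107791e9d4) (.node (nat_lit 0x10771efd24) (.leaf (nat_lit 0x10771ef114) (nat_lit 1540))
 (.node (nat_lit 0x107751e146) (.leaf (nat_lit 0x10771efd24) (nat_lit 1539))
 (.leaf (nat_lit 0x107751e146) (nat_lit 2820))
)) (.node (nat_lit 0x1084688802) (.node (nat_lit 0x1084608802) (.leaf (nat_lit 0x107791e9d4) (nat_lit 2308))
 (.leaf (nat_lit 0x1084608802) (nat_lit 3584))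
) (.node (nat_lit 0x108560a802) (.leaf (nat_lit 0x1084688802) (nat_lit 3074))
 (.leaf (nat_lit 0x108560a802) (nat_lit 3332))
))) (.node (nat_lit 0x1087f8a882) (.node (nat_lit 0x1086f88882) (.node (nat_lit 0x1086f08882) (.leaf (nat_lit 0x108568a802) (nat_lit 2818))
 (.leaf (nat_lit 0x1086f08882) (nat_lit 3331))
) (.node (nat_lit 0x1087f0a882) (.leaf (nat_lit 0x1086f88882) (nat_lit 3328))
 (.leaf (nat_lit 0x1087f0a882) (nat_lit 3075))
)) (.node (nat_lit 0x10a0688902) (.node (nat_lit 0x10a0608902) (.leaf (nat_lit 0x1087f8a882) (nat_lit 3076))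
 (.leaf (nat_lit 0x10a0608902) (nat_lit 3330))
) (.node (nat_lit 0x10a0e08982) (.leaf (nat_lit 0x10a0688902) (nat_lit 2306))
 (.leaf (nat_lit 0x10a0e08982) (nat_lit 3074))
)))) (.node (nat_lit 0x10a2f69982) (.node (nat_lit 0x10a1e0a982) (.node (nat_lit 0x10a160a902) (.leaf (nat_lit 0x10a0e88982) (nat_lit 2562))
 (.node (nat_lit 0x10a168a902) (.leaf (nat_lit 0x10a160a902) (nat_lit 3074))
 (.leaf (nat_lit 0x10a168a902) (nat_lit 2050))
)) (.node (nat_lit 0x10a2769902) (.node (nat_lit 0x10a1e8a982) (.leaf (nat_lit 0x10a1e0a982) (nat_lit 2818))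
 (.leaf (nat_lit 0x10a1e8a982) (nat_lit 2306))
) (.node (nat_lit 0x10a27e9902) (.leaf (nat_lit 0x10a2769902) (nat_lit 3589))
 (.leaf (nat_lit 0x10a27e9902) (nat_lit 2565))
))) (.node (nat_lit 0x10a3f6b982) (.node (nat_lit 0x10a376b902) (.node (nat_lit 0x10a2fe9982) (.leaf (nat_lit 0x10a2f69982) (nat_lit 3077))
 (.leaf (nat_lit 0x10a2fe9982) (nat_lit 2565))
) (.node (nat_lit 0x10a37eb902) (.leaf (nat_lit 0x10a376b902) (nat_lit 3333))
 (.leaf (nat_lit 0x10a37eb902) (nat_lit 2309))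
)) (.node (nat_lit 0x10a4608102) (.node (nat_lit 0x10a3feb982) (.leaf (nat_lit 0x10a3f6b982) (nat_lit 3333))
 (.leaf (nat_lit 0x10a3feb982) (nat_lit 2821))
) (.node (nat_lit 0x10a4688102) (.leaf (nat_lit 0x10a4608102) (nat_lit 4101))
 (.leaf (nat_lit 0x10a4688102) (nat_lit 3840))
)))))))) (.node (nat_lit 0x1202108420) (.node (nat_lit 0x11790de154) (.node (nat_lit 0x112c408112) (.node (nat_lit 0x10e4e4c182) (.node (nat_lit 0x10c4eed882) (.node (nat_lit 0x10a6788102) (.node (nat_lit 0x10a568a102) (.leaf (nat_lit 0x10a560a102) (nat_lit 3845))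
 (.node (nat_lit 0x10a6708102) (.leaf (nat_lit 0x10a568a102) (nat_lit 3588))
 (.leaf (nat_lit 0x10a6708102) (nat_lit 3842))
)) (.node (nat_lit 0x10a778a102) (.node (nat_lit 0x10a770a102) (.leaf (nat_lit 0x10a6788102) (nat_lit 3844))
 (.leaf (nat_lit 0x10a770a102) (nat_lit 3586))
) (.node (nat_lit 0x10c4e6d882) (.leaf (nat_lit 0x10a778a102) (nat_lit 3588))
 (.leaf (nat_lit 0x10c4e6d882) (nat_lit 3075))
))) (.node (nat_lit 0x10c676d802) (.node (nat_lit 0x10c5e6f882) (.leaf (nat_lit 0x10c4eed882) (nat_lit 3333))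
 (.node (nat_lit 0x10c5eef882) (.leaf (nat_lit 0x10c5e6f882) (nat_lit 3331))
 (.leaf (nat_lit 0x10c5eef882) (nat_lit 3329))
)) (.node (nat_lit 0x10c776f802) (.node (nat_lit 0x10c67ed802) (.leaf (nat_lit 0x10c676d802) (nat_lit 3586))
 (.leaf (nat_lit 0x10c67ed802) (nat_lit 3073))
) (.node (nat_lit 0x10c77ef802) (.leaf (nat_lit 0x10c776f802) (nat_lit 3586))
 (.leaf (nat_lit 0x10c77ef802) (nat_lit 2818))
)))) (.node (nat_lit 0x10e7fce182) (.node (nat_lit 0x10e5ece182) (.node (nat_lit 0x10e4ecc182) (.leaf (nat_lit 0x10e4e4c182) (nat_lit 3331))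
 (.node (nat_lit 0x10e5e4e182) (.leaf (nat_lit 0x10e4ecc182) (nat_lit 3074))
 (.leaf (nat_lit 0x10e5e4e182) (nat_lit 3333))
)) (.node (nat_lit 0x10e6fcc182) (.node (nat_lit 0x10e6f4c182) (.leaf (nat_lit 0x10e5ece182) (nat_lit 3073))
 (.leaf (nat_lit 0x10e6f4c182) (nat_lit 3074))
) (.node (nat_lit 0x10e7f4e182) (.leaf (nat_lit 0x10e6fcc182) (nat_lit 3073))
 (.leaf (nat_lit 0x10e7f4e182) (nat_lit 3074))
))) (.node (nat_lit 0x112a558152) (.node (nat_lit 0x1128408112) (.node (nat_lit 0x1128088110) (.leaf (nat_lit 0x10e7fce182) (nat_lit 3074))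
 (.leaf (nat_lit 0x1128088110) (nat_lit 3328))
) (.node (nat_lit 0x1128488102) (.leaf (nat_lit 0x1128408112) (nat_lit 2816))
 (.leaf (nat_lit 0x1128488102) (nat_lit 4354))
)) (.node (nat_lit 0x112b1da150) (.node (nat_lit 0x112a588102) (.leaf (nat_lit 0x112a558152) (nat_lit 3072))
 (.leaf (nat_lit 0x112a588102) (nat_lit 3586))
) (.node (nat_lit 0x112c088110) (.leaf (nat_lit 0x112b1da150) (nat_lit 3073))
 (.leaf (nat_lit 0x112c088110) (nat_lit 3332))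
))))) (.node (nat_lit 0x113e558156) (.node (nat_lit 0x11394ca106) (.node (nat_lit 0x112e588102) (.node (nat_lit 0x112c488102) (.leaf (nat_lit 0x112c408112) (nat_lit 1796))
 (.node (nat_lit 0x112e558152) (.leaf (nat_lit 0x112c488102) (nat_lit 3328))
 (.leaf (nat_lit 0x112e558152) (nat_lit 2563))
)) (.node (nat_lit 0x1138408116) (.node (nat_lit 0x112f1da150) (.leaf (nat_lit 0x112e588102) (nat_lit 4099))
 (.leaf (nat_lit 0x112f1da150) (nat_lit 3076))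
) (.node (nat_lit 0x11390da154) (.leaf (nat_lit 0x1138408116) (nat_lit 2560))
 (.leaf (nat_lit 0x11390da154) (nat_lit 2820))
))) (.node (nat_lit 0x113c408116) (.node (nat_lit 0x113a558156) (.node (nat_lit 0x113a188114) (.leaf (nat_lit 0x11394ca106) (nat_lit 3076))
 (.leaf (nat_lit 0x113a188114) (nat_lit 3076))
) (.node (nat_lit 0x113b5ca106) (.leaf (nat_lit 0x113a558156) (nat_lit 2564))
 (.leaf (nat_lit 0x113b5ca106) (nat_lit 2820))
)) (.node (nat_lit 0x113d4ca106) (.node (nat_lit 0x113d0da154) (.leaf (nat_lit 0x113c408116) (nat_lit 2048))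
 (.leaf (nat_lit 0x113d0da154) (nat_lit 3076))
) (.node (nat_lit 0x113e188114) (.leaf (nat_lit 0x113d4ca106) (nat_lit 2816))
 (.leaf (nat_lit 0x113e188114) (nat_lit 3328))
)))) (.node (nat_lit 0x116b1de150) (.node (nat_lit 0x116840c112) (.node (nat_lit 0x113f5ca106) (.leaf (nat_lit 0x113e558156) (nat_lit 2563))
 (.node (nat_lit 0x116808c110) (.leaf (nat_lit 0x113f5ca106) (nat_lit 3076))
 (.leaf (nat_lit 0x116808c110) (nat_lit 3076))
)) (.node (nat_lit 0x116a55c152) (.node (nat_lit 0x116848c102) (.leaf (nat_lit 0x116840c112) (nat_lit 2564))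
 (.leaf (nat_lit 0x116848c102) (nat_lit 4098))
) (.node (nat_lit 0x116a58c102) (.leaf (nat_lit 0x116a55c152) (nat_lit 2820))
 (.leaf (nat_lit 0x116a58c102) (nat_lit 3330))
))) (.node (nat_lit 0x116e55c152) (.node (nat_lit 0x116c40c112) (.node (nat_lit 0x116c08c110) (.leaf (nat_lit 0x116b1de150) (nat_lit 3332))
 (.leaf (nat_lit 0x116c08c110) (nat_lit 3074))
) (.node (nat_lit 0x116c48c102) (.leaf (nat_lit 0x116c40c112) (nat_lit 1540))
 (.leaf (nat_lit 0x116c48c102) (nat_lit 3076))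
)) (.node (nat_lit 0x116f1de150) (.node (nat_lit 0x116e58c102) (.leaf (nat_lit 0x116e55c152) (nat_lit 2307))
 (.leaf (nat_lit 0x116e58c102) (nat_lit 3843))
) (.node (nat_lit 0x117840c116) (.leaf (nat_lit 0x116f1de150) (nat_lit 3076))
 (.leaf (nat_lit 0x117840c116) (nat_lit 2308))
)))))) (.node (nat_lit 0x11ac608102) (.node (nat_lit 0x119a788c36) (.node (nat_lit 0x117d4ce106) (.node (nat_lit 0x117a55c156) (.node (nat_lit 0x11794ce106) (.leaf (nat_lit 0x11790de154) (nat_lit 3075))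
 (.node (nat_lit 0x117a18c114) (.leaf (nat_lit 0x11794ce106) (nat_lit 3075))
 (.leaf (nat_lit 0x117a18c114) (nat_lit 2820))
)) (.node (nat_lit 0x117c40c116) (.node (nat_lit 0x117b5ce106) (.leaf (nat_lit 0x117a55c156) (nat_lit 2820))
 (.leaf (nat_lit 0x117b5ce106) (nat_lit 3072))
) (.node (nat_lit 0x117d0de154) (.leaf (nat_lit 0x117c40c116) (nat_lit 1796))
 (.leaf (nat_lit 0x117d0de154) (nat_lit 3073))
))) (.node (nat_lit 0x117f5ce106) (.node (nat_lit 0x117e18c114) (.leaf (nat_lit 0x117d4ce106) (nat_lit 2564))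
 (.node (nat_lit 0x117e55c156) (.leaf (nat_lit 0x117e18c114) (nat_lit 3076))
 (.leaf (nat_lit 0x117e55c156) (nat_lit 2819))
)) (.node (nat_lit 0x11996fbc76) (.node (nat_lit 0x1198a08cb4) (.leaf (nat_lit 0x117f5ce106) (nat_lit 3076))
 (.leaf (nat_lit 0x1198a08cb4) (nat_lit 2816))
) (.node (nat_lit 0x1199aca084) (.leaf (nat_lit 0x11996fbc76) (nat_lit 2564))
 (.leaf (nat_lit 0x1199aca084) (nat_lit 2820))
)))) (.node (nat_lit 0x119f77bc76) (.node (nat_lit 0x119c608c36) (.node (nat_lit 0x119ab79cf4) (.leaf (nat_lit 0x119a788c36) (nat_lit 2820))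
 (.node (nat_lit 0x119bbca084) (.leaf (nat_lit 0x119ab79cf4) (nat_lit 2821))
 (.leaf (nat_lit 0x119bbca084) (nat_lit 2817))
)) (.node (nat_lit 0x119da4a084) (.node (nat_lit 0x119caf9cf4) (.leaf (nat_lit 0x119c608c36) (nat_lit 3589))
 (.leaf (nat_lit 0x119caf9cf4) (nat_lit 2309))
) (.node (nat_lit 0x119eb88cb4) (.leaf (nat_lit 0x119da4a084) (nat_lit 3077))
 (.leaf (nat_lit 0x119eb88cb4) (nat_lit 2304))
))) (.node (nat_lit 0x11a8a88db0) (.node (nat_lit 0x11a8608d32) (.node (nat_lit 0x119fb4a084) (.leaf (nat_lit 0x119f77bc76) (nat_lit 3332))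
 (.leaf (nat_lit 0x119fb4a084) (nat_lit 2820))
) (.node (nat_lit 0x11a8688102) (.leaf (nat_lit 0x11a8608d32) (nat_lit 3072))
 (.leaf (nat_lit 0x11a8688102) (nat_lit 4101))
)) (.node (nat_lit 0x11aa788102) (.node (nat_lit 0x11aa779d72) (.leaf (nat_lit 0x11a8a88db0) (nat_lit 3072))
 (.leaf (nat_lit 0x11aa779d72) (nat_lit 3333))
) (.node (nat_lit 0x11abbfbdf0) (.leaf (nat_lit 0x11aa788102) (nat_lit 3843))
 (.leaf (nat_lit 0x11abbfbdf0) (nat_lit 3073))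
))))) (.node (nat_lit 0x11de77dc76) (.node (nat_lit 0x11d8acc084) (.node (nat_lit 0x11ae708102) (.node (nat_lit 0x11ac6f9d72) (.leaf (nat_lit 0x11ac608102) (nat_lit 3845))
 (.node (nat_lit 0x11ada7bdf0) (.leaf (nat_lit 0x11ac6f9d72) (nat_lit 2309))
 (.leaf (nat_lit 0x11ada7bdf0) (nat_lit 3073))
)) (.node (nat_lit 0x11aeb08db0) (.node (nat_lit 0x11ae788d32) (.leaf (nat_lit 0x11ae708102) (nat_lit 3584))
 (.leaf (nat_lit 0x11ae788d32) (nat_lit 2052))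
) (.node (nat_lit 0x11d86fdc76) (.leaf (nat_lit 0x11aeb08db0) (nat_lit 3076))
 (.leaf (nat_lit 0x11d86fdc76) (nat_lit 2817))
))) (.node (nat_lit 0x11dbb7fcf4) (.node (nat_lit 0x11dabcc084) (.node (nat_lit 0x11d9a0ecb4) (.leaf (nat_lit 0x11d8acc084) (nat_lit 2817))
 (.leaf (nat_lit 0x11d9a0ecb4) (nat_lit 2564))
) (.node (nat_lit 0x11db78ec36) (.leaf (nat_lit 0x11dabcc084) (nat_lit 2820))
 (.leaf (nat_lit 0x11db78ec36) (nat_lit 2564))
)) (.node (nat_lit 0x11dd60ec36) (.node (nat_lit 0x11dca4c084) (.leaf (nat_lit 0x11dbb7fcf4) (nat_lit 3077))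
 (.leaf (nat_lit 0x11dca4c084) (nat_lit 3076))
) (.node (nat_lit 0x11ddaffcf4) (.leaf (nat_lit 0x11dd60ec36) (nat_lit 3329))
 (.leaf (nat_lit 0x11ddaffcf4) (nat_lit 2565))
)))) (.node (nat_lit 0x11eb77fd72) (.node (nat_lit 0x11e960ed32) (.node (nat_lit 0x11deb4c084) (.leaf (nat_lit 0x11de77dc76) (nat_lit 3329))
 (.node (nat_lit 0x11dfb8ecb4) (.leaf (nat_lit 0x11deb4c084) (nat_lit 2820))
 (.leaf (nat_lit 0x11dfb8ecb4) (nat_lit 2052))
)) (.node (nat_lit 0x11e9a8edb0) (.node (nat_lit 0x11e968e102) (.leaf (nat_lit 0x11e960ed32) (nat_lit 2820))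
 (.leaf (nat_lit 0x11e968e102) (nat_lit 3845))
) (.node (nat_lit 0x11eabfddf0) (.leaf (nat_lit 0x11e9a8edb0) (nat_lit 2820))
 (.leaf (nat_lit 0x11eabfddf0) (nat_lit 3076))
))) (.node (nat_lit 0x11ed6ffd72) (.node (nat_lit 0x11eca7ddf0) (.node (nat_lit 0x11eb78e102) (.leaf (nat_lit 0x11eb77fd72) (nat_lit 3077))
 (.leaf (nat_lit 0x11eb78e102) (nat_lit 3587))
) (.node (nat_lit 0x11ed60e102) (.leaf (nat_lit 0x11eca7ddf0) (nat_lit 3076))
 (.leaf (nat_lit 0x11ed60e102) (nat_lit 3589))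
)) (.node (nat_lit 0x11ef78ed32) (.node (nat_lit 0x11ef70e102) (.leaf (nat_lit 0x11ed6ffd72) (nat_lit 2053))
 (.leaf (nat_lit 0x11ef70e102) (nat_lit 3332))
) (.node (nat_lit 0x11efb0edb0) (.leaf (nat_lit 0x11ef78ed32) (nat_lit 1796))
 (.leaf (nat_lit 0x11efb0edb0) (nat_lit 2820))
))))))) (.node (nat_lit 0x1236908994) (.node (nat_lit 0x1220488902) (.node (nat_lit 0x1212108424) (.node (nat_lit 0x1206108430) (.node (nat_lit 0x1202988ca0) (.node (nat_lit 0x1202188c20) (.leaf (nat_lit 0x1202108420) (nat_lit 3077))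
 (.node (nat_lit 0x12029084a0) (.leaf (nat_lit 0x1202188c20) (nat_lit 2820))
 (.leaf (nat_lit 0x12029084a0) (nat_lit 2821))
)) (.node (nat_lit 0x1204408812) (.node (nat_lit 0x1204088810) (.leaf (nat_lit 0x1202988ca0) (nat_lit 2820))
 (.leaf (nat_lit 0x1204088810) (nat_lit 3074))
) (.node (nat_lit 0x1204488802) (.leaf (nat_lit 0x1204408812) (nat_lit 1540))
 (.leaf (nat_lit 0x1204488802) (nat_lit 2818))
))) (.node (nat_lit 0x1210808084) (.node (nat_lit 0x1206d08882) (.leaf (nat_lit 0x1206108430) (nat_lit 3331))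
 (.node (nat_lit 0x1206d884b2) (.leaf (nat_lit 0x1206d08882) (nat_lit 3075))
 (.leaf (nat_lit 0x1206d884b2) (nat_lit 1796))
)) (.node (nat_lit 0x1210808894) (.node (nat_lit 0x12108084a4) (.leaf (nat_lit 0x1210808084) (nat_lit 2819))
 (.leaf (nat_lit 0x12108084a4) (nat_lit 2304))
) (.node (nat_lit 0x1210808cb4) (.leaf (nat_lit 0x1210808894) (nat_lit 2052))
 (.leaf (nat_lit 0x1210808cb4) (nat_lit 2560))
)))) (.node (nat_lit 0x1216108434) (.node (nat_lit 0x1212d88896) (.node (nat_lit 0x1212588c36) (.leaf (nat_lit 0x1212108424) (nat_lit 3077))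
 (.node (nat_lit 0x1212908084) (.leaf (nat_lit 0x1212588c36) (nat_lit 2560))
 (.leaf (nat_lit 0x1212908084) (nat_lit 3333))
)) (.node (nat_lit 0x1214888084) (.node (nat_lit 0x1214408c26) (.leaf (nat_lit 0x1212d88896) (nat_lit 2821))
 (.leaf (nat_lit 0x1214408c26) (nat_lit 1796))
) (.node (nat_lit 0x1214c884b6) (.leaf (nat_lit 0x1214888084) (nat_lit 2816))
 (.leaf (nat_lit 0x1214c884b6) (nat_lit 2564))
))) (.node (nat_lit 0x1220408522) (.node (nat_lit 0x1216d08ca6) (.node (nat_lit 0x1216988084) (.leaf (nat_lit 0x1216108434) (nat_lit 2821))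
 (.leaf (nat_lit 0x1216988084) (nat_lit 2560))
) (.node (nat_lit 0x1220088910) (.leaf (nat_lit 0x1216d08ca6) (nat_lit 3074))
 (.leaf (nat_lit 0x1220088910) (nat_lit 2306))
)) (.node (nat_lit 0x1220408912) (.node (nat_lit 0x1220408532) (.leaf (nat_lit 0x1220408522) (nat_lit 1792))
 (.leaf (nat_lit 0x1220408532) (nat_lit 771))
) (.node (nat_lit 0x1220408d22) (.leaf (nat_lit 0x1220408912) (nat_lit 512))
 (.leaf (nat_lit 0x1220408d22) (nat_lit 770))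
))))) (.node (nat_lit 0x1226588d32) (.node (nat_lit 0x1222508102) (.node (nat_lit 0x1220c085a2) (.node (nat_lit 0x12208885b0) (.leaf (nat_lit 0x1220488902) (nat_lit 2050))
 (.node (nat_lit 0x1220c08182) (.leaf (nat_lit 0x12208885b0) (nat_lit 2050))
 (.leaf (nat_lit 0x1220c08182) (nat_lit 3074))
)) (.node (nat_lit 0x1220c08da2) (.node (nat_lit 0x1220c08982) (.leaf (nat_lit 0x1220c085a2) (nat_lit 2562))
 (.leaf (nat_lit 0x1220c08982) (nat_lit 2818))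
) (.node (nat_lit 0x1220c88182) (.leaf (nat_lit 0x1220c08da2) (nat_lit 2306))
 (.leaf (nat_lit 0x1220c88182) (nat_lit 2818))
))) (.node (nat_lit 0x1224088110) (.node (nat_lit 0x1222d08182) (.node (nat_lit 0x1222588102) (.leaf (nat_lit 0x1222508102) (nat_lit 4357))
 (.leaf (nat_lit 0x1222588102) (nat_lit 3330))
) (.node (nat_lit 0x1222d88182) (.leaf (nat_lit 0x1222d08182) (nat_lit 3589))
 (.leaf (nat_lit 0x1222d88182) (nat_lit 3074))
)) (.node (nat_lit 0x1224488102) (.node (nat_lit 0x1224408112) (.leaf (nat_lit 0x1224088110) (nat_lit 3074))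
 (.leaf (nat_lit 0x1224408112) (nat_lit 1536))
) (.node (nat_lit 0x1226508102) (.leaf (nat_lit 0x1224488102) (nat_lit 3072))
 (.leaf (nat_lit 0x1226508102) (nat_lit 3328))
)))) (.node (nat_lit 0x1232508106) (.node (nat_lit 0x1230408116) (.node (nat_lit 0x1226908db0) (.leaf (nat_lit 0x1226588d32) (nat_lit 1792))
 (.node (nat_lit 0x1230408106) (.leaf (nat_lit 0x1226908db0) (nat_lit 2816))
 (.leaf (nat_lit 0x1230408106) (nat_lit 2565))
)) (.node (nat_lit 0x1230408536) (.node (nat_lit 0x1230408526) (.leaf (nat_lit 0x1230408116) (nat_lit 2304))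
 (.leaf (nat_lit 0x1230408526) (nat_lit 2048))
) (.node (nat_lit 0x1232188114) (.leaf (nat_lit 0x1230408536) (nat_lit 1796))
 (.leaf (nat_lit 0x1232188114) (nat_lit 2816))
))) (.node (nat_lit 0x1234888da4) (.node (nat_lit 0x1232d085a6) (.node (nat_lit 0x12329885b4) (.leaf (nat_lit 0x1232508106) (nat_lit 3333))
 (.leaf (nat_lit 0x12329885b4) (nat_lit 2818))
) (.node (nat_lit 0x1234408106) (.leaf (nat_lit 0x1232d085a6) (nat_lit 3077))
 (.leaf (nat_lit 0x1234408106) (nat_lit 2304))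
)) (.node (nat_lit 0x1236188d24) (.node (nat_lit 0x1234c88996) (.leaf (nat_lit 0x1234888da4) (nat_lit 3077))
 (.leaf (nat_lit 0x1234c88996) (nat_lit 2816))
) (.node (nat_lit 0x1236508106) (.leaf (nat_lit 0x1236188d24) (nat_lit 2052))
 (.leaf (nat_lit 0x1236508106) (nat_lit 3072))
)))))) (.node (nat_lit 0x12a525a150) (.node (nat_lit 0x12a06d8952) (.node (nat_lit 0x128525a850) (.node (nat_lit 0x1283b2bca0) (.node (nat_lit 0x128332bc20) (.leaf (nat_lit 0x1236908994) (nat_lit 2820))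
 (.node (nat_lit 0x12833ab420) (.leaf (nat_lit 0x128332bc20) (nat_lit 2820))
 (.leaf (nat_lit 0x12833ab420) (nat_lit 2816))
)) (.node (nat_lit 0x1284608802) (.node (nat_lit 0x1283bab4a0) (.leaf (nat_lit 0x1283b2bca0) (nat_lit 2560))
 (.leaf (nat_lit 0x1283bab4a0) (nat_lit 2816))
) (.node (nat_lit 0x12846d8852) (.leaf (nat_lit 0x1284608802) (nat_lit 3074))
 (.leaf (nat_lit 0x12846d8852) (nat_lit 1796))
))) (.node (nat_lit 0x12873fb470) (.node (nat_lit 0x1286f794f2) (.leaf (nat_lit 0x128525a850) (nat_lit 2817))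
 (.node (nat_lit 0x1286f88882) (.leaf (nat_lit 0x1286f794f2) (nat_lit 1797))
 (.leaf (nat_lit 0x1286f88882) (nat_lit 3333))
)) (.node (nat_lit 0x12a06a9522) (.node (nat_lit 0x12a0608902) (.leaf (nat_lit 0x12873fb470) (nat_lit 2561))
 (.leaf (nat_lit 0x12a0608902) (nat_lit 2306))
) (.node (nat_lit 0x12a06a9d22) (.leaf (nat_lit 0x12a06a9522) (nat_lit 2048))
 (.leaf (nat_lit 0x12a06a9d22) (nat_lit 1541))
)))) (.node (nat_lit 0x12a125a950) (.node (nat_lit 0x12a0e88182) (.node (nat_lit 0x12a06f9572) (.leaf (nat_lit 0x12a06d8952) (nat_lit 1538))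
 (.node (nat_lit 0x12a0e08182) (.leaf (nat_lit 0x12a06f9572) (nat_lit 1282))
 (.leaf (nat_lit 0x12a0e08182) (nat_lit 2818))
)) (.node (nat_lit 0x12a0ea95a2) (.node (nat_lit 0x12a0e88982) (.leaf (nat_lit 0x12a0e88182) (nat_lit 2818))
 (.leaf (nat_lit 0x12a0e88982) (nat_lit 2818))
) (.node (nat_lit 0x12a0ea9da2) (.leaf (nat_lit 0x12a0ea95a2) (nat_lit 2049))
 (.leaf (nat_lit 0x12a0ea9da2) (nat_lit 2050))
))) (.node (nat_lit 0x12a2f08182) (.node (nat_lit 0x12a2708102) (.node (nat_lit 0x12a1a7b5f0) (.leaf (nat_lit 0x12a125a950) (nat_lit 2050))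
 (.leaf (nat_lit 0x12a1a7b5f0) (nat_lit 1794))
) (.node (nat_lit 0x12a2788102) (.leaf (nat_lit 0x12a2708102) (nat_lit 4101))
 (.leaf (nat_lit 0x12a2788102) (nat_lit 3588))
)) (.node (nat_lit 0x12a4608102) (.node (nat_lit 0x12a2f88182) (.leaf (nat_lit 0x12a2f08182) (nat_lit 3586))
 (.leaf (nat_lit 0x12a2f88182) (nat_lit 3072))
) (.node (nat_lit 0x12a46d8152) (.leaf (nat_lit 0x12a4608102) (nat_lit 3840))
 (.leaf (nat_lit 0x12a46d8152) (nat_lit 2304))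
))))) (.node (nat_lit 0x12d6fadca6) (.node (nat_lit 0x12d1affcf4) (.node (nat_lit 0x12a7bfbdf0) (.node (nat_lit 0x12a6779d72) (.leaf (nat_lit 0x12a525a150) (nat_lit 2817))
 (.node (nat_lit 0x12a6788102) (.leaf (nat_lit 0x12a6779d72) (nat_lit 2309))
 (.leaf (nat_lit 0x12a6788102) (nat_lit 3842))
)) (.node (nat_lit 0x12d1aaf4a4) (.node (nat_lit 0x12d1a8e084) (.leaf (nat_lit 0x12a7bfbdf0) (nat_lit 2817))
 (.leaf (nat_lit 0x12d1a8e084) (nat_lit 2821))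
) (.node (nat_lit 0x12d1ade8d4) (.leaf (nat_lit 0x12d1aaf4a4) (nat_lit 2565))
 (.leaf (nat_lit 0x12d1ade8d4) (nat_lit 2053))
))) (.node (nat_lit 0x12d3b8e084) (.node (nat_lit 0x12d2f5c8d6) (.node (nat_lit 0x12d277dc76) (.leaf (nat_lit 0x12d1affcf4) (nat_lit 2821))
 (.leaf (nat_lit 0x12d277dc76) (nat_lit 2816))
) (.node (nat_lit 0x12d33af424) (.leaf (nat_lit 0x12d2f5c8d6) (nat_lit 2305))
 (.leaf (nat_lit 0x12d33af424) (nat_lit 2561))
)) (.node (nat_lit 0x12d4e7d4f6) (.node (nat_lit 0x12d46adc26) (.leaf (nat_lit 0x12d3b8e084) (nat_lit 3076))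
 (.leaf (nat_lit 0x12d46adc26) (nat_lit 2052))
) (.node (nat_lit 0x12d5a0e084) (.leaf (nat_lit 0x12d4e7d4f6) (nat_lit 2561))
 (.leaf (nat_lit 0x12d5a0e084) (nat_lit 3328))
)))) (.node (nat_lit 0x12f278c106) (.node (nat_lit 0x12f068c106) (.node (nat_lit 0x12d73ff474) (.leaf (nat_lit 0x12d6fadca6) (nat_lit 2818))
 (.node (nat_lit 0x12d7b0e084) (.leaf (nat_lit 0x12d73ff474) (nat_lit 2820))
 (.leaf (nat_lit 0x12d7b0e084) (nat_lit 2821))
)) (.node (nat_lit 0x12f06dc156) (.node (nat_lit 0x12f06ad526) (.leaf (nat_lit 0x12f068c106) (nat_lit 3075))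
 (.leaf (nat_lit 0x12f06ad526) (nat_lit 2819))
) (.node (nat_lit 0x12f06fd576) (.leaf (nat_lit 0x12f06dc156) (nat_lit 2560))
 (.leaf (nat_lit 0x12f06fd576) (nat_lit 2052))
))) (.node (nat_lit 0x12f468c106) (.node (nat_lit 0x12f335e154) (.node (nat_lit 0x12f2fad5a6) (.leaf (nat_lit 0x12f278c106) (nat_lit 2820))
 (.leaf (nat_lit 0x12f2fad5a6) (nat_lit 2305))
) (.node (nat_lit 0x12f3b7f5f4) (.leaf (nat_lit 0x12f335e154) (nat_lit 3077))
 (.leaf (nat_lit 0x12f3b7f5f4) (nat_lit 2563))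
)) (.node (nat_lit 0x12f5a2fda4) (.node (nat_lit 0x12f4e5c9d6) (.leaf (nat_lit 0x12f468c106) (nat_lit 2560))
 (.leaf (nat_lit 0x12f4e5c9d6) (nat_lit 2564))
) (.node (nat_lit 0x12f678c106) (.leaf (nat_lit 0x12f5a2fda4) (nat_lit 2561))
 (.leaf (nat_lit 0x12f678c106) (nat_lit 3329))
))))))))) (.node (nat_lit 0x153840811e) (.node (nat_lit 0x13fe78c106) (.node (nat_lit 0x135e5fdc76) (.node (nat_lit 0x133b96b994) (.node (nat_lit 0x132d89a5f0) (.node (nat_lit 0x132b97bdf0) (.node (nat_lit 0x1328408112) (.node (nat_lit 0x12f7bde9d4) (.leaf (nat_lit 0x12f732fd24) (nat_lit 2053))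
 (.node (nat_lit 0x1328088110) (.leaf (nat_lit 0x12f7bde9d4) (nat_lit 2821))
 (.leaf (nat_lit 0x1328088110) (nat_lit 3331))
)) (.node (nat_lit 0x132a508102) (.node (nat_lit 0x1328488102) (.leaf (nat_lit 0x1328408112) (nat_lit 1797))
 (.leaf (nat_lit 0x1328488102) (nat_lit 3328))
) (.node (nat_lit 0x132a5f9d72) (.leaf (nat_lit 0x132a508102) (nat_lit 3589))
 (.leaf (nat_lit 0x132a5f9d72) (nat_lit 2053))
))) (.node (nat_lit 0x132c418572) (.node (nat_lit 0x132c0e9910) (.leaf (nat_lit 0x132b97bdf0) (nat_lit 3073))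
 (.node (nat_lit 0x132c418562) (.leaf (nat_lit 0x132c0e9910) (nat_lit 2307))
 (.leaf (nat_lit 0x132c418562) (nat_lit 2053))
)) (.node (nat_lit 0x132c479d62) (.node (nat_lit 0x132c469912) (.leaf (nat_lit 0x132c418572) (nat_lit 1029))
 (.leaf (nat_lit 0x132c469912) (nat_lit 773))
) (.node (nat_lit 0x132c4e9902) (.leaf (nat_lit 0x132c479d62) (nat_lit 1029))
 (.leaf (nat_lit 0x132c4e9902) (nat_lit 2309))
)))) (.node (nat_lit 0x132e588102) (.node (nat_lit 0x132dc6b982) (.node (nat_lit 0x132dc0a182) (.leaf (nat_lit 0x132d89a5f0) (nat_lit 2309))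
 (.node (nat_lit 0x132dc1a5e2) (.leaf (nat_lit 0x132dc0a182) (nat_lit 3331))
 (.leaf (nat_lit 0x132dc1a5e2) (nat_lit 2563))
)) (.node (nat_lit 0x132dc8a182) (.node (nat_lit 0x132dc7bde2) (.leaf (nat_lit 0x132dc6b982) (nat_lit 3074))
 (.leaf (nat_lit 0x132dc7bde2) (nat_lit 2565))
) (.node (nat_lit 0x132e508102) (.leaf (nat_lit 0x132dc8a182) (nat_lit 3074))
 (.leaf (nat_lit 0x132e508102) (nat_lit 4100))
))) (.node (nat_lit 0x13398fbde4) (.node (nat_lit 0x132fd8a182) (.node (nat_lit 0x132fd0a182) (.leaf (nat_lit 0x132e588102) (nat_lit 3586))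
 (.leaf (nat_lit 0x132fd0a182) (nat_lit 3329))
) (.node (nat_lit 0x1338408106) (.leaf (nat_lit 0x132fd8a182) (nat_lit 3329))
 (.leaf (nat_lit 0x1338408106) (nat_lit 2308))
)) (.node (nat_lit 0x133a1f9d64) (.node (nat_lit 0x1339ceb996) (.leaf (nat_lit 0x13398fbde4) (nat_lit 2818))
 (.leaf (nat_lit 0x1339ceb996) (nat_lit 2816))
) (.node (nat_lit 0x133a508106) (.leaf (nat_lit 0x133a1f9d64) (nat_lit 2309))
 (.leaf (nat_lit 0x133a508106) (nat_lit 3333))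
))))) (.node (nat_lit 0x134e11c460) (.node (nat_lit 0x133f99a5f4) (.node (nat_lit 0x133c418566) (.node (nat_lit 0x133c408106) (.leaf (nat_lit 0x133b96b994) (nat_lit 2817))
 (.node (nat_lit 0x133c408116) (.leaf (nat_lit 0x133c408106) (nat_lit 2304))
 (.leaf (nat_lit 0x133c408116) (nat_lit 2308))
)) (.node (nat_lit 0x133e188114) (.node (nat_lit 0x133c418576) (.leaf (nat_lit 0x133c418566) (nat_lit 2049))
 (.leaf (nat_lit 0x133c418576) (nat_lit 1537))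
) (.node (nat_lit 0x133e508106) (.leaf (nat_lit 0x133e188114) (nat_lit 3077))
 (.leaf (nat_lit 0x133e508106) (nat_lit 3072))
))) (.node (nat_lit 0x13484ed802) (.node (nat_lit 0x13480ed810) (.node (nat_lit 0x133fd1a5e6) (.leaf (nat_lit 0x133f99a5f4) (nat_lit 2561))
 (.leaf (nat_lit 0x133fd1a5e6) (nat_lit 2817))
) (.node (nat_lit 0x134846d812) (.leaf (nat_lit 0x13480ed810) (nat_lit 2817))
 (.leaf (nat_lit 0x134846d812) (nat_lit 1281))
)) (.node (nat_lit 0x134bd6f882) (.node (nat_lit 0x134a11c470) (.leaf (nat_lit 0x13484ed802) (nat_lit 2817))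
 (.leaf (nat_lit 0x134a11c470) (nat_lit 3075))
) (.node (nat_lit 0x134bd9e4f2) (.leaf (nat_lit 0x134bd6f882) (nat_lit 3333))
 (.leaf (nat_lit 0x134bd9e4f2) (nat_lit 2053))
)))) (.node (nat_lit 0x135a11c474) (.node (nat_lit 0x134f9ffce0) (.node (nat_lit 0x134e1fdc60) (.leaf (nat_lit 0x134e11c460) (nat_lit 2819))
 (.node (nat_lit 0x134f91e4e0) (.leaf (nat_lit 0x134e1fdc60) (nat_lit 2817))
 (.leaf (nat_lit 0x134f91e4e0) (nat_lit 2561))
)) (.node (nat_lit 0x135988e084) (.node (nat_lit 0x135847dc66) (.leaf (nat_lit 0x134f9ffce0) (nat_lit 2819))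
 (.leaf (nat_lit 0x135847dc66) (nat_lit 1537))
) (.node (nat_lit 0x1359c9e4f6) (.leaf (nat_lit 0x135988e084) (nat_lit 3073))
 (.leaf (nat_lit 0x1359c9e4f6) (nat_lit 2305))
))) (.node (nat_lit 0x135d81e4e4) (.node (nat_lit 0x135bd7fce6) (.node (nat_lit 0x135b98e084) (.leaf (nat_lit 0x135a11c474) (nat_lit 2563))
 (.leaf (nat_lit 0x135b98e084) (nat_lit 2820))
) (.node (nat_lit 0x135d80e084) (.leaf (nat_lit 0x135bd7fce6) (nat_lit 2819))
 (.leaf (nat_lit 0x135d80e084) (nat_lit 3077))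
)) (.node (nat_lit 0x135d87fcf4) (.node (nat_lit 0x135d86f894) (.leaf (nat_lit 0x135d81e4e4) (nat_lit 2565))
 (.leaf (nat_lit 0x135d86f894) (nat_lit 2309))
) (.node (nat_lit 0x135e11c464) (.leaf (nat_lit 0x135d87fcf4) (nat_lit 2820))
 (.leaf (nat_lit 0x135e11c464) (nat_lit 2819))
)))))) (.node (nat_lit 0x13ae7b9952) (.node (nat_lit 0x139eb88cb4) (.node (nat_lit 0x139ab08084) (.node (nat_lit 0x1398a08084) (.node (nat_lit 0x135f90e084) (.leaf (nat_lit 0x135e5fdc76) (nat_lit 2561))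
 (.node (nat_lit 0x135fdef896) (.leaf (nat_lit 0x135f90e084) (nat_lit 3073))
 (.leaf (nat_lit 0x135fdef896) (nat_lit 2560))
)) (.node (nat_lit 0x1399edace6) (.node (nat_lit 0x13992eb434) (.leaf (nat_lit 0x1398a08084) (nat_lit 2564))
 (.leaf (nat_lit 0x13992eb434) (nat_lit 2560))
) (.node (nat_lit 0x139a7d8c66) (.leaf (nat_lit 0x1399edace6) (nat_lit 3073))
 (.leaf (nat_lit 0x139a7d8c66) (nat_lit 2050))
))) (.node (nat_lit 0x139ca88084) (.node (nat_lit 0x139bf6b4b6) (.leaf (nat_lit 0x139ab08084) (nat_lit 3332))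
 (.node (nat_lit 0x139c608c36) (.leaf (nat_lit 0x139bf6b4b6) (nat_lit 2820))
 (.leaf (nat_lit 0x139c608c36) (nat_lit 2816))
)) (.node (nat_lit 0x139de3b8d6) (.node (nat_lit 0x139d2bb464) (.leaf (nat_lit 0x139ca88084) (nat_lit 3072))
 (.leaf (nat_lit 0x139d2bb464) (nat_lit 2817))
) (.node (nat_lit 0x139eb88084) (.leaf (nat_lit 0x139de3b8d6) (nat_lit 2565))
 (.leaf (nat_lit 0x139eb88084) (nat_lit 2560))
)))) (.node (nat_lit 0x13aa7d8152) (.node (nat_lit 0x13a8608d32) (.node (nat_lit 0x139ebb94e4) (.leaf (nat_lit 0x139eb88cb4) (nat_lit 2564))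
 (.node (nat_lit 0x139ebb98d4) (.leaf (nat_lit 0x139ebb94e4) (nat_lit 2307))
 (.leaf (nat_lit 0x139ebb98d4) (nat_lit 1795))
)) (.node (nat_lit 0x13a8a88db0) (.node (nat_lit 0x13a8688102) (.leaf (nat_lit 0x13a8608d32) (nat_lit 2051))
 (.leaf (nat_lit 0x13a8688102) (nat_lit 3584))
) (.node (nat_lit 0x13aa708102) (.leaf (nat_lit 0x13a8a88db0) (nat_lit 3077))
 (.leaf (nat_lit 0x13aa708102) (nat_lit 3840))
))) (.node (nat_lit 0x13ade0a182) (.node (nat_lit 0x13ac608102) (.node (nat_lit 0x13ab35a150) (.leaf (nat_lit 0x13aa7d8152) (nat_lit 2307))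
 (.leaf (nat_lit 0x13ab35a150) (nat_lit 3077))
) (.node (nat_lit 0x13ac688102) (.leaf (nat_lit 0x13ac608102) (nat_lit 3843))
 (.leaf (nat_lit 0x13ac688102) (nat_lit 3842))
)) (.node (nat_lit 0x13ae769902) (.node (nat_lit 0x13ade8a182) (.leaf (nat_lit 0x13ade0a182) (nat_lit 3586))
 (.leaf (nat_lit 0x13ade8a182) (nat_lit 3330))
) (.node (nat_lit 0x13ae7b9562) (.leaf (nat_lit 0x13ae769902) (nat_lit 2563))
 (.leaf (nat_lit 0x13ae7b9562) (nat_lit 2307))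
))))) (.node (nat_lit 0x13cb33f850) (.node (nat_lit 0x13affbb5e2) (.node (nat_lit 0x13aeb695b0) (.node (nat_lit 0x13ae7d8d62) (.leaf (nat_lit 0x13ae7b9952) (nat_lit 1283))
 (.node (nat_lit 0x13ae7e9532) (.leaf (nat_lit 0x13ae7d8d62) (nat_lit 1283))
 (.leaf (nat_lit 0x13ae7e9532) (nat_lit 1027))
)) (.node (nat_lit 0x13aff0a182) (.node (nat_lit 0x13af33b950) (.leaf (nat_lit 0x13aeb695b0) (nat_lit 2053))
 (.leaf (nat_lit 0x13af33b950) (nat_lit 2309))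
) (.node (nat_lit 0x13aff8a182) (.leaf (nat_lit 0x13aff0a182) (nat_lit 3077))
 (.leaf (nat_lit 0x13aff8a182) (nat_lit 3077))
))) (.node (nat_lit 0x13c9e6f4b2) (.node (nat_lit 0x13affeb982) (.node (nat_lit 0x13affdade2) (.leaf (nat_lit 0x13affbb5e2) (nat_lit 2309))
 (.leaf (nat_lit 0x13affdade2) (nat_lit 2309))
) (.node (nat_lit 0x13c92ef430) (.leaf (nat_lit 0x13affeb982) (nat_lit 3077))
 (.leaf (nat_lit 0x13c92ef430) (nat_lit 2817))
)) (.node (nat_lit 0x13ca76d802) (.node (nat_lit 0x13c9eef882) (.leaf (nat_lit 0x13c9e6f4b2) (nat_lit 1539))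
 (.leaf (nat_lit 0x13c9eef882) (nat_lit 3075))
) (.node (nat_lit 0x13ca7bd852) (.leaf (nat_lit 0x13ca76d802) (nat_lit 3074))
 (.leaf (nat_lit 0x13ca7bd852) (nat_lit 2052))
)))) (.node (nat_lit 0x13f925ed64) (.node (nat_lit 0x13cd25ec60) (.node (nat_lit 0x13cca5cce0) (.leaf (nat_lit 0x13cb33f850) (nat_lit 2817))
 (.node (nat_lit 0x13ccabd4e0) (.leaf (nat_lit 0x13cca5cce0) (nat_lit 2560))
 (.leaf (nat_lit 0x13ccabd4e0) (nat_lit 2562))
)) (.node (nat_lit 0x13f868c106) (.node (nat_lit 0x13cd2bf460) (.leaf (nat_lit 0x13cd25ec60) (nat_lit 3076))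
 (.leaf (nat_lit 0x13cd2bf460) (nat_lit 2560))
) (.node (nat_lit 0x13f8abd9d4) (.leaf (nat_lit 0x13f868c106) (nat_lit 3331))
 (.leaf (nat_lit 0x13f8abd9d4) (nat_lit 2563))
))) (.node (nat_lit 0x13fc68c106) (.node (nat_lit 0x13fab5cde4) (.node (nat_lit 0x13fa78c106) (.leaf (nat_lit 0x13f925ed64) (nat_lit 1795))
 (.leaf (nat_lit 0x13fa78c106) (nat_lit 2564))
) (.node (nat_lit 0x13fbf3f9d6) (.leaf (nat_lit 0x13fab5cde4) (nat_lit 2561))
 (.leaf (nat_lit 0x13fbf3f9d6) (nat_lit 2304))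
)) (.node (nat_lit 0x13fd25e154) (.node (nat_lit 0x13fca6d5b4) (.leaf (nat_lit 0x13fc68c106) (nat_lit 2817))
 (.leaf (nat_lit 0x13fca6d5b4) (nat_lit 2816))
) (.node (nat_lit 0x13fdebf5e6) (.leaf (nat_lit 0x13fd25e154) (nat_lit 2819))
 (.leaf (nat_lit 0x13fdebf5e6) (nat_lit 2560))
))))))) (.node (nat_lit 0x1497f1acee) (.node (nat_lit 0x143047995e) (.node (nat_lit 0x1420408d2a) (.node (nat_lit 0x140441885a) (.node (nat_lit 0x13fe7ed536) (.node (nat_lit 0x13fe7bd566) (.leaf (nat_lit 0x13fe78c106) (nat_lit 3072))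
 (.node (nat_lit 0x13fe7dc156) (.leaf (nat_lit 0x13fe7bd566) (nat_lit 2819))
 (.leaf (nat_lit 0x13fe7dc156) (nat_lit 2564))
)) (.node (nat_lit 0x140440881a) (.node (nat_lit 0x140440880a) (.leaf (nat_lit 0x13fe7ed536) (nat_lit 2308))
 (.leaf (nat_lit 0x140440880a) (nat_lit 2053))
) (.node (nat_lit 0x140441884a) (.leaf (nat_lit 0x140440881a) (nat_lit 1792))
 (.leaf (nat_lit 0x140441884a) (nat_lit 2052))
))) (.node (nat_lit 0x1414418c6e) (.node (nat_lit 0x1414408c2e) (.leaf (nat_lit 0x140441885a) (nat_lit 1540))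
 (.node (nat_lit 0x1414408c3e) (.leaf (nat_lit 0x1414408c2e) (nat_lit 2048))
 (.leaf (nat_lit 0x1414408c3e) (nat_lit 1797))
)) (.node (nat_lit 0x142040890a) (.node (nat_lit 0x1414418c7e) (.leaf (nat_lit 0x1414418c6e) (nat_lit 1796))
 (.leaf (nat_lit 0x1414418c7e) (nat_lit 1796))
) (.node (nat_lit 0x142040891a) (.leaf (nat_lit 0x142040890a) (nat_lit 1536))
 (.leaf (nat_lit 0x142040891a) (nat_lit 1538))
)))) (.node (nat_lit 0x142440811a) (.node (nat_lit 0x142041895a) (.node (nat_lit 0x1420408d3a) (.leaf (nat_lit 0x1420408d2a) (nat_lit 1283))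
 (.node (nat_lit 0x142041894a) (.leaf (nat_lit 0x1420408d3a) (nat_lit 1280))
 (.leaf (nat_lit 0x142041894a) (nat_lit 1284))
)) (.node (nat_lit 0x1420418d7a) (.node (nat_lit 0x1420418d6a) (.leaf (nat_lit 0x142041895a) (nat_lit 1282))
 (.leaf (nat_lit 0x1420418d6a) (nat_lit 1027))
) (.node (nat_lit 0x142440810a) (.leaf (nat_lit 0x1420418d7a) (nat_lit 1025))
 (.leaf (nat_lit 0x142440810a) (nat_lit 2821))
))) (.node (nat_lit 0x143046991e) (.node (nat_lit 0x142441815a) (.node (nat_lit 0x142441814a) (.leaf (nat_lit 0x142440811a) (nat_lit 1792))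
 (.leaf (nat_lit 0x142441814a) (nat_lit 2565))
) (.node (nat_lit 0x143046990e) (.leaf (nat_lit 0x142441815a) (nat_lit 1540))
 (.leaf (nat_lit 0x143046990e) (nat_lit 1797))
)) (.node (nat_lit 0x1430469d3e) (.node (nat_lit 0x1430469d2e) (.leaf (nat_lit 0x143046991e) (nat_lit 1797))
 (.leaf (nat_lit 0x1430469d2e) (nat_lit 1285))
) (.node (nat_lit 0x143047994e) (.leaf (nat_lit 0x1430469d3e) (nat_lit 1285))
 (.leaf (nat_lit 0x143047994e) (nat_lit 1541))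
))))) (.node (nat_lit 0x146444c52a) (.node (nat_lit 0x144446dc2a) (.node (nat_lit 0x143440810e) (.node (nat_lit 0x1430479d6e) (.leaf (nat_lit 0x143047995e) (nat_lit 1541))
 (.node (nat_lit 0x1430479d7e) (.leaf (nat_lit 0x1430479d6e) (nat_lit 1541))
 (.leaf (nat_lit 0x1430479d7e) (nat_lit 1541))
)) (.node (nat_lit 0x143441814e) (.node (nat_lit 0x143440811e) (.leaf (nat_lit 0x143440810e) (nat_lit 2560))
 (.leaf (nat_lit 0x143440811e) (nat_lit 2053))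
) (.node (nat_lit 0x143441815e) (.leaf (nat_lit 0x143441814e) (nat_lit 2308))
 (.leaf (nat_lit 0x143441815e) (nat_lit 1797))
))) (.node (nat_lit 0x145446d80e) (.node (nat_lit 0x144447dc6a) (.node (nat_lit 0x144446dc3a) (.leaf (nat_lit 0x144446dc2a) (nat_lit 2053))
 (.leaf (nat_lit 0x144446dc3a) (nat_lit 1796))
) (.node (nat_lit 0x144447dc7a) (.leaf (nat_lit 0x144447dc6a) (nat_lit 2049))
 (.leaf (nat_lit 0x144447dc7a) (nat_lit 1537))
)) (.node (nat_lit 0x145447d84e) (.node (nat_lit 0x145446d81e) (.leaf (nat_lit 0x145446d80e) (nat_lit 1793))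
 (.leaf (nat_lit 0x145446d81e) (nat_lit 1793))
) (.node (nat_lit 0x145447d85e) (.leaf (nat_lit 0x145447d84e) (nat_lit 2050))
 (.leaf (nat_lit 0x145447d85e) (nat_lit 1797))
)))) (.node (nat_lit 0x147445c57e) (.node (nat_lit 0x146445c57a) (.node (nat_lit 0x146444c53a) (.leaf (nat_lit 0x146444c52a) (nat_lit 2309))
 (.node (nat_lit 0x146445c56a) (.leaf (nat_lit 0x146444c53a) (nat_lit 1280))
 (.leaf (nat_lit 0x146445c56a) (nat_lit 2053))
)) (.node (nat_lit 0x147444c53e) (.node (nat_lit 0x147444c52e) (.leaf (nat_lit 0x146445c57a) (nat_lit 1025))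
 (.leaf (nat_lit 0x147444c52e) (nat_lit 1793))
) (.node (nat_lit 0x147445c56e) (.leaf (nat_lit 0x147444c53e) (nat_lit 1285))
 (.leaf (nat_lit 0x147445c56e) (nat_lit 2048))
))) (.node (nat_lit 0x148561a84a) (.node (nat_lit 0x148460880a) (.node (nat_lit 0x1484288818) (.leaf (nat_lit 0x147445c57e) (nat_lit 1541))
 (.leaf (nat_lit 0x1484288818) (nat_lit 2820))
) (.node (nat_lit 0x148529a858) (.leaf (nat_lit 0x148460880a) (nat_lit 2821))
 (.leaf (nat_lit 0x148529a858) (nat_lit 2562))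
)) (.node (nat_lit 0x1496f08cae) (.node (nat_lit 0x1496b88cbc) (.leaf (nat_lit 0x148561a84a) (nat_lit 2818))
 (.leaf (nat_lit 0x1496b88cbc) (nat_lit 2818))
) (.node (nat_lit 0x1497b9acfc) (.leaf (nat_lit 0x1496f08cae) (nat_lit 2821))
 (.leaf (nat_lit 0x1497b9acfc) (nat_lit 2562))
)))))) (.node (nat_lit 0x14d63ed81c) (.node (nat_lit 0x14b276990e) (.node (nat_lit 0x14a1a9adf8) (.node (nat_lit 0x14a0a88db8) (.node (nat_lit 0x14a0288918) (.leaf (nat_lit 0x1497f1acee) (nat_lit 2564))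
 (.node (nat_lit 0x14a060890a) (.leaf (nat_lit 0x14a0288918) (nat_lit 2050))
 (.leaf (nat_lit 0x14a060890a) (nat_lit 2306))
)) (.node (nat_lit 0x14a129a958) (.node (nat_lit 0x14a0e08daa) (.leaf (nat_lit 0x14a0a88db8) (nat_lit 2050))
 (.leaf (nat_lit 0x14a0e08daa) (nat_lit 2306))
) (.node (nat_lit 0x14a161a94a) (.leaf (nat_lit 0x14a129a958) (nat_lit 1795))
 (.leaf (nat_lit 0x14a161a94a) (nat_lit 2050))
))) (.node (nat_lit 0x14a460810a) (.node (nat_lit 0x14a1e1adea) (.leaf (nat_lit 0x14a1a9adf8) (nat_lit 1794))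
 (.node (nat_lit 0x14a4288118) (.leaf (nat_lit 0x14a1e1adea) (nat_lit 2308))
 (.leaf (nat_lit 0x14a4288118) (nat_lit 3074))
)) (.node (nat_lit 0x14a561a14a) (.node (nat_lit 0x14a529a158) (.leaf (nat_lit 0x14a460810a) (nat_lit 3331))
 (.leaf (nat_lit 0x14a529a158) (nat_lit 2818))
) (.node (nat_lit 0x14b23e991c) (.leaf (nat_lit 0x14a561a14a) (nat_lit 3076))
 (.leaf (nat_lit 0x14b23e991c) (nat_lit 2051))
)))) (.node (nat_lit 0x14b638811c) (.node (nat_lit 0x14b33fb95c) (.node (nat_lit 0x14b2be9dbc) (.leaf (nat_lit 0x14b276990e) (nat_lit 2565))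
 (.node (nat_lit 0x14b2f69dae) (.leaf (nat_lit 0x14b2be9dbc) (nat_lit 2053))
 (.leaf (nat_lit 0x14b2f69dae) (nat_lit 2565))
)) (.node (nat_lit 0x14b3bfbdfc) (.node (nat_lit 0x14b377b94e) (.leaf (nat_lit 0x14b33fb95c) (nat_lit 2053))
 (.leaf (nat_lit 0x14b377b94e) (nat_lit 2309))
) (.node (nat_lit 0x14b3f7bdee) (.leaf (nat_lit 0x14b3bfbdfc) (nat_lit 2309))
 (.leaf (nat_lit 0x14b3f7bdee) (nat_lit 2563))
))) (.node (nat_lit 0x14c4aedcb8) (.node (nat_lit 0x14b739a15c) (.node (nat_lit 0x14b670810e) (.leaf (nat_lit 0x14b638811c) (nat_lit 3075))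
 (.leaf (nat_lit 0x14b670810e) (nat_lit 3328))
) (.node (nat_lit 0x14b771a14e) (.leaf (nat_lit 0x14b739a15c) (nat_lit 2820))
 (.leaf (nat_lit 0x14b771a14e) (nat_lit 3076))
)) (.node (nat_lit 0x14c5affcf8) (.node (nat_lit 0x14c4e6dcaa) (.leaf (nat_lit 0x14c4aedcb8) (nat_lit 2818))
 (.leaf (nat_lit 0x14c4e6dcaa) (nat_lit 2819))
) (.node (nat_lit 0x14c5e7fcea) (.leaf (nat_lit 0x14c5affcf8) (nat_lit 2817))
 (.leaf (nat_lit 0x14c5e7fcea) (nat_lit 2563))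
))))) (.node (nat_lit 0x150e158468) (.node (nat_lit 0x14e5e5e5ea) (.node (nat_lit 0x14d777f84e) (.node (nat_lit 0x14d676d80e) (.leaf (nat_lit 0x14d63ed81c) (nat_lit 2563))
 (.node (nat_lit 0x14d73ff85c) (.leaf (nat_lit 0x14d676d80e) (nat_lit 2561))
 (.leaf (nat_lit 0x14d73ff85c) (nat_lit 2821))
)) (.node (nat_lit 0x14e4e4c5aa) (.node (nat_lit 0x14e4acc5b8) (.leaf (nat_lit 0x14d777f84e) (nat_lit 2816))
 (.leaf (nat_lit 0x14e4acc5b8) (nat_lit 2560))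
) (.node (nat_lit 0x14e5ade5f8) (.leaf (nat_lit 0x14e4e4c5aa) (nat_lit 2819))
 (.leaf (nat_lit 0x14e5ade5f8) (nat_lit 2305))
))) (.node (nat_lit 0x14f7f5e5ee) (.node (nat_lit 0x14f6f4c5ae) (.node (nat_lit 0x14f6bcc5bc) (.leaf (nat_lit 0x14e5e5e5ea) (nat_lit 2821))
 (.leaf (nat_lit 0x14f6bcc5bc) (nat_lit 2305))
) (.node (nat_lit 0x14f7bde5fc) (.leaf (nat_lit 0x14f6f4c5ae) (nat_lit 2561))
 (.leaf (nat_lit 0x14f7bde5fc) (nat_lit 2560))
)) (.node (nat_lit 0x150a988ca8) (.node (nat_lit 0x150a158478) (.leaf (nat_lit 0x14f7f5e5ee) (nat_lit 2816))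
 (.leaf (nat_lit 0x150a158478) (nat_lit 2563))
) (.node (nat_lit 0x150bdfb8da) (.leaf (nat_lit 0x150a988ca8) (nat_lit 2565))
 (.leaf (nat_lit 0x150bdfb8da) (nat_lit 2051))
)))) (.node (nat_lit 0x151e988cbc) (.node (nat_lit 0x151a15847c) (.node (nat_lit 0x150ed8888a) (.leaf (nat_lit 0x150e158468) (nat_lit 2307))
 (.node (nat_lit 0x150f9ebcb8) (.leaf (nat_lit 0x150ed8888a) (nat_lit 3075))
 (.leaf (nat_lit 0x150f9ebcb8) (nat_lit 2561))
)) (.node (nat_lit 0x151b9ebcac) (.node (nat_lit 0x151ad8889e) (.leaf (nat_lit 0x151a15847c) (nat_lit 2051))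
 (.leaf (nat_lit 0x151ad8889e) (nat_lit 2565))
) (.node (nat_lit 0x151e15846c) (.leaf (nat_lit 0x151b9ebcac) (nat_lit 2051))
 (.leaf (nat_lit 0x151e15846c) (nat_lit 2307))
))) (.node (nat_lit 0x1528c8898a) (.node (nat_lit 0x152840811a) (.node (nat_lit 0x151fdfb8ce) (.leaf (nat_lit 0x151e988cbc) (nat_lit 2819))
 (.leaf (nat_lit 0x151fdfb8ce) (nat_lit 2818))
) (.node (nat_lit 0x1528888db8) (.leaf (nat_lit 0x152840811a) (nat_lit 2048))
 (.leaf (nat_lit 0x1528888db8) (nat_lit 2821))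
)) (.node (nat_lit 0x152d8fbde8) (.node (nat_lit 0x152c40810a) (.leaf (nat_lit 0x1528c8898a) (nat_lit 3072))
 (.leaf (nat_lit 0x152c40810a) (nat_lit 2052))
) (.node (nat_lit 0x152dceb99a) (.leaf (nat_lit 0x152d8fbde8) (nat_lit 2562))
 (.leaf (nat_lit 0x152dceb99a) (nat_lit 2304))
)))))))) (.node (nat_lit 0x165293d0dc) (.node (nat_lit 0x15cff9e8ca) (.node (nat_lit 0x157cc9c9de) (.node (nat_lit 0x155b9ffcec) (.node (nat_lit 0x154a99cce8) (.node (nat_lit 0x153c40810e) (.node (nat_lit 0x15398fbdfc) (.leaf (nat_lit 0x153840811e) (nat_lit 2304))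
 (.node (nat_lit 0x1539ceb98e) (.leaf (nat_lit 0x15398fbdfc) (nat_lit 2563))
 (.leaf (nat_lit 0x1539ceb98e) (nat_lit 2819))
)) (.node (nat_lit 0x153cc8899e) (.node (nat_lit 0x153c888dac) (.leaf (nat_lit 0x153c40810e) (nat_lit 2309))
 (.leaf (nat_lit 0x153c888dac) (nat_lit 2821))
) (.node (nat_lit 0x154a14c438) (.leaf (nat_lit 0x153cc8899e) (nat_lit 2565))
 (.leaf (nat_lit 0x154a14c438) (nat_lit 2307))
))) (.node (nat_lit 0x154ed9c8ca) (.node (nat_lit 0x154bdef89a) (.leaf (nat_lit 0x154a99cce8) (nat_lit 2309))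
 (.node (nat_lit 0x154e14c428) (.leaf (nat_lit 0x154bdef89a) (nat_lit 2307))
 (.leaf (nat_lit 0x154e14c428) (nat_lit 2308))
)) (.node (nat_lit 0x155a14c43c) (.node (nat_lit 0x154f9ffcf8) (.leaf (nat_lit 0x154ed9c8ca) (nat_lit 3077))
 (.leaf (nat_lit 0x154f9ffcf8) (nat_lit 2816))
) (.node (nat_lit 0x155ad9c8de) (.leaf (nat_lit 0x155a14c43c) (nat_lit 2307))
 (.leaf (nat_lit 0x155ad9c8de) (nat_lit 2309))
)))) (.node (nat_lit 0x156c41c14a) (.node (nat_lit 0x155fdef88e) (.node (nat_lit 0x155e14c42c) (.leaf (nat_lit 0x155b9ffcec) (nat_lit 2307))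
 (.node (nat_lit 0x155e99ccfc) (.leaf (nat_lit 0x155e14c42c) (nat_lit 2051))
 (.leaf (nat_lit 0x155e99ccfc) (nat_lit 2563))
)) (.node (nat_lit 0x156889cdf8) (.node (nat_lit 0x156841c15a) (.leaf (nat_lit 0x155fdef88e) (nat_lit 2818))
 (.leaf (nat_lit 0x156841c15a) (nat_lit 1796))
) (.node (nat_lit 0x1568c9c9ca) (.leaf (nat_lit 0x156889cdf8) (nat_lit 2821))
 (.leaf (nat_lit 0x1568c9c9ca) (nat_lit 2820))
))) (.node (nat_lit 0x15798efdbc) (.node (nat_lit 0x156dcff9da) (.node (nat_lit 0x156d8efda8) (.leaf (nat_lit 0x156c41c14a) (nat_lit 1796))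
 (.leaf (nat_lit 0x156d8efda8) (nat_lit 2306))
) (.node (nat_lit 0x157841c15e) (.leaf (nat_lit 0x156dcff9da) (nat_lit 2049))
 (.leaf (nat_lit 0x157841c15e) (nat_lit 2052))
)) (.node (nat_lit 0x157c41c14e) (.node (nat_lit 0x1579cff9ce) (.leaf (nat_lit 0x15798efdbc) (nat_lit 2563))
 (.leaf (nat_lit 0x1579cff9ce) (nat_lit 2563))
) (.node (nat_lit 0x157c89cdec) (.leaf (nat_lit 0x157c41c14e) (nat_lit 2052))
 (.leaf (nat_lit 0x157c89cdec) (nat_lit 2565))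
))))) (.node (nat_lit 0x15a8e8898a) (.node (nat_lit 0x1598a0889c) (.node (nat_lit 0x158bfda4fa) (.node (nat_lit 0x158a388c28) (.leaf (nat_lit 0x157cc9c9de) (nat_lit 2309))
 (.node (nat_lit 0x158ab798d8) (.leaf (nat_lit 0x158a388c28) (nat_lit 2560))
 (.leaf (nat_lit 0x158ab798d8) (nat_lit 2565))
)) (.node (nat_lit 0x158f76bc3a) (.node (nat_lit 0x158ef8888a) (.leaf (nat_lit 0x158bfda4fa) (nat_lit 2049))
 (.leaf (nat_lit 0x158ef8888a) (nat_lit 1792))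
) (.node (nat_lit 0x158fb5a4e8) (.leaf (nat_lit 0x158f76bc3a) (nat_lit 2560))
 (.leaf (nat_lit 0x158fb5a4e8) (nat_lit 2819))
))) (.node (nat_lit 0x159cef98ce) (.node (nat_lit 0x1599eda4fe) (.node (nat_lit 0x15992ebc2c) (.leaf (nat_lit 0x1598a0889c) (nat_lit 2051))
 (.leaf (nat_lit 0x15992ebc2c) (nat_lit 2565))
) (.node (nat_lit 0x159c608c3e) (.leaf (nat_lit 0x1599eda4fe) (nat_lit 2304))
 (.leaf (nat_lit 0x159c608c3e) (nat_lit 2565))
)) (.node (nat_lit 0x15a8288118) (.node (nat_lit 0x159da5a4ec) (.leaf (nat_lit 0x159cef98ce) (nat_lit 1797))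
 (.leaf (nat_lit 0x159da5a4ec) (nat_lit 2561))
) (.node (nat_lit 0x15a8608d3a) (.leaf (nat_lit 0x15a8288118) (nat_lit 3077))
 (.leaf (nat_lit 0x15a8608d3a) (nat_lit 2048))
)))) (.node (nat_lit 0x15be388d2c) (.node (nat_lit 0x15ada6b998) (.node (nat_lit 0x15ac2f9d68) (.leaf (nat_lit 0x15a8e8898a) (nat_lit 2560))
 (.node (nat_lit 0x15ac60810a) (.leaf (nat_lit 0x15ac2f9d68) (nat_lit 2053))
 (.leaf (nat_lit 0x15ac60810a) (nat_lit 3586))
)) (.node (nat_lit 0x15ba779d7e) (.node (nat_lit 0x15ba38811c) (.leaf (nat_lit 0x15ada6b998) (nat_lit 2305))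
 (.leaf (nat_lit 0x15ba38811c) (nat_lit 2819))
) (.node (nat_lit 0x15bbfeb98e) (.leaf (nat_lit 0x15ba779d7e) (nat_lit 2309))
 (.leaf (nat_lit 0x15bbfeb98e) (nat_lit 2561))
))) (.node (nat_lit 0x15cb39ec68) (.node (nat_lit 0x15beb0899c) (.node (nat_lit 0x15be70810e) (.leaf (nat_lit 0x15be388d2c) (nat_lit 1795))
 (.leaf (nat_lit 0x15be70810e) (nat_lit 3328))
) (.node (nat_lit 0x15cafcc4ba) (.leaf (nat_lit 0x15beb0899c) (nat_lit 2565))
 (.leaf (nat_lit 0x15cafcc4ba) (nat_lit 2304))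
)) (.node (nat_lit 0x15ce77dc7a) (.node (nat_lit 0x15cbb6f898) (.leaf (nat_lit 0x15cb39ec68) (nat_lit 2308))
 (.leaf (nat_lit 0x15cbb6f898) (nat_lit 2309))
) (.node (nat_lit 0x15ceb4c4a8) (.leaf (nat_lit 0x15ce77dc7a) (nat_lit 2305))
 (.leaf (nat_lit 0x15ceb4c4a8) (nat_lit 2563))
)))))) (.node (nat_lit 0x162040852a) (.node (nat_lit 0x15fb39e15c) (.node (nat_lit 0x15e929e158) (.node (nat_lit 0x15d9a1e8dc) (.node (nat_lit 0x15d82fdc6c) (.leaf (nat_lit 0x15cff9e8ca) (nat_lit 1540))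
 (.node (nat_lit 0x15d8ecc4be) (.leaf (nat_lit 0x15d82fdc6c) (nat_lit 2561))
 (.leaf (nat_lit 0x15d8ecc4be) (nat_lit 2049))
)) (.node (nat_lit 0x15dd61ec7e) (.node (nat_lit 0x15dca4c4ac) (.leaf (nat_lit 0x15d9a1e8dc) (nat_lit 2308))
 (.leaf (nat_lit 0x15dca4c4ac) (nat_lit 2816))
) (.node (nat_lit 0x15ddeef88e) (.leaf (nat_lit 0x15dd61ec7e) (nat_lit 2564))
 (.leaf (nat_lit 0x15ddeef88e) (nat_lit 2053))
))) (.node (nat_lit 0x15eca7d9d8) (.node (nat_lit 0x15e961ed7a) (.leaf (nat_lit 0x15e929e158) (nat_lit 2821))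
 (.node (nat_lit 0x15e9e9e9ca) (.leaf (nat_lit 0x15e961ed7a) (nat_lit 1796))
 (.leaf (nat_lit 0x15e9e9e9ca) (nat_lit 2308))
)) (.node (nat_lit 0x15ed61e14a) (.node (nat_lit 0x15ed2efd28) (.leaf (nat_lit 0x15eca7d9d8) (nat_lit 2560))
 (.leaf (nat_lit 0x15ed2efd28) (nat_lit 1797))
) (.node (nat_lit 0x15faffd9ce) (.leaf (nat_lit 0x15ed61e14a) (nat_lit 3333))
 (.leaf (nat_lit 0x15faffd9ce) (nat_lit 2564))
)))) (.node (nat_lit 0x16054ca81a) (.node (nat_lit 0x15ff71e14e) (.node (nat_lit 0x15fb76fd3e) (.leaf (nat_lit 0x15fb39e15c) (nat_lit 2564))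
 (.node (nat_lit 0x15ff39ed6c) (.leaf (nat_lit 0x15fb76fd3e) (nat_lit 2053))
 (.leaf (nat_lit 0x15ff39ed6c) (nat_lit 1539))
)) (.node (nat_lit 0x160440880a) (.node (nat_lit 0x15ffb1e9dc) (.leaf (nat_lit 0x15ff71e14e) (nat_lit 3076))
 (.leaf (nat_lit 0x15ffb1e9dc) (nat_lit 2564))
) (.node (nat_lit 0x16050da848) (.leaf (nat_lit 0x160440880a) (nat_lit 1792))
 (.leaf (nat_lit 0x16050da848) (nat_lit 2820))
))) (.node (nat_lit 0x1610839cec) (.node (nat_lit 0x16108394fc) (.node (nat_lit 0x16108390dc) (.leaf (nat_lit 0x16054ca81a) (nat_lit 2304))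
 (.leaf (nat_lit 0x16108390dc) (nat_lit 2051))
) (.node (nat_lit 0x16108398cc) (.leaf (nat_lit 0x16108394fc) (nat_lit 1795))
 (.leaf (nat_lit 0x16108398cc) (nat_lit 2308))
)) (.node (nat_lit 0x16158fb0dc) (.node (nat_lit 0x1614408c3e) (.leaf (nat_lit 0x1610839cec) (nat_lit 2051))
 (.leaf (nat_lit 0x1614408c3e) (nat_lit 1792))
) (.node (nat_lit 0x1615ceb4ae) (.leaf (nat_lit 0x16158fb0dc) (nat_lit 2306))
 (.leaf (nat_lit 0x1615ceb4ae) (nat_lit 2820))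
))))) (.node (nat_lit 0x163040810e) (.node (nat_lit 0x1620c29dba) (.node (nat_lit 0x1620408d3a) (.node (nat_lit 0x162040853a) (.leaf (nat_lit 0x162040852a) (nat_lit 1539))
 (.node (nat_lit 0x162040890a) (.leaf (nat_lit 0x162040853a) (nat_lit 1024))
 (.leaf (nat_lit 0x162040890a) (nat_lit 1536))
)) (.node (nat_lit 0x1620c295ba) (.node (nat_lit 0x1620c2919a) (.leaf (nat_lit 0x1620408d3a) (nat_lit 1283))
 (.leaf (nat_lit 0x1620c2919a) (nat_lit 2306))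
) (.node (nat_lit 0x1620c2999a) (.leaf (nat_lit 0x1620c295ba) (nat_lit 2050))
 (.leaf (nat_lit 0x1620c2999a) (nat_lit 2048))
))) (.node (nat_lit 0x1621ceb19a) (.node (nat_lit 0x16214ca91a) (.node (nat_lit 0x16210da948) (.leaf (nat_lit 0x1620c29dba) (nat_lit 2562))
 (.leaf (nat_lit 0x16210da948) (nat_lit 2307))
) (.node (nat_lit 0x16218fb5e8) (.leaf (nat_lit 0x16214ca91a) (nat_lit 1794))
 (.leaf (nat_lit 0x16218fb5e8) (nat_lit 2306))
)) (.node (nat_lit 0x16250da148) (.node (nat_lit 0x162440810a) (.leaf (nat_lit 0x1621ceb19a) (nat_lit 1792))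
 (.leaf (nat_lit 0x162440810a) (nat_lit 1792))
) (.node (nat_lit 0x16254ca11a) (.leaf (nat_lit 0x16250da148) (nat_lit 2820))
 (.leaf (nat_lit 0x16254ca11a) (nat_lit 2560))
)))) (.node (nat_lit 0x164211c478) (.node (nat_lit 0x163040853e) (.node (nat_lit 0x163040811e) (.leaf (nat_lit 0x163040810e) (nat_lit 2304))
 (.node (nat_lit 0x163040852e) (.leaf (nat_lit 0x163040811e) (nat_lit 2309))
 (.leaf (nat_lit 0x163040852e) (nat_lit 2304))
)) (.node (nat_lit 0x16358fbdfc) (.node (nat_lit 0x163440811e) (.leaf (nat_lit 0x163040853e) (nat_lit 1541))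
 (.leaf (nat_lit 0x163440811e) (nat_lit 2304))
) (.node (nat_lit 0x1635ceb98e) (.leaf (nat_lit 0x16358fbdfc) (nat_lit 2818))
 (.leaf (nat_lit 0x1635ceb98e) (nat_lit 2816))
))) (.node (nat_lit 0x164611c468) (.node (nat_lit 0x16431dec78) (.node (nat_lit 0x164293d4f8) (.leaf (nat_lit 0x164211c478) (nat_lit 2819))
 (.leaf (nat_lit 0x164293d4f8) (nat_lit 2565))
) (.node (nat_lit 0x16439ffcf8) (.leaf (nat_lit 0x16431dec78) (nat_lit 2821))
 (.leaf (nat_lit 0x16439ffcf8) (nat_lit 2819))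
)) (.node (nat_lit 0x1647def4aa) (.node (nat_lit 0x1646d2d89a) (.leaf (nat_lit 0x164611c468) (nat_lit 2816))
 (.leaf (nat_lit 0x1646d2d89a) (nat_lit 2304))
) (.node (nat_lit 0x165211c47c) (.leaf (nat_lit 0x1647def4aa) (nat_lit 2052))
 (.leaf (nat_lit 0x165211c47c) (nat_lit 2563))
))))))) (.node (nat_lit 0x16d1e9e4fe) (.node (nat_lit 0x16977eb42e) (.node (nat_lit 0x1672d2d5be) (.node (nat_lit 0x1662d2d19a) (.node (nat_lit 0x165611c46c) (.node (nat_lit 0x16535cec2e) (.leaf (nat_lit 0x165293d0dc) (nat_lit 2819))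
 (.node (nat_lit 0x1653def88e) (.leaf (nat_lit 0x16535cec2e) (nat_lit 2562))
 (.leaf (nat_lit 0x1653def88e) (nat_lit 2560))
)) (.node (nat_lit 0x16579ff0dc) (.node (nat_lit 0x1656d2dcbe) (.leaf (nat_lit 0x165611c46c) (nat_lit 2563))
 (.leaf (nat_lit 0x1656d2dcbe) (nat_lit 3075))
) (.node (nat_lit 0x166250c11a) (.leaf (nat_lit 0x16579ff0dc) (nat_lit 2051))
 (.leaf (nat_lit 0x166250c11a) (nat_lit 3077))
))) (.node (nat_lit 0x166650c11a) (.node (nat_lit 0x16635ce11a) (.leaf (nat_lit 0x1662d2d19a) (nat_lit 2821))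
 (.node (nat_lit 0x1663def19a) (.leaf (nat_lit 0x16635ce11a) (nat_lit 2308))
 (.leaf (nat_lit 0x1663def19a) (nat_lit 2048))
)) (.node (nat_lit 0x16675ced2a) (.node (nat_lit 0x166693dde8) (.leaf (nat_lit 0x166650c11a) (nat_lit 2564))
 (.leaf (nat_lit 0x166693dde8) (nat_lit 2563))
) (.node (nat_lit 0x167250c11e) (.leaf (nat_lit 0x16675ced2a) (nat_lit 1539))
 (.leaf (nat_lit 0x167250c11e) (nat_lit 3077))
)))) (.node (nat_lit 0x168460880a) (.node (nat_lit 0x167650c11e) (.node (nat_lit 0x16731de14c) (.leaf (nat_lit 0x1672d2d5be) (nat_lit 2309))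
 (.node (nat_lit 0x16739ff5ec) (.leaf (nat_lit 0x16731de14c) (nat_lit 2820))
 (.leaf (nat_lit 0x16739ff5ec) (nat_lit 2819))
)) (.node (nat_lit 0x16771ded7c) (.node (nat_lit 0x167693d9cc) (.leaf (nat_lit 0x167650c11e) (nat_lit 3076))
 (.leaf (nat_lit 0x167693d9cc) (nat_lit 2819))
) (.node (nat_lit 0x16842d8848) (.leaf (nat_lit 0x16771ded7c) (nat_lit 2051))
 (.leaf (nat_lit 0x16842d8848) (nat_lit 2308))
))) (.node (nat_lit 0x1693b3b8cc) (.node (nat_lit 0x169333bc6c) (.node (nat_lit 0x168524a818) (.leaf (nat_lit 0x168460880a) (nat_lit 3076))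
 (.leaf (nat_lit 0x168524a818) (nat_lit 2564))
) (.node (nat_lit 0x16937bb47e) (.leaf (nat_lit 0x169333bc6c) (nat_lit 2820))
 (.leaf (nat_lit 0x16937bb47e) (nat_lit 2304))
)) (.node (nat_lit 0x1696b88cbc) (.node (nat_lit 0x1693fbb0de) (.leaf (nat_lit 0x1693b3b8cc) (nat_lit 2817))
 (.leaf (nat_lit 0x1693fbb0de) (nat_lit 2309))
) (.node (nat_lit 0x1696f790de) (.leaf (nat_lit 0x1696b88cbc) (nat_lit 3074))
 (.leaf (nat_lit 0x1696f790de) (nat_lit 2309))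
))))) (.node (nat_lit 0x16a524a118) (.node (nat_lit 0x16a0a88db8) (.node (nat_lit 0x16a02d8948) (.node (nat_lit 0x16a02a9538) (.leaf (nat_lit 0x16977eb42e) (nat_lit 2817))
 (.node (nat_lit 0x16a02a9d38) (.leaf (nat_lit 0x16a02a9538) (nat_lit 1794))
 (.leaf (nat_lit 0x16a02a9d38) (nat_lit 1541))
)) (.node (nat_lit 0x16a060890a) (.node (nat_lit 0x16a02f9568) (.leaf (nat_lit 0x16a02d8948) (nat_lit 1538))
 (.leaf (nat_lit 0x16a02f9568) (nat_lit 1794))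
) (.node (nat_lit 0x16a0a885b8) (.leaf (nat_lit 0x16a060890a) (nat_lit 2306))
 (.leaf (nat_lit 0x16a0a885b8) (nat_lit 2050))
))) (.node (nat_lit 0x16a124a918) (.node (nat_lit 0x16a0aa9998) (.node (nat_lit 0x16a0aa9198) (.leaf (nat_lit 0x16a0a88db8) (nat_lit 2563))
 (.leaf (nat_lit 0x16a0aa9198) (nat_lit 1794))
) (.node (nat_lit 0x16a0e085aa) (.leaf (nat_lit 0x16a0aa9998) (nat_lit 1793))
 (.leaf (nat_lit 0x16a0e085aa) (nat_lit 2306))
)) (.node (nat_lit 0x16a42d8148) (.node (nat_lit 0x16a1a6b198) (.leaf (nat_lit 0x16a124a918) (nat_lit 1794))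
 (.leaf (nat_lit 0x16a1a6b198) (nat_lit 2052))
) (.node (nat_lit 0x16a460810a) (.leaf (nat_lit 0x16a42d8148) (nat_lit 2308))
 (.leaf (nat_lit 0x16a460810a) (nat_lit 3330))
)))) (.node (nat_lit 0x16b7feb98e) (.node (nat_lit 0x16b2b885bc) (.node (nat_lit 0x16b238811c) (.leaf (nat_lit 0x16a524a118) (nat_lit 2564))
 (.node (nat_lit 0x16b270810e) (.leaf (nat_lit 0x16b238811c) (nat_lit 3076))
 (.leaf (nat_lit 0x16b270810e) (nat_lit 3333))
)) (.node (nat_lit 0x16b638811c) (.node (nat_lit 0x16b2f085ae) (.leaf (nat_lit 0x16b2b885bc) (nat_lit 2821))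
 (.leaf (nat_lit 0x16b2f085ae) (nat_lit 3077))
) (.node (nat_lit 0x16b6779d7e) (.leaf (nat_lit 0x16b638811c) (nat_lit 3586))
 (.leaf (nat_lit 0x16b6779d7e) (nat_lit 2309))
))) (.node (nat_lit 0x16c3f9e4fa) (.node (nat_lit 0x16c2f5ccfa) (.node (nat_lit 0x16c277dc7a) (.leaf (nat_lit 0x16b7feb98e) (nat_lit 2817))
 (.leaf (nat_lit 0x16c277dc7a) (nat_lit 2817))
) (.node (nat_lit 0x16c37bf47a) (.leaf (nat_lit 0x16c2f5ccfa) (nat_lit 2821))
 (.leaf (nat_lit 0x16c37bf47a) (nat_lit 1537))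
)) (.node (nat_lit 0x16c77ef42a) (.node (nat_lit 0x16c6bad898) (.leaf (nat_lit 0x16c3f9e4fa) (nat_lit 2305))
 (.leaf (nat_lit 0x16c6bad898) (nat_lit 2308))
) (.node (nat_lit 0x16c7b1e4e8) (.leaf (nat_lit 0x16c77ef42a) (nat_lit 2820))
 (.leaf (nat_lit 0x16c7b1e4e8) (nat_lit 2309))
)))))) (.node (nat_lit 0x171bd4a89e) (.node (nat_lit 0x16f02ad53c) (.node (nat_lit 0x16e238c118) (.node (nat_lit 0x16d1eef88e) (.node (nat_lit 0x16d1ebf0de) (.leaf (nat_lit 0x16d1e9e4fe) (nat_lit 2053))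
 (.node (nat_lit 0x16d1ececae) (.leaf (nat_lit 0x16d1ebf0de) (nat_lit 1797))
 (.leaf (nat_lit 0x16d1ececae) (nat_lit 2309))
)) (.node (nat_lit 0x16d4e7d0de) (.node (nat_lit 0x16d42adc3c) (.leaf (nat_lit 0x16d1eef88e) (nat_lit 2563))
 (.leaf (nat_lit 0x16d42adc3c) (nat_lit 2052))
) (.node (nat_lit 0x16d5a1e4ec) (.leaf (nat_lit 0x16d4e7d0de) (nat_lit 2818))
 (.leaf (nat_lit 0x16d5a1e4ec) (nat_lit 2817))
))) (.node (nat_lit 0x16e638c118) (.node (nat_lit 0x16e334e118) (.node (nat_lit 0x16e2bad198) (.leaf (nat_lit 0x16e238c118) (nat_lit 2820))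
 (.leaf (nat_lit 0x16e2bad198) (nat_lit 2306))
) (.node (nat_lit 0x16e3b6f198) (.leaf (nat_lit 0x16e334e118) (nat_lit 2821))
 (.leaf (nat_lit 0x16e3b6f198) (nat_lit 2564))
)) (.node (nat_lit 0x16e7fcedaa) (.node (nat_lit 0x16e733fd68) (.leaf (nat_lit 0x16e638c118) (nat_lit 2820))
 (.leaf (nat_lit 0x16e733fd68) (nat_lit 1797))
) (.node (nat_lit 0x16f028c11c) (.leaf (nat_lit 0x16e7fcedaa) (nat_lit 2818))
 (.leaf (nat_lit 0x16f028c11c) (nat_lit 2563))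
)))) (.node (nat_lit 0x170a9f90d8) (.node (nat_lit 0x16f428c11c) (.node (nat_lit 0x16f02dc14c) (.leaf (nat_lit 0x16f02ad53c) (nat_lit 2307))
 (.node (nat_lit 0x16f02fd56c) (.leaf (nat_lit 0x16f02dc14c) (nat_lit 2564))
 (.leaf (nat_lit 0x16f02fd56c) (nat_lit 2308))
)) (.node (nat_lit 0x16f5a3f9cc) (.node (nat_lit 0x16f4e5cdfe) (.leaf (nat_lit 0x16f428c11c) (nat_lit 2564))
 (.leaf (nat_lit 0x16f4e5cdfe) (nat_lit 3073))
) (.node (nat_lit 0x170a108428) (.leaf (nat_lit 0x16f5a3f9cc) (nat_lit 2561))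
 (.leaf (nat_lit 0x170a108428) (nat_lit 2821))
))) (.node (nat_lit 0x170f5bbc6a) (.node (nat_lit 0x170e108438) (.node (nat_lit 0x170bd5acfa) (.leaf (nat_lit 0x170a9f90d8) (nat_lit 2309))
 (.leaf (nat_lit 0x170bd5acfa) (nat_lit 3073))
) (.node (nat_lit 0x170ed8888a) (.leaf (nat_lit 0x170e108438) (nat_lit 2819))
 (.leaf (nat_lit 0x170ed8888a) (nat_lit 2821))
)) (.node (nat_lit 0x171a10842c) (.node (nat_lit 0x170f93b0d8) (.leaf (nat_lit 0x170f5bbc6a) (nat_lit 2561))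
 (.leaf (nat_lit 0x170f93b0d8) (nat_lit 2819))
) (.node (nat_lit 0x171adf94ee) (.leaf (nat_lit 0x171a10842c) (nat_lit 3077))
 (.leaf (nat_lit 0x171adf94ee) (nat_lit 2309))
))))) (.node (nat_lit 0x173c41856e) (.node (nat_lit 0x1728c8898a) (.node (nat_lit 0x171f1abc3c) (.node (nat_lit 0x171e10843c) (.leaf (nat_lit 0x171bd4a89e) (nat_lit 2565))
 (.node (nat_lit 0x171e988cbc) (.leaf (nat_lit 0x171e10843c) (nat_lit 2563))
 (.leaf (nat_lit 0x171e988cbc) (nat_lit 3072))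
)) (.node (nat_lit 0x172840811a) (.node (nat_lit 0x171f92b4bc) (.leaf (nat_lit 0x171f1abc3c) (nat_lit 2561))
 (.leaf (nat_lit 0x171f92b4bc) (nat_lit 2305))
) (.node (nat_lit 0x1728888db8) (.leaf (nat_lit 0x172840811a) (nat_lit 2565))
 (.leaf (nat_lit 0x1728888db8) (nat_lit 3077))
))) (.node (nat_lit 0x172c41857a) (.node (nat_lit 0x172c40811a) (.node (nat_lit 0x172c40810a) (.leaf (nat_lit 0x1728c8898a) (nat_lit 3077))
 (.leaf (nat_lit 0x172c40810a) (nat_lit 2565))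
) (.node (nat_lit 0x172c41856a) (.leaf (nat_lit 0x172c40811a) (nat_lit 2052))
 (.leaf (nat_lit 0x172c41856a) (nat_lit 2305))
)) (.node (nat_lit 0x17390da14c) (.node (nat_lit 0x173840810e) (.leaf (nat_lit 0x172c41857a) (nat_lit 1281))
 (.leaf (nat_lit 0x173840810e) (nat_lit 2053))
) (.node (nat_lit 0x17394ca11e) (.leaf (nat_lit 0x17390da14c) (nat_lit 3073))
 (.leaf (nat_lit 0x17394ca11e) (nat_lit 2821))
)))) (.node (nat_lit 0x173d4ab91e) (.node (nat_lit 0x173c479d7e) (.node (nat_lit 0x173c41857e) (.leaf (nat_lit 0x173c41856e) (nat_lit 1797))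
 (.node (nat_lit 0x173c46990e) (.leaf (nat_lit 0x173c41857e) (nat_lit 1285))
 (.leaf (nat_lit 0x173c46990e) (nat_lit 1536))
)) (.node (nat_lit 0x173cce919e) (.node (nat_lit 0x173c8e95ac) (.leaf (nat_lit 0x173c479d7e) (nat_lit 1541))
 (.leaf (nat_lit 0x173c8e95ac) (nat_lit 2565))
) (.node (nat_lit 0x173d0bb94c) (.leaf (nat_lit 0x173cce919e) (nat_lit 2053))
 (.leaf (nat_lit 0x173d0bb94c) (nat_lit 2307))
))) (.node (nat_lit 0x173dc5adfe) (.node (nat_lit 0x173dc3b5fe) (.node (nat_lit 0x173dc2b19e) (.leaf (nat_lit 0x173d4ab91e) (nat_lit 2053))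
 (.leaf (nat_lit 0x173dc2b19e) (nat_lit 2565))
) (.node (nat_lit 0x173dc4a99e) (.leaf (nat_lit 0x173dc3b5fe) (nat_lit 2309))
 (.leaf (nat_lit 0x173dc4a99e) (nat_lit 2309))
)) (.node (nat_lit 0x17488fd0d8) (.node (nat_lit 0x174847dc7a) (.leaf (nat_lit 0x173dc5adfe) (nat_lit 2563))
 (.leaf (nat_lit 0x174847dc7a) (nat_lit 2053))
) (.node (nat_lit 0x1748cfd4ea) (.leaf (nat_lit 0x17488fd0d8) (nat_lit 2565))
 (.leaf (nat_lit 0x1748cfd4ea) (nat_lit 2561))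
)))))))))) (.node (nat_lit 0x1b9a308624) (.node (nat_lit 0x199b3ca624) (.node (nat_lit 0x18214caf22) (.node (nat_lit 0x17c9e7f0da) (.node (nat_lit 0x17996fb46e) (.node (nat_lit 0x177a50c11e) (.node (nat_lit 0x176a50c11a) (.node (nat_lit 0x174d85e8c8) (.node (nat_lit 0x174d83f0d8) (.leaf (nat_lit 0x174d82f4b8) (nat_lit 2053))
 (.node (nat_lit 0x174d84eca8) (.leaf (nat_lit 0x174d83f0d8) (nat_lit 2309))
 (.leaf (nat_lit 0x174d84eca8) (nat_lit 2309))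
)) (.node (nat_lit 0x17590bf84c) (.node (nat_lit 0x175846d80e) (.leaf (nat_lit 0x174d85e8c8) (nat_lit 2563))
 (.leaf (nat_lit 0x175846d80e) (nat_lit 1793))
) (.node (nat_lit 0x17594af81e) (.leaf (nat_lit 0x17590bf84c) (nat_lit 2561))
 (.leaf (nat_lit 0x17594af81e) (nat_lit 2305))
))) (.node (nat_lit 0x176e50c11a) (.node (nat_lit 0x176b1afd38) (.leaf (nat_lit 0x176a50c11a) (nat_lit 3333))
 (.node (nat_lit 0x176b95e9c8) (.leaf (nat_lit 0x176b1afd38) (nat_lit 2309))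
 (.leaf (nat_lit 0x176b95e9c8) (nat_lit 2817))
)) (.node (nat_lit 0x176f1de148) (.node (nat_lit 0x176e9ed5a8) (.leaf (nat_lit 0x176e50c11a) (nat_lit 2820))
 (.leaf (nat_lit 0x176e9ed5a8) (nat_lit 2817))
) (.node (nat_lit 0x176fd3f5fa) (.leaf (nat_lit 0x176f1de148) (nat_lit 3076))
 (.leaf (nat_lit 0x176fd3f5fa) (nat_lit 2049))
)))) (.node (nat_lit 0x178a3d8c78) (.node (nat_lit 0x177e50c11e) (.node (nat_lit 0x177b5bfd6e) (.leaf (nat_lit 0x177a50c11e) (nat_lit 2821))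
 (.node (nat_lit 0x177b94edac) (.leaf (nat_lit 0x177b5bfd6e) (nat_lit 1797))
 (.leaf (nat_lit 0x177b94edac) (nat_lit 2821))
)) (.node (nat_lit 0x177f5ce11e) (.node (nat_lit 0x177eded19e) (.leaf (nat_lit 0x177e50c11e) (nat_lit 2820))
 (.leaf (nat_lit 0x177eded19e) (nat_lit 2309))
) (.node (nat_lit 0x177fd2f19e) (.leaf (nat_lit 0x177f5ce11e) (nat_lit 2565))
 (.leaf (nat_lit 0x177fd2f19e) (nat_lit 2564))
))) (.node (nat_lit 0x178ef8888a) (.node (nat_lit 0x178bf7b0da) (.node (nat_lit 0x178ab084a8) (.leaf (nat_lit 0x178a3d8c78) (nat_lit 2307))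
 (.leaf (nat_lit 0x178ab084a8) (nat_lit 3075))
) (.node (nat_lit 0x178ef884ba) (.leaf (nat_lit 0x178bf7b0da) (nat_lit 2818))
 (.leaf (nat_lit 0x178ef884ba) (nat_lit 1792))
)) (.node (nat_lit 0x178efb9cea) (.node (nat_lit 0x178efb90da) (.leaf (nat_lit 0x178ef8888a) (nat_lit 2307))
 (.leaf (nat_lit 0x178efb90da) (nat_lit 1539))
) (.node (nat_lit 0x1798a084ac) (.leaf (nat_lit 0x178efb9cea) (nat_lit 2051))
 (.leaf (nat_lit 0x1798a084ac) (nat_lit 2051))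
))))) (.node (nat_lit 0x17bb34a11c) (.node (nat_lit 0x17a8608d3a) (.node (nat_lit 0x179ce884be) (.node (nat_lit 0x1799aca89c) (.leaf (nat_lit 0x17996fb46e) (nat_lit 3075))
 (.node (nat_lit 0x179c608c3e) (.leaf (nat_lit 0x1799aca89c) (nat_lit 2563))
 (.leaf (nat_lit 0x179c608c3e) (nat_lit 3072))
)) (.node (nat_lit 0x179de2bcbe) (.node (nat_lit 0x179d6ab43e) (.leaf (nat_lit 0x179ce884be) (nat_lit 2565))
 (.leaf (nat_lit 0x179d6ab43e) (nat_lit 1793))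
) (.node (nat_lit 0x17a8288118) (.leaf (nat_lit 0x179de2bcbe) (nat_lit 2563))
 (.leaf (nat_lit 0x17a8288118) (nat_lit 3328))
))) (.node (nat_lit 0x17ada9a5f8) (.node (nat_lit 0x17ac288118) (.node (nat_lit 0x17a8e8898a) (.leaf (nat_lit 0x17a8608d3a) (nat_lit 2051))
 (.leaf (nat_lit 0x17a8e8898a) (nat_lit 2819))
) (.node (nat_lit 0x17ac60810a) (.leaf (nat_lit 0x17ac288118) (nat_lit 3330))
 (.leaf (nat_lit 0x17ac60810a) (nat_lit 3075))
)) (.node (nat_lit 0x17ba3d814c) (.node (nat_lit 0x17ade1a5ea) (.leaf (nat_lit 0x17ada9a5f8) (nat_lit 2561))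
 (.leaf (nat_lit 0x17ade1a5ea) (nat_lit 2819))
) (.node (nat_lit 0x17ba70810e) (.leaf (nat_lit 0x17ba3d814c) (nat_lit 2307))
 (.leaf (nat_lit 0x17ba70810e) (nat_lit 3331))
)))) (.node (nat_lit 0x17bf32b91c) (.node (nat_lit 0x17be3d8d7c) (.node (nat_lit 0x17be3b957c) (.leaf (nat_lit 0x17bb34a11c) (nat_lit 2821))
 (.node (nat_lit 0x17be3b994c) (.leaf (nat_lit 0x17be3b957c) (nat_lit 1539))
 (.leaf (nat_lit 0x17be3b994c) (nat_lit 1539))
)) (.node (nat_lit 0x17be76990e) (.node (nat_lit 0x17be3e952c) (.leaf (nat_lit 0x17be3d8d7c) (nat_lit 1283))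
 (.leaf (nat_lit 0x17be3e952c) (nat_lit 1539))
) (.node (nat_lit 0x17beb6919c) (.leaf (nat_lit 0x17be76990e) (nat_lit 2307))
 (.leaf (nat_lit 0x17beb6919c) (nat_lit 2051))
))) (.node (nat_lit 0x17bfbfbdfc) (.node (nat_lit 0x17bfbab19c) (.node (nat_lit 0x17bfb9a5fc) (.leaf (nat_lit 0x17bf32b91c) (nat_lit 1795))
 (.leaf (nat_lit 0x17bfb9a5fc) (nat_lit 2309))
) (.node (nat_lit 0x17bfbca99c) (.leaf (nat_lit 0x17bfbab19c) (nat_lit 2053))
 (.leaf (nat_lit 0x17bfbca99c) (nat_lit 2053))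
)) (.node (nat_lit 0x17c96ff46a) (.node (nat_lit 0x17bff1a5ee) (.leaf (nat_lit 0x17bfbfbdfc) (nat_lit 2819))
 (.leaf (nat_lit 0x17bff1a5ee) (nat_lit 2565))
) (.node (nat_lit 0x17c9affcf8) (.leaf (nat_lit 0x17c96ff46a) (nat_lit 2563))
 (.leaf (nat_lit 0x17c9affcf8) (nat_lit 2819))
)))))) (.node (nat_lit 0x1820408f32) (.node (nat_lit 0x17ee3ed528) (.node (nat_lit 0x17db32f81c) (.node (nat_lit 0x17cd24ec28) (.node (nat_lit 0x17cca5c8c8) (.leaf (nat_lit 0x17c9e7f0da) (nat_lit 2051))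
 (.node (nat_lit 0x17ccebd0da) (.leaf (nat_lit 0x17cca5c8c8) (nat_lit 2817))
 (.leaf (nat_lit 0x17ccebd0da) (nat_lit 2052))
)) (.node (nat_lit 0x17da3bd84c) (.node (nat_lit 0x17cd6af43a) (.leaf (nat_lit 0x17cd24ec28) (nat_lit 2820))
 (.leaf (nat_lit 0x17cd6af43a) (nat_lit 2048))
) (.node (nat_lit 0x17da76d80e) (.leaf (nat_lit 0x17da3bd84c) (nat_lit 2307))
 (.leaf (nat_lit 0x17da76d80e) (nat_lit 3075))
))) (.node (nat_lit 0x17ebf2fdba) (.node (nat_lit 0x17ea38c118) (.leaf (nat_lit 0x17db32f81c) (nat_lit 2821))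
 (.node (nat_lit 0x17eab5c9c8) (.leaf (nat_lit 0x17ea38c118) (nat_lit 2564))
 (.leaf (nat_lit 0x17eab5c9c8) (nat_lit 2561))
)) (.node (nat_lit 0x17ee3bd578) (.node (nat_lit 0x17ee38c118) (.leaf (nat_lit 0x17ebf2fdba) (nat_lit 3073))
 (.leaf (nat_lit 0x17ee38c118) (nat_lit 2564))
) (.node (nat_lit 0x17ee3dc148) (.leaf (nat_lit 0x17ee3bd578) (nat_lit 2562))
 (.leaf (nat_lit 0x17ee3dc148) (nat_lit 2820))
)))) (.node (nat_lit 0x17fdaaf19c) (.node (nat_lit 0x17f924ed2c) (.node (nat_lit 0x17f828c11c) (.leaf (nat_lit 0x17ee3ed528) (nat_lit 2564))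
 (.node (nat_lit 0x17f8ebddee) (.leaf (nat_lit 0x17f828c11c) (nat_lit 2819))
 (.leaf (nat_lit 0x17f8ebddee) (nat_lit 2563))
)) (.node (nat_lit 0x17fca6d19c) (.node (nat_lit 0x17fc28c11c) (.leaf (nat_lit 0x17f924ed2c) (nat_lit 1539))
 (.leaf (nat_lit 0x17fc28c11c) (nat_lit 2820))
) (.node (nat_lit 0x17fd24e11c) (.leaf (nat_lit 0x17fca6d19c) (nat_lit 2560))
 (.leaf (nat_lit 0x17fd24e11c) (nat_lit 2563))
))) (.node (nat_lit 0x18200a9b10) (.node (nat_lit 0x1820088b10) (.node (nat_lit 0x1820088310) (.leaf (nat_lit 0x17fdaaf19c) (nat_lit 2565))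
 (.leaf (nat_lit 0x1820088310) (nat_lit 2306))
) (.node (nat_lit 0x18200a9310) (.leaf (nat_lit 0x1820088b10) (nat_lit 2307))
 (.leaf (nat_lit 0x18200a9310) (nat_lit 2306))
)) (.node (nat_lit 0x1820408732) (.node (nat_lit 0x1820408312) (.leaf (nat_lit 0x18200a9b10) (nat_lit 2051))
 (.leaf (nat_lit 0x1820408312) (nat_lit 1795))
) (.node (nat_lit 0x1820408b12) (.leaf (nat_lit 0x1820408732) (nat_lit 1027))
 (.leaf (nat_lit 0x1820408b12) (nat_lit 768))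
))))) (.node (nat_lit 0x1820c58bd2) (.node (nat_lit 0x18204a9302) (.node (nat_lit 0x1820429b12) (.node (nat_lit 0x1820429312) (.leaf (nat_lit 0x1820408f32) (nat_lit 1538))
 (.node (nat_lit 0x1820429732) (.leaf (nat_lit 0x1820429312) (nat_lit 1539))
 (.leaf (nat_lit 0x1820429732) (nat_lit 771))
)) (.node (nat_lit 0x1820488302) (.node (nat_lit 0x1820429f32) (.leaf (nat_lit 0x1820429b12) (nat_lit 513))
 (.leaf (nat_lit 0x1820429f32) (nat_lit 1282))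
) (.node (nat_lit 0x1820488b02) (.leaf (nat_lit 0x1820488302) (nat_lit 3330))
 (.leaf (nat_lit 0x1820488b02) (nat_lit 2306))
))) (.node (nat_lit 0x18208a97b0) (.node (nat_lit 0x18208887b0) (.node (nat_lit 0x18204a9b02) (.leaf (nat_lit 0x18204a9302) (nat_lit 3074))
 (.leaf (nat_lit 0x18204a9b02) (nat_lit 2050))
) (.node (nat_lit 0x1820888fb0) (.leaf (nat_lit 0x18208887b0) (nat_lit 2048))
 (.leaf (nat_lit 0x1820888fb0) (nat_lit 2562))
)) (.node (nat_lit 0x1820c583d2) (.node (nat_lit 0x18208a9fb0) (.leaf (nat_lit 0x18208a97b0) (nat_lit 1793))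
 (.leaf (nat_lit 0x18208a9fb0) (nat_lit 2562))
) (.node (nat_lit 0x1820c587f2) (.leaf (nat_lit 0x1820c583d2) (nat_lit 2050))
 (.leaf (nat_lit 0x1820c587f2) (nat_lit 1285))
)))) (.node (nat_lit 0x1820c88b82) (.node (nat_lit 0x1820c797f2) (.node (nat_lit 0x1820c58ff2) (.leaf (nat_lit 0x1820c58bd2) (nat_lit 1797))
 (.node (nat_lit 0x1820c793d2) (.leaf (nat_lit 0x1820c58ff2) (nat_lit 2050))
 (.leaf (nat_lit 0x1820c793d2) (nat_lit 1794))
)) (.node (nat_lit 0x1820c79ff2) (.node (nat_lit 0x1820c79bd2) (.leaf (nat_lit 0x1820c797f2) (nat_lit 1541))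
 (.leaf (nat_lit 0x1820c79bd2) (nat_lit 1541))
) (.node (nat_lit 0x1820c88382) (.leaf (nat_lit 0x1820c79ff2) (nat_lit 2306))
 (.leaf (nat_lit 0x1820c88382) (nat_lit 3074))
))) (.node (nat_lit 0x18210daf70) (.node (nat_lit 0x1820ca9b82) (.node (nat_lit 0x1820ca9382) (.leaf (nat_lit 0x1820c88b82) (nat_lit 2562))
 (.leaf (nat_lit 0x1820ca9382) (nat_lit 2818))
) (.node (nat_lit 0x18210da770) (.leaf (nat_lit 0x1820ca9b82) (nat_lit 2306))
 (.leaf (nat_lit 0x18210da770) (nat_lit 2306))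
)) (.node (nat_lit 0x18210fbf70) (.node (nat_lit 0x18210fb770) (.leaf (nat_lit 0x18210daf70) (nat_lit 2304))
 (.leaf (nat_lit 0x18210fb770) (nat_lit 2306))
) (.node (nat_lit 0x18214ca722) (.leaf (nat_lit 0x18210fbf70) (nat_lit 2049))
 (.leaf (nat_lit 0x18214ca722) (nat_lit 2308))
))))))) (.node (nat_lit 0x190c088a10) (.node (nat_lit 0x18a0e08b82) (.node (nat_lit 0x1882be96a0) (.node (nat_lit 0x1821cca7a2) (.node (nat_lit 0x18218da3d0) (.node (nat_lit 0x18214eb722) (.leaf (nat_lit 0x18214caf22) (nat_lit 1792))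
 (.node (nat_lit 0x18214ebf22) (.leaf (nat_lit 0x18214eb722) (nat_lit 2052))
 (.leaf (nat_lit 0x18214ebf22) (nat_lit 1537))
)) (.node (nat_lit 0x18218fb3d0) (.node (nat_lit 0x18218dabd0) (.leaf (nat_lit 0x18218da3d0) (nat_lit 2050))
 (.leaf (nat_lit 0x18218dabd0) (nat_lit 2049))
) (.node (nat_lit 0x18218fbbd0) (.leaf (nat_lit 0x18218fb3d0) (nat_lit 2306))
 (.leaf (nat_lit 0x18218fbbd0) (nat_lit 2304))
))) (.node (nat_lit 0x1821cebfa2) (.node (nat_lit 0x1821ccafa2) (.leaf (nat_lit 0x1821cca7a2) (nat_lit 1793))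
 (.node (nat_lit 0x1821ceb7a2) (.leaf (nat_lit 0x1821ccafa2) (nat_lit 1794))
 (.leaf (nat_lit 0x1821ceb7a2) (nat_lit 2048))
)) (.node (nat_lit 0x18823e9620) (.node (nat_lit 0x1882369e20) (.leaf (nat_lit 0x1821cebfa2) (nat_lit 2050))
 (.leaf (nat_lit 0x1882369e20) (nat_lit 2309))
) (.node (nat_lit 0x1882b69ea0) (.leaf (nat_lit 0x18823e9620) (nat_lit 2309))
 (.leaf (nat_lit 0x1882b69ea0) (nat_lit 2053))
)))) (.node (nat_lit 0x189562be36) (.node (nat_lit 0x1883b4aea0) (.node (nat_lit 0x188334ae20) (.leaf (nat_lit 0x1882be96a0) (nat_lit 2309))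
 (.node (nat_lit 0x18833ca620) (.leaf (nat_lit 0x188334ae20) (nat_lit 2053))
 (.leaf (nat_lit 0x18833ca620) (nat_lit 2309))
)) (.node (nat_lit 0x1894608e36) (.node (nat_lit 0x1883bca6a0) (.leaf (nat_lit 0x1883b4aea0) (nat_lit 2309))
 (.leaf (nat_lit 0x1883bca6a0) (nat_lit 2053))
) (.node (nat_lit 0x1894e886b6) (.leaf (nat_lit 0x1894608e36) (nat_lit 2821))
 (.leaf (nat_lit 0x1894e886b6) (nat_lit 2304))
))) (.node (nat_lit 0x189732b634) (.node (nat_lit 0x1896308634) (.node (nat_lit 0x1895eab6b6) (.leaf (nat_lit 0x189562be36) (nat_lit 2820))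
 (.leaf (nat_lit 0x1895eab6b6) (nat_lit 2052))
) (.node (nat_lit 0x1896b88eb4) (.leaf (nat_lit 0x1896308634) (nat_lit 2565))
 (.leaf (nat_lit 0x1896b88eb4) (nat_lit 3074))
)) (.node (nat_lit 0x18a0608b02) (.node (nat_lit 0x1897babeb4) (.leaf (nat_lit 0x189732b634) (nat_lit 2309))
 (.leaf (nat_lit 0x1897babeb4) (nat_lit 2818))
) (.node (nat_lit 0x18a0688302) (.leaf (nat_lit 0x18a0608b02) (nat_lit 2562))
 (.leaf (nat_lit 0x18a0688302) (nat_lit 2562))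
))))) (.node (nat_lit 0x18d4e7def6) (.node (nat_lit 0x18b4e88b96) (.node (nat_lit 0x18a16ab302) (.node (nat_lit 0x18a0e88382) (.leaf (nat_lit 0x18a0e08b82) (nat_lit 2818))
 (.node (nat_lit 0x18a162bb02) (.leaf (nat_lit 0x18a0e88382) (nat_lit 2818))
 (.leaf (nat_lit 0x18a162bb02) (nat_lit 2306))
)) (.node (nat_lit 0x18a1eab382) (.node (nat_lit 0x18a1e2bb82) (.leaf (nat_lit 0x18a16ab302) (nat_lit 2306))
 (.leaf (nat_lit 0x18a1e2bb82) (nat_lit 2562))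
) (.node (nat_lit 0x18b4608316) (.leaf (nat_lit 0x18a1eab382) (nat_lit 2562))
 (.leaf (nat_lit 0x18b4608316) (nat_lit 2821))
))) (.node (nat_lit 0x18b6b08b94) (.node (nat_lit 0x18b5eabb96) (.node (nat_lit 0x18b562b316) (.leaf (nat_lit 0x18b4e88b96) (nat_lit 2564))
 (.leaf (nat_lit 0x18b562b316) (nat_lit 2565))
) (.node (nat_lit 0x18b6388314) (.leaf (nat_lit 0x18b5eabb96) (nat_lit 2564))
 (.leaf (nat_lit 0x18b6388314) (nat_lit 2821))
)) (.node (nat_lit 0x18b7b2bb94) (.node (nat_lit 0x18b73ab314) (.leaf (nat_lit 0x18b6b08b94) (nat_lit 2560))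
 (.leaf (nat_lit 0x18b73ab314) (nat_lit 2564))
) (.node (nat_lit 0x18d46fd676) (.leaf (nat_lit 0x18b7b2bb94) (nat_lit 2308))
 (.leaf (nat_lit 0x18d46fd676) (nat_lit 2304))
)))) (.node (nat_lit 0x18f46dcb56) (.node (nat_lit 0x18d63dce74) (.node (nat_lit 0x18d56de676) (.leaf (nat_lit 0x18d4e7def6) (nat_lit 2819))
 (.node (nat_lit 0x18d5e5eef6) (.leaf (nat_lit 0x18d56de676) (nat_lit 2049))
 (.leaf (nat_lit 0x18d5e5eef6) (nat_lit 2819))
)) (.node (nat_lit 0x18d73ffe74) (.node (nat_lit 0x18d6b5c6f4) (.leaf (nat_lit 0x18d63dce74) (nat_lit 2309))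
 (.leaf (nat_lit 0x18d6b5c6f4) (nat_lit 2049))
) (.node (nat_lit 0x18d7b7f6f4) (.leaf (nat_lit 0x18d73ffe74) (nat_lit 2565))
 (.leaf (nat_lit 0x18d7b7f6f4) (nat_lit 2304))
))) (.node (nat_lit 0x18f637db54) (.node (nat_lit 0x18f56ffb56) (.node (nat_lit 0x18f4e5c3d6) (.leaf (nat_lit 0x18f46dcb56) (nat_lit 2304))
 (.leaf (nat_lit 0x18f4e5c3d6) (nat_lit 2816))
) (.node (nat_lit 0x18f5e7f3d6) (.leaf (nat_lit 0x18f56ffb56) (nat_lit 2049))
 (.leaf (nat_lit 0x18f5e7f3d6) (nat_lit 2561))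
)) (.node (nat_lit 0x18f735eb54) (.node (nat_lit 0x18f6bfd3d4) (.leaf (nat_lit 0x18f637db54) (nat_lit 2307))
 (.leaf (nat_lit 0x18f6bfd3d4) (nat_lit 2561))
) (.node (nat_lit 0x18f7bde3d4) (.leaf (nat_lit 0x18f735eb54) (nat_lit 2563))
 (.leaf (nat_lit 0x18f7bde3d4) (nat_lit 2565))
)))))) (.node (nat_lit 0x194f9ffad0) (.node (nat_lit 0x1928488302) (.node (nat_lit 0x191d0dae74) (.node (nat_lit 0x190ed58ad2) (.node (nat_lit 0x190c408a12) (.leaf (nat_lit 0x190c088a10) (nat_lit 2821))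
 (.node (nat_lit 0x190c488a02) (.leaf (nat_lit 0x190c408a12) (nat_lit 1285))
 (.leaf (nat_lit 0x190c488a02) (nat_lit 2821))
)) (.node (nat_lit 0x190f9daad0) (.node (nat_lit 0x190ed88a82) (.leaf (nat_lit 0x190ed58ad2) (nat_lit 1795))
 (.leaf (nat_lit 0x190ed88a82) (nat_lit 3331))
) (.node (nat_lit 0x191c408e36) (.leaf (nat_lit 0x190f9daad0) (nat_lit 2561))
 (.leaf (nat_lit 0x191c408e36) (nat_lit 1794))
))) (.node (nat_lit 0x191ed58ef6) (.node (nat_lit 0x191d4cae26) (.leaf (nat_lit 0x191d0dae74) (nat_lit 2565))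
 (.node (nat_lit 0x191e988eb4) (.leaf (nat_lit 0x191d4cae26) (nat_lit 2565))
 (.leaf (nat_lit 0x191e988eb4) (nat_lit 3074))
)) (.node (nat_lit 0x1928088310) (.node (nat_lit 0x191fdcaea6) (.leaf (nat_lit 0x191ed58ef6) (nat_lit 2306))
 (.leaf (nat_lit 0x191fdcaea6) (nat_lit 2562))
) (.node (nat_lit 0x1928408312) (.leaf (nat_lit 0x1928088310) (nat_lit 3077))
 (.leaf (nat_lit 0x1928408312) (nat_lit 2050))
)))) (.node (nat_lit 0x193a9887b4) (.node (nat_lit 0x192b9da3d0) (.node (nat_lit 0x192ad583d2) (.leaf (nat_lit 0x1928488302) (nat_lit 3587))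
 (.node (nat_lit 0x192ad88382) (.leaf (nat_lit 0x192ad583d2) (nat_lit 2818))
 (.leaf (nat_lit 0x192ad88382) (nat_lit 3330))
)) (.node (nat_lit 0x19390da774) (.node (nat_lit 0x1938408736) (.leaf (nat_lit 0x192b9da3d0) (nat_lit 2563))
 (.leaf (nat_lit 0x1938408736) (nat_lit 2053))
) (.node (nat_lit 0x19394ca726) (.leaf (nat_lit 0x19390da774) (nat_lit 2563))
 (.leaf (nat_lit 0x19394ca726) (nat_lit 3075))
))) (.node (nat_lit 0x194c42da12) (.node (nat_lit 0x193bdca7a6) (.node (nat_lit 0x193ad587f6) (.leaf (nat_lit 0x193a9887b4) (nat_lit 2565))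
 (.leaf (nat_lit 0x193ad587f6) (nat_lit 2052))
) (.node (nat_lit 0x194c0ada10) (.leaf (nat_lit 0x193bdca7a6) (nat_lit 2052))
 (.leaf (nat_lit 0x194c0ada10) (nat_lit 2818))
)) (.node (nat_lit 0x194ed7dad2) (.node (nat_lit 0x194c4ada02) (.leaf (nat_lit 0x194c42da12) (nat_lit 1028))
 (.leaf (nat_lit 0x194c4ada02) (nat_lit 2564))
) (.node (nat_lit 0x194edada82) (.leaf (nat_lit 0x194ed7dad2) (nat_lit 1796))
 (.leaf (nat_lit 0x194edada82) (nat_lit 3074))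
))))) (.node (nat_lit 0x19794ef726) (.node (nat_lit 0x19680ad310) (.node (nat_lit 0x195d4efe26) (.node (nat_lit 0x195c42de36) (.leaf (nat_lit 0x194f9ffad0) (nat_lit 2565))
 (.node (nat_lit 0x195d0ffe74) (.leaf (nat_lit 0x195c42de36) (nat_lit 1538))
 (.leaf (nat_lit 0x195d0ffe74) (nat_lit 2561))
)) (.node (nat_lit 0x195ed7def6) (.node (nat_lit 0x195e9adeb4) (.leaf (nat_lit 0x195d4efe26) (nat_lit 2308))
 (.leaf (nat_lit 0x195e9adeb4) (nat_lit 2818))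
) (.node (nat_lit 0x195fdefea6) (.leaf (nat_lit 0x195ed7def6) (nat_lit 2562))
 (.leaf (nat_lit 0x195fdefea6) (nat_lit 2818))
))) (.node (nat_lit 0x196adad382) (.node (nat_lit 0x19684ad302) (.node (nat_lit 0x196842d312) (.leaf (nat_lit 0x19680ad310) (nat_lit 3074))
 (.leaf (nat_lit 0x196842d312) (nat_lit 1794))
) (.node (nat_lit 0x196ad7d3d2) (.leaf (nat_lit 0x19684ad302) (nat_lit 3331))
 (.leaf (nat_lit 0x196ad7d3d2) (nat_lit 2562))
)) (.node (nat_lit 0x197842d736) (.node (nat_lit 0x196b9ff3d0) (.leaf (nat_lit 0x196adad382) (nat_lit 3074))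
 (.leaf (nat_lit 0x196b9ff3d0) (nat_lit 2819))
) (.node (nat_lit 0x19790ff774) (.leaf (nat_lit 0x197842d736) (nat_lit 1796))
 (.leaf (nat_lit 0x19790ff774) (nat_lit 2307))
)))) (.node (nat_lit 0x198e308630) (.node (nat_lit 0x197bdef7a6) (.node (nat_lit 0x197a9ad7b4) (.leaf (nat_lit 0x19794ef726) (nat_lit 2820))
 (.node (nat_lit 0x197ad7d7f6) (.leaf (nat_lit 0x197a9ad7b4) (nat_lit 2308))
 (.leaf (nat_lit 0x197ad7d7f6) (nat_lit 2308))
)) (.node (nat_lit 0x198c6f9672) (.node (nat_lit 0x198c608a02) (.leaf (nat_lit 0x197bdef7a6) (nat_lit 2304))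
 (.leaf (nat_lit 0x198c608a02) (nat_lit 3077))
) (.node (nat_lit 0x198da7b6f0) (.leaf (nat_lit 0x198c6f9672) (nat_lit 1541))
 (.leaf (nat_lit 0x198da7b6f0) (nat_lit 2561))
))) (.node (nat_lit 0x19996fba56) (.node (nat_lit 0x198ef886b2) (.node (nat_lit 0x198ef08a82) (.leaf (nat_lit 0x198e308630) (nat_lit 3077))
 (.leaf (nat_lit 0x198ef08a82) (nat_lit 3075))
) (.node (nat_lit 0x1998a08a94) (.leaf (nat_lit 0x198ef886b2) (nat_lit 1539))
 (.leaf (nat_lit 0x1998a08a94) (nat_lit 2307))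
)) (.node (nat_lit 0x199a379a54) (.node (nat_lit 0x1999aca6a4) (.leaf (nat_lit 0x19996fba56) (nat_lit 2304))
 (.leaf (nat_lit 0x1999aca6a4) (nat_lit 2821))
) (.node (nat_lit 0x199af88a96) (.leaf (nat_lit 0x199a379a54) (nat_lit 2308))
 (.leaf (nat_lit 0x199af88a96) (nat_lit 2819))
)))))))) (.node (nat_lit 0x1aa1a5a3d0) (.node (nat_lit 0x1a20c08fa2) (.node (nat_lit 0x19ebf5eff2) (.node (nat_lit 0x19cd62fa02) (.node (nat_lit 0x19bc608316) (.node (nat_lit 0x19a8a88fb0) (.node (nat_lit 0x19a8608f32) (.leaf (nat_lit 0x199b3ca624) (nat_lit 2308))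
 (.node (nat_lit 0x19a8688302) (.leaf (nat_lit 0x19a8608f32) (nat_lit 2307))
 (.leaf (nat_lit 0x19a8688302) (nat_lit 3333))
)) (.node (nat_lit 0x19aaf88382) (.node (nat_lit 0x19aaf79ff2) (.leaf (nat_lit 0x19a8a88fb0) (nat_lit 3330))
 (.leaf (nat_lit 0x19aaf79ff2) (nat_lit 2821))
) (.node (nat_lit 0x19ab3fbf70) (.leaf (nat_lit 0x19aaf88382) (nat_lit 3328))
 (.leaf (nat_lit 0x19ab3fbf70) (nat_lit 2305))
))) (.node (nat_lit 0x19be388314) (.node (nat_lit 0x19bcaf93d4) (.leaf (nat_lit 0x19bc608316) (nat_lit 3072))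
 (.node (nat_lit 0x19bda4afa4) (.leaf (nat_lit 0x19bcaf93d4) (nat_lit 2309))
 (.leaf (nat_lit 0x19bda4afa4) (nat_lit 2561))
)) (.node (nat_lit 0x19bff7b3d6) (.node (nat_lit 0x19bf34af24) (.leaf (nat_lit 0x19be388314) (nat_lit 2051))
 (.leaf (nat_lit 0x19bf34af24) (nat_lit 2819))
) (.node (nat_lit 0x19cca5c6f0) (.leaf (nat_lit 0x19bff7b3d6) (nat_lit 2819))
 (.leaf (nat_lit 0x19cca5c6f0) (nat_lit 2819))
)))) (.node (nat_lit 0x19d9a2fa94) (.node (nat_lit 0x19cff2fa82) (.node (nat_lit 0x19cd6de672) (.leaf (nat_lit 0x19cd62fa02) (nat_lit 3077))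
 (.node (nat_lit 0x19cf32f630) (.leaf (nat_lit 0x19cd6de672) (nat_lit 1797))
 (.leaf (nat_lit 0x19cf32f630) (nat_lit 2821))
)) (.node (nat_lit 0x19d86dca56) (.node (nat_lit 0x19cffaf6b2) (.leaf (nat_lit 0x19cff2fa82) (nat_lit 2820))
 (.leaf (nat_lit 0x19cffaf6b2) (nat_lit 1284))
) (.node (nat_lit 0x19d8aed6a4) (.leaf (nat_lit 0x19d86dca56) (nat_lit 2049))
 (.leaf (nat_lit 0x19d8aed6a4) (nat_lit 2821))
))) (.node (nat_lit 0x19e962ff32) (.node (nat_lit 0x19db35ea54) (.node (nat_lit 0x19da3ed624) (.leaf (nat_lit 0x19d9a2fa94) (nat_lit 2052))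
 (.leaf (nat_lit 0x19da3ed624) (nat_lit 2560))
) (.node (nat_lit 0x19dbfafa96) (.leaf (nat_lit 0x19db35ea54) (nat_lit 2309))
 (.leaf (nat_lit 0x19dbfafa96) (nat_lit 2564))
)) (.node (nat_lit 0x19e9aaffb0) (.node (nat_lit 0x19e96af302) (.leaf (nat_lit 0x19e962ff32) (nat_lit 2051))
 (.leaf (nat_lit 0x19e96af302) (nat_lit 3074))
) (.node (nat_lit 0x19ea3dcf70) (.leaf (nat_lit 0x19e9aaffb0) (nat_lit 3074))
 (.leaf (nat_lit 0x19ea3dcf70) (nat_lit 2560))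
))))) (.node (nat_lit 0x1a10839ee4) (.node (nat_lit 0x19ff3af314) (.node (nat_lit 0x19fd62f316) (.node (nat_lit 0x19ebfaf382) (.leaf (nat_lit 0x19ebf5eff2) (nat_lit 2565))
 (.node (nat_lit 0x19fca6dfa4) (.leaf (nat_lit 0x19ebfaf382) (nat_lit 3076))
 (.leaf (nat_lit 0x19fca6dfa4) (nat_lit 2565))
)) (.node (nat_lit 0x19fe36df24) (.node (nat_lit 0x19fdade3d4) (.leaf (nat_lit 0x19fd62f316) (nat_lit 2820))
 (.leaf (nat_lit 0x19fdade3d4) (nat_lit 2309))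
) (.node (nat_lit 0x19fef5c3d6) (.leaf (nat_lit 0x19fe36df24) (nat_lit 2564))
 (.leaf (nat_lit 0x19fef5c3d6) (nat_lit 2817))
))) (.node (nat_lit 0x1a039ab6a0) (.node (nat_lit 0x1a031ab620) (.node (nat_lit 0x1a0312be20) (.leaf (nat_lit 0x19ff3af314) (nat_lit 1795))
 (.leaf (nat_lit 0x1a0312be20) (nat_lit 2565))
) (.node (nat_lit 0x1a0392bea0) (.leaf (nat_lit 0x1a031ab620) (nat_lit 2816))
 (.leaf (nat_lit 0x1a0392bea0) (nat_lit 2565))
)) (.node (nat_lit 0x1a108396f4) (.node (nat_lit 0x1a108392d4) (.leaf (nat_lit 0x1a039ab6a0) (nat_lit 2560))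
 (.leaf (nat_lit 0x1a108392d4) (nat_lit 2052))
) (.node (nat_lit 0x1a10839ac4) (.leaf (nat_lit 0x1a108396f4) (nat_lit 2051))
 (.leaf (nat_lit 0x1a10839ac4) (nat_lit 2307))
)))) (.node (nat_lit 0x1a20408722) (.node (nat_lit 0x1a1393bac4) (.node (nat_lit 0x1a1313be64) (.leaf (nat_lit 0x1a10839ee4) (nat_lit 2051))
 (.node (nat_lit 0x1a135bb676) (.leaf (nat_lit 0x1a1313be64) (nat_lit 2821))
 (.leaf (nat_lit 0x1a135bb676) (nat_lit 2560))
)) (.node (nat_lit 0x1a20088310) (.node (nat_lit 0x1a13dbb2d6) (.leaf (nat_lit 0x1a1393bac4) (nat_lit 2565))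
 (.leaf (nat_lit 0x1a13dbb2d6) (nat_lit 2564))
) (.node (nat_lit 0x1a20408312) (.leaf (nat_lit 0x1a20088310) (nat_lit 2306))
 (.leaf (nat_lit 0x1a20408312) (nat_lit 768))
))) (.node (nat_lit 0x1a20888fb0) (.node (nat_lit 0x1a20408f32) (.node (nat_lit 0x1a20408f22) (.leaf (nat_lit 0x1a20408722) (nat_lit 1024))
 (.leaf (nat_lit 0x1a20408f22) (nat_lit 1536))
) (.node (nat_lit 0x1a20488302) (.leaf (nat_lit 0x1a20408f32) (nat_lit 1024))
 (.leaf (nat_lit 0x1a20488302) (nat_lit 2306))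
)) (.node (nat_lit 0x1a20c087a2) (.node (nat_lit 0x1a20c08382) (.leaf (nat_lit 0x1a20888fb0) (nat_lit 2306))
 (.leaf (nat_lit 0x1a20c08382) (nat_lit 2818))
) (.node (nat_lit 0x1a20c08b82) (.leaf (nat_lit 0x1a20c087a2) (nat_lit 2560))
 (.leaf (nat_lit 0x1a20c08b82) (nat_lit 2818))
)))))) (.node (nat_lit 0x1a6754eb02) (.node (nat_lit 0x1a440ed210) (.node (nat_lit 0x1a30418b56) (.node (nat_lit 0x1a2358ab02) (.node (nat_lit 0x1a20c88b82) (.leaf (nat_lit 0x1a20c08fa2) (nat_lit 2050))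
 (.node (nat_lit 0x1a2350ab02) (.leaf (nat_lit 0x1a20c88b82) (nat_lit 2818))
 (.leaf (nat_lit 0x1a2350ab02) (nat_lit 3586))
)) (.node (nat_lit 0x1a23d8ab82) (.node (nat_lit 0x1a23d0ab82) (.leaf (nat_lit 0x1a2358ab02) (nat_lit 2562))
 (.leaf (nat_lit 0x1a23d0ab82) (nat_lit 3330))
) (.node (nat_lit 0x1a30418b46) (.leaf (nat_lit 0x1a23d8ab82) (nat_lit 3074))
 (.leaf (nat_lit 0x1a30418b46) (nat_lit 2053))
))) (.node (nat_lit 0x1a3319ab54) (.node (nat_lit 0x1a30418f66) (.leaf (nat_lit 0x1a30418b56) (nat_lit 1793))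
 (.node (nat_lit 0x1a30418f76) (.leaf (nat_lit 0x1a30418f66) (nat_lit 1797))
 (.leaf (nat_lit 0x1a30418f76) (nat_lit 1796))
)) (.node (nat_lit 0x1a3399aff4) (.node (nat_lit 0x1a3351ab46) (.leaf (nat_lit 0x1a3319ab54) (nat_lit 2560))
 (.leaf (nat_lit 0x1a3351ab46) (nat_lit 2819))
) (.node (nat_lit 0x1a33d1afe6) (.leaf (nat_lit 0x1a3399aff4) (nat_lit 2820))
 (.leaf (nat_lit 0x1a33d1afe6) (nat_lit 2821))
)))) (.node (nat_lit 0x1a548fdac4) (.node (nat_lit 0x1a4716fe30) (.node (nat_lit 0x1a4446d212) (.leaf (nat_lit 0x1a440ed210) (nat_lit 3072))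
 (.node (nat_lit 0x1a444ed202) (.leaf (nat_lit 0x1a4446d212) (nat_lit 1540))
 (.leaf (nat_lit 0x1a444ed202) (nat_lit 2818))
)) (.node (nat_lit 0x1a47defeb2) (.node (nat_lit 0x1a47d6f282) (.leaf (nat_lit 0x1a4716fe30) (nat_lit 2820))
 (.leaf (nat_lit 0x1a47d6f282) (nat_lit 3075))
) (.node (nat_lit 0x1a5447d666) (.leaf (nat_lit 0x1a47defeb2) (nat_lit 1796))
 (.leaf (nat_lit 0x1a5447d666) (nat_lit 1796))
))) (.node (nat_lit 0x1a57d7f6e6) (.node (nat_lit 0x1a5717fe74) (.node (nat_lit 0x1a54cfdef6) (.leaf (nat_lit 0x1a548fdac4) (nat_lit 2565))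
 (.leaf (nat_lit 0x1a54cfdef6) (nat_lit 2561))
) (.node (nat_lit 0x1a579ffac4) (.leaf (nat_lit 0x1a5717fe74) (nat_lit 2563))
 (.leaf (nat_lit 0x1a579ffac4) (nat_lit 2051))
)) (.node (nat_lit 0x1a6444cb12) (.node (nat_lit 0x1a640ccb10) (.leaf (nat_lit 0x1a57d7f6e6) (nat_lit 3075))
 (.leaf (nat_lit 0x1a640ccb10) (nat_lit 2816))
) (.node (nat_lit 0x1a644ccb02) (.leaf (nat_lit 0x1a6444cb12) (nat_lit 1024))
 (.leaf (nat_lit 0x1a644ccb02) (nat_lit 2306))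
))))) (.node (nat_lit 0x1a9527ba44) (.node (nat_lit 0x1a7755eb46) (.node (nat_lit 0x1a7445cb46) (.node (nat_lit 0x1a675ce732) (.leaf (nat_lit 0x1a6754eb02) (nat_lit 2563))
 (.node (nat_lit 0x1a6794e7b0) (.leaf (nat_lit 0x1a675ce732) (nat_lit 1283))
 (.leaf (nat_lit 0x1a6794e7b0) (nat_lit 2818))
)) (.node (nat_lit 0x1a74cdc3d6) (.node (nat_lit 0x1a748dc7e4) (.leaf (nat_lit 0x1a7445cb46) (nat_lit 1793))
 (.leaf (nat_lit 0x1a748dc7e4) (nat_lit 2816))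
) (.node (nat_lit 0x1a771de764) (.leaf (nat_lit 0x1a74cdc3d6) (nat_lit 2304))
 (.leaf (nat_lit 0x1a771de764) (nat_lit 2052))
))) (.node (nat_lit 0x1a82b086a0) (.node (nat_lit 0x1a82308620) (.node (nat_lit 0x1a7795e3d4) (.leaf (nat_lit 0x1a7755eb46) (nat_lit 2819))
 (.leaf (nat_lit 0x1a7795e3d4) (nat_lit 2819))
) (.node (nat_lit 0x1a82388e20) (.leaf (nat_lit 0x1a82308620) (nat_lit 3072))
 (.leaf (nat_lit 0x1a82388e20) (nat_lit 2565))
)) (.node (nat_lit 0x1a94608e36) (.node (nat_lit 0x1a82b88ea0) (.leaf (nat_lit 0x1a82b086a0) (nat_lit 2816))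
 (.leaf (nat_lit 0x1a82b88ea0) (nat_lit 2565))
) (.node (nat_lit 0x1a94ed86e6) (.leaf (nat_lit 0x1a94608e36) (nat_lit 2560))
 (.leaf (nat_lit 0x1a94ed86e6) (nat_lit 2052))
)))) (.node (nat_lit 0x1aa06a9722) (.node (nat_lit 0x1a977da666) (.node (nat_lit 0x1a96379a44) (.leaf (nat_lit 0x1a9527ba44) (nat_lit 2818))
 (.node (nat_lit 0x1a96b88eb4) (.leaf (nat_lit 0x1a96379a44) (nat_lit 2309))
 (.leaf (nat_lit 0x1a96b88eb4) (nat_lit 2821))
)) (.node (nat_lit 0x1aa0688302) (.node (nat_lit 0x1aa0608b02) (.leaf (nat_lit 0x1a977da666) (nat_lit 3073))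
 (.leaf (nat_lit 0x1aa0608b02) (nat_lit 3074))
) (.node (nat_lit 0x1aa0688b02) (.leaf (nat_lit 0x1aa0688302) (nat_lit 3074))
 (.leaf (nat_lit 0x1aa0688b02) (nat_lit 2562))
))) (.node (nat_lit 0x1aa0ea9fa2) (.node (nat_lit 0x1aa0e08382) (.node (nat_lit 0x1aa06a9f22) (.leaf (nat_lit 0x1aa06a9722) (nat_lit 2305))
 (.leaf (nat_lit 0x1aa06a9f22) (nat_lit 1793))
) (.node (nat_lit 0x1aa0ea97a2) (.leaf (nat_lit 0x1aa0e08382) (nat_lit 2562))
 (.leaf (nat_lit 0x1aa0ea97a2) (nat_lit 1797))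
)) (.node (nat_lit 0x1aa0ef9ff2) (.node (nat_lit 0x1aa0ed83d2) (.leaf (nat_lit 0x1aa0ea9fa2) (nat_lit 1794))
 (.leaf (nat_lit 0x1aa0ed83d2) (nat_lit 1536))
) (.node (nat_lit 0x1aa127bf70) (.leaf (nat_lit 0x1aa0ef9ff2) (nat_lit 1541))
 (.leaf (nat_lit 0x1aa127bf70) (nat_lit 2049))
))))))) (.node (nat_lit 0x1b1e988eb4) (.node (nat_lit 0x1ae7f3f7f2) (.node (nat_lit 0x1ac6b9cef0) (.node (nat_lit 0x1ab527b764) (.node (nat_lit 0x1aa3f0ab82) (.node (nat_lit 0x1aa370ab02) (.leaf (nat_lit 0x1aa1a5a3d0) (nat_lit 2305))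
 (.node (nat_lit 0x1aa378ab02) (.leaf (nat_lit 0x1aa370ab02) (nat_lit 3586))
 (.leaf (nat_lit 0x1aa378ab02) (nat_lit 2818))
)) (.node (nat_lit 0x1ab4608316) (.node (nat_lit 0x1aa3f8ab82) (.leaf (nat_lit 0x1aa3f0ab82) (nat_lit 3333))
 (.leaf (nat_lit 0x1aa3f8ab82) (nat_lit 2818))
) (.node (nat_lit 0x1ab4ed8bc6) (.leaf (nat_lit 0x1ab4608316) (nat_lit 2820))
 (.leaf (nat_lit 0x1ab4ed8bc6) (nat_lit 2308))
))) (.node (nat_lit 0x1ab7fdabc6) (.node (nat_lit 0x1ab6388314) (.leaf (nat_lit 0x1ab527b764) (nat_lit 3076))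
 (.node (nat_lit 0x1ab6b797e4) (.leaf (nat_lit 0x1ab6388314) (nat_lit 2821))
 (.leaf (nat_lit 0x1ab6b797e4) (nat_lit 2053))
)) (.node (nat_lit 0x1ac4ebd2d2) (.node (nat_lit 0x1ac4e6d282) (.leaf (nat_lit 0x1ab7fdabc6) (nat_lit 2821))
 (.leaf (nat_lit 0x1ac4e6d282) (nat_lit 3074))
) (.node (nat_lit 0x1ac5a3f2d0) (.leaf (nat_lit 0x1ac4ebd2d2) (nat_lit 1796))
 (.leaf (nat_lit 0x1ac5a3f2d0) (nat_lit 2561))
)))) (.node (nat_lit 0x1ad23bda44) (.node (nat_lit 0x1ad129ee64) (.node (nat_lit 0x1ac771ee72) (.leaf (nat_lit 0x1ac6b9cef0) (nat_lit 2564))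
 (.node (nat_lit 0x1ac77ef202) (.leaf (nat_lit 0x1ac771ee72) (nat_lit 1797))
 (.leaf (nat_lit 0x1ac77ef202) (nat_lit 3331))
)) (.node (nat_lit 0x1ad12ce634) (.node (nat_lit 0x1ad12bfa44) (.leaf (nat_lit 0x1ad129ee64) (nat_lit 2053))
 (.leaf (nat_lit 0x1ad12bfa44) (nat_lit 2309))
) (.node (nat_lit 0x1ad12ef214) (.leaf (nat_lit 0x1ad12ce634) (nat_lit 2309))
 (.leaf (nat_lit 0x1ad12ef214) (nat_lit 2053))
))) (.node (nat_lit 0x1ae4e4cb82) (.node (nat_lit 0x1ad376f216) (.node (nat_lit 0x1ad2b9cee4) (.leaf (nat_lit 0x1ad23bda44) (nat_lit 2563))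
 (.leaf (nat_lit 0x1ad2b9cee4) (nat_lit 2307))
) (.node (nat_lit 0x1ad3f4e6b6) (.leaf (nat_lit 0x1ad376f216) (nat_lit 2564))
 (.leaf (nat_lit 0x1ad3f4e6b6) (nat_lit 2564))
)) (.node (nat_lit 0x1ae5a1ebd0) (.node (nat_lit 0x1ae4e9cbd2) (.leaf (nat_lit 0x1ae4e4cb82) (nat_lit 3074))
 (.leaf (nat_lit 0x1ae4e9cbd2) (nat_lit 2052))
) (.node (nat_lit 0x1ae63bd770) (.leaf (nat_lit 0x1ae5a1ebd0) (nat_lit 2561))
 (.leaf (nat_lit 0x1ae63bd770) (nat_lit 2818))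
))))) (.node (nat_lit 0x1b0c4e9202) (.node (nat_lit 0x1af2b4cb94) (.node (nat_lit 0x1af0ebdfe6) (.node (nat_lit 0x1ae7fceb82) (.leaf (nat_lit 0x1ae7f3f7f2) (nat_lit 1797))
 (.node (nat_lit 0x1af0e9cbc6) (.leaf (nat_lit 0x1ae7fceb82) (nat_lit 3077))
 (.leaf (nat_lit 0x1af0e9cbc6) (nat_lit 2563))
)) (.node (nat_lit 0x1af0eedfb6) (.node (nat_lit 0x1af0eccb96) (.leaf (nat_lit 0x1af0ebdfe6) (nat_lit 2307))
 (.leaf (nat_lit 0x1af0eccb96) (nat_lit 2308))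
) (.node (nat_lit 0x1af236df34) (.leaf (nat_lit 0x1af0eedfb6) (nat_lit 2052))
 (.leaf (nat_lit 0x1af236df34) (nat_lit 2821))
))) (.node (nat_lit 0x1b0c418e62) (.node (nat_lit 0x1af3f9ebc6) (.node (nat_lit 0x1af37bff66) (.leaf (nat_lit 0x1af2b4cb94) (nat_lit 2561))
 (.leaf (nat_lit 0x1af37bff66) (nat_lit 2049))
) (.node (nat_lit 0x1b0c0e9210) (.leaf (nat_lit 0x1af3f9ebc6) (nat_lit 2305))
 (.leaf (nat_lit 0x1b0c0e9210) (nat_lit 2309))
)) (.node (nat_lit 0x1b0c469212) (.node (nat_lit 0x1b0c418e72) (.leaf (nat_lit 0x1b0c418e62) (nat_lit 1541))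
 (.leaf (nat_lit 0x1b0c418e72) (nat_lit 1029))
) (.node (nat_lit 0x1b0c479662) (.leaf (nat_lit 0x1b0c469212) (nat_lit 773))
 (.leaf (nat_lit 0x1b0c479662) (nat_lit 1029))
)))) (.node (nat_lit 0x1b0ed08a82) (.node (nat_lit 0x1b0dc1aee2) (.node (nat_lit 0x1b0d89aef0) (.leaf (nat_lit 0x1b0c4e9202) (nat_lit 2309))
 (.node (nat_lit 0x1b0dc0aa82) (.leaf (nat_lit 0x1b0d89aef0) (nat_lit 2309))
 (.leaf (nat_lit 0x1b0dc0aa82) (nat_lit 2819))
)) (.node (nat_lit 0x1b0dc7b6e2) (.node (nat_lit 0x1b0dc6b282) (.leaf (nat_lit 0x1b0dc1aee2) (nat_lit 2563))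
 (.leaf (nat_lit 0x1b0dc6b282) (nat_lit 2821))
) (.node (nat_lit 0x1b0dc8aa82) (.leaf (nat_lit 0x1b0dc7b6e2) (nat_lit 2565))
 (.leaf (nat_lit 0x1b0dc8aa82) (nat_lit 2821))
))) (.node (nat_lit 0x1b1c408e26) (.node (nat_lit 0x1b0f50aa02) (.node (nat_lit 0x1b0ed88a82) (.leaf (nat_lit 0x1b0ed08a82) (nat_lit 3331))
 (.leaf (nat_lit 0x1b0ed88a82) (nat_lit 3330))
) (.node (nat_lit 0x1b0f58aa02) (.leaf (nat_lit 0x1b0f50aa02) (nat_lit 3330))
 (.leaf (nat_lit 0x1b0f58aa02) (nat_lit 2817))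
)) (.node (nat_lit 0x1b1c418a46) (.node (nat_lit 0x1b1c408e36) (.leaf (nat_lit 0x1b1c408e26) (nat_lit 1794))
 (.leaf (nat_lit 0x1b1c408e36) (nat_lit 1792))
) (.node (nat_lit 0x1b1c418a56) (.leaf (nat_lit 0x1b1c418a46) (nat_lit 1537))
 (.leaf (nat_lit 0x1b1c418a56) (nat_lit 1537))
)))))) (.node (nat_lit 0x1b6e9dc7e0) (.node (nat_lit 0x1b3ad087a6) (.node (nat_lit 0x1b2ad08382) (.node (nat_lit 0x1b1f51aa46) (.node (nat_lit 0x1b1ed08ea6) (.leaf (nat_lit 0x1b1e988eb4) (nat_lit 2821))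
 (.node (nat_lit 0x1b1f19aa54) (.leaf (nat_lit 0x1b1ed08ea6) (nat_lit 2818))
 (.leaf (nat_lit 0x1b1f19aa54) (nat_lit 2561))
)) (.node (nat_lit 0x1b28408312) (.node (nat_lit 0x1b28088310) (.leaf (nat_lit 0x1b1f51aa46) (nat_lit 2305))
 (.leaf (nat_lit 0x1b28088310) (nat_lit 3077))
) (.node (nat_lit 0x1b28488302) (.leaf (nat_lit 0x1b28408312) (nat_lit 1541))
 (.leaf (nat_lit 0x1b28488302) (nat_lit 3077))
))) (.node (nat_lit 0x1b38408726) (.node (nat_lit 0x1b2adf9ff2) (.leaf (nat_lit 0x1b2ad08382) (nat_lit 3333))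
 (.node (nat_lit 0x1b2b17bf70) (.leaf (nat_lit 0x1b2adf9ff2) (nat_lit 1797))
 (.leaf (nat_lit 0x1b2b17bf70) (nat_lit 2817))
)) (.node (nat_lit 0x1b39cebfb6) (.node (nat_lit 0x1b398fbbc4) (.leaf (nat_lit 0x1b38408726) (nat_lit 1792))
 (.leaf (nat_lit 0x1b398fbbc4) (nat_lit 2562))
) (.node (nat_lit 0x1b3a9f9bc4) (.leaf (nat_lit 0x1b39cebfb6) (nat_lit 2564))
 (.leaf (nat_lit 0x1b3a9f9bc4) (nat_lit 2053))
)))) (.node (nat_lit 0x1b4b5bf672) (.node (nat_lit 0x1b4844ca12) (.node (nat_lit 0x1b3b16bf34) (.leaf (nat_lit 0x1b3ad087a6) (nat_lit 3077))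
 (.node (nat_lit 0x1b480cca10) (.leaf (nat_lit 0x1b3b16bf34) (nat_lit 2565))
 (.leaf (nat_lit 0x1b480cca10) (nat_lit 2561))
)) (.node (nat_lit 0x1b4a93d6f0) (.node (nat_lit 0x1b484cca02) (.leaf (nat_lit 0x1b4844ca12) (nat_lit 1029))
 (.leaf (nat_lit 0x1b484cca02) (nat_lit 2561))
) (.node (nat_lit 0x1b4b54ea02) (.leaf (nat_lit 0x1b4a93d6f0) (nat_lit 2821))
 (.leaf (nat_lit 0x1b4b54ea02) (nat_lit 2821))
))) (.node (nat_lit 0x1b5a93d2d4) (.node (nat_lit 0x1b598af6a4) (.node (nat_lit 0x1b5845ca46) (.leaf (nat_lit 0x1b4b5bf672) (nat_lit 1285))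
 (.leaf (nat_lit 0x1b5845ca46) (nat_lit 1537))
) (.node (nat_lit 0x1b59cbf2d6) (.leaf (nat_lit 0x1b598af6a4) (nat_lit 2817))
 (.leaf (nat_lit 0x1b59cbf2d6) (nat_lit 2049))
)) (.node (nat_lit 0x1b5b55ea46) (.node (nat_lit 0x1b5b1af624) (.leaf (nat_lit 0x1b5a93d2d4) (nat_lit 2820))
 (.leaf (nat_lit 0x1b5b1af624) (nat_lit 2309))
) (.node (nat_lit 0x1b6e93dfe0) (.leaf (nat_lit 0x1b5b55ea46) (nat_lit 2821))
 (.leaf (nat_lit 0x1b6e93dfe0) (nat_lit 2562))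
))))) (.node (nat_lit 0x1b8e369e30) (.node (nat_lit 0x1b7e93dbc4) (.node (nat_lit 0x1b7d82ffa4) (.node (nat_lit 0x1b6f13ff60) (.leaf (nat_lit 0x1b6e9dc7e0) (nat_lit 2561))
 (.node (nat_lit 0x1b6f1de760) (.leaf (nat_lit 0x1b6f13ff60) (nat_lit 2049))
 (.leaf (nat_lit 0x1b6f1de760) (nat_lit 2820))
)) (.node (nat_lit 0x1b7d84e7b4) (.node (nat_lit 0x1b7d83fbc4) (.leaf (nat_lit 0x1b7d82ffa4) (nat_lit 2309))
 (.leaf (nat_lit 0x1b7d83fbc4) (nat_lit 2309))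
) (.node (nat_lit 0x1b7d85e3d4) (.leaf (nat_lit 0x1b7d84e7b4) (nat_lit 2053))
 (.leaf (nat_lit 0x1b7d85e3d4) (nat_lit 2304))
))) (.node (nat_lit 0x1b8c608a02) (.node (nat_lit 0x1b7f12ff24) (.node (nat_lit 0x1b7eddc3d6) (.leaf (nat_lit 0x1b7e93dbc4) (nat_lit 2563))
 (.leaf (nat_lit 0x1b7eddc3d6) (nat_lit 2305))
) (.node (nat_lit 0x1b7f5ce736) (.leaf (nat_lit 0x1b7f12ff24) (nat_lit 2305))
 (.leaf (nat_lit 0x1b7f5ce736) (nat_lit 2565))
)) (.node (nat_lit 0x1b8de0aa82) (.node (nat_lit 0x1b8c688a02) (.leaf (nat_lit 0x1b8c608a02) (nat_lit 3587))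
 (.leaf (nat_lit 0x1b8c688a02) (nat_lit 3074))
) (.node (nat_lit 0x1b8de8aa82) (.leaf (nat_lit 0x1b8de0aa82) (nat_lit 3075))
 (.leaf (nat_lit 0x1b8de8aa82) (nat_lit 3073))
)))) (.node (nat_lit 0x1b8f78aa02) (.node (nat_lit 0x1b8efb9ee2) (.node (nat_lit 0x1b8ef69282) (.leaf (nat_lit 0x1b8e369e30) (nat_lit 2565))
 (.node (nat_lit 0x1b8efb92d2) (.leaf (nat_lit 0x1b8ef69282) (nat_lit 2563))
 (.leaf (nat_lit 0x1b8efb92d2) (nat_lit 1283))
)) (.node (nat_lit 0x1b8efe9eb2) (.node (nat_lit 0x1b8efd86e2) (.leaf (nat_lit 0x1b8efb9ee2) (nat_lit 1795))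
 (.leaf (nat_lit 0x1b8efd86e2) (nat_lit 1283))
) (.node (nat_lit 0x1b8f70aa02) (.leaf (nat_lit 0x1b8efe9eb2) (nat_lit 1027))
 (.leaf (nat_lit 0x1b8f70aa02) (nat_lit 3074))
))) (.node (nat_lit 0x1b8fb3b2d0) (.node (nat_lit 0x1b8f7da662) (.node (nat_lit 0x1b8f7bbe62) (.leaf (nat_lit 0x1b8f78aa02) (nat_lit 2565))
 (.leaf (nat_lit 0x1b8f7bbe62) (nat_lit 2309))
) (.node (nat_lit 0x1b8f7eb202) (.leaf (nat_lit 0x1b8f7da662) (nat_lit 2818))
 (.leaf (nat_lit 0x1b8f7eb202) (nat_lit 3074))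
)) (.node (nat_lit 0x1b992eb214) (.node (nat_lit 0x1b98a086a4) (.leaf (nat_lit 0x1b8fb3b2d0) (nat_lit 2563))
 (.leaf (nat_lit 0x1b98a086a4) (nat_lit 2048))
) (.node (nat_lit 0x1b99edaac6) (.leaf (nat_lit 0x1b992eb214) (nat_lit 2820))
 (.leaf (nat_lit 0x1b99edaac6) (nat_lit 2819))
))))))))) (.node (nat_lit 0x1e1080828c) (.node (nat_lit 0x1cb4a88fac) (.node (nat_lit 0x1c20408b0a) (.node (nat_lit 0x1bdefcca96) (.node (nat_lit 0x1bbe388f24) (.node (nat_lit 0x1baafd83d2) (.node (nat_lit 0x1ba8608f32) (.node (nat_lit 0x1b9afd8ac6) (.leaf (nat_lit 0x1b9a308624) (nat_lit 3331))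
 (.node (nat_lit 0x1b9b76b216) (.leaf (nat_lit 0x1b9afd8ac6) (nat_lit 2304))
 (.leaf (nat_lit 0x1b9b76b216) (nat_lit 2819))
)) (.node (nat_lit 0x1ba8a88fb0) (.node (nat_lit 0x1ba8688302) (.leaf (nat_lit 0x1ba8608f32) (nat_lit 1795))
 (.leaf (nat_lit 0x1ba8688302) (nat_lit 3331))
) (.node (nat_lit 0x1baaf08382) (.leaf (nat_lit 0x1ba8a88fb0) (nat_lit 3077))
 (.leaf (nat_lit 0x1baaf08382) (nat_lit 3328))
))) (.node (nat_lit 0x1bbca88fa4) (.node (nat_lit 0x1babb5a3d0) (.leaf (nat_lit 0x1baafd83d2) (nat_lit 1792))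
 (.node (nat_lit 0x1bbc608316) (.leaf (nat_lit 0x1babb5a3d0) (nat_lit 2817))
 (.leaf (nat_lit 0x1bbc608316) (nat_lit 3075))
)) (.node (nat_lit 0x1bbde3b7f6) (.node (nat_lit 0x1bbd2bbb44) (.leaf (nat_lit 0x1bbca88fa4) (nat_lit 2821))
 (.leaf (nat_lit 0x1bbd2bbb44) (nat_lit 2563))
) (.node (nat_lit 0x1bbe388314) (.leaf (nat_lit 0x1bbde3b7f6) (nat_lit 2561))
 (.leaf (nat_lit 0x1bbe388314) (nat_lit 2048))
)))) (.node (nat_lit 0x1bcaf9cad2) (.node (nat_lit 0x1bc92ce630) (.node (nat_lit 0x1bbe3b9774) (.leaf (nat_lit 0x1bbe388f24) (nat_lit 2051))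
 (.node (nat_lit 0x1bbe3b9b44) (.leaf (nat_lit 0x1bbe3b9774) (nat_lit 1795))
 (.leaf (nat_lit 0x1bbe3b9b44) (nat_lit 1795))
)) (.node (nat_lit 0x1bc9ecea82) (.node (nat_lit 0x1bc9e4e6b2) (.leaf (nat_lit 0x1bc92ce630) (nat_lit 2817))
 (.leaf (nat_lit 0x1bc9e4e6b2) (nat_lit 1283))
) (.node (nat_lit 0x1bcaf4ca82) (.leaf (nat_lit 0x1bc9ecea82) (nat_lit 2819))
 (.leaf (nat_lit 0x1bcaf4ca82) (nat_lit 3075))
))) (.node (nat_lit 0x1bdd27fe74) (.node (nat_lit 0x1bdc6ade26) (.node (nat_lit 0x1bcbb1ead0) (.leaf (nat_lit 0x1bcaf9cad2) (nat_lit 1539))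
 (.leaf (nat_lit 0x1bcbb1ead0) (nat_lit 2817))
) (.node (nat_lit 0x1bdca4ca94) (.leaf (nat_lit 0x1bdc6ade26) (nat_lit 2308))
 (.leaf (nat_lit 0x1bdca4ca94) (nat_lit 2819))
)) (.node (nat_lit 0x1bdef9cac6) (.node (nat_lit 0x1bdde9eac6) (.leaf (nat_lit 0x1bdd27fe74) (nat_lit 2563))
 (.leaf (nat_lit 0x1bdde9eac6) (nat_lit 2304))
) (.node (nat_lit 0x1bdefadea6) (.leaf (nat_lit 0x1bdef9cac6) (nat_lit 2306))
 (.leaf (nat_lit 0x1bdefadea6) (nat_lit 2562))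
))))) (.node (nat_lit 0x1c06db9aca) (.node (nat_lit 0x1bf8a9cff4) (.node (nat_lit 0x1beca9cfe0) (.node (nat_lit 0x1bdeffdef6) (.leaf (nat_lit 0x1bdefcca96) (nat_lit 2304))
 (.node (nat_lit 0x1beca7d7e0) (.leaf (nat_lit 0x1bdeffdef6) (nat_lit 2048))
 (.leaf (nat_lit 0x1beca7d7e0) (nat_lit 2820))
)) (.node (nat_lit 0x1bed29ef60) (.node (nat_lit 0x1bed27f760) (.leaf (nat_lit 0x1beca9cfe0) (nat_lit 2050))
 (.leaf (nat_lit 0x1bed27f760) (nat_lit 2819))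
) (.node (nat_lit 0x1bf86ad726) (.leaf (nat_lit 0x1bed29ef60) (nat_lit 2560))
 (.leaf (nat_lit 0x1bf86ad726) (nat_lit 3075))
))) (.node (nat_lit 0x1bfb71ef76) (.node (nat_lit 0x1bfa37db44) (.node (nat_lit 0x1bf927fb44) (.leaf (nat_lit 0x1bf8a9cff4) (nat_lit 2307))
 (.leaf (nat_lit 0x1bf927fb44) (nat_lit 1795))
) (.node (nat_lit 0x1bfafad7a6) (.leaf (nat_lit 0x1bfa37db44) (nat_lit 2821))
 (.leaf (nat_lit 0x1bfafad7a6) (nat_lit 2048))
)) (.node (nat_lit 0x1c06d88a8a) (.node (nat_lit 0x1c06d886ba) (.leaf (nat_lit 0x1bfb71ef76) (nat_lit 2564))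
 (.leaf (nat_lit 0x1c06d886ba) (nat_lit 1792))
) (.node (nat_lit 0x1c06db96fa) (.leaf (nat_lit 0x1c06d88a8a) (nat_lit 2307))
 (.leaf (nat_lit 0x1c06db96fa) (nat_lit 1537))
)))) (.node (nat_lit 0x1c10869a8c) (.node (nat_lit 0x1c10858acc) (.node (nat_lit 0x1c108582dc) (.leaf (nat_lit 0x1c06db9aca) (nat_lit 2308))
 (.node (nat_lit 0x1c108586fc) (.leaf (nat_lit 0x1c108582dc) (nat_lit 1795))
 (.leaf (nat_lit 0x1c108586fc) (nat_lit 1541))
)) (.node (nat_lit 0x1c1086929c) (.node (nat_lit 0x1c10858eec) (.leaf (nat_lit 0x1c10858acc) (nat_lit 1795))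
 (.leaf (nat_lit 0x1c10858eec) (nat_lit 1795))
) (.node (nat_lit 0x1c108696bc) (.leaf (nat_lit 0x1c1086929c) (nat_lit 1539))
 (.leaf (nat_lit 0x1c108696bc) (nat_lit 1797))
))) (.node (nat_lit 0x1c169b92cc) (.node (nat_lit 0x1c1698828c) (.node (nat_lit 0x1c10869eac) (.leaf (nat_lit 0x1c10869a8c) (nat_lit 2051))
 (.leaf (nat_lit 0x1c10869eac) (nat_lit 1539))
) (.node (nat_lit 0x1c16988ebc) (.leaf (nat_lit 0x1c1698828c) (nat_lit 2816))
 (.leaf (nat_lit 0x1c16988ebc) (nat_lit 2307))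
)) (.node (nat_lit 0x1c2040831a) (.node (nat_lit 0x1c169b9efc) (.leaf (nat_lit 0x1c169b92cc) (nat_lit 2564))
 (.leaf (nat_lit 0x1c169b9efc) (nat_lit 2051))
) (.node (nat_lit 0x1c2040873a) (.leaf (nat_lit 0x1c2040831a) (nat_lit 1539))
 (.leaf (nat_lit 0x1c2040873a) (nat_lit 1282))
)))))) (.node (nat_lit 0x1c771efb0c) (.node (nat_lit 0x1c47dde2da) (.node (nat_lit 0x1c26588f3a) (.node (nat_lit 0x1c2043977a) (.node (nat_lit 0x1c20408f2a) (.leaf (nat_lit 0x1c20408b0a) (nat_lit 1280))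
 (.node (nat_lit 0x1c2043935a) (.leaf (nat_lit 0x1c20408f2a) (nat_lit 1024))
 (.leaf (nat_lit 0x1c2043935a) (nat_lit 1283))
)) (.node (nat_lit 0x1c20439f6a) (.node (nat_lit 0x1c20439b4a) (.leaf (nat_lit 0x1c2043977a) (nat_lit 1026))
 (.leaf (nat_lit 0x1c20439b4a) (nat_lit 1028))
) (.node (nat_lit 0x1c2658830a) (.leaf (nat_lit 0x1c20439f6a) (nat_lit 769))
 (.leaf (nat_lit 0x1c2658830a) (nat_lit 3075))
))) (.node (nat_lit 0x1c3618831c) (.node (nat_lit 0x1c265b934a) (.leaf (nat_lit 0x1c26588f3a) (nat_lit 2048))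
 (.node (nat_lit 0x1c265b9f7a) (.leaf (nat_lit 0x1c265b934a) (nat_lit 2819))
 (.leaf (nat_lit 0x1c265b9f7a) (nat_lit 1796))
)) (.node (nat_lit 0x1c361b935c) (.node (nat_lit 0x1c36188f2c) (.leaf (nat_lit 0x1c3618831c) (nat_lit 2051))
 (.leaf (nat_lit 0x1c36188f2c) (nat_lit 2304))
) (.node (nat_lit 0x1c361b9f6c) (.leaf (nat_lit 0x1c361b935c) (nat_lit 2052))
 (.leaf (nat_lit 0x1c361b9f6c) (nat_lit 2052))
)))) (.node (nat_lit 0x1c579ffadc) (.node (nat_lit 0x1c47defeaa) (.node (nat_lit 0x1c47ddeeea) (.leaf (nat_lit 0x1c47dde2da) (nat_lit 1795))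
 (.node (nat_lit 0x1c47def29a) (.leaf (nat_lit 0x1c47ddeeea) (nat_lit 2307))
 (.leaf (nat_lit 0x1c47def29a) (nat_lit 2052))
)) (.node (nat_lit 0x1c579cea9c) (.node (nat_lit 0x1c579ce6ac) (.leaf (nat_lit 0x1c47defeaa) (nat_lit 2307))
 (.leaf (nat_lit 0x1c579ce6ac) (nat_lit 2051))
) (.node (nat_lit 0x1c579ff6ec) (.leaf (nat_lit 0x1c579cea9c) (nat_lit 1539))
 (.leaf (nat_lit 0x1c579ff6ec) (nat_lit 2307))
))) (.node (nat_lit 0x1c675ffb5a) (.node (nat_lit 0x1c675ceb1a) (.node (nat_lit 0x1c675ce72a) (.leaf (nat_lit 0x1c579ffadc) (nat_lit 1795))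
 (.leaf (nat_lit 0x1c675ce72a) (nat_lit 2563))
) (.node (nat_lit 0x1c675ff76a) (.leaf (nat_lit 0x1c675ceb1a) (nat_lit 1539))
 (.leaf (nat_lit 0x1c675ff76a) (nat_lit 2307))
)) (.node (nat_lit 0x1c771deb4c) (.node (nat_lit 0x1c771de77c) (.leaf (nat_lit 0x1c675ffb5a) (nat_lit 1283))
 (.leaf (nat_lit 0x1c771de77c) (nat_lit 2051))
) (.node (nat_lit 0x1c771ef73c) (.leaf (nat_lit 0x1c771deb4c) (nat_lit 2307))
 (.leaf (nat_lit 0x1c771ef73c) (nat_lit 2051))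
))))) (.node (nat_lit 0x1c9563be7e) (.node (nat_lit 0x1c92b69a8c) (.node (nat_lit 0x1c8733b678) (.node (nat_lit 0x1c86308638) (.leaf (nat_lit 0x1c771efb0c) (nat_lit 2051))
 (.node (nat_lit 0x1c86f88a8a) (.leaf (nat_lit 0x1c86308638) (nat_lit 2821))
 (.leaf (nat_lit 0x1c86f88a8a) (nat_lit 3072))
)) (.node (nat_lit 0x1c92369e2c) (.node (nat_lit 0x1c87fbbaca) (.leaf (nat_lit 0x1c8733b678) (nat_lit 2565))
 (.leaf (nat_lit 0x1c87fbbaca) (nat_lit 2820))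
) (.node (nat_lit 0x1c927e963e) (.leaf (nat_lit 0x1c92369e2c) (nat_lit 2565))
 (.leaf (nat_lit 0x1c927e963e) (nat_lit 1797))
))) (.node (nat_lit 0x1c93b5aacc) (.node (nat_lit 0x1c9335ae6c) (.node (nat_lit 0x1c92fe929e) (.leaf (nat_lit 0x1c92b69a8c) (nat_lit 2565))
 (.leaf (nat_lit 0x1c92fe929e) (nat_lit 2307))
) (.node (nat_lit 0x1c937da67e) (.leaf (nat_lit 0x1c9335ae6c) (nat_lit 2309))
 (.leaf (nat_lit 0x1c937da67e) (nat_lit 2053))
)) (.node (nat_lit 0x1c94608e3e) (.node (nat_lit 0x1c93fda2de) (.leaf (nat_lit 0x1c93b5aacc) (nat_lit 2563))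
 (.leaf (nat_lit 0x1c93fda2de) (nat_lit 2053))
) (.node (nat_lit 0x1c94a8828c) (.leaf (nat_lit 0x1c94608e3e) (nat_lit 2821))
 (.leaf (nat_lit 0x1c94a8828c) (nat_lit 3328))
)))) (.node (nat_lit 0x1ca163bb4a) (.node (nat_lit 0x1ca0608b0a) (.node (nat_lit 0x1c95abb2cc) (.leaf (nat_lit 0x1c9563be7e) (nat_lit 2821))
 (.node (nat_lit 0x1ca0288318) (.leaf (nat_lit 0x1c95abb2cc) (nat_lit 3076))
 (.leaf (nat_lit 0x1ca0288318) (nat_lit 2048))
)) (.node (nat_lit 0x1ca0e08faa) (.node (nat_lit 0x1ca0a887b8) (.leaf (nat_lit 0x1ca0608b0a) (nat_lit 2563))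
 (.leaf (nat_lit 0x1ca0a887b8) (nat_lit 1794))
) (.node (nat_lit 0x1ca12bb358) (.leaf (nat_lit 0x1ca0e08faa) (nat_lit 2562))
 (.leaf (nat_lit 0x1ca12bb358) (nat_lit 1796))
))) (.node (nat_lit 0x1ca6b08fb8) (.node (nat_lit 0x1ca1e3bfea) (.node (nat_lit 0x1ca1abb7f8) (.leaf (nat_lit 0x1ca163bb4a) (nat_lit 2307))
 (.leaf (nat_lit 0x1ca1abb7f8) (nat_lit 1538))
) (.node (nat_lit 0x1ca678830a) (.leaf (nat_lit 0x1ca1e3bfea) (nat_lit 2306))
 (.leaf (nat_lit 0x1ca678830a) (nat_lit 3077))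
)) (.node (nat_lit 0x1ca7b3bff8) (.node (nat_lit 0x1ca77bb34a) (.leaf (nat_lit 0x1ca6b08fb8) (nat_lit 3072))
 (.leaf (nat_lit 0x1ca77bb34a) (nat_lit 2820))
) (.node (nat_lit 0x1cb460831e) (.leaf (nat_lit 0x1ca7b3bff8) (nat_lit 2820))
 (.leaf (nat_lit 0x1cb460831e) (nat_lit 2821))
))))))) (.node (nat_lit 0x1d6e96dfa8) (.node (nat_lit 0x1d1c88828c) (.node (nat_lit 0x1ce7fce7aa) (.node (nat_lit 0x1cd42fd66c) (.node (nat_lit 0x1cc67dce6a) (.node (nat_lit 0x1cb563b35e) (.leaf (nat_lit 0x1cb4a88fac) (nat_lit 3077))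
 (.node (nat_lit 0x1cb5abbfec) (.leaf (nat_lit 0x1cb563b35e) (nat_lit 2565))
 (.leaf (nat_lit 0x1cb5abbfec) (nat_lit 2818))
)) (.node (nat_lit 0x1cc77efe2a) (.node (nat_lit 0x1cc6b5c2d8) (.leaf (nat_lit 0x1cc67dce6a) (nat_lit 2309))
 (.leaf (nat_lit 0x1cc6b5c2d8) (nat_lit 2821))
) (.node (nat_lit 0x1cc7b6f298) (.leaf (nat_lit 0x1cc77efe2a) (nat_lit 2565))
 (.leaf (nat_lit 0x1cc7b6f298) (nat_lit 2821))
))) (.node (nat_lit 0x1cd5e4ea9e) (.node (nat_lit 0x1cd4e7dade) (.leaf (nat_lit 0x1cd42fd66c) (nat_lit 2818))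
 (.node (nat_lit 0x1cd52ce62c) (.leaf (nat_lit 0x1cd4e7dade) (nat_lit 2309))
 (.leaf (nat_lit 0x1cd52ce62c) (nat_lit 2562))
)) (.node (nat_lit 0x1ce6ffd7ea) (.node (nat_lit 0x1ce637db58) (.leaf (nat_lit 0x1cd5e4ea9e) (nat_lit 2563))
 (.leaf (nat_lit 0x1ce637db58) (nat_lit 2563))
) (.node (nat_lit 0x1ce734eb18) (.leaf (nat_lit 0x1ce6ffd7ea) (nat_lit 2817))
 (.leaf (nat_lit 0x1ce734eb18) (nat_lit 2565))
)))) (.node (nat_lit 0x1d0b5fba5a) (.node (nat_lit 0x1cf52efb0c) (.node (nat_lit 0x1cf42dcb4c) (.leaf (nat_lit 0x1ce7fce7aa) (nat_lit 2565))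
 (.node (nat_lit 0x1cf4e5c7fe) (.leaf (nat_lit 0x1cf42dcb4c) (nat_lit 2816))
 (.leaf (nat_lit 0x1cf4e5c7fe) (nat_lit 2565))
)) (.node (nat_lit 0x1d0a188e28) (.node (nat_lit 0x1cf5e6f7be) (.leaf (nat_lit 0x1cf52efb0c) (nat_lit 2561))
 (.leaf (nat_lit 0x1cf5e6f7be) (nat_lit 2309))
) (.node (nat_lit 0x1d0a9586f8) (.leaf (nat_lit 0x1d0a188e28) (nat_lit 2821))
 (.leaf (nat_lit 0x1d0a9586f8) (nat_lit 2306))
))) (.node (nat_lit 0x1d1a588e3e) (.node (nat_lit 0x1d0d8fb6e8) (.node (nat_lit 0x1d0c408a0a) (.leaf (nat_lit 0x1d0b5fba5a) (nat_lit 2307))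
 (.leaf (nat_lit 0x1d0c408a0a) (nat_lit 1536))
) (.node (nat_lit 0x1d0dceb29a) (.leaf (nat_lit 0x1d0d8fb6e8) (nat_lit 2562))
 (.leaf (nat_lit 0x1d0dceb29a) (nat_lit 2564))
)) (.node (nat_lit 0x1d1b1eba0c) (.node (nat_lit 0x1d1a9582dc) (.leaf (nat_lit 0x1d1a588e3e) (nat_lit 2565))
 (.leaf (nat_lit 0x1d1a9582dc) (nat_lit 2563))
) (.node (nat_lit 0x1d1c408e2e) (.leaf (nat_lit 0x1d1b1eba0c) (nat_lit 2819))
 (.leaf (nat_lit 0x1d1c408e2e) (nat_lit 1541))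
))))) (.node (nat_lit 0x1d4a96d6b8) (.node (nat_lit 0x1d2f1eb738) (.node (nat_lit 0x1d28888fb8) (.node (nat_lit 0x1d1cc886be) (.leaf (nat_lit 0x1d1c88828c) (nat_lit 3072))
 (.node (nat_lit 0x1d2840831a) (.leaf (nat_lit 0x1d1cc886be) (nat_lit 2309))
 (.leaf (nat_lit 0x1d2840831a) (nat_lit 1792))
)) (.node (nat_lit 0x1d2e58830a) (.node (nat_lit 0x1d28c88b8a) (.leaf (nat_lit 0x1d28888fb8) (nat_lit 3072))
 (.leaf (nat_lit 0x1d28c88b8a) (nat_lit 2816))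
) (.node (nat_lit 0x1d2e958fe8) (.leaf (nat_lit 0x1d2e58830a) (nat_lit 3332))
 (.leaf (nat_lit 0x1d2e958fe8) (nat_lit 2050))
))) (.node (nat_lit 0x1d3e18831c) (.node (nat_lit 0x1d398fbbdc) (.node (nat_lit 0x1d3840873e) (.leaf (nat_lit 0x1d2f1eb738) (nat_lit 2562))
 (.leaf (nat_lit 0x1d3840873e) (nat_lit 1797))
) (.node (nat_lit 0x1d39cebfae) (.leaf (nat_lit 0x1d398fbbdc) (nat_lit 2563))
 (.leaf (nat_lit 0x1d39cebfae) (nat_lit 2821))
)) (.node (nat_lit 0x1d3f5fb76e) (.node (nat_lit 0x1d3e958bcc) (.leaf (nat_lit 0x1d3e18831c) (nat_lit 2821))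
 (.leaf (nat_lit 0x1d3e958bcc) (nat_lit 2051))
) (.node (nat_lit 0x1d4a1bde68) (.leaf (nat_lit 0x1d3f5fb76e) (nat_lit 2819))
 (.leaf (nat_lit 0x1d4a1bde68) (nat_lit 2564))
)))) (.node (nat_lit 0x1d5b1dea4c) (.node (nat_lit 0x1d4d8ce6a8) (.node (nat_lit 0x1d4b5cea1a) (.leaf (nat_lit 0x1d4a96d6b8) (nat_lit 2565))
 (.node (nat_lit 0x1d4c43da4a) (.leaf (nat_lit 0x1d4b5cea1a) (nat_lit 2563))
 (.leaf (nat_lit 0x1d4c43da4a) (nat_lit 1284))
)) (.node (nat_lit 0x1d5a5bde7e) (.node (nat_lit 0x1d4dcde2da) (.leaf (nat_lit 0x1d4d8ce6a8) (nat_lit 2306))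
 (.leaf (nat_lit 0x1d4dcde2da) (nat_lit 2305))
) (.node (nat_lit 0x1d5a96d29c) (.leaf (nat_lit 0x1d5a5bde7e) (nat_lit 2564))
 (.leaf (nat_lit 0x1d5a96d29c) (nat_lit 2307))
))) (.node (nat_lit 0x1d6843d35a) (.node (nat_lit 0x1d5c8bd2cc) (.node (nat_lit 0x1d5c43de6e) (.leaf (nat_lit 0x1d5b1dea4c) (nat_lit 2820))
 (.leaf (nat_lit 0x1d5c43de6e) (nat_lit 1282))
) (.node (nat_lit 0x1d5ccbd6fe) (.leaf (nat_lit 0x1d5c8bd2cc) (nat_lit 2820))
 (.leaf (nat_lit 0x1d5ccbd6fe) (nat_lit 2308))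
)) (.node (nat_lit 0x1d68cbdbca) (.node (nat_lit 0x1d688bdff8) (.leaf (nat_lit 0x1d6843d35a) (nat_lit 1540))
 (.leaf (nat_lit 0x1d688bdff8) (nat_lit 2820))
) (.node (nat_lit 0x1d6e5bd34a) (.leaf (nat_lit 0x1d68cbdbca) (nat_lit 2564))
 (.leaf (nat_lit 0x1d6e5bd34a) (nat_lit 3076))
)))))) (.node (nat_lit 0x1dbc60831e) (.node (nat_lit 0x1d98a08ebc) (.node (nat_lit 0x1d7f5ce72e) (.node (nat_lit 0x1d798ceb9c) (.node (nat_lit 0x1d6f1de778) (.leaf (nat_lit 0x1d6e96dfa8) (nat_lit 2051))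
 (.node (nat_lit 0x1d7843d77e) (.leaf (nat_lit 0x1d6f1de778) (nat_lit 2818))
 (.leaf (nat_lit 0x1d7843d77e) (nat_lit 2052))
)) (.node (nat_lit 0x1d7e1bd35c) (.node (nat_lit 0x1d79cdefee) (.leaf (nat_lit 0x1d798ceb9c) (nat_lit 2307))
 (.leaf (nat_lit 0x1d79cdefee) (nat_lit 2819))
) (.node (nat_lit 0x1d7e96db8c) (.leaf (nat_lit 0x1d7e1bd35c) (nat_lit 2820))
 (.leaf (nat_lit 0x1d7e96db8c) (nat_lit 2307))
))) (.node (nat_lit 0x1d8b7da67a) (.node (nat_lit 0x1d8a379a58) (.leaf (nat_lit 0x1d7f5ce72e) (nat_lit 3075))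
 (.node (nat_lit 0x1d8ab88ea8) (.leaf (nat_lit 0x1d8a379a58) (nat_lit 2309))
 (.leaf (nat_lit 0x1d8ab88ea8) (nat_lit 2819))
)) (.node (nat_lit 0x1d8c608a0a) (.node (nat_lit 0x1d8c2f9668) (.leaf (nat_lit 0x1d8b7da67a) (nat_lit 1793))
 (.leaf (nat_lit 0x1d8c2f9668) (nat_lit 2053))
) (.node (nat_lit 0x1d8da6b298) (.leaf (nat_lit 0x1d8c608a0a) (nat_lit 2821))
 (.leaf (nat_lit 0x1d8da6b298) (nat_lit 2305))
)))) (.node (nat_lit 0x1da8608f3a) (.node (nat_lit 0x1d9e30863c) (.node (nat_lit 0x1d992eba0c) (.leaf (nat_lit 0x1d98a08ebc) (nat_lit 2560))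
 (.node (nat_lit 0x1d99eda2de) (.leaf (nat_lit 0x1d992eba0c) (nat_lit 2560))
 (.leaf (nat_lit 0x1d99eda2de) (nat_lit 2309))
)) (.node (nat_lit 0x1d9ef08eae) (.node (nat_lit 0x1d9eb8828c) (.leaf (nat_lit 0x1d9e30863c) (nat_lit 2821))
 (.leaf (nat_lit 0x1d9eb8828c) (nat_lit 2563))
) (.node (nat_lit 0x1da8288318) (.leaf (nat_lit 0x1d9ef08eae) (nat_lit 2818))
 (.leaf (nat_lit 0x1da8288318) (nat_lit 2821))
))) (.node (nat_lit 0x1daff6b7ba) (.node (nat_lit 0x1dae78830a) (.node (nat_lit 0x1da8e88b8a) (.leaf (nat_lit 0x1da8608f3a) (nat_lit 2304))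
 (.leaf (nat_lit 0x1da8e88b8a) (nat_lit 2816))
) (.node (nat_lit 0x1daf35af68) (.leaf (nat_lit 0x1dae78830a) (nat_lit 2308))
 (.leaf (nat_lit 0x1daf35af68) (nat_lit 2560))
)) (.node (nat_lit 0x1dbaf79bde) (.node (nat_lit 0x1dbab887bc) (.leaf (nat_lit 0x1daff6b7ba) (nat_lit 2048))
 (.leaf (nat_lit 0x1dbab887bc) (nat_lit 2562))
) (.node (nat_lit 0x1dbb7ebf2e) (.leaf (nat_lit 0x1dbaf79bde) (nat_lit 1797))
 (.leaf (nat_lit 0x1dbb7ebf2e) (nat_lit 1793))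
))))) (.node (nat_lit 0x1de92bf358) (.node (nat_lit 0x1dcd2ce628) (.node (nat_lit 0x1dca7ed63a) (.node (nat_lit 0x1dbcef97ee) (.leaf (nat_lit 0x1dbc60831e) (nat_lit 2565))
 (.node (nat_lit 0x1dbda5abcc) (.leaf (nat_lit 0x1dbcef97ee) (nat_lit 2053))
 (.leaf (nat_lit 0x1dbda5abcc) (nat_lit 2817))
)) (.node (nat_lit 0x1dcbbbfee8) (.node (nat_lit 0x1dcb34ea18) (.leaf (nat_lit 0x1dca7ed63a) (nat_lit 2048))
 (.leaf (nat_lit 0x1dcb34ea18) (nat_lit 2053))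
) (.node (nat_lit 0x1dcca5c2d8) (.leaf (nat_lit 0x1dcbbbfee8) (nat_lit 2563))
 (.leaf (nat_lit 0x1dcca5c2d8) (nat_lit 2560))
))) (.node (nat_lit 0x1dd9a3fefc) (.node (nat_lit 0x1dd82dca4c) (.node (nat_lit 0x1dcd63fa4a) (.leaf (nat_lit 0x1dcd2ce628) (nat_lit 2309))
 (.leaf (nat_lit 0x1dcd63fa4a) (nat_lit 3074))
) (.node (nat_lit 0x1dd8eed29e) (.leaf (nat_lit 0x1dd82dca4c) (nat_lit 2305))
 (.leaf (nat_lit 0x1dd8eed29e) (nat_lit 2305))
)) (.node (nat_lit 0x1ddfbbf2cc) (.node (nat_lit 0x1ddf33f67c) (.leaf (nat_lit 0x1dd9a3fefc) (nat_lit 2308))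
 (.leaf (nat_lit 0x1ddf33f67c) (nat_lit 2565))
) (.node (nat_lit 0x1ddff3feee) (.leaf (nat_lit 0x1ddfbbf2cc) (nat_lit 2308))
 (.leaf (nat_lit 0x1ddff3feee) (nat_lit 2562))
)))) (.node (nat_lit 0x1dfbbbf7fc) (.node (nat_lit 0x1dee36df28) (.node (nat_lit 0x1de963ff7a) (.leaf (nat_lit 0x1de92bf358) (nat_lit 2564))
 (.node (nat_lit 0x1de9ebfbca) (.leaf (nat_lit 0x1de963ff7a) (nat_lit 2052))
 (.leaf (nat_lit 0x1de9ebfbca) (nat_lit 2564))
)) (.node (nat_lit 0x1def7bf34a) (.node (nat_lit 0x1deef5c7fa) (.leaf (nat_lit 0x1dee36df28) (nat_lit 2305))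
 (.leaf (nat_lit 0x1deef5c7fa) (nat_lit 1793))
) (.node (nat_lit 0x1dfa7dcf6e) (.leaf (nat_lit 0x1def7bf34a) (nat_lit 2052))
 (.leaf (nat_lit 0x1dfa7dcf6e) (nat_lit 2048))
))) (.node (nat_lit 0x1dfdece7ae) (.node (nat_lit 0x1dfca6db8c) (.node (nat_lit 0x1dfbf4eb9e) (.leaf (nat_lit 0x1dfbbbf7fc) (nat_lit 2306))
 (.leaf (nat_lit 0x1dfbf4eb9e) (nat_lit 2053))
) (.node (nat_lit 0x1dfd63f35e) (.leaf (nat_lit 0x1dfca6db8c) (nat_lit 2821))
 (.leaf (nat_lit 0x1dfd63f35e) (nat_lit 2309))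
)) (.node (nat_lit 0x1e0717ba48) (.node (nat_lit 0x1e06d88a8a) (.leaf (nat_lit 0x1dfdece7ae) (nat_lit 1797))
 (.leaf (nat_lit 0x1e06d88a8a) (nat_lit 2048))
) (.node (nat_lit 0x1e07d4a6ba) (.leaf (nat_lit 0x1e0717ba48) (nat_lit 2816))
 (.leaf (nat_lit 0x1e07d4a6ba) (nat_lit 2560))
)))))))) (.node (nat_lit 0x1f0a9086a8) (.node (nat_lit 0x1e873ca638) (.node (nat_lit 0x1e421fd258) (.node (nat_lit 0x1e20c29fba) (.node (nat_lit 0x1e2040831a) (.node (nat_lit 0x1e10808ebc) (.node (nat_lit 0x1e108086ac) (.leaf (nat_lit 0x1e1080828c) (nat_lit 2560))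
 (.node (nat_lit 0x1e10808a9c) (.leaf (nat_lit 0x1e108086ac) (nat_lit 2304))
 (.leaf (nat_lit 0x1e10808a9c) (nat_lit 1795))
)) (.node (nat_lit 0x1e1716ba0c) (.node (nat_lit 0x1e16988ebc) (.leaf (nat_lit 0x1e10808ebc) (nat_lit 2563))
 (.leaf (nat_lit 0x1e16988ebc) (nat_lit 2560))
) (.node (nat_lit 0x1e17d5a2de) (.leaf (nat_lit 0x1e1716ba0c) (nat_lit 2560))
 (.leaf (nat_lit 0x1e17d5a2de) (nat_lit 3075))
))) (.node (nat_lit 0x1e20408b1a) (.node (nat_lit 0x1e2040872a) (.leaf (nat_lit 0x1e2040831a) (nat_lit 1026))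
 (.node (nat_lit 0x1e20408b0a) (.leaf (nat_lit 0x1e2040872a) (nat_lit 1282))
 (.leaf (nat_lit 0x1e20408b0a) (nat_lit 1282))
)) (.node (nat_lit 0x1e20c297ba) (.node (nat_lit 0x1e20c2939a) (.leaf (nat_lit 0x1e20408b1a) (nat_lit 1283))
 (.leaf (nat_lit 0x1e20c2939a) (nat_lit 2306))
) (.node (nat_lit 0x1e20c29b9a) (.leaf (nat_lit 0x1e20c297ba) (nat_lit 1792))
 (.leaf (nat_lit 0x1e20c29b9a) (nat_lit 2306))
)))) (.node (nat_lit 0x1e2797b3c8) (.node (nat_lit 0x1e218fbbc8) (.node (nat_lit 0x1e210da768) (.leaf (nat_lit 0x1e20c29fba) (nat_lit 2562))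
 (.node (nat_lit 0x1e214ca73a) (.leaf (nat_lit 0x1e210da768) (nat_lit 2308))
 (.leaf (nat_lit 0x1e214ca73a) (nat_lit 1538))
)) (.node (nat_lit 0x1e2658830a) (.node (nat_lit 0x1e21cebfba) (.leaf (nat_lit 0x1e218fbbc8) (nat_lit 2050))
 (.leaf (nat_lit 0x1e21cebfba) (nat_lit 1792))
) (.node (nat_lit 0x1e2754af3a) (.leaf (nat_lit 0x1e2658830a) (nat_lit 2048))
 (.leaf (nat_lit 0x1e2754af3a) (nat_lit 2308))
))) (.node (nat_lit 0x1e30418f7e) (.node (nat_lit 0x1e30418b5e) (.node (nat_lit 0x1e30418b4e) (.leaf (nat_lit 0x1e2797b3c8) (nat_lit 2820))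
 (.leaf (nat_lit 0x1e30418b4e) (nat_lit 2052))
) (.node (nat_lit 0x1e30418f6e) (.leaf (nat_lit 0x1e30418b5e) (nat_lit 1541))
 (.leaf (nat_lit 0x1e30418f6e) (nat_lit 1792))
)) (.node (nat_lit 0x1e3755af7e) (.node (nat_lit 0x1e3618831c) (.leaf (nat_lit 0x1e30418f7e) (nat_lit 1797))
 (.leaf (nat_lit 0x1e3618831c) (nat_lit 2048))
) (.node (nat_lit 0x1e3796b7ac) (.leaf (nat_lit 0x1e3755af7e) (nat_lit 2563))
 (.leaf (nat_lit 0x1e3796b7ac) (nat_lit 2816))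
))))) (.node (nat_lit 0x1e62dedfba) (.node (nat_lit 0x1e525fd24e) (.node (nat_lit 0x1e4391ead8) (.node (nat_lit 0x1e429dc2d8) (.leaf (nat_lit 0x1e421fd258) (nat_lit 2816))
 (.node (nat_lit 0x1e4313fa58) (.leaf (nat_lit 0x1e429dc2d8) (nat_lit 2560))
 (.leaf (nat_lit 0x1e4313fa58) (nat_lit 2565))
)) (.node (nat_lit 0x1e450bf668) (.node (nat_lit 0x1e4446d62a) (.leaf (nat_lit 0x1e4391ead8) (nat_lit 2565))
 (.leaf (nat_lit 0x1e4446d62a) (nat_lit 1796))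
) (.node (nat_lit 0x1e454af63a) (.leaf (nat_lit 0x1e450bf668) (nat_lit 2816))
 (.leaf (nat_lit 0x1e454af63a) (nat_lit 2304))
))) (.node (nat_lit 0x1e5447d25e) (.node (nat_lit 0x1e5312fa1c) (.node (nat_lit 0x1e52ddc6ee) (.leaf (nat_lit 0x1e525fd24e) (nat_lit 2564))
 (.leaf (nat_lit 0x1e52ddc6ee) (nat_lit 2560))
) (.node (nat_lit 0x1e5390eebc) (.leaf (nat_lit 0x1e5312fa1c) (nat_lit 2563))
 (.leaf (nat_lit 0x1e5390eebc) (nat_lit 3076))
)) (.node (nat_lit 0x1e55c9eace) (.node (nat_lit 0x1e5588eebc) (.leaf (nat_lit 0x1e5447d25e) (nat_lit 1794))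
 (.leaf (nat_lit 0x1e5588eebc) (nat_lit 2820))
) (.node (nat_lit 0x1e625ccf3a) (.leaf (nat_lit 0x1e55c9eace) (nat_lit 2560))
 (.leaf (nat_lit 0x1e625ccf3a) (nat_lit 2052))
)))) (.node (nat_lit 0x1e729edb8c) (.node (nat_lit 0x1e6444cf2a) (.node (nat_lit 0x1e6350ef3a) (.leaf (nat_lit 0x1e62dedfba) (nat_lit 2309))
 (.node (nat_lit 0x1e63d2ffba) (.leaf (nat_lit 0x1e6350ef3a) (nat_lit 3332))
 (.leaf (nat_lit 0x1e63d2ffba) (nat_lit 2821))
)) (.node (nat_lit 0x1e6548ef3a) (.node (nat_lit 0x1e6509ef68) (.leaf (nat_lit 0x1e6444cf2a) (nat_lit 1280))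
 (.leaf (nat_lit 0x1e6509ef68) (nat_lit 2304))
) (.node (nat_lit 0x1e721ccf2c) (.leaf (nat_lit 0x1e6548ef3a) (nat_lit 2308))
 (.leaf (nat_lit 0x1e721ccf2c) (nat_lit 2560))
))) (.node (nat_lit 0x1e758af39c) (.node (nat_lit 0x1e73d3fbde) (.node (nat_lit 0x1e7351ef7e) (.leaf (nat_lit 0x1e729edb8c) (nat_lit 2816))
 (.leaf (nat_lit 0x1e7351ef7e) (nat_lit 2565))
) (.node (nat_lit 0x1e7445cf7e) (.leaf (nat_lit 0x1e73d3fbde) (nat_lit 2309))
 (.leaf (nat_lit 0x1e7445cf7e) (nat_lit 1792))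
)) (.node (nat_lit 0x1e86379a48) (.node (nat_lit 0x1e75cbf7ee) (.leaf (nat_lit 0x1e758af39c) (nat_lit 2818))
 (.leaf (nat_lit 0x1e75cbf7ee) (nat_lit 2304))
) (.node (nat_lit 0x1e86f88a8a) (.leaf (nat_lit 0x1e86379a48) (nat_lit 2309))
 (.leaf (nat_lit 0x1e86f88a8a) (nat_lit 3333))
)))))) (.node (nat_lit 0x1eb526b72c) (.node (nat_lit 0x1ea0aa9b98) (.node (nat_lit 0x1e9526ba0c) (.node (nat_lit 0x1e92b0828c) (.node (nat_lit 0x1e9230862c) (.leaf (nat_lit 0x1e873ca638) (nat_lit 2561))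
 (.node (nat_lit 0x1e92788e3e) (.leaf (nat_lit 0x1e9230862c) (nat_lit 3333))
 (.leaf (nat_lit 0x1e92788e3e) (nat_lit 2820))
)) (.node (nat_lit 0x1e94608e3e) (.node (nat_lit 0x1e92f88a9e) (.leaf (nat_lit 0x1e92b0828c) (nat_lit 3072))
 (.leaf (nat_lit 0x1e92f88a9e) (nat_lit 2816))
) (.node (nat_lit 0x1e94ad82dc) (.leaf (nat_lit 0x1e94608e3e) (nat_lit 3328))
 (.leaf (nat_lit 0x1e94ad82dc) (nat_lit 2050))
))) (.node (nat_lit 0x1ea02a9738) (.node (nat_lit 0x1ea0288318) (.leaf (nat_lit 0x1e9526ba0c) (nat_lit 2818))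
 (.node (nat_lit 0x1ea0288b18) (.leaf (nat_lit 0x1ea0288318) (nat_lit 2306))
 (.leaf (nat_lit 0x1ea0288b18) (nat_lit 2307))
)) (.node (nat_lit 0x1ea0608b0a) (.node (nat_lit 0x1ea02a9f38) (.leaf (nat_lit 0x1ea02a9738) (nat_lit 2050))
 (.leaf (nat_lit 0x1ea02a9f38) (nat_lit 1793))
) (.node (nat_lit 0x1ea0aa9398) (.leaf (nat_lit 0x1ea0608b0a) (nat_lit 2050))
 (.leaf (nat_lit 0x1ea0aa9398) (nat_lit 1538))
)))) (.node (nat_lit 0x1ea6b793c8) (.node (nat_lit 0x1ea0e087aa) (.node (nat_lit 0x1ea0ad87e8) (.leaf (nat_lit 0x1ea0aa9b98) (nat_lit 1541))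
 (.node (nat_lit 0x1ea0af9bc8) (.leaf (nat_lit 0x1ea0ad87e8) (nat_lit 1538))
 (.leaf (nat_lit 0x1ea0af9bc8) (nat_lit 1282))
)) (.node (nat_lit 0x1ea1a4a7b8) (.node (nat_lit 0x1ea126bf38) (.leaf (nat_lit 0x1ea0e087aa) (nat_lit 2306))
 (.leaf (nat_lit 0x1ea126bf38) (nat_lit 1796))
) (.node (nat_lit 0x1ea678830a) (.leaf (nat_lit 0x1ea1a4a7b8) (nat_lit 1538))
 (.leaf (nat_lit 0x1ea678830a) (nat_lit 3072))
))) (.node (nat_lit 0x1eb3b9affc) (.node (nat_lit 0x1eb339ab5c) (.node (nat_lit 0x1ea7bcafb8) (.leaf (nat_lit 0x1ea6b793c8) (nat_lit 2309))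
 (.leaf (nat_lit 0x1ea7bcafb8) (nat_lit 2561))
) (.node (nat_lit 0x1eb371ab4e) (.leaf (nat_lit 0x1eb339ab5c) (nat_lit 2563))
 (.leaf (nat_lit 0x1eb371ab4e) (nat_lit 2818))
)) (.node (nat_lit 0x1eb460831e) (.node (nat_lit 0x1eb3f1afee) (.leaf (nat_lit 0x1eb3b9affc) (nat_lit 2560))
 (.leaf (nat_lit 0x1eb3f1afee) (nat_lit 3076))
) (.node (nat_lit 0x1eb4ad8ffc) (.leaf (nat_lit 0x1eb460831e) (nat_lit 3330))
 (.leaf (nat_lit 0x1eb4ad8ffc) (nat_lit 2562))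
))))) (.node (nat_lit 0x1ee236df38) (.node (nat_lit 0x1ec5a2f6b8) (.node (nat_lit 0x1ec377f25a) (.node (nat_lit 0x1ec27bda5a) (.leaf (nat_lit 0x1eb526b72c) (nat_lit 2820))
 (.node (nat_lit 0x1ec2f9cada) (.leaf (nat_lit 0x1ec27bda5a) (nat_lit 2308))
 (.leaf (nat_lit 0x1ec2f9cada) (nat_lit 1795))
)) (.node (nat_lit 0x1ec4abd6e8) (.node (nat_lit 0x1ec3f5e2da) (.leaf (nat_lit 0x1ec377f25a) (nat_lit 3075))
 (.leaf (nat_lit 0x1ec3f5e2da) (nat_lit 3074))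
) (.node (nat_lit 0x1ec4e6d6aa) (.leaf (nat_lit 0x1ec4abd6e8) (nat_lit 2306))
 (.leaf (nat_lit 0x1ec4e6d6aa) (nat_lit 3074))
))) (.node (nat_lit 0x1ed16ff24e) (.node (nat_lit 0x1ed16afa1e) (.node (nat_lit 0x1ed168ee3e) (.leaf (nat_lit 0x1ec5a2f6b8) (nat_lit 2305))
 (.leaf (nat_lit 0x1ed168ee3e) (nat_lit 2309))
) (.node (nat_lit 0x1ed16de66e) (.leaf (nat_lit 0x1ed16afa1e) (nat_lit 2053))
 (.leaf (nat_lit 0x1ed16de66e) (nat_lit 2564))
)) (.node (nat_lit 0x1ed73ff25c) (.node (nat_lit 0x1ed6f9cace) (.leaf (nat_lit 0x1ed16ff24e) (nat_lit 2820))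
 (.leaf (nat_lit 0x1ed6f9cace) (nat_lit 2562))
) (.node (nat_lit 0x1ed770ee3e) (.leaf (nat_lit 0x1ed73ff25c) (nat_lit 3074))
 (.leaf (nat_lit 0x1ed770ee3e) (nat_lit 2820))
)))) (.node (nat_lit 0x1ef0a9cffc) (.node (nat_lit 0x1ee3b8efb8) (.node (nat_lit 0x1ee2b4cfb8) (.leaf (nat_lit 0x1ee236df38) (nat_lit 2565))
 (.node (nat_lit 0x1ee33aff38) (.leaf (nat_lit 0x1ee2b4cfb8) (nat_lit 2817))
 (.leaf (nat_lit 0x1ee33aff38) (nat_lit 2561))
)) (.node (nat_lit 0x1ee4e4cfaa) (.node (nat_lit 0x1ee4a9cfe8) (.leaf (nat_lit 0x1ee3b8efb8) (nat_lit 2817))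
 (.leaf (nat_lit 0x1ee4a9cfe8) (nat_lit 1794))
) (.node (nat_lit 0x1ee5a0efb8) (.leaf (nat_lit 0x1ee4e4cfaa) (nat_lit 3074))
 (.leaf (nat_lit 0x1ee5a0efb8) (nat_lit 2817))
))) (.node (nat_lit 0x1ef67bd76e) (.node (nat_lit 0x1ef0accfac) (.node (nat_lit 0x1ef0abdbdc) (.leaf (nat_lit 0x1ef0a9cffc) (nat_lit 2051))
 (.leaf (nat_lit 0x1ef0abdbdc) (nat_lit 2307))
) (.node (nat_lit 0x1ef0aedb8c) (.leaf (nat_lit 0x1ef0accfac) (nat_lit 2562))
 (.leaf (nat_lit 0x1ef0aedb8c) (nat_lit 2306))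
)) (.node (nat_lit 0x1ef7f2f39e) (.node (nat_lit 0x1ef7bdeffc) (.leaf (nat_lit 0x1ef67bd76e) (nat_lit 3075))
 (.leaf (nat_lit 0x1ef7bdeffc) (nat_lit 2821))
) (.node (nat_lit 0x1f0a1f9258) (.leaf (nat_lit 0x1ef7f2f39e) (nat_lit 2308))
 (.leaf (nat_lit 0x1f0a1f9258) (nat_lit 2053))
))))))) (.node (nat_lit 0x1f8a308628) (.node (nat_lit 0x1f390da76c) (.node (nat_lit 0x1f1cce9ebe) (.node (nat_lit 0x1f1a90828c) (.node (nat_lit 0x1f0c408a1a) (.node (nat_lit 0x1f0b55ae7a) (.leaf (nat_lit 0x1f0a9086a8) (nat_lit 2821))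
 (.node (nat_lit 0x1f0c408a0a) (.leaf (nat_lit 0x1f0b55ae7a) (nat_lit 2565))
 (.leaf (nat_lit 0x1f0c408a0a) (nat_lit 2050))
)) (.node (nat_lit 0x1f0c418e7a) (.node (nat_lit 0x1f0c418e6a) (.leaf (nat_lit 0x1f0c408a1a) (nat_lit 1536))
 (.leaf (nat_lit 0x1f0c418e6a) (nat_lit 1797))
) (.node (nat_lit 0x1f1a5f924e) (.leaf (nat_lit 0x1f0c418e7a) (nat_lit 1281))
 (.leaf (nat_lit 0x1f1a5f924e) (nat_lit 2053))
))) (.node (nat_lit 0x1f1c418a5e) (.node (nat_lit 0x1f1b54ae3e) (.leaf (nat_lit 0x1f1a90828c) (nat_lit 3077))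
 (.node (nat_lit 0x1f1c418a4e) (.leaf (nat_lit 0x1f1b54ae3e) (nat_lit 2565))
 (.leaf (nat_lit 0x1f1c418a4e) (nat_lit 1285))
)) (.node (nat_lit 0x1f1c47925e) (.node (nat_lit 0x1f1c46962e) (.leaf (nat_lit 0x1f1c418a5e) (nat_lit 1285))
 (.leaf (nat_lit 0x1f1c46962e) (nat_lit 1285))
) (.node (nat_lit 0x1f1c8e9a8c) (.leaf (nat_lit 0x1f1c47925e) (nat_lit 1029))
 (.leaf (nat_lit 0x1f1c8e9a8c) (nat_lit 2053))
)))) (.node (nat_lit 0x1f2840831a) (.node (nat_lit 0x1f1dc2bebe) (.node (nat_lit 0x1f1d0bb66c) (.leaf (nat_lit 0x1f1cce9ebe) (nat_lit 1797))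
 (.node (nat_lit 0x1f1d4ab63e) (.leaf (nat_lit 0x1f1d0bb66c) (nat_lit 2565))
 (.leaf (nat_lit 0x1f1d4ab63e) (nat_lit 1541))
)) (.node (nat_lit 0x1f1dc4a6be) (.node (nat_lit 0x1f1dc3bade) (.leaf (nat_lit 0x1f1dc2bebe) (nat_lit 2307))
 (.leaf (nat_lit 0x1f1dc3bade) (nat_lit 2309))
) (.node (nat_lit 0x1f1dc5a2de) (.leaf (nat_lit 0x1f1dc4a6be) (nat_lit 1797))
 (.leaf (nat_lit 0x1f1dc5a2de) (nat_lit 2562))
))) (.node (nat_lit 0x1f2e908fb8) (.node (nat_lit 0x1f28c88b8a) (.node (nat_lit 0x1f28888fb8) (.leaf (nat_lit 0x1f2840831a) (nat_lit 1797))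
 (.leaf (nat_lit 0x1f28888fb8) (nat_lit 3072))
) (.node (nat_lit 0x1f2e58830a) (.leaf (nat_lit 0x1f28c88b8a) (nat_lit 2565))
 (.leaf (nat_lit 0x1f2e58830a) (nat_lit 2821))
)) (.node (nat_lit 0x1f2fdbb7ea) (.node (nat_lit 0x1f2f13bb58) (.leaf (nat_lit 0x1f2e908fb8) (nat_lit 3328))
 (.leaf (nat_lit 0x1f2f13bb58) (nat_lit 2561))
) (.node (nat_lit 0x1f3840872e) (.leaf (nat_lit 0x1f2fdbb7ea) (nat_lit 2565))
 (.leaf (nat_lit 0x1f3840872e) (nat_lit 1797))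
))))) (.node (nat_lit 0x1f5948ee3e) (.node (nat_lit 0x1f488dc2d8) (.node (nat_lit 0x1f3e908b9c) (.node (nat_lit 0x1f394ca73e) (.leaf (nat_lit 0x1f390da76c) (nat_lit 2821))
 (.node (nat_lit 0x1f3e18831c) (.leaf (nat_lit 0x1f394ca73e) (nat_lit 2309))
 (.leaf (nat_lit 0x1f3e18831c) (nat_lit 2821))
)) (.node (nat_lit 0x1f3f9ab39c) (.node (nat_lit 0x1f3f12bb1c) (.leaf (nat_lit 0x1f3e908b9c) (nat_lit 2560))
 (.leaf (nat_lit 0x1f3f12bb1c) (nat_lit 2051))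
) (.node (nat_lit 0x1f4845ce7a) (.leaf (nat_lit 0x1f3f9ab39c) (nat_lit 2305))
 (.leaf (nat_lit 0x1f4845ce7a) (nat_lit 1797))
))) (.node (nat_lit 0x1f4f51ee7a) (.node (nat_lit 0x1f4e1cce28) (.node (nat_lit 0x1f48cdc6ea) (.leaf (nat_lit 0x1f488dc2d8) (nat_lit 2561))
 (.leaf (nat_lit 0x1f48cdc6ea) (nat_lit 2309))
) (.node (nat_lit 0x1f4ed2da9a) (.leaf (nat_lit 0x1f4e1cce28) (nat_lit 2561))
 (.leaf (nat_lit 0x1f4ed2da9a) (nat_lit 2307))
)) (.node (nat_lit 0x1f5844ce2e) (.node (nat_lit 0x1f4f9ffac8) (.leaf (nat_lit 0x1f4f51ee7a) (nat_lit 2049))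
 (.leaf (nat_lit 0x1f4f9ffac8) (nat_lit 2818))
) (.node (nat_lit 0x1f5909ee6c) (.leaf (nat_lit 0x1f5844ce2e) (nat_lit 1285))
 (.leaf (nat_lit 0x1f5909ee6c) (nat_lit 2305))
)))) (.node (nat_lit 0x1f6b98efb8) (.node (nat_lit 0x1f5f50ee3e) (.node (nat_lit 0x1f5e5cce3e) (.leaf (nat_lit 0x1f5948ee3e) (nat_lit 2561))
 (.node (nat_lit 0x1f5ed2debe) (.leaf (nat_lit 0x1f5e5cce3e) (nat_lit 2305))
 (.leaf (nat_lit 0x1f5ed2debe) (nat_lit 2818))
)) (.node (nat_lit 0x1f6ad2d39a) (.node (nat_lit 0x1f5fdefebe) (.leaf (nat_lit 0x1f5f50ee3e) (nat_lit 3076))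
 (.leaf (nat_lit 0x1f5fdefebe) (nat_lit 2304))
) (.node (nat_lit 0x1f6b17fb48) (.leaf (nat_lit 0x1f6ad2d39a) (nat_lit 3077))
 (.leaf (nat_lit 0x1f6b17fb48) (nat_lit 2565))
))) (.node (nat_lit 0x1f6d87f3c8) (.node (nat_lit 0x1f6d81ebd8) (.node (nat_lit 0x1f6d80efb8) (.leaf (nat_lit 0x1f6b98efb8) (nat_lit 2565))
 (.leaf (nat_lit 0x1f6d80efb8) (nat_lit 2565))
) (.node (nat_lit 0x1f6d86f7a8) (.leaf (nat_lit 0x1f6d81ebd8) (nat_lit 2309))
 (.leaf (nat_lit 0x1f6d86f7a8) (nat_lit 2309))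
)) (.node (nat_lit 0x1f7b16fb0c) (.node (nat_lit 0x1f7ad2d7be) (.leaf (nat_lit 0x1f6d87f3c8) (nat_lit 2565))
 (.leaf (nat_lit 0x1f7ad2d7be) (nat_lit 2565))
) (.node (nat_lit 0x1f7bd9ebce) (.leaf (nat_lit 0x1f7b16fb0c) (nat_lit 2821))
 (.leaf (nat_lit 0x1f7bd9ebce) (nat_lit 2053))
)))))) (.node (nat_lit 0x1fbaf087ae) (.node (nat_lit 0x1f9ef696ae) (.node (nat_lit 0x1f98a0828c) (.node (nat_lit 0x1f8c288a18) (.node (nat_lit 0x1f8abd8ef8) (.leaf (nat_lit 0x1f8a308628) (nat_lit 3075))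
 (.node (nat_lit 0x1f8b77b25a) (.leaf (nat_lit 0x1f8abd8ef8) (nat_lit 2562))
 (.leaf (nat_lit 0x1f8b77b25a) (nat_lit 2818))
)) (.node (nat_lit 0x1f8da9aef8) (.node (nat_lit 0x1f8c608a0a) (.leaf (nat_lit 0x1f8c288a18) (nat_lit 2565))
 (.leaf (nat_lit 0x1f8c608a0a) (nat_lit 2818))
) (.node (nat_lit 0x1f8de1aeea) (.leaf (nat_lit 0x1f8da9aef8) (nat_lit 2561))
 (.leaf (nat_lit 0x1f8de1aeea) (nat_lit 2819))
))) (.node (nat_lit 0x1f9ebb96ec) (.node (nat_lit 0x1f99acaebc) (.node (nat_lit 0x1f996fb24e) (.leaf (nat_lit 0x1f98a0828c) (nat_lit 2307))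
 (.leaf (nat_lit 0x1f996fb24e) (nat_lit 3077))
) (.node (nat_lit 0x1f9e369e3c) (.leaf (nat_lit 0x1f99acaebc) (nat_lit 2821))
 (.leaf (nat_lit 0x1f9e369e3c) (nat_lit 2307))
)) (.node (nat_lit 0x1f9ebd82dc) (.node (nat_lit 0x1f9ebb9adc) (.leaf (nat_lit 0x1f9ebb96ec) (nat_lit 2051))
 (.leaf (nat_lit 0x1f9ebb9adc) (nat_lit 1539))
) (.node (nat_lit 0x1f9ebe9a8c) (.leaf (nat_lit 0x1f9ebd82dc) (nat_lit 1795))
 (.leaf (nat_lit 0x1f9ebe9a8c) (nat_lit 1797))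
)))) (.node (nat_lit 0x1fa8288318) (.node (nat_lit 0x1f9f3ca63c) (.node (nat_lit 0x1f9f39aa5c) (.leaf (nat_lit 0x1f9ef696ae) (nat_lit 2309))
 (.node (nat_lit 0x1f9f3abe3c) (.leaf (nat_lit 0x1f9f39aa5c) (nat_lit 2309))
 (.leaf (nat_lit 0x1f9f3abe3c) (nat_lit 2309))
)) (.node (nat_lit 0x1f9f71aa4e) (.node (nat_lit 0x1f9f3fb25c) (.leaf (nat_lit 0x1f9f3ca63c) (nat_lit 2565))
 (.leaf (nat_lit 0x1f9f3fb25c) (nat_lit 2309))
) (.node (nat_lit 0x1f9fb2b6bc) (.leaf (nat_lit 0x1f9f71aa4e) (nat_lit 2053))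
 (.leaf (nat_lit 0x1f9fb2b6bc) (nat_lit 2053))
))) (.node (nat_lit 0x1fae788f3a) (.node (nat_lit 0x1fa8e88b8a) (.node (nat_lit 0x1fa8608f3a) (.leaf (nat_lit 0x1fa8288318) (nat_lit 3077))
 (.leaf (nat_lit 0x1fa8608f3a) (nat_lit 2819))
) (.node (nat_lit 0x1fae78830a) (.leaf (nat_lit 0x1fa8e88b8a) (nat_lit 3077))
 (.leaf (nat_lit 0x1fae78830a) (nat_lit 2819))
)) (.node (nat_lit 0x1fae7b9b5a) (.node (nat_lit 0x1fae7b976a) (.leaf (nat_lit 0x1fae788f3a) (nat_lit 2308))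
 (.leaf (nat_lit 0x1fae7b976a) (nat_lit 2563))
) (.node (nat_lit 0x1fbabd87ec) (.leaf (nat_lit 0x1fae7b9b5a) (nat_lit 1539))
 (.leaf (nat_lit 0x1fbabd87ec) (nat_lit 2306))
))))) (.node (nat_lit 0x1fdbb0eebc) (.node (nat_lit 0x1fc9adeef8) (.node (nat_lit 0x1fbce88b9e) (.node (nat_lit 0x1fbbb4a7bc) (.leaf (nat_lit 0x1fbaf087ae) (nat_lit 3074))
 (.node (nat_lit 0x1fbc60831e) (.leaf (nat_lit 0x1fbbb4a7bc) (nat_lit 2821))
 (.leaf (nat_lit 0x1fbc60831e) (nat_lit 3076))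
)) (.node (nat_lit 0x1fbde2b39e) (.node (nat_lit 0x1fbd6abb1e) (.leaf (nat_lit 0x1fbce88b9e) (nat_lit 2309))
 (.leaf (nat_lit 0x1fbd6abb1e) (nat_lit 2305))
) (.node (nat_lit 0x1fc96de66a) (.leaf (nat_lit 0x1fbde2b39e) (nat_lit 2817))
 (.leaf (nat_lit 0x1fc96de66a) (nat_lit 2819))
))) (.node (nat_lit 0x1fcebccea8) (.node (nat_lit 0x1fceb9cef8) (.node (nat_lit 0x1fc9e5e2da) (.leaf (nat_lit 0x1fc9adeef8) (nat_lit 2819))
 (.leaf (nat_lit 0x1fc9e5e2da) (nat_lit 2307))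
) (.node (nat_lit 0x1fcebada98) (.leaf (nat_lit 0x1fceb9cef8) (nat_lit 2308))
 (.leaf (nat_lit 0x1fcebada98) (nat_lit 2052))
)) (.node (nat_lit 0x1fdab9ceec) (.node (nat_lit 0x1fcebfdac8) (.leaf (nat_lit 0x1fcebccea8) (nat_lit 2562))
 (.leaf (nat_lit 0x1fcebfdac8) (nat_lit 2306))
) (.node (nat_lit 0x1fdaf4ceae) (.leaf (nat_lit 0x1fdab9ceec) (nat_lit 2051))
 (.leaf (nat_lit 0x1fdaf4ceae) (nat_lit 2817))
)))) (.node (nat_lit 0x1feb70ef3a) (.node (nat_lit 0x1fdd26fe3c) (.node (nat_lit 0x1fdc2ade3c) (.leaf (nat_lit 0x1fdbb0eebc) (nat_lit 3077))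
 (.node (nat_lit 0x1fdca4cebc) (.leaf (nat_lit 0x1fdc2ade3c) (nat_lit 2308))
 (.leaf (nat_lit 0x1fdca4cebc) (nat_lit 2819))
)) (.node (nat_lit 0x1fea37db48) (.node (nat_lit 0x1fdda8eebc) (.leaf (nat_lit 0x1fdd26fe3c) (nat_lit 2563))
 (.leaf (nat_lit 0x1fdda8eebc) (nat_lit 2564))
) (.node (nat_lit 0x1feabad398) (.leaf (nat_lit 0x1fea37db48) (nat_lit 2820))
 (.leaf (nat_lit 0x1feabad398) (nat_lit 2050))
))) (.node (nat_lit 0x1fed68ef3a) (.node (nat_lit 0x1fece9cbda) (.node (nat_lit 0x1feca7d3c8) (.leaf (nat_lit 0x1feb70ef3a) (nat_lit 3332))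
 (.leaf (nat_lit 0x1feca7d3c8) (nat_lit 2820))
) (.node (nat_lit 0x1fed26f728) (.leaf (nat_lit 0x1fece9cbda) (nat_lit 2308))
 (.leaf (nat_lit 0x1fed26f728) (nat_lit 2820))
)) (.node (nat_lit 0x1ff8e9cbce) (.node (nat_lit 0x1ff82ad73c) (.leaf (nat_lit 0x1fed68ef3a) (nat_lit 2564))
 (.leaf (nat_lit 0x1ff82ad73c) (nat_lit 2563))
) (.node (nat_lit 0x1ff926fb0c) (.leaf (nat_lit 0x1ff8e9cbce) (nat_lit 2819))
 (.leaf (nat_lit 0x1ff926fb0c) (nat_lit 2051))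
))))))))))))

theorem K4_ok : orbOK A2 [(nat_lit 0x1020448102), (nat_lit 0x1220408102), (nat_lit 0x1030408106), (nat_lit 0x1020c08182), (nat_lit 0x1820408302), (nat_lit 0x106040c102)] (nat_lit 0x1020448912) K4_t (nat_lit 3780) = true := by decide +kernel

end Cfsg.Agent.SF6
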