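import Mathlib
import Cfsg.Agent.SF6.Ar

/-! Generated by tools/rec: the stabiliser of a plane -/

set_option autoImplicit false
set_option maxRecDepth 100000
set_option linter.unusedVariables false
set_option exponentiation.threshold 100000

namespace Cfsg.Agent.SF6

open Cfsg.Agent.Spor Cfsg.Agent.Rec

universe u

noncomputable def P3_t : ST :=
(.node (nat_lit 0x105080a084) (.node (nat_lit 0x86140e282) (.node (nat_lit 0x470c0620c) (.node (nat_lit 0x441842704) (.node (nat_lit 0x43142e508) (.node (nat_lit 0x421852718) (.node (nat_lit 0x42142b128) (.node (nat_lit 0x421052918) (.node (nat_lit 0x421023568) (.node (nat_lit 0x421012908) (.node (nat_lit 0x421003168) (.node (nat_lit 0x421002908) (.node (nat_lit 0x421002148) (.leaf (nat_lit 0x421002108) (nat_lit 2049))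
 (.leaf (nat_lit 0x421002148) (nat_lit 2305))
) (.node (nat_lit 0x421002948) (.leaf (nat_lit 0x421002908) (nat_lit 2308))
 (.node (nat_lit 0x421003128) (.leaf (nat_lit 0x421002948) (nat_lit 2564))
 (.leaf (nat_lit 0x421003128) (nat_lit 3076))
))) (.node (nat_lit 0x421003968) (.node (nat_lit 0x421003928) (.leaf (nat_lit 0x421003168) (nat_lit 2820))
 (.leaf (nat_lit 0x421003928) (nat_lit 2564))
) (.node (nat_lit 0x421012108) (.leaf (nat_lit 0x421003968) (nat_lit 2308))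
 (.node (nat_lit 0x421012148) (.leaf (nat_lit 0x421012108) (nat_lit 2305))
 (.leaf (nat_lit 0x421012148) (nat_lit 2561))
)))) (.node (nat_lit 0x421013968) (.node (nat_lit 0x421013128) (.node (nat_lit 0x421012948) (.leaf (nat_lit 0x421012908) (nat_lit 2564))
 (.leaf (nat_lit 0x421012948) (nat_lit 2820))
) (.node (nat_lit 0x421013168) (.leaf (nat_lit 0x421013128) (nat_lit 3332))
 (.node (nat_lit 0x421013928) (.leaf (nat_lit 0x421013168) (nat_lit 3076))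
 (.leaf (nat_lit 0x421013928) (nat_lit 2820))
))) (.node (nat_lit 0x421022d08) (.node (nat_lit 0x421022508) (.leaf (nat_lit 0x421013968) (nat_lit 2564))
 (.node (nat_lit 0x421022548) (.leaf (nat_lit 0x421022508) (nat_lit 3072))
 (.leaf (nat_lit 0x421022548) (nat_lit 3328))
)) (.node (nat_lit 0x421022d48) (.leaf (nat_lit 0x421022d08) (nat_lit 2560))
 (.node (nat_lit 0x421023528) (.leaf (nat_lit 0x421022d48) (nat_lit 2816))
 (.leaf (nat_lit 0x421023528) (nat_lit 3072))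
))))) (.node (nat_lit 0x421033d68) (.node (nat_lit 0x421032d08) (.node (nat_lit 0x421023d68) (.node (nat_lit 0x421023d28) (.leaf (nat_lit 0x421023568) (nat_lit 2816))
 (.leaf (nat_lit 0x421023d28) (nat_lit 3329))
) (.node (nat_lit 0x421032508) (.leaf (nat_lit 0x421023d68) (nat_lit 3328))
 (.node (nat_lit 0x421032548) (.leaf (nat_lit 0x421032508) (nat_lit 2819))
 (.leaf (nat_lit 0x421032548) (nat_lit 3075))
))) (.node (nat_lit 0x421033528) (.node (nat_lit 0x421032d48) (.leaf (nat_lit 0x421032d08) (nat_lit 2307))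
 (.leaf (nat_lit 0x421032d48) (nat_lit 2563))
) (.node (nat_lit 0x421033568) (.leaf (nat_lit 0x421033528) (nat_lit 2819))
 (.node (nat_lit 0x421033d28) (.leaf (nat_lit 0x421033568) (nat_lit 2563))
 (.leaf (nat_lit 0x421033d28) (nat_lit 3331))
)))) (.node (nat_lit 0x421043138) (.node (nat_lit 0x421042158) (.node (nat_lit 0x421042118) (.leaf (nat_lit 0x421033d68) (nat_lit 3075))
 (.leaf (nat_lit 0x421042118) (nat_lit 3074))
) (.node (nat_lit 0x421042918) (.leaf (nat_lit 0x421042158) (nat_lit 2818))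
 (.node (nat_lit 0x421042958) (.leaf (nat_lit 0x421042918) (nat_lit 3588))
 (.leaf (nat_lit 0x421042958) (nat_lit 3332))
))) (.node (nat_lit 0x421043978) (.node (nat_lit 0x421043178) (.leaf (nat_lit 0x421043138) (nat_lit 3075))
 (.node (nat_lit 0x421043938) (.leaf (nat_lit 0x421043178) (nat_lit 2819))
 (.leaf (nat_lit 0x421043938) (nat_lit 3072))
)) (.node (nat_lit 0x421052118) (.leaf (nat_lit 0x421043978) (nat_lit 3328))
 (.node (nat_lit 0x421052158) (.leaf (nat_lit 0x421052118) (nat_lit 2818))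
 (.leaf (nat_lit 0x421052158) (nat_lit 2562))
)))))) (.node (nat_lit 0x421073d78) (.node (nat_lit 0x421063538) (.node (nat_lit 0x421053978) (.node (nat_lit 0x421053138) (.node (nat_lit 0x421052958) (.leaf (nat_lit 0x421052918) (nat_lit 3332))
 (.leaf (nat_lit 0x421052958) (nat_lit 3076))
) (.node (nat_lit 0x421053178) (.leaf (nat_lit 0x421053138) (nat_lit 3328))
 (.node (nat_lit 0x421053938) (.leaf (nat_lit 0x421053178) (nat_lit 3072))
 (.leaf (nat_lit 0x421053938) (nat_lit 2819))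
))) (.node (nat_lit 0x421062558) (.node (nat_lit 0x421062518) (.leaf (nat_lit 0x421053978) (nat_lit 3075))
 (.leaf (nat_lit 0x421062518) (nat_lit 3073))
) (.node (nat_lit 0x421062d18) (.leaf (nat_lit 0x421062558) (nat_lit 3329))
 (.node (nat_lit 0x421062d58) (.leaf (nat_lit 0x421062d18) (nat_lit 3075))
 (.leaf (nat_lit 0x421062d58) (nat_lit 2819))
)))) (.node (nat_lit 0x421072558) (.node (nat_lit 0x421063d38) (.node (nat_lit 0x421063578) (.leaf (nat_lit 0x421063538) (nat_lit 3075))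
 (.leaf (nat_lit 0x421063578) (nat_lit 3331))
) (.node (nat_lit 0x421063d78) (.leaf (nat_lit 0x421063d38) (nat_lit 2817))
 (.node (nat_lit 0x421072518) (.leaf (nat_lit 0x421063d78) (nat_lit 2561))
 (.leaf (nat_lit 0x421072518) (nat_lit 2817))
))) (.node (nat_lit 0x421073538) (.node (nat_lit 0x421072d18) (.leaf (nat_lit 0x421072558) (nat_lit 3073))
 (.node (nat_lit 0x421072d58) (.leaf (nat_lit 0x421072d18) (nat_lit 3328))
 (.leaf (nat_lit 0x421072d58) (nat_lit 3072))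
)) (.node (nat_lit 0x421073578) (.leaf (nat_lit 0x421073538) (nat_lit 3331))
 (.node (nat_lit 0x421073d38) (.leaf (nat_lit 0x421073578) (nat_lit 3075))
 (.leaf (nat_lit 0x421073d38) (nat_lit 2561))
))))) (.node (nat_lit 0x42141a158) (.node (nat_lit 0x42140b528) (.node (nat_lit 0x42140a158) (.node (nat_lit 0x42140a108) (.leaf (nat_lit 0x421073d78) (nat_lit 2305))
 (.leaf (nat_lit 0x42140a108) (nat_lit 1795))
) (.node (nat_lit 0x42140a908) (.leaf (nat_lit 0x42140a158) (nat_lit 2562))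
 (.node (nat_lit 0x42140a958) (.leaf (nat_lit 0x42140a908) (nat_lit 2052))
 (.leaf (nat_lit 0x42140a958) (nat_lit 3332))
))) (.node (nat_lit 0x42140bd28) (.node (nat_lit 0x42140b578) (.leaf (nat_lit 0x42140b528) (nat_lit 3072))
 (.leaf (nat_lit 0x42140b578) (nat_lit 3075))
) (.node (nat_lit 0x42140bd78) (.leaf (nat_lit 0x42140bd28) (nat_lit 3328))
 (.node (nat_lit 0x42141a108) (.leaf (nat_lit 0x42140bd78) (nat_lit 2307))
 (.leaf (nat_lit 0x42141a108) (nat_lit 2048))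
)))) (.node (nat_lit 0x42141bd28) (.node (nat_lit 0x42141a958) (.node (nat_lit 0x42141a908) (.leaf (nat_lit 0x42141a158) (nat_lit 2818))
 (.leaf (nat_lit 0x42141a908) (nat_lit 2308))
) (.node (nat_lit 0x42141b528) (.leaf (nat_lit 0x42141a958) (nat_lit 3587))
 (.node (nat_lit 0x42141b578) (.leaf (nat_lit 0x42141b528) (nat_lit 2819))
 (.leaf (nat_lit 0x42141b578) (nat_lit 3328))
))) (.node (nat_lit 0x42142a558) (.node (nat_lit 0x42141bd78) (.leaf (nat_lit 0x42141bd28) (nat_lit 3075))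
 (.node (nat_lit 0x42142a508) (.leaf (nat_lit 0x42141bd78) (nat_lit 2560))
 (.leaf (nat_lit 0x42142a508) (nat_lit 2816))
)) (.node (nat_lit 0x42142ad08) (.leaf (nat_lit 0x42142a558) (nat_lit 3073))
 (.node (nat_lit 0x42142ad58) (.leaf (nat_lit 0x42142ad08) (nat_lit 2304))
 (.leaf (nat_lit 0x42142ad58) (nat_lit 3328))
))))))) (.node (nat_lit 0x42147b938) (.node (nat_lit 0x42145a148) (.node (nat_lit 0x42143b928) (.node (nat_lit 0x42143a558) (.node (nat_lit 0x42142b928) (.node (nat_lit 0x42142b178) (.leaf (nat_lit 0x42142b128) (nat_lit 2819))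
 (.leaf (nat_lit 0x42142b178) (nat_lit 2816))
) (.node (nat_lit 0x42142b978) (.leaf (nat_lit 0x42142b928) (nat_lit 2305))
 (.node (nat_lit 0x42143a508) (.leaf (nat_lit 0x42142b978) (nat_lit 3329))
 (.leaf (nat_lit 0x42143a508) (nat_lit 2563))
))) (.node (nat_lit 0x42143ad58) (.node (nat_lit 0x42143ad08) (.leaf (nat_lit 0x42143a558) (nat_lit 3329))
 (.leaf (nat_lit 0x42143ad08) (nat_lit 2051))
) (.node (nat_lit 0x42143b128) (.leaf (nat_lit 0x42143ad58) (nat_lit 3075))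
 (.node (nat_lit 0x42143b178) (.leaf (nat_lit 0x42143b128) (nat_lit 3072))
 (.leaf (nat_lit 0x42143b178) (nat_lit 2563))
)))) (.node (nat_lit 0x42144a948) (.node (nat_lit 0x42144a118) (.node (nat_lit 0x42143b978) (.leaf (nat_lit 0x42143b928) (nat_lit 2561))
 (.leaf (nat_lit 0x42143b978) (nat_lit 3331))
) (.node (nat_lit 0x42144a148) (.leaf (nat_lit 0x42144a118) (nat_lit 2818))
 (.node (nat_lit 0x42144a918) (.leaf (nat_lit 0x42144a148) (nat_lit 2051))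
 (.leaf (nat_lit 0x42144a918) (nat_lit 3588))
))) (.node (nat_lit 0x42144bd38) (.node (nat_lit 0x42144b538) (.leaf (nat_lit 0x42144a948) (nat_lit 2308))
 (.node (nat_lit 0x42144b568) (.leaf (nat_lit 0x42144b538) (nat_lit 3331))
 (.leaf (nat_lit 0x42144b568) (nat_lit 2816))
)) (.node (nat_lit 0x42144bd68) (.leaf (nat_lit 0x42144bd38) (nat_lit 2563))
 (.node (nat_lit 0x42145a118) (.leaf (nat_lit 0x42144bd68) (nat_lit 3072))
 (.leaf (nat_lit 0x42145a118) (nat_lit 3074))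
))))) (.node (nat_lit 0x42146ad48) (.node (nat_lit 0x42145bd38) (.node (nat_lit 0x42145a948) (.node (nat_lit 0x42145a918) (.leaf (nat_lit 0x42145a148) (nat_lit 2304))
 (.leaf (nat_lit 0x42145a918) (nat_lit 3331))
) (.node (nat_lit 0x42145b538) (.leaf (nat_lit 0x42145a948) (nat_lit 2564))
 (.node (nat_lit 0x42145b568) (.leaf (nat_lit 0x42145b538) (nat_lit 3331))
 (.leaf (nat_lit 0x42145b568) (nat_lit 2563))
))) (.node (nat_lit 0x42146a518) (.node (nat_lit 0x42145bd68) (.leaf (nat_lit 0x42145bd38) (nat_lit 2816))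
 (.leaf (nat_lit 0x42145bd68) (nat_lit 2819))
) (.node (nat_lit 0x42146a548) (.leaf (nat_lit 0x42146a518) (nat_lit 2817))
 (.node (nat_lit 0x42146ad18) (.leaf (nat_lit 0x42146a548) (nat_lit 3072))
 (.leaf (nat_lit 0x42146ad18) (nat_lit 3584))
)))) (.node (nat_lit 0x42147a518) (.node (nat_lit 0x42146b168) (.node (nat_lit 0x42146b138) (.leaf (nat_lit 0x42146ad48) (nat_lit 2560))
 (.leaf (nat_lit 0x42146b138) (nat_lit 3072))
) (.node (nat_lit 0x42146b938) (.leaf (nat_lit 0x42146b168) (nat_lit 2563))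
 (.node (nat_lit 0x42146b968) (.leaf (nat_lit 0x42146b938) (nat_lit 3073))
 (.leaf (nat_lit 0x42146b968) (nat_lit 2049))
))) (.node (nat_lit 0x42147ad48) (.node (nat_lit 0x42147a548) (.leaf (nat_lit 0x42147a518) (nat_lit 3073))
 (.node (nat_lit 0x42147ad18) (.leaf (nat_lit 0x42147a548) (nat_lit 2819))
 (.leaf (nat_lit 0x42147ad18) (nat_lit 3331))
)) (.node (nat_lit 0x42147b138) (.leaf (nat_lit 0x42147ad48) (nat_lit 2307))
 (.node (nat_lit 0x42147b168) (.leaf (nat_lit 0x42147b138) (nat_lit 2819))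
 (.leaf (nat_lit 0x42147b168) (nat_lit 2816))
)))))) (.node (nat_lit 0x421822f68) (.node (nat_lit 0x421812308) (.node (nat_lit 0x421802b68) (.node (nat_lit 0x421802308) (.node (nat_lit 0x42147b968) (.leaf (nat_lit 0x42147b938) (nat_lit 3329))
 (.leaf (nat_lit 0x42147b968) (nat_lit 2305))
) (.node (nat_lit 0x421802368) (.leaf (nat_lit 0x421802308) (nat_lit 1795))
 (.node (nat_lit 0x421802b08) (.leaf (nat_lit 0x421802368) (nat_lit 2562))
 (.leaf (nat_lit 0x421802b08) (nat_lit 2308))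
))) (.node (nat_lit 0x421803348) (.node (nat_lit 0x421803328) (.leaf (nat_lit 0x421802b68) (nat_lit 2820))
 (.leaf (nat_lit 0x421803328) (nat_lit 2818))
) (.node (nat_lit 0x421803b28) (.leaf (nat_lit 0x421803348) (nat_lit 2051))
 (.node (nat_lit 0x421803b48) (.leaf (nat_lit 0x421803b28) (nat_lit 3076))
 (.leaf (nat_lit 0x421803b48) (nat_lit 2564))
)))) (.node (nat_lit 0x421813348) (.node (nat_lit 0x421812b08) (.node (nat_lit 0x421812368) (.leaf (nat_lit 0x421812308) (nat_lit 2048))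
 (.leaf (nat_lit 0x421812368) (nat_lit 2818))
) (.node (nat_lit 0x421812b68) (.leaf (nat_lit 0x421812b08) (nat_lit 2564))
 (.node (nat_lit 0x421813328) (.leaf (nat_lit 0x421812b68) (nat_lit 3076))
 (.leaf (nat_lit 0x421813328) (nat_lit 3074))
))) (.node (nat_lit 0x421822708) (.node (nat_lit 0x421813b28) (.leaf (nat_lit 0x421813348) (nat_lit 2304))
 (.node (nat_lit 0x421813b48) (.leaf (nat_lit 0x421813b28) (nat_lit 3332))
 (.leaf (nat_lit 0x421813b48) (nat_lit 2820))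
)) (.node (nat_lit 0x421822768) (.leaf (nat_lit 0x421822708) (nat_lit 2816))
 (.node (nat_lit 0x421822f08) (.leaf (nat_lit 0x421822768) (nat_lit 3329))
 (.leaf (nat_lit 0x421822f08) (nat_lit 2304))
))))) (.node (nat_lit 0x421833748) (.node (nat_lit 0x421832708) (.node (nat_lit 0x421823748) (.node (nat_lit 0x421823728) (.leaf (nat_lit 0x421822f68) (nat_lit 3072))
 (.leaf (nat_lit 0x421823728) (nat_lit 3073))
) (.node (nat_lit 0x421823f28) (.leaf (nat_lit 0x421823748) (nat_lit 3072))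
 (.node (nat_lit 0x421823f48) (.leaf (nat_lit 0x421823f28) (nat_lit 3328))
 (.leaf (nat_lit 0x421823f48) (nat_lit 2560))
))) (.node (nat_lit 0x421832f08) (.node (nat_lit 0x421832768) (.leaf (nat_lit 0x421832708) (nat_lit 2563))
 (.leaf (nat_lit 0x421832768) (nat_lit 3331))
) (.node (nat_lit 0x421832f68) (.leaf (nat_lit 0x421832f08) (nat_lit 2051))
 (.node (nat_lit 0x421833728) (.leaf (nat_lit 0x421832f68) (nat_lit 2819))
 (.leaf (nat_lit 0x421833728) (nat_lit 3329))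
)))) (.node (nat_lit 0x421842f18) (.node (nat_lit 0x421833f48) (.node (nat_lit 0x421833f28) (.leaf (nat_lit 0x421833748) (nat_lit 2819))
 (.leaf (nat_lit 0x421833f28) (nat_lit 3075))
) (.node (nat_lit 0x421842718) (.leaf (nat_lit 0x421833f48) (nat_lit 2307))
 (.node (nat_lit 0x421842778) (.leaf (nat_lit 0x421842718) (nat_lit 2817))
 (.leaf (nat_lit 0x421842778) (nat_lit 3329))
))) (.node (nat_lit 0x421843758) (.node (nat_lit 0x421842f78) (.leaf (nat_lit 0x421842f18) (nat_lit 3329))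
 (.node (nat_lit 0x421843738) (.leaf (nat_lit 0x421842f78) (nat_lit 2563))
 (.leaf (nat_lit 0x421843738) (nat_lit 3073))
)) (.node (nat_lit 0x421843f38) (.leaf (nat_lit 0x421843758) (nat_lit 2561))
 (.node (nat_lit 0x421843f58) (.leaf (nat_lit 0x421843f38) (nat_lit 2819))
 (.leaf (nat_lit 0x421843f58) (nat_lit 3073))
)))))))) (.node (nat_lit 0x421c7b738) (.node (nat_lit 0x421c2af08) (.node (nat_lit 0x421873358) (.node (nat_lit 0x421862b18) (.node (nat_lit 0x421853758) (.node (nat_lit 0x421852f18) (.node (nat_lit 0x421852778) (.leaf (nat_lit 0x421852718) (nat_lit 2561))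
 (.leaf (nat_lit 0x421852778) (nat_lit 3073))
) (.node (nat_lit 0x421852f78) (.leaf (nat_lit 0x421852f18) (nat_lit 3073))
 (.node (nat_lit 0x421853738) (.leaf (nat_lit 0x421852f78) (nat_lit 2816))
 (.leaf (nat_lit 0x421853738) (nat_lit 2817))
))) (.node (nat_lit 0x421853f58) (.node (nat_lit 0x421853f38) (.leaf (nat_lit 0x421853758) (nat_lit 2305))
 (.leaf (nat_lit 0x421853f38) (nat_lit 3072))
) (.node (nat_lit 0x421862318) (.leaf (nat_lit 0x421853f58) (nat_lit 2817))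
 (.node (nat_lit 0x421862378) (.leaf (nat_lit 0x421862318) (nat_lit 3330))
 (.leaf (nat_lit 0x421862378) (nat_lit 2560))
)))) (.node (nat_lit 0x421863b58) (.node (nat_lit 0x421863338) (.node (nat_lit 0x421862b78) (.leaf (nat_lit 0x421862b18) (nat_lit 3331))
 (.leaf (nat_lit 0x421862b78) (nat_lit 3332))
) (.node (nat_lit 0x421863358) (.leaf (nat_lit 0x421863338) (nat_lit 2816))
 (.node (nat_lit 0x421863b38) (.leaf (nat_lit 0x421863358) (nat_lit 3331))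
 (.leaf (nat_lit 0x421863b38) (nat_lit 3331))
))) (.node (nat_lit 0x421872b18) (.node (nat_lit 0x421872318) (.leaf (nat_lit 0x421863b58) (nat_lit 3075))
 (.node (nat_lit 0x421872378) (.leaf (nat_lit 0x421872318) (nat_lit 3074))
 (.leaf (nat_lit 0x421872378) (nat_lit 2307))
)) (.node (nat_lit 0x421872b78) (.leaf (nat_lit 0x421872b18) (nat_lit 3587))
 (.node (nat_lit 0x421873338) (.leaf (nat_lit 0x421872b78) (nat_lit 3076))
 (.leaf (nat_lit 0x421873338) (nat_lit 2563))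
))))) (.node (nat_lit 0x421c0bf58) (.node (nat_lit 0x421c0ab08) (.node (nat_lit 0x421873b58) (.node (nat_lit 0x421873b38) (.leaf (nat_lit 0x421873358) (nat_lit 3330))
 (.leaf (nat_lit 0x421873b38) (nat_lit 3332))
) (.node (nat_lit 0x421c0a308) (.leaf (nat_lit 0x421873b58) (nat_lit 3331))
 (.node (nat_lit 0x421c0a378) (.leaf (nat_lit 0x421c0a308) (nat_lit 1537))
 (.leaf (nat_lit 0x421c0a378) (nat_lit 2561))
))) (.node (nat_lit 0x421c0b728) (.node (nat_lit 0x421c0ab78) (.leaf (nat_lit 0x421c0ab08) (nat_lit 2051))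
 (.leaf (nat_lit 0x421c0ab78) (nat_lit 3332))
) (.node (nat_lit 0x421c0b758) (.leaf (nat_lit 0x421c0b728) (nat_lit 3329))
 (.node (nat_lit 0x421c0bf28) (.leaf (nat_lit 0x421c0b758) (nat_lit 2308))
 (.leaf (nat_lit 0x421c0bf28) (nat_lit 3072))
)))) (.node (nat_lit 0x421c1b728) (.node (nat_lit 0x421c1a378) (.node (nat_lit 0x421c1a308) (.leaf (nat_lit 0x421c0bf58) (nat_lit 3076))
 (.leaf (nat_lit 0x421c1a308) (nat_lit 1793))
) (.node (nat_lit 0x421c1ab08) (.leaf (nat_lit 0x421c1a378) (nat_lit 2817))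
 (.node (nat_lit 0x421c1ab78) (.leaf (nat_lit 0x421c1ab08) (nat_lit 2304))
 (.leaf (nat_lit 0x421c1ab78) (nat_lit 3331))
))) (.node (nat_lit 0x421c1bf58) (.node (nat_lit 0x421c1b758) (.leaf (nat_lit 0x421c1b728) (nat_lit 3331))
 (.node (nat_lit 0x421c1bf28) (.leaf (nat_lit 0x421c1b758) (nat_lit 2564))
 (.leaf (nat_lit 0x421c1bf28) (nat_lit 2819))
)) (.node (nat_lit 0x421c2a708) (.leaf (nat_lit 0x421c1bf58) (nat_lit 3332))
 (.node (nat_lit 0x421c2a778) (.leaf (nat_lit 0x421c2a708) (nat_lit 2560))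
 (.leaf (nat_lit 0x421c2a778) (nat_lit 3075))
)))))) (.node (nat_lit 0x421c4bb48) (.node (nat_lit 0x421c3b328) (.node (nat_lit 0x421c2bb58) (.node (nat_lit 0x421c2b328) (.node (nat_lit 0x421c2af78) (.leaf (nat_lit 0x421c2af08) (nat_lit 2304))
 (.leaf (nat_lit 0x421c2af78) (nat_lit 3072))
) (.node (nat_lit 0x421c2b358) (.leaf (nat_lit 0x421c2b328) (nat_lit 2564))
 (.node (nat_lit 0x421c2bb28) (.leaf (nat_lit 0x421c2b358) (nat_lit 3330))
 (.leaf (nat_lit 0x421c2bb28) (nat_lit 2820))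
))) (.node (nat_lit 0x421c3a778) (.node (nat_lit 0x421c3a708) (.leaf (nat_lit 0x421c2bb58) (nat_lit 3072))
 (.leaf (nat_lit 0x421c3a708) (nat_lit 2307))
) (.node (nat_lit 0x421c3af08) (.leaf (nat_lit 0x421c3a778) (nat_lit 3328))
 (.node (nat_lit 0x421c3af78) (.leaf (nat_lit 0x421c3af08) (nat_lit 2051))
 (.leaf (nat_lit 0x421c3af78) (nat_lit 2819))
)))) (.node (nat_lit 0x421c4a768) (.node (nat_lit 0x421c3bb28) (.node (nat_lit 0x421c3b358) (.leaf (nat_lit 0x421c3b328) (nat_lit 2820))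
 (.leaf (nat_lit 0x421c3b358) (nat_lit 3331))
) (.node (nat_lit 0x421c3bb58) (.leaf (nat_lit 0x421c3bb28) (nat_lit 3076))
 (.node (nat_lit 0x421c4a718) (.leaf (nat_lit 0x421c3bb58) (nat_lit 2819))
 (.leaf (nat_lit 0x421c4a718) (nat_lit 2564))
))) (.node (nat_lit 0x421c4b338) (.node (nat_lit 0x421c4af18) (.leaf (nat_lit 0x421c4a768) (nat_lit 3328))
 (.node (nat_lit 0x421c4af68) (.leaf (nat_lit 0x421c4af18) (nat_lit 3332))
 (.leaf (nat_lit 0x421c4af68) (nat_lit 2816))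
)) (.node (nat_lit 0x421c4b348) (.leaf (nat_lit 0x421c4b338) (nat_lit 2817))
 (.node (nat_lit 0x421c4bb38) (.leaf (nat_lit 0x421c4b348) (nat_lit 1793))
 (.leaf (nat_lit 0x421c4bb38) (nat_lit 3328))
))))) (.node (nat_lit 0x421c6a368) (.node (nat_lit 0x421c5b338) (.node (nat_lit 0x421c5a768) (.node (nat_lit 0x421c5a718) (.leaf (nat_lit 0x421c4bb48) (nat_lit 2307))
 (.leaf (nat_lit 0x421c5a718) (nat_lit 2820))
) (.node (nat_lit 0x421c5af18) (.leaf (nat_lit 0x421c5a768) (nat_lit 3075))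
 (.node (nat_lit 0x421c5af68) (.leaf (nat_lit 0x421c5af18) (nat_lit 3588))
 (.leaf (nat_lit 0x421c5af68) (nat_lit 2563))
))) (.node (nat_lit 0x421c5bb38) (.node (nat_lit 0x421c5b348) (.leaf (nat_lit 0x421c5b338) (nat_lit 3073))
 (.leaf (nat_lit 0x421c5b348) (nat_lit 2049))
) (.node (nat_lit 0x421c5bb48) (.leaf (nat_lit 0x421c5bb38) (nat_lit 3075))
 (.node (nat_lit 0x421c6a318) (.leaf (nat_lit 0x421c5bb48) (nat_lit 2560))
 (.leaf (nat_lit 0x421c6a318) (nat_lit 3074))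
)))) (.node (nat_lit 0x421c6bf38) (.node (nat_lit 0x421c6ab68) (.node (nat_lit 0x421c6ab18) (.leaf (nat_lit 0x421c6a368) (nat_lit 2308))
 (.leaf (nat_lit 0x421c6ab18) (nat_lit 3328))
) (.node (nat_lit 0x421c6b738) (.leaf (nat_lit 0x421c6ab68) (nat_lit 2564))
 (.node (nat_lit 0x421c6b748) (.leaf (nat_lit 0x421c6b738) (nat_lit 2819))
 (.leaf (nat_lit 0x421c6b748) (nat_lit 2816))
))) (.node (nat_lit 0x421c7a368) (.node (nat_lit 0x421c6bf48) (.leaf (nat_lit 0x421c6bf38) (nat_lit 3328))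
 (.node (nat_lit 0x421c7a318) (.leaf (nat_lit 0x421c6bf48) (nat_lit 2560))
 (.leaf (nat_lit 0x421c7a318) (nat_lit 3330))
)) (.node (nat_lit 0x421c7ab18) (.leaf (nat_lit 0x421c7a368) (nat_lit 2564))
 (.node (nat_lit 0x421c7ab68) (.leaf (nat_lit 0x421c7ab18) (nat_lit 3075))
 (.leaf (nat_lit 0x421c7ab68) (nat_lit 2820))
))))))) (.node (nat_lit 0x431047d28) (.node (nat_lit 0x431026548) (.node (nat_lit 0x431007d38) (.node (nat_lit 0x431006148) (.node (nat_lit 0x421c7bf38) (.node (nat_lit 0x421c7b748) (.leaf (nat_lit 0x421c7b738) (nat_lit 3072))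
 (.leaf (nat_lit 0x421c7b748) (nat_lit 2563))
) (.node (nat_lit 0x421c7bf48) (.leaf (nat_lit 0x421c7bf38) (nat_lit 3075))
 (.node (nat_lit 0x431006108) (.leaf (nat_lit 0x421c7bf48) (nat_lit 2307))
 (.leaf (nat_lit 0x431006108) (nat_lit 1793))
))) (.node (nat_lit 0x431006d48) (.node (nat_lit 0x431006d08) (.leaf (nat_lit 0x431006148) (nat_lit 2049))
 (.leaf (nat_lit 0x431006d08) (nat_lit 2564))
) (.node (nat_lit 0x431007138) (.leaf (nat_lit 0x431006d48) (nat_lit 2820))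
 (.node (nat_lit 0x431007178) (.leaf (nat_lit 0x431007138) (nat_lit 3332))
 (.leaf (nat_lit 0x431007178) (nat_lit 3076))
)))) (.node (nat_lit 0x431016d48) (.node (nat_lit 0x431016108) (.node (nat_lit 0x431007d78) (.leaf (nat_lit 0x431007d38) (nat_lit 2820))
 (.leaf (nat_lit 0x431007d78) (nat_lit 2564))
) (.node (nat_lit 0x431016148) (.leaf (nat_lit 0x431016108) (nat_lit 2049))
 (.node (nat_lit 0x431016d08) (.leaf (nat_lit 0x431016148) (nat_lit 2305))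
 (.leaf (nat_lit 0x431016d08) (nat_lit 2820))
))) (.node (nat_lit 0x431017d38) (.node (nat_lit 0x431017138) (.leaf (nat_lit 0x431016d48) (nat_lit 3076))
 (.node (nat_lit 0x431017178) (.leaf (nat_lit 0x431017138) (nat_lit 3331))
 (.leaf (nat_lit 0x431017178) (nat_lit 3332))
)) (.node (nat_lit 0x431017d78) (.leaf (nat_lit 0x431017d38) (nat_lit 3076))
 (.node (nat_lit 0x431026508) (.leaf (nat_lit 0x431017d78) (nat_lit 2820))
 (.leaf (nat_lit 0x431026508) (nat_lit 2819))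
))))) (.node (nat_lit 0x431036948) (.node (nat_lit 0x431027938) (.node (nat_lit 0x431026948) (.node (nat_lit 0x431026908) (.leaf (nat_lit 0x431026548) (nat_lit 3075))
 (.leaf (nat_lit 0x431026908) (nat_lit 2051))
) (.node (nat_lit 0x431027538) (.leaf (nat_lit 0x431026948) (nat_lit 2307))
 (.node (nat_lit 0x431027578) (.leaf (nat_lit 0x431027538) (nat_lit 3075))
 (.leaf (nat_lit 0x431027578) (nat_lit 2819))
))) (.node (nat_lit 0x431036508) (.node (nat_lit 0x431027978) (.leaf (nat_lit 0x431027938) (nat_lit 3329))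
 (.leaf (nat_lit 0x431027978) (nat_lit 3331))
) (.node (nat_lit 0x431036548) (.leaf (nat_lit 0x431036508) (nat_lit 3072))
 (.node (nat_lit 0x431036908) (.leaf (nat_lit 0x431036548) (nat_lit 3328))
 (.leaf (nat_lit 0x431036908) (nat_lit 2304))
)))) (.node (nat_lit 0x431046118) (.node (nat_lit 0x431037578) (.node (nat_lit 0x431037538) (.leaf (nat_lit 0x431036948) (nat_lit 2560))
 (.leaf (nat_lit 0x431037538) (nat_lit 3328))
) (.node (nat_lit 0x431037938) (.leaf (nat_lit 0x431037578) (nat_lit 3072))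
 (.node (nat_lit 0x431037978) (.leaf (nat_lit 0x431037938) (nat_lit 3073))
 (.leaf (nat_lit 0x431037978) (nat_lit 3329))
))) (.node (nat_lit 0x431046d58) (.node (nat_lit 0x431046158) (.leaf (nat_lit 0x431046118) (nat_lit 2818))
 (.node (nat_lit 0x431046d18) (.leaf (nat_lit 0x431046158) (nat_lit 2562))
 (.leaf (nat_lit 0x431046d18) (nat_lit 3331))
)) (.node (nat_lit 0x431047128) (.leaf (nat_lit 0x431046d58) (nat_lit 3332))
 (.node (nat_lit 0x431047168) (.leaf (nat_lit 0x431047128) (nat_lit 2819))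
 (.leaf (nat_lit 0x431047168) (nat_lit 2563))
)))))) (.node (nat_lit 0x431076958) (.node (nat_lit 0x431066518) (.node (nat_lit 0x431056d58) (.node (nat_lit 0x431056118) (.node (nat_lit 0x431047d68) (.leaf (nat_lit 0x431047d28) (nat_lit 3331))
 (.leaf (nat_lit 0x431047d68) (nat_lit 3075))
) (.node (nat_lit 0x431056158) (.leaf (nat_lit 0x431056118) (nat_lit 2562))
 (.node (nat_lit 0x431056d18) (.leaf (nat_lit 0x431056158) (nat_lit 2306))
 (.leaf (nat_lit 0x431056d18) (nat_lit 3332))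
))) (.node (nat_lit 0x431057168) (.node (nat_lit 0x431057128) (.leaf (nat_lit 0x431056d58) (nat_lit 3076))
 (.leaf (nat_lit 0x431057128) (nat_lit 3072))
) (.node (nat_lit 0x431057d28) (.leaf (nat_lit 0x431057168) (nat_lit 2816))
 (.node (nat_lit 0x431057d68) (.leaf (nat_lit 0x431057d28) (nat_lit 3075))
 (.leaf (nat_lit 0x431057d68) (nat_lit 3331))
)))) (.node (nat_lit 0x431067568) (.node (nat_lit 0x431066918) (.node (nat_lit 0x431066558) (.leaf (nat_lit 0x431066518) (nat_lit 2817))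
 (.leaf (nat_lit 0x431066558) (nat_lit 3073))
) (.node (nat_lit 0x431066958) (.leaf (nat_lit 0x431066918) (nat_lit 3328))
 (.node (nat_lit 0x431067528) (.leaf (nat_lit 0x431066958) (nat_lit 3072))
 (.leaf (nat_lit 0x431067528) (nat_lit 3075))
))) (.node (nat_lit 0x431076518) (.node (nat_lit 0x431067928) (.leaf (nat_lit 0x431067568) (nat_lit 2819))
 (.node (nat_lit 0x431067968) (.leaf (nat_lit 0x431067928) (nat_lit 2305))
 (.leaf (nat_lit 0x431067968) (nat_lit 2049))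
)) (.node (nat_lit 0x431076558) (.leaf (nat_lit 0x431076518) (nat_lit 3073))
 (.node (nat_lit 0x431076918) (.leaf (nat_lit 0x431076558) (nat_lit 3329))
 (.leaf (nat_lit 0x431076918) (nat_lit 3075))
))))) (.node (nat_lit 0x43140f568) (.node (nat_lit 0x43140e108) (.node (nat_lit 0x431077568) (.node (nat_lit 0x431077528) (.leaf (nat_lit 0x431076958) (nat_lit 2819))
 (.leaf (nat_lit 0x431077528) (nat_lit 3328))
) (.node (nat_lit 0x431077928) (.leaf (nat_lit 0x431077568) (nat_lit 3072))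
 (.node (nat_lit 0x431077968) (.leaf (nat_lit 0x431077928) (nat_lit 2561))
 (.leaf (nat_lit 0x431077968) (nat_lit 2305))
))) (.node (nat_lit 0x43140ed08) (.node (nat_lit 0x43140e158) (.leaf (nat_lit 0x43140e108) (nat_lit 1539))
 (.leaf (nat_lit 0x43140e158) (nat_lit 2562))
) (.node (nat_lit 0x43140ed58) (.leaf (nat_lit 0x43140ed08) (nat_lit 2308))
 (.node (nat_lit 0x43140f538) (.leaf (nat_lit 0x43140ed58) (nat_lit 3332))
 (.leaf (nat_lit 0x43140f538) (nat_lit 3328))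
)))) (.node (nat_lit 0x43141ed08) (.node (nat_lit 0x43140f968) (.node (nat_lit 0x43140f938) (.leaf (nat_lit 0x43140f568) (nat_lit 2819))
 (.leaf (nat_lit 0x43140f938) (nat_lit 3329))
) (.node (nat_lit 0x43141e108) (.leaf (nat_lit 0x43140f968) (nat_lit 2051))
 (.node (nat_lit 0x43141e158) (.leaf (nat_lit 0x43141e108) (nat_lit 1792))
 (.leaf (nat_lit 0x43141e158) (nat_lit 2818))
))) (.node (nat_lit 0x43141f568) (.node (nat_lit 0x43141ed58) (.leaf (nat_lit 0x43141ed08) (nat_lit 2564))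
 (.node (nat_lit 0x43141f538) (.leaf (nat_lit 0x43141ed58) (nat_lit 3587))
 (.leaf (nat_lit 0x43141f538) (nat_lit 3075))
)) (.node (nat_lit 0x43141f938) (.leaf (nat_lit 0x43141f568) (nat_lit 3072))
 (.node (nat_lit 0x43141f968) (.leaf (nat_lit 0x43141f938) (nat_lit 3331))
 (.leaf (nat_lit 0x43141f968) (nat_lit 2304))
))))))))) (.node (nat_lit 0x431c76318) (.node (nat_lit 0x43184f328) (.node (nat_lit 0x43147e918) (.node (nat_lit 0x43144f578) (.node (nat_lit 0x43143e908) (.node (nat_lit 0x43142f168) (.node (nat_lit 0x43142e908) (.node (nat_lit 0x43142e558) (.leaf (nat_lit 0x43142e508) (nat_lit 2819))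
 (.leaf (nat_lit 0x43142e558) (nat_lit 3073))
) (.node (nat_lit 0x43142e958) (.leaf (nat_lit 0x43142e908) (nat_lit 1795))
 (.node (nat_lit 0x43142f138) (.leaf (nat_lit 0x43142e958) (nat_lit 3075))
 (.leaf (nat_lit 0x43142f138) (nat_lit 3328))
))) (.node (nat_lit 0x43142fd68) (.node (nat_lit 0x43142fd38) (.leaf (nat_lit 0x43142f168) (nat_lit 2307))
 (.leaf (nat_lit 0x43142fd38) (nat_lit 2817))
) (.node (nat_lit 0x43143e508) (.leaf (nat_lit 0x43142fd68) (nat_lit 3075))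
 (.node (nat_lit 0x43143e558) (.leaf (nat_lit 0x43143e508) (nat_lit 3072))
 (.leaf (nat_lit 0x43143e558) (nat_lit 2817))
)))) (.node (nat_lit 0x43143fd68) (.node (nat_lit 0x43143f138) (.node (nat_lit 0x43143e958) (.leaf (nat_lit 0x43143e908) (nat_lit 2048))
 (.leaf (nat_lit 0x43143e958) (nat_lit 3328))
) (.node (nat_lit 0x43143f168) (.leaf (nat_lit 0x43143f138) (nat_lit 3075))
 (.node (nat_lit 0x43143fd38) (.leaf (nat_lit 0x43143f168) (nat_lit 2560))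
 (.leaf (nat_lit 0x43143fd38) (nat_lit 2561))
))) (.node (nat_lit 0x43144ed18) (.node (nat_lit 0x43144e118) (.leaf (nat_lit 0x43143fd68) (nat_lit 3329))
 (.node (nat_lit 0x43144e148) (.leaf (nat_lit 0x43144e118) (nat_lit 2818))
 (.leaf (nat_lit 0x43144e148) (nat_lit 1795))
)) (.node (nat_lit 0x43144ed48) (.leaf (nat_lit 0x43144ed18) (nat_lit 3588))
 (.node (nat_lit 0x43144f528) (.leaf (nat_lit 0x43144ed48) (nat_lit 2564))
 (.leaf (nat_lit 0x43144f528) (nat_lit 3075))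
))))) (.node (nat_lit 0x43145f978) (.node (nat_lit 0x43145ed18) (.node (nat_lit 0x43144f978) (.node (nat_lit 0x43144f928) (.leaf (nat_lit 0x43144f578) (nat_lit 3072))
 (.leaf (nat_lit 0x43144f928) (nat_lit 2307))
) (.node (nat_lit 0x43145e118) (.leaf (nat_lit 0x43144f978) (nat_lit 3328))
 (.node (nat_lit 0x43145e148) (.leaf (nat_lit 0x43145e118) (nat_lit 3074))
 (.leaf (nat_lit 0x43145e148) (nat_lit 2048))
))) (.node (nat_lit 0x43145f528) (.node (nat_lit 0x43145ed48) (.leaf (nat_lit 0x43145ed18) (nat_lit 3331))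
 (.leaf (nat_lit 0x43145ed48) (nat_lit 2820))
) (.node (nat_lit 0x43145f578) (.leaf (nat_lit 0x43145f528) (nat_lit 3328))
 (.node (nat_lit 0x43145f928) (.leaf (nat_lit 0x43145f578) (nat_lit 2819))
 (.leaf (nat_lit 0x43145f928) (nat_lit 2560))
)))) (.node (nat_lit 0x43146f128) (.node (nat_lit 0x43146e548) (.node (nat_lit 0x43146e518) (.leaf (nat_lit 0x43145f978) (nat_lit 3075))
 (.leaf (nat_lit 0x43146e518) (nat_lit 2817))
) (.node (nat_lit 0x43146e918) (.leaf (nat_lit 0x43146e548) (nat_lit 3075))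
 (.node (nat_lit 0x43146e948) (.leaf (nat_lit 0x43146e918) (nat_lit 3331))
 (.leaf (nat_lit 0x43146e948) (nat_lit 2051))
))) (.node (nat_lit 0x43146fd78) (.node (nat_lit 0x43146f178) (.leaf (nat_lit 0x43146f128) (nat_lit 2563))
 (.node (nat_lit 0x43146fd28) (.leaf (nat_lit 0x43146f178) (nat_lit 3072))
 (.leaf (nat_lit 0x43146fd28) (nat_lit 3331))
)) (.node (nat_lit 0x43147e518) (.leaf (nat_lit 0x43146fd78) (nat_lit 2561))
 (.node (nat_lit 0x43147e548) (.leaf (nat_lit 0x43147e518) (nat_lit 2561))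
 (.leaf (nat_lit 0x43147e548) (nat_lit 3328))
)))))) (.node (nat_lit 0x43181fb58) (.node (nat_lit 0x43180f738) (.node (nat_lit 0x43147fd78) (.node (nat_lit 0x43147f128) (.node (nat_lit 0x43147e948) (.leaf (nat_lit 0x43147e918) (nat_lit 3584))
 (.leaf (nat_lit 0x43147e948) (nat_lit 2304))
) (.node (nat_lit 0x43147f178) (.leaf (nat_lit 0x43147f128) (nat_lit 2816))
 (.node (nat_lit 0x43147fd28) (.leaf (nat_lit 0x43147f178) (nat_lit 2819))
 (.leaf (nat_lit 0x43147fd28) (nat_lit 3073))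
))) (.node (nat_lit 0x43180e368) (.node (nat_lit 0x43180e308) (.leaf (nat_lit 0x43147fd78) (nat_lit 2305))
 (.leaf (nat_lit 0x43180e308) (nat_lit 1537))
) (.node (nat_lit 0x43180ef08) (.leaf (nat_lit 0x43180e368) (nat_lit 2305))
 (.node (nat_lit 0x43180ef68) (.leaf (nat_lit 0x43180ef08) (nat_lit 2307))
 (.leaf (nat_lit 0x43180ef68) (nat_lit 3076))
)))) (.node (nat_lit 0x43181e368) (.node (nat_lit 0x43180fb38) (.node (nat_lit 0x43180f758) (.leaf (nat_lit 0x43180f738) (nat_lit 3073))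
 (.leaf (nat_lit 0x43180f758) (nat_lit 2305))
) (.node (nat_lit 0x43180fb58) (.leaf (nat_lit 0x43180fb38) (nat_lit 3328))
 (.node (nat_lit 0x43181e308) (.leaf (nat_lit 0x43180fb58) (nat_lit 3332))
 (.leaf (nat_lit 0x43181e308) (nat_lit 1793))
))) (.node (nat_lit 0x43181f738) (.node (nat_lit 0x43181ef08) (.leaf (nat_lit 0x43181e368) (nat_lit 2561))
 (.node (nat_lit 0x43181ef68) (.leaf (nat_lit 0x43181ef08) (nat_lit 2560))
 (.leaf (nat_lit 0x43181ef68) (nat_lit 3332))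
)) (.node (nat_lit 0x43181f758) (.leaf (nat_lit 0x43181f738) (nat_lit 3329))
 (.node (nat_lit 0x43181fb38) (.leaf (nat_lit 0x43181f758) (nat_lit 2561))
 (.leaf (nat_lit 0x43181fb38) (nat_lit 3075))
))))) (.node (nat_lit 0x43183e768) (.node (nat_lit 0x43182f338) (.node (nat_lit 0x43182e768) (.node (nat_lit 0x43182e708) (.leaf (nat_lit 0x43181fb58) (nat_lit 3587))
 (.leaf (nat_lit 0x43182e708) (nat_lit 2563))
) (.node (nat_lit 0x43182eb08) (.leaf (nat_lit 0x43182e768) (nat_lit 3331))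
 (.node (nat_lit 0x43182eb68) (.leaf (nat_lit 0x43182eb08) (nat_lit 2051))
 (.leaf (nat_lit 0x43182eb68) (nat_lit 2563))
))) (.node (nat_lit 0x43182ff38) (.node (nat_lit 0x43182f358) (.leaf (nat_lit 0x43182f338) (nat_lit 3076))
 (.leaf (nat_lit 0x43182f358) (nat_lit 3330))
) (.node (nat_lit 0x43182ff58) (.leaf (nat_lit 0x43182ff38) (nat_lit 3332))
 (.node (nat_lit 0x43183e708) (.leaf (nat_lit 0x43182ff58) (nat_lit 2819))
 (.leaf (nat_lit 0x43183e708) (nat_lit 2816))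
)))) (.node (nat_lit 0x43183ff38) (.node (nat_lit 0x43183eb68) (.node (nat_lit 0x43183eb08) (.leaf (nat_lit 0x43183e768) (nat_lit 3331))
 (.leaf (nat_lit 0x43183eb08) (nat_lit 2304))
) (.node (nat_lit 0x43183f338) (.leaf (nat_lit 0x43183eb68) (nat_lit 2816))
 (.node (nat_lit 0x43183f358) (.leaf (nat_lit 0x43183f338) (nat_lit 2820))
 (.leaf (nat_lit 0x43183f358) (nat_lit 3074))
))) (.node (nat_lit 0x43184e778) (.node (nat_lit 0x43183ff58) (.leaf (nat_lit 0x43183ff38) (nat_lit 3076))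
 (.node (nat_lit 0x43184e718) (.leaf (nat_lit 0x43183ff58) (nat_lit 3072))
 (.leaf (nat_lit 0x43184e718) (nat_lit 2561))
)) (.node (nat_lit 0x43184eb18) (.leaf (nat_lit 0x43184e778) (nat_lit 3329))
 (.node (nat_lit 0x43184eb78) (.leaf (nat_lit 0x43184eb18) (nat_lit 3588))
 (.leaf (nat_lit 0x43184eb78) (nat_lit 3072))
))))))) (.node (nat_lit 0x431c17f38) (.node (nat_lit 0x43187e378) (.node (nat_lit 0x43185ff28) (.node (nat_lit 0x43185e778) (.node (nat_lit 0x43184ff28) (.node (nat_lit 0x43184f348) (.leaf (nat_lit 0x43184f328) (nat_lit 2561))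
 (.leaf (nat_lit 0x43184f348) (nat_lit 1793))
) (.node (nat_lit 0x43184ff48) (.leaf (nat_lit 0x43184ff28) (nat_lit 3332))
 (.node (nat_lit 0x43185e718) (.leaf (nat_lit 0x43184ff48) (nat_lit 2563))
 (.leaf (nat_lit 0x43185e718) (nat_lit 2817))
))) (.node (nat_lit 0x43185eb78) (.node (nat_lit 0x43185eb18) (.leaf (nat_lit 0x43185e778) (nat_lit 3331))
 (.leaf (nat_lit 0x43185eb18) (nat_lit 3331))
) (.node (nat_lit 0x43185f328) (.leaf (nat_lit 0x43185eb78) (nat_lit 2819))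
 (.node (nat_lit 0x43185f348) (.leaf (nat_lit 0x43185f328) (nat_lit 2817))
 (.leaf (nat_lit 0x43185f348) (nat_lit 2049))
)))) (.node (nat_lit 0x43186ef78) (.node (nat_lit 0x43186e318) (.node (nat_lit 0x43185ff48) (.leaf (nat_lit 0x43185ff28) (nat_lit 3331))
 (.leaf (nat_lit 0x43185ff48) (nat_lit 2816))
) (.node (nat_lit 0x43186e378) (.leaf (nat_lit 0x43186e318) (nat_lit 3074))
 (.node (nat_lit 0x43186ef18) (.leaf (nat_lit 0x43186e378) (nat_lit 2820))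
 (.leaf (nat_lit 0x43186ef18) (nat_lit 3075))
))) (.node (nat_lit 0x43186fb28) (.node (nat_lit 0x43186f728) (.leaf (nat_lit 0x43186ef78) (nat_lit 3076))
 (.node (nat_lit 0x43186f748) (.leaf (nat_lit 0x43186f728) (nat_lit 3328))
 (.leaf (nat_lit 0x43186f748) (nat_lit 2819))
)) (.node (nat_lit 0x43186fb48) (.leaf (nat_lit 0x43186fb28) (nat_lit 2819))
 (.node (nat_lit 0x43187e318) (.leaf (nat_lit 0x43186fb48) (nat_lit 2307))
 (.leaf (nat_lit 0x43187e318) (nat_lit 2818))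
))))) (.node (nat_lit 0x431c06f78) (.node (nat_lit 0x43187fb28) (.node (nat_lit 0x43187ef78) (.node (nat_lit 0x43187ef18) (.leaf (nat_lit 0x43187e378) (nat_lit 2564))
 (.leaf (nat_lit 0x43187ef18) (nat_lit 3328))
) (.node (nat_lit 0x43187f728) (.leaf (nat_lit 0x43187ef78) (nat_lit 2820))
 (.node (nat_lit 0x43187f748) (.leaf (nat_lit 0x43187f728) (nat_lit 3075))
 (.leaf (nat_lit 0x43187f748) (nat_lit 3072))
))) (.node (nat_lit 0x431c06308) (.node (nat_lit 0x43187fb48) (.leaf (nat_lit 0x43187fb28) (nat_lit 3072))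
 (.leaf (nat_lit 0x43187fb48) (nat_lit 2560))
) (.node (nat_lit 0x431c06378) (.leaf (nat_lit 0x431c06308) (nat_lit 1539))
 (.node (nat_lit 0x431c06f08) (.leaf (nat_lit 0x431c06378) (nat_lit 2818))
 (.leaf (nat_lit 0x431c06f08) (nat_lit 2307))
)))) (.node (nat_lit 0x431c16308) (.node (nat_lit 0x431c07348) (.node (nat_lit 0x431c07338) (.leaf (nat_lit 0x431c06f78) (nat_lit 3076))
 (.leaf (nat_lit 0x431c07338) (nat_lit 3074))
) (.node (nat_lit 0x431c07f38) (.leaf (nat_lit 0x431c07348) (nat_lit 1795))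
 (.node (nat_lit 0x431c07f48) (.leaf (nat_lit 0x431c07f38) (nat_lit 3332))
 (.leaf (nat_lit 0x431c07f48) (nat_lit 2563))
))) (.node (nat_lit 0x431c16f78) (.node (nat_lit 0x431c16378) (.leaf (nat_lit 0x431c16308) (nat_lit 1792))
 (.node (nat_lit 0x431c16f08) (.leaf (nat_lit 0x431c16378) (nat_lit 3074))
 (.leaf (nat_lit 0x431c16f08) (nat_lit 2560))
)) (.node (nat_lit 0x431c17338) (.leaf (nat_lit 0x431c16f78) (nat_lit 3332))
 (.node (nat_lit 0x431c17348) (.leaf (nat_lit 0x431c17338) (nat_lit 3330))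
 (.leaf (nat_lit 0x431c17348) (nat_lit 2048))
)))))) (.node (nat_lit 0x431c46b68) (.node (nat_lit 0x431c36708) (.node (nat_lit 0x431c26b78) (.node (nat_lit 0x431c26708) (.node (nat_lit 0x431c17f48) (.leaf (nat_lit 0x431c17f38) (nat_lit 3329))
 (.leaf (nat_lit 0x431c17f48) (nat_lit 2816))
) (.node (nat_lit 0x431c26778) (.leaf (nat_lit 0x431c26708) (nat_lit 2563))
 (.node (nat_lit 0x431c26b08) (.leaf (nat_lit 0x431c26778) (nat_lit 3329))
 (.leaf (nat_lit 0x431c26b08) (nat_lit 1795))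
))) (.node (nat_lit 0x431c27748) (.node (nat_lit 0x431c27738) (.leaf (nat_lit 0x431c26b78) (nat_lit 3075))
 (.leaf (nat_lit 0x431c27738) (nat_lit 3073))
) (.node (nat_lit 0x431c27b38) (.leaf (nat_lit 0x431c27748) (nat_lit 2819))
 (.node (nat_lit 0x431c27b48) (.leaf (nat_lit 0x431c27b38) (nat_lit 3331))
 (.leaf (nat_lit 0x431c27b48) (nat_lit 2051))
)))) (.node (nat_lit 0x431c37748) (.node (nat_lit 0x431c36b08) (.node (nat_lit 0x431c36778) (.leaf (nat_lit 0x431c36708) (nat_lit 2816))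
 (.leaf (nat_lit 0x431c36778) (nat_lit 3073))
) (.node (nat_lit 0x431c36b78) (.leaf (nat_lit 0x431c36b08) (nat_lit 2048))
 (.node (nat_lit 0x431c37738) (.leaf (nat_lit 0x431c36b78) (nat_lit 3328))
 (.leaf (nat_lit 0x431c37738) (nat_lit 2817))
))) (.node (nat_lit 0x431c46718) (.node (nat_lit 0x431c37b38) (.leaf (nat_lit 0x431c37748) (nat_lit 3072))
 (.node (nat_lit 0x431c37b48) (.leaf (nat_lit 0x431c37b38) (nat_lit 3331))
 (.leaf (nat_lit 0x431c37b48) (nat_lit 2304))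
)) (.node (nat_lit 0x431c46768) (.leaf (nat_lit 0x431c46718) (nat_lit 2561))
 (.node (nat_lit 0x431c46b18) (.leaf (nat_lit 0x431c46768) (nat_lit 3331))
 (.leaf (nat_lit 0x431c46b18) (nat_lit 3585))
))))) (.node (nat_lit 0x431c57758) (.node (nat_lit 0x431c56718) (.node (nat_lit 0x431c47758) (.node (nat_lit 0x431c47728) (.leaf (nat_lit 0x431c46b68) (nat_lit 2307))
 (.leaf (nat_lit 0x431c47728) (nat_lit 3329))
) (.node (nat_lit 0x431c47b28) (.leaf (nat_lit 0x431c47758) (nat_lit 2305))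
 (.node (nat_lit 0x431c47b58) (.leaf (nat_lit 0x431c47b28) (nat_lit 2563))
 (.leaf (nat_lit 0x431c47b58) (nat_lit 3329))
))) (.node (nat_lit 0x431c56b18) (.node (nat_lit 0x431c56768) (.leaf (nat_lit 0x431c56718) (nat_lit 2305))
 (.leaf (nat_lit 0x431c56768) (nat_lit 3329))
) (.node (nat_lit 0x431c56b68) (.leaf (nat_lit 0x431c56b18) (nat_lit 3329))
 (.node (nat_lit 0x431c57728) (.leaf (nat_lit 0x431c56b68) (nat_lit 2560))
 (.leaf (nat_lit 0x431c57728) (nat_lit 3073))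
)))) (.node (nat_lit 0x431c66f18) (.node (nat_lit 0x431c57b58) (.node (nat_lit 0x431c57b28) (.leaf (nat_lit 0x431c57758) (nat_lit 2049))
 (.leaf (nat_lit 0x431c57b28) (nat_lit 2816))
) (.node (nat_lit 0x431c66318) (.leaf (nat_lit 0x431c57b58) (nat_lit 3073))
 (.node (nat_lit 0x431c66368) (.leaf (nat_lit 0x431c66318) (nat_lit 3074))
 (.leaf (nat_lit 0x431c66368) (nat_lit 2051))
))) (.node (nat_lit 0x431c67358) (.node (nat_lit 0x431c66f68) (.leaf (nat_lit 0x431c66f18) (nat_lit 3331))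
 (.node (nat_lit 0x431c67328) (.leaf (nat_lit 0x431c66f68) (nat_lit 2820))
 (.leaf (nat_lit 0x431c67328) (nat_lit 2307))
)) (.node (nat_lit 0x431c67f28) (.leaf (nat_lit 0x431c67358) (nat_lit 3330))
 (.node (nat_lit 0x431c67f58) (.leaf (nat_lit 0x431c67f28) (nat_lit 3076))
 (.leaf (nat_lit 0x431c67f58) (nat_lit 3075))
)))))))) (.node (nat_lit 0x440c17204) (.node (nat_lit 0x440842e44) (.node (nat_lit 0x440813224) (.node (nat_lit 0x440802a44) (.node (nat_lit 0x431c77358) (.node (nat_lit 0x431c76f18) (.node (nat_lit 0x431c76368) (.leaf (nat_lit 0x431c76318) (nat_lit 3330))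
 (.leaf (nat_lit 0x431c76368) (nat_lit 2304))
) (.node (nat_lit 0x431c76f68) (.leaf (nat_lit 0x431c76f18) (nat_lit 3075))
 (.node (nat_lit 0x431c77328) (.leaf (nat_lit 0x431c76f68) (nat_lit 3076))
 (.leaf (nat_lit 0x431c77328) (nat_lit 2560))
))) (.node (nat_lit 0x431c77f58) (.node (nat_lit 0x431c77f28) (.leaf (nat_lit 0x431c77358) (nat_lit 3331))
 (.leaf (nat_lit 0x431c77f28) (nat_lit 3332))
) (.node (nat_lit 0x440802204) (.leaf (nat_lit 0x431c77f58) (nat_lit 2819))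
 (.node (nat_lit 0x440802224) (.leaf (nat_lit 0x440802204) (nat_lit 1539))
 (.leaf (nat_lit 0x440802224) (nat_lit 2562))
)))) (.node (nat_lit 0x440803a64) (.node (nat_lit 0x440803204) (.node (nat_lit 0x440802a64) (.leaf (nat_lit 0x440802a44) (nat_lit 3328))
 (.leaf (nat_lit 0x440802a64) (nat_lit 2307))
) (.node (nat_lit 0x440803224) (.leaf (nat_lit 0x440803204) (nat_lit 1795))
 (.node (nat_lit 0x440803a44) (.leaf (nat_lit 0x440803224) (nat_lit 2818))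
 (.leaf (nat_lit 0x440803a44) (nat_lit 3330))
))) (.node (nat_lit 0x440812a44) (.node (nat_lit 0x440812204) (.leaf (nat_lit 0x440803a64) (nat_lit 2051))
 (.node (nat_lit 0x440812224) (.leaf (nat_lit 0x440812204) (nat_lit 1792))
 (.leaf (nat_lit 0x440812224) (nat_lit 2818))
)) (.node (nat_lit 0x440812a64) (.leaf (nat_lit 0x440812a44) (nat_lit 3075))
 (.node (nat_lit 0x440813204) (.leaf (nat_lit 0x440812a64) (nat_lit 2560))
 (.leaf (nat_lit 0x440813204) (nat_lit 2048))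
))))) (.node (nat_lit 0x440823a74) (.node (nat_lit 0x440822a54) (.node (nat_lit 0x440813a64) (.node (nat_lit 0x440813a44) (.leaf (nat_lit 0x440813224) (nat_lit 3074))
 (.leaf (nat_lit 0x440813a44) (nat_lit 3331))
) (.node (nat_lit 0x440822214) (.leaf (nat_lit 0x440813a64) (nat_lit 2304))
 (.node (nat_lit 0x440822234) (.leaf (nat_lit 0x440822214) (nat_lit 3330))
 (.leaf (nat_lit 0x440822234) (nat_lit 2564))
))) (.node (nat_lit 0x440823214) (.node (nat_lit 0x440822a74) (.leaf (nat_lit 0x440822a54) (nat_lit 3328))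
 (.leaf (nat_lit 0x440822a74) (nat_lit 2563))
) (.node (nat_lit 0x440823234) (.leaf (nat_lit 0x440823214) (nat_lit 3331))
 (.node (nat_lit 0x440823a54) (.leaf (nat_lit 0x440823234) (nat_lit 2820))
 (.leaf (nat_lit 0x440823a54) (nat_lit 3072))
)))) (.node (nat_lit 0x440833214) (.node (nat_lit 0x440832234) (.node (nat_lit 0x440832214) (.leaf (nat_lit 0x440823a74) (nat_lit 2819))
 (.leaf (nat_lit 0x440832214) (nat_lit 3074))
) (.node (nat_lit 0x440832a54) (.leaf (nat_lit 0x440832234) (nat_lit 2308))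
 (.node (nat_lit 0x440832a74) (.leaf (nat_lit 0x440832a54) (nat_lit 3075))
 (.leaf (nat_lit 0x440832a74) (nat_lit 2816))
))) (.node (nat_lit 0x440833a74) (.node (nat_lit 0x440833234) (.leaf (nat_lit 0x440833214) (nat_lit 3330))
 (.node (nat_lit 0x440833a54) (.leaf (nat_lit 0x440833234) (nat_lit 2564))
 (.leaf (nat_lit 0x440833a54) (nat_lit 2819))
)) (.node (nat_lit 0x440842604) (.leaf (nat_lit 0x440833a74) (nat_lit 3072))
 (.node (nat_lit 0x440842624) (.leaf (nat_lit 0x440842604) (nat_lit 2304))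
 (.leaf (nat_lit 0x440842624) (nat_lit 3328))
)))))) (.node (nat_lit 0x440863e74) (.node (nat_lit 0x440853604) (.node (nat_lit 0x440843e64) (.node (nat_lit 0x440843604) (.node (nat_lit 0x440842e64) (.leaf (nat_lit 0x440842e44) (nat_lit 3075))
 (.leaf (nat_lit 0x440842e64) (nat_lit 2560))
) (.node (nat_lit 0x440843624) (.leaf (nat_lit 0x440843604) (nat_lit 2048))
 (.node (nat_lit 0x440843e44) (.leaf (nat_lit 0x440843624) (nat_lit 3072))
 (.leaf (nat_lit 0x440843e44) (nat_lit 2819))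
))) (.node (nat_lit 0x440852624) (.node (nat_lit 0x440852604) (.leaf (nat_lit 0x440843e64) (nat_lit 2816))
 (.leaf (nat_lit 0x440852604) (nat_lit 2051))
) (.node (nat_lit 0x440852e44) (.leaf (nat_lit 0x440852624) (nat_lit 3075))
 (.node (nat_lit 0x440852e64) (.leaf (nat_lit 0x440852e44) (nat_lit 3328))
 (.leaf (nat_lit 0x440852e64) (nat_lit 2307))
)))) (.node (nat_lit 0x440862634) (.node (nat_lit 0x440853e44) (.node (nat_lit 0x440853624) (.leaf (nat_lit 0x440853604) (nat_lit 1795))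
 (.leaf (nat_lit 0x440853624) (nat_lit 2819))
) (.node (nat_lit 0x440853e64) (.leaf (nat_lit 0x440853e44) (nat_lit 3072))
 (.node (nat_lit 0x440862614) (.leaf (nat_lit 0x440853e64) (nat_lit 2563))
 (.leaf (nat_lit 0x440862614) (nat_lit 2817))
))) (.node (nat_lit 0x440863614) (.node (nat_lit 0x440862e54) (.leaf (nat_lit 0x440862634) (nat_lit 3075))
 (.node (nat_lit 0x440862e74) (.leaf (nat_lit 0x440862e54) (nat_lit 3075))
 (.leaf (nat_lit 0x440862e74) (nat_lit 2561))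
)) (.node (nat_lit 0x440863634) (.leaf (nat_lit 0x440863614) (nat_lit 3073))
 (.node (nat_lit 0x440863e54) (.leaf (nat_lit 0x440863634) (nat_lit 2819))
 (.leaf (nat_lit 0x440863e54) (nat_lit 3331))
))))) (.node (nat_lit 0x440c06234) (.node (nat_lit 0x440873614) (.node (nat_lit 0x440872634) (.node (nat_lit 0x440872614) (.leaf (nat_lit 0x440863e74) (nat_lit 2305))
 (.leaf (nat_lit 0x440872614) (nat_lit 2561))
) (.node (nat_lit 0x440872e54) (.leaf (nat_lit 0x440872634) (nat_lit 3328))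
 (.node (nat_lit 0x440872e74) (.leaf (nat_lit 0x440872e54) (nat_lit 3328))
 (.leaf (nat_lit 0x440872e74) (nat_lit 2305))
))) (.node (nat_lit 0x440873e54) (.node (nat_lit 0x440873634) (.leaf (nat_lit 0x440873614) (nat_lit 2817))
 (.leaf (nat_lit 0x440873634) (nat_lit 3072))
) (.node (nat_lit 0x440873e74) (.leaf (nat_lit 0x440873e54) (nat_lit 3331))
 (.node (nat_lit 0x440c06204) (.leaf (nat_lit 0x440873e74) (nat_lit 2049))
 (.leaf (nat_lit 0x440c06204) (nat_lit 1283))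
)))) (.node (nat_lit 0x440c07e44) (.node (nat_lit 0x440c06e74) (.node (nat_lit 0x440c06e44) (.leaf (nat_lit 0x440c06234) (nat_lit 2818))
 (.leaf (nat_lit 0x440c06e44) (nat_lit 3072))
) (.node (nat_lit 0x440c07204) (.leaf (nat_lit 0x440c06e74) (nat_lit 2563))
 (.node (nat_lit 0x440c07234) (.leaf (nat_lit 0x440c07204) (nat_lit 1539))
 (.leaf (nat_lit 0x440c07234) (nat_lit 3074))
))) (.node (nat_lit 0x440c16234) (.node (nat_lit 0x440c07e74) (.leaf (nat_lit 0x440c07e44) (nat_lit 3328))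
 (.node (nat_lit 0x440c16204) (.leaf (nat_lit 0x440c07e74) (nat_lit 2307))
 (.leaf (nat_lit 0x440c16204) (nat_lit 1536))
)) (.node (nat_lit 0x440c16e44) (.leaf (nat_lit 0x440c16234) (nat_lit 3074))
 (.node (nat_lit 0x440c16e74) (.leaf (nat_lit 0x440c16e44) (nat_lit 2819))
 (.leaf (nat_lit 0x440c16e74) (nat_lit 2816))
))))))) (.node (nat_lit 0x440c67a54) (.node (nat_lit 0x440c46634) (.node (nat_lit 0x440c27e54) (.node (nat_lit 0x440c26224) (.node (nat_lit 0x440c17e44) (.node (nat_lit 0x440c17234) (.leaf (nat_lit 0x440c17204) (nat_lit 1792))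
 (.leaf (nat_lit 0x440c17234) (nat_lit 3330))
) (.node (nat_lit 0x440c17e74) (.leaf (nat_lit 0x440c17e44) (nat_lit 3075))
 (.node (nat_lit 0x440c26214) (.leaf (nat_lit 0x440c17e74) (nat_lit 2560))
 (.leaf (nat_lit 0x440c26214) (nat_lit 3074))
))) (.node (nat_lit 0x440c26e64) (.node (nat_lit 0x440c26e54) (.leaf (nat_lit 0x440c26224) (nat_lit 2052))
 (.leaf (nat_lit 0x440c26e54) (nat_lit 3076))
) (.node (nat_lit 0x440c27214) (.leaf (nat_lit 0x440c26e64) (nat_lit 2560))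
 (.node (nat_lit 0x440c27224) (.leaf (nat_lit 0x440c27214) (nat_lit 3330))
 (.leaf (nat_lit 0x440c27224) (nat_lit 2308))
)))) (.node (nat_lit 0x440c36e64) (.node (nat_lit 0x440c36214) (.node (nat_lit 0x440c27e64) (.leaf (nat_lit 0x440c27e54) (nat_lit 2820))
 (.leaf (nat_lit 0x440c27e64) (nat_lit 2816))
) (.node (nat_lit 0x440c36224) (.leaf (nat_lit 0x440c36214) (nat_lit 3331))
 (.node (nat_lit 0x440c36e54) (.leaf (nat_lit 0x440c36224) (nat_lit 2308))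
 (.leaf (nat_lit 0x440c36e54) (nat_lit 3332))
))) (.node (nat_lit 0x440c37e54) (.node (nat_lit 0x440c37214) (.leaf (nat_lit 0x440c36e64) (nat_lit 2307))
 (.node (nat_lit 0x440c37224) (.leaf (nat_lit 0x440c37214) (nat_lit 3075))
 (.leaf (nat_lit 0x440c37224) (nat_lit 2564))
)) (.node (nat_lit 0x440c37e64) (.leaf (nat_lit 0x440c37e54) (nat_lit 3076))
 (.node (nat_lit 0x440c46604) (.leaf (nat_lit 0x440c37e64) (nat_lit 2563))
 (.leaf (nat_lit 0x440c46604) (nat_lit 2048))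
))))) (.node (nat_lit 0x440c56a74) (.node (nat_lit 0x440c47a44) (.node (nat_lit 0x440c46a74) (.node (nat_lit 0x440c46a44) (.leaf (nat_lit 0x440c46634) (nat_lit 3584))
 (.leaf (nat_lit 0x440c46a44) (nat_lit 2819))
) (.node (nat_lit 0x440c47604) (.leaf (nat_lit 0x440c46a74) (nat_lit 2816))
 (.node (nat_lit 0x440c47634) (.leaf (nat_lit 0x440c47604) (nat_lit 1792))
 (.leaf (nat_lit 0x440c47634) (nat_lit 3328))
))) (.node (nat_lit 0x440c56604) (.node (nat_lit 0x440c47a74) (.leaf (nat_lit 0x440c47a44) (nat_lit 2563))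
 (.leaf (nat_lit 0x440c47a74) (nat_lit 3072))
) (.node (nat_lit 0x440c56634) (.leaf (nat_lit 0x440c56604) (nat_lit 1795))
 (.node (nat_lit 0x440c56a44) (.leaf (nat_lit 0x440c56634) (nat_lit 3331))
 (.leaf (nat_lit 0x440c56a44) (nat_lit 3072))
)))) (.node (nat_lit 0x440c66614) (.node (nat_lit 0x440c57634) (.node (nat_lit 0x440c57604) (.leaf (nat_lit 0x440c56a74) (nat_lit 2563))
 (.leaf (nat_lit 0x440c57604) (nat_lit 1539))
) (.node (nat_lit 0x440c57a44) (.leaf (nat_lit 0x440c57634) (nat_lit 3075))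
 (.node (nat_lit 0x440c57a74) (.leaf (nat_lit 0x440c57a44) (nat_lit 2816))
 (.leaf (nat_lit 0x440c57a74) (nat_lit 2819))
))) (.node (nat_lit 0x440c66a64) (.node (nat_lit 0x440c66624) (.leaf (nat_lit 0x440c66614) (nat_lit 2561))
 (.node (nat_lit 0x440c66a54) (.leaf (nat_lit 0x440c66624) (nat_lit 3072))
 (.leaf (nat_lit 0x440c66a54) (nat_lit 3586))
)) (.node (nat_lit 0x440c67614) (.leaf (nat_lit 0x440c66a64) (nat_lit 2049))
 (.node (nat_lit 0x440c67624) (.leaf (nat_lit 0x440c67614) (nat_lit 2817))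
 (.leaf (nat_lit 0x440c67624) (nat_lit 2816))
)))))) (.node (nat_lit 0x441812b44) (.node (nat_lit 0x441802304) (.node (nat_lit 0x440c76a64) (.node (nat_lit 0x440c76614) (.node (nat_lit 0x440c67a64) (.leaf (nat_lit 0x440c67a54) (nat_lit 3330))
 (.leaf (nat_lit 0x440c67a64) (nat_lit 1793))
) (.node (nat_lit 0x440c76624) (.leaf (nat_lit 0x440c76614) (nat_lit 2817))
 (.node (nat_lit 0x440c76a54) (.leaf (nat_lit 0x440c76624) (nat_lit 2819))
 (.leaf (nat_lit 0x440c76a54) (nat_lit 3331))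
))) (.node (nat_lit 0x440c77624) (.node (nat_lit 0x440c77614) (.leaf (nat_lit 0x440c76a64) (nat_lit 2305))
 (.leaf (nat_lit 0x440c77614) (nat_lit 3073))
) (.node (nat_lit 0x440c77a54) (.leaf (nat_lit 0x440c77624) (nat_lit 2563))
 (.node (nat_lit 0x440c77a64) (.leaf (nat_lit 0x440c77a54) (nat_lit 3587))
 (.leaf (nat_lit 0x440c77a64) (nat_lit 2049))
)))) (.node (nat_lit 0x441803364) (.node (nat_lit 0x441802b24) (.node (nat_lit 0x441802364) (.leaf (nat_lit 0x441802304) (nat_lit 1540))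
 (.leaf (nat_lit 0x441802364) (nat_lit 2308))
) (.node (nat_lit 0x441802b44) (.leaf (nat_lit 0x441802b24) (nat_lit 2308))
 (.node (nat_lit 0x441803304) (.leaf (nat_lit 0x441802b44) (nat_lit 3076))
 (.leaf (nat_lit 0x441803304) (nat_lit 1796))
))) (.node (nat_lit 0x441812304) (.node (nat_lit 0x441803b24) (.leaf (nat_lit 0x441803364) (nat_lit 2564))
 (.node (nat_lit 0x441803b44) (.leaf (nat_lit 0x441803b24) (nat_lit 2564))
 (.leaf (nat_lit 0x441803b44) (nat_lit 3332))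
)) (.node (nat_lit 0x441812364) (.leaf (nat_lit 0x441812304) (nat_lit 1796))
 (.node (nat_lit 0x441812b24) (.leaf (nat_lit 0x441812364) (nat_lit 2564))
 (.leaf (nat_lit 0x441812b24) (nat_lit 2564))
))))) (.node (nat_lit 0x441823774) (.node (nat_lit 0x441822714) (.node (nat_lit 0x441813364) (.node (nat_lit 0x441813304) (.leaf (nat_lit 0x441812b44) (nat_lit 3332))
 (.leaf (nat_lit 0x441813304) (nat_lit 2052))
) (.node (nat_lit 0x441813b24) (.leaf (nat_lit 0x441813364) (nat_lit 2820))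
 (.node (nat_lit 0x441813b44) (.leaf (nat_lit 0x441813b24) (nat_lit 2820))
 (.leaf (nat_lit 0x441813b44) (nat_lit 3331))
))) (.node (nat_lit 0x441822f34) (.node (nat_lit 0x441822774) (.leaf (nat_lit 0x441822714) (nat_lit 3073))
 (.leaf (nat_lit 0x441822774) (nat_lit 3075))
) (.node (nat_lit 0x441822f54) (.leaf (nat_lit 0x441822f34) (nat_lit 2561))
 (.node (nat_lit 0x441823714) (.leaf (nat_lit 0x441822f54) (nat_lit 3328))
 (.leaf (nat_lit 0x441823714) (nat_lit 3329))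
)))) (.node (nat_lit 0x441832f34) (.node (nat_lit 0x441823f54) (.node (nat_lit 0x441823f34) (.leaf (nat_lit 0x441823774) (nat_lit 2819))
 (.leaf (nat_lit 0x441823f34) (nat_lit 2817))
) (.node (nat_lit 0x441832714) (.leaf (nat_lit 0x441823f54) (nat_lit 3331))
 (.node (nat_lit 0x441832774) (.leaf (nat_lit 0x441832714) (nat_lit 2817))
 (.leaf (nat_lit 0x441832774) (nat_lit 3328))
))) (.node (nat_lit 0x441833774) (.node (nat_lit 0x441832f54) (.leaf (nat_lit 0x441832f34) (nat_lit 2305))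
 (.node (nat_lit 0x441833714) (.leaf (nat_lit 0x441832f54) (nat_lit 3075))
 (.leaf (nat_lit 0x441833714) (nat_lit 3073))
)) (.node (nat_lit 0x441833f34) (.leaf (nat_lit 0x441833774) (nat_lit 3072))
 (.node (nat_lit 0x441833f54) (.leaf (nat_lit 0x441833f34) (nat_lit 2561))
 (.leaf (nat_lit 0x441833f54) (nat_lit 3331))
)))))))))) (.node (nat_lit 0x451c6a314) (.node (nat_lit 0x450c1e204) (.node (nat_lit 0x441c67314) (.node (nat_lit 0x441c16f34) (.node (nat_lit 0x441863374) (.node (nat_lit 0x441852f24) (.node (nat_lit 0x441843764) (.node (nat_lit 0x441842f24) (.node (nat_lit 0x441842764) (.leaf (nat_lit 0x441842704) (nat_lit 2560))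
 (.leaf (nat_lit 0x441842764) (nat_lit 3072))
) (.node (nat_lit 0x441842f44) (.leaf (nat_lit 0x441842f24) (nat_lit 3072))
 (.node (nat_lit 0x441843704) (.leaf (nat_lit 0x441842f44) (nat_lit 2817))
 (.leaf (nat_lit 0x441843704) (nat_lit 2304))
))) (.node (nat_lit 0x441843f44) (.node (nat_lit 0x441843f24) (.leaf (nat_lit 0x441843764) (nat_lit 2816))
 (.leaf (nat_lit 0x441843f24) (nat_lit 2816))
) (.node (nat_lit 0x441852704) (.leaf (nat_lit 0x441843f44) (nat_lit 3073))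
 (.node (nat_lit 0x441852764) (.leaf (nat_lit 0x441852704) (nat_lit 2307))
 (.leaf (nat_lit 0x441852764) (nat_lit 2819))
)))) (.node (nat_lit 0x441853f44) (.node (nat_lit 0x441853704) (.node (nat_lit 0x441852f44) (.leaf (nat_lit 0x441852f24) (nat_lit 2819))
 (.leaf (nat_lit 0x441852f44) (nat_lit 3073))
) (.node (nat_lit 0x441853764) (.leaf (nat_lit 0x441853704) (nat_lit 2051))
 (.node (nat_lit 0x441853f24) (.leaf (nat_lit 0x441853764) (nat_lit 2563))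
 (.leaf (nat_lit 0x441853f24) (nat_lit 2563))
))) (.node (nat_lit 0x441862b34) (.node (nat_lit 0x441862314) (.leaf (nat_lit 0x441853f44) (nat_lit 3329))
 (.node (nat_lit 0x441862374) (.leaf (nat_lit 0x441862314) (nat_lit 3074))
 (.leaf (nat_lit 0x441862374) (nat_lit 2562))
)) (.node (nat_lit 0x441862b54) (.leaf (nat_lit 0x441862b34) (nat_lit 3075))
 (.node (nat_lit 0x441863314) (.leaf (nat_lit 0x441862b54) (nat_lit 3328))
 (.leaf (nat_lit 0x441863314) (nat_lit 3330))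
))))) (.node (nat_lit 0x441873b54) (.node (nat_lit 0x441872b34) (.node (nat_lit 0x441863b54) (.node (nat_lit 0x441863b34) (.leaf (nat_lit 0x441863374) (nat_lit 2818))
 (.leaf (nat_lit 0x441863b34) (nat_lit 2819))
) (.node (nat_lit 0x441872314) (.leaf (nat_lit 0x441863b54) (nat_lit 3331))
 (.node (nat_lit 0x441872374) (.leaf (nat_lit 0x441872314) (nat_lit 2818))
 (.leaf (nat_lit 0x441872374) (nat_lit 2306))
))) (.node (nat_lit 0x441873314) (.node (nat_lit 0x441872b54) (.leaf (nat_lit 0x441872b34) (nat_lit 3328))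
 (.leaf (nat_lit 0x441872b54) (nat_lit 3075))
) (.node (nat_lit 0x441873374) (.leaf (nat_lit 0x441873314) (nat_lit 3074))
 (.node (nat_lit 0x441873b34) (.leaf (nat_lit 0x441873374) (nat_lit 2562))
 (.leaf (nat_lit 0x441873b34) (nat_lit 3072))
)))) (.node (nat_lit 0x441c07304) (.node (nat_lit 0x441c06374) (.node (nat_lit 0x441c06304) (.leaf (nat_lit 0x441873b54) (nat_lit 3331))
 (.leaf (nat_lit 0x441c06304) (nat_lit 1539))
) (.node (nat_lit 0x441c06f34) (.leaf (nat_lit 0x441c06374) (nat_lit 2564))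
 (.node (nat_lit 0x441c06f44) (.leaf (nat_lit 0x441c06f34) (nat_lit 2564))
 (.leaf (nat_lit 0x441c06f44) (nat_lit 3332))
))) (.node (nat_lit 0x441c07f44) (.node (nat_lit 0x441c07374) (.leaf (nat_lit 0x441c07304) (nat_lit 1795))
 (.node (nat_lit 0x441c07f34) (.leaf (nat_lit 0x441c07374) (nat_lit 2820))
 (.leaf (nat_lit 0x441c07f34) (nat_lit 2820))
)) (.node (nat_lit 0x441c16304) (.leaf (nat_lit 0x441c07f44) (nat_lit 3328))
 (.node (nat_lit 0x441c16374) (.leaf (nat_lit 0x441c16304) (nat_lit 1792))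
 (.leaf (nat_lit 0x441c16374) (nat_lit 2820))
)))))) (.node (nat_lit 0x441c37b54) (.node (nat_lit 0x441c27714) (.node (nat_lit 0x441c17f44) (.node (nat_lit 0x441c17304) (.node (nat_lit 0x441c16f44) (.leaf (nat_lit 0x441c16f34) (nat_lit 2820))
 (.leaf (nat_lit 0x441c16f44) (nat_lit 3331))
) (.node (nat_lit 0x441c17374) (.leaf (nat_lit 0x441c17304) (nat_lit 2048))
 (.node (nat_lit 0x441c17f34) (.leaf (nat_lit 0x441c17374) (nat_lit 3076))
 (.leaf (nat_lit 0x441c17f34) (nat_lit 3076))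
))) (.node (nat_lit 0x441c26764) (.node (nat_lit 0x441c26714) (.leaf (nat_lit 0x441c17f44) (nat_lit 3075))
 (.leaf (nat_lit 0x441c26714) (nat_lit 2817))
) (.node (nat_lit 0x441c26b24) (.leaf (nat_lit 0x441c26764) (nat_lit 3072))
 (.node (nat_lit 0x441c26b54) (.leaf (nat_lit 0x441c26b24) (nat_lit 2049))
 (.leaf (nat_lit 0x441c26b54) (nat_lit 3074))
)))) (.node (nat_lit 0x441c36764) (.node (nat_lit 0x441c27b24) (.node (nat_lit 0x441c27764) (.leaf (nat_lit 0x441c27714) (nat_lit 3073))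
 (.leaf (nat_lit 0x441c27764) (nat_lit 2816))
) (.node (nat_lit 0x441c27b54) (.leaf (nat_lit 0x441c27b24) (nat_lit 2305))
 (.node (nat_lit 0x441c36714) (.leaf (nat_lit 0x441c27b54) (nat_lit 3330))
 (.leaf (nat_lit 0x441c36714) (nat_lit 3073))
))) (.node (nat_lit 0x441c37714) (.node (nat_lit 0x441c36b24) (.leaf (nat_lit 0x441c36764) (nat_lit 2819))
 (.node (nat_lit 0x441c36b54) (.leaf (nat_lit 0x441c36b24) (nat_lit 2305))
 (.leaf (nat_lit 0x441c36b54) (nat_lit 3330))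
)) (.node (nat_lit 0x441c37764) (.leaf (nat_lit 0x441c37714) (nat_lit 3329))
 (.node (nat_lit 0x441c37b24) (.leaf (nat_lit 0x441c37764) (nat_lit 2563))
 (.leaf (nat_lit 0x441c37b24) (nat_lit 2561))
))))) (.node (nat_lit 0x441c56774) (.node (nat_lit 0x441c47704) (.node (nat_lit 0x441c46774) (.node (nat_lit 0x441c46704) (.leaf (nat_lit 0x441c37b54) (nat_lit 3331))
 (.leaf (nat_lit 0x441c46704) (nat_lit 2304))
) (.node (nat_lit 0x441c46b34) (.leaf (nat_lit 0x441c46774) (nat_lit 3328))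
 (.node (nat_lit 0x441c46b44) (.leaf (nat_lit 0x441c46b34) (nat_lit 3328))
 (.leaf (nat_lit 0x441c46b44) (nat_lit 2561))
))) (.node (nat_lit 0x441c47b34) (.node (nat_lit 0x441c47774) (.leaf (nat_lit 0x441c47704) (nat_lit 2048))
 (.leaf (nat_lit 0x441c47774) (nat_lit 3072))
) (.node (nat_lit 0x441c47b44) (.leaf (nat_lit 0x441c47b34) (nat_lit 3072))
 (.node (nat_lit 0x441c56704) (.leaf (nat_lit 0x441c47b44) (nat_lit 2817))
 (.leaf (nat_lit 0x441c56704) (nat_lit 2051))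
)))) (.node (nat_lit 0x441c57b34) (.node (nat_lit 0x441c56b44) (.node (nat_lit 0x441c56b34) (.leaf (nat_lit 0x441c56774) (nat_lit 3075))
 (.leaf (nat_lit 0x441c56b34) (nat_lit 3075))
) (.node (nat_lit 0x441c57704) (.leaf (nat_lit 0x441c56b44) (nat_lit 2817))
 (.node (nat_lit 0x441c57774) (.leaf (nat_lit 0x441c57704) (nat_lit 1795))
 (.leaf (nat_lit 0x441c57774) (nat_lit 2819))
))) (.node (nat_lit 0x441c66364) (.node (nat_lit 0x441c57b44) (.leaf (nat_lit 0x441c57b34) (nat_lit 2819))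
 (.node (nat_lit 0x441c66314) (.leaf (nat_lit 0x441c57b44) (nat_lit 3073))
 (.leaf (nat_lit 0x441c66314) (nat_lit 2818))
)) (.node (nat_lit 0x441c66f24) (.leaf (nat_lit 0x441c66364) (nat_lit 2050))
 (.node (nat_lit 0x441c66f54) (.leaf (nat_lit 0x441c66f24) (nat_lit 3072))
 (.leaf (nat_lit 0x441c66f54) (nat_lit 3076))
))))))) (.node (nat_lit 0x45083be44) (.node (nat_lit 0x45081a224) (.node (nat_lit 0x441c77f24) (.node (nat_lit 0x441c76364) (.node (nat_lit 0x441c67f24) (.node (nat_lit 0x441c67364) (.leaf (nat_lit 0x441c67314) (nat_lit 3074))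
 (.leaf (nat_lit 0x441c67364) (nat_lit 2306))
) (.node (nat_lit 0x441c67f54) (.leaf (nat_lit 0x441c67f24) (nat_lit 2816))
 (.node (nat_lit 0x441c76314) (.leaf (nat_lit 0x441c67f54) (nat_lit 3332))
 (.leaf (nat_lit 0x441c76314) (nat_lit 3074))
))) (.node (nat_lit 0x441c76f54) (.node (nat_lit 0x441c76f24) (.leaf (nat_lit 0x441c76364) (nat_lit 2306))
 (.leaf (nat_lit 0x441c76f24) (nat_lit 2819))
) (.node (nat_lit 0x441c77314) (.leaf (nat_lit 0x441c76f54) (nat_lit 3332))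
 (.node (nat_lit 0x441c77364) (.leaf (nat_lit 0x441c77314) (nat_lit 3330))
 (.leaf (nat_lit 0x441c77364) (nat_lit 2562))
)))) (.node (nat_lit 0x45080aa74) (.node (nat_lit 0x45080a204) (.node (nat_lit 0x441c77f54) (.leaf (nat_lit 0x441c77f24) (nat_lit 2563))
 (.leaf (nat_lit 0x441c77f54) (nat_lit 3588))
) (.node (nat_lit 0x45080a224) (.leaf (nat_lit 0x45080a204) (nat_lit 1283))
 (.node (nat_lit 0x45080aa54) (.leaf (nat_lit 0x45080a224) (nat_lit 2307))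
 (.leaf (nat_lit 0x45080aa54) (nat_lit 3329))
))) (.node (nat_lit 0x45080be54) (.node (nat_lit 0x45080b604) (.leaf (nat_lit 0x45080aa74) (nat_lit 2819))
 (.node (nat_lit 0x45080b624) (.leaf (nat_lit 0x45080b604) (nat_lit 2051))
 (.leaf (nat_lit 0x45080b624) (nat_lit 3075))
)) (.node (nat_lit 0x45080be74) (.leaf (nat_lit 0x45080be54) (nat_lit 3329))
 (.node (nat_lit 0x45081a204) (.leaf (nat_lit 0x45080be74) (nat_lit 2051))
 (.leaf (nat_lit 0x45081a204) (nat_lit 1536))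
))))) (.node (nat_lit 0x45082aa64) (.node (nat_lit 0x45081be54) (.node (nat_lit 0x45081aa74) (.node (nat_lit 0x45081aa54) (.leaf (nat_lit 0x45081a224) (nat_lit 2560))
 (.leaf (nat_lit 0x45081aa54) (nat_lit 3073))
) (.node (nat_lit 0x45081b604) (.leaf (nat_lit 0x45081aa74) (nat_lit 3072))
 (.node (nat_lit 0x45081b624) (.leaf (nat_lit 0x45081b604) (nat_lit 2304))
 (.leaf (nat_lit 0x45081b624) (nat_lit 3328))
))) (.node (nat_lit 0x45082a214) (.node (nat_lit 0x45081be74) (.leaf (nat_lit 0x45081be54) (nat_lit 3588))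
 (.leaf (nat_lit 0x45081be74) (nat_lit 2304))
) (.node (nat_lit 0x45082a234) (.leaf (nat_lit 0x45082a214) (nat_lit 3074))
 (.node (nat_lit 0x45082aa44) (.leaf (nat_lit 0x45082a234) (nat_lit 2304))
 (.leaf (nat_lit 0x45082aa44) (nat_lit 3330))
)))) (.node (nat_lit 0x45083a214) (.node (nat_lit 0x45082b634) (.node (nat_lit 0x45082b614) (.leaf (nat_lit 0x45082aa64) (nat_lit 2305))
 (.leaf (nat_lit 0x45082b614) (nat_lit 2817))
) (.node (nat_lit 0x45082be44) (.leaf (nat_lit 0x45082b634) (nat_lit 3332))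
 (.node (nat_lit 0x45082be64) (.leaf (nat_lit 0x45082be44) (nat_lit 3072))
 (.leaf (nat_lit 0x45082be64) (nat_lit 2819))
))) (.node (nat_lit 0x45083aa64) (.node (nat_lit 0x45083a234) (.leaf (nat_lit 0x45083a214) (nat_lit 2818))
 (.node (nat_lit 0x45083aa44) (.leaf (nat_lit 0x45083a234) (nat_lit 2051))
 (.leaf (nat_lit 0x45083aa44) (nat_lit 3332))
)) (.node (nat_lit 0x45083b614) (.leaf (nat_lit 0x45083aa64) (nat_lit 2561))
 (.node (nat_lit 0x45083b634) (.leaf (nat_lit 0x45083b614) (nat_lit 3073))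
 (.leaf (nat_lit 0x45083b634) (nat_lit 3076))
)))))) (.node (nat_lit 0x45086ae64) (.node (nat_lit 0x45085a604) (.node (nat_lit 0x45084ae74) (.node (nat_lit 0x45084a604) (.node (nat_lit 0x45083be64) (.leaf (nat_lit 0x45083be44) (nat_lit 2819))
 (.leaf (nat_lit 0x45083be64) (nat_lit 3072))
) (.node (nat_lit 0x45084a624) (.leaf (nat_lit 0x45084a604) (nat_lit 2307))
 (.node (nat_lit 0x45084ae54) (.leaf (nat_lit 0x45084a624) (nat_lit 3331))
 (.leaf (nat_lit 0x45084ae54) (nat_lit 3585))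
))) (.node (nat_lit 0x45084b224) (.node (nat_lit 0x45084b204) (.leaf (nat_lit 0x45084ae74) (nat_lit 2307))
 (.leaf (nat_lit 0x45084b204) (nat_lit 1539))
) (.node (nat_lit 0x45084ba54) (.leaf (nat_lit 0x45084b224) (nat_lit 2563))
 (.node (nat_lit 0x45084ba74) (.leaf (nat_lit 0x45084ba54) (nat_lit 3073))
 (.leaf (nat_lit 0x45084ba74) (nat_lit 3075))
)))) (.node (nat_lit 0x45085b224) (.node (nat_lit 0x45085ae54) (.node (nat_lit 0x45085a624) (.leaf (nat_lit 0x45085a604) (nat_lit 2560))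
 (.leaf (nat_lit 0x45085a624) (nat_lit 3584))
) (.node (nat_lit 0x45085ae74) (.leaf (nat_lit 0x45085ae54) (nat_lit 3332))
 (.node (nat_lit 0x45085b204) (.leaf (nat_lit 0x45085ae74) (nat_lit 2560))
 (.leaf (nat_lit 0x45085b204) (nat_lit 1792))
))) (.node (nat_lit 0x45086a614) (.node (nat_lit 0x45085ba54) (.leaf (nat_lit 0x45085b224) (nat_lit 2816))
 (.node (nat_lit 0x45085ba74) (.leaf (nat_lit 0x45085ba54) (nat_lit 2817))
 (.leaf (nat_lit 0x45085ba74) (nat_lit 3328))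
)) (.node (nat_lit 0x45086a634) (.leaf (nat_lit 0x45086a614) (nat_lit 2561))
 (.node (nat_lit 0x45086ae44) (.leaf (nat_lit 0x45086a634) (nat_lit 3588))
 (.leaf (nat_lit 0x45086ae44) (nat_lit 3328))
))))) (.node (nat_lit 0x45087b234) (.node (nat_lit 0x45087a614) (.node (nat_lit 0x45086b234) (.node (nat_lit 0x45086b214) (.leaf (nat_lit 0x45086ae64) (nat_lit 2563))
 (.leaf (nat_lit 0x45086b214) (nat_lit 3330))
) (.node (nat_lit 0x45086ba44) (.leaf (nat_lit 0x45086b234) (nat_lit 2560))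
 (.node (nat_lit 0x45086ba64) (.leaf (nat_lit 0x45086ba44) (nat_lit 3074))
 (.leaf (nat_lit 0x45086ba64) (nat_lit 2049))
))) (.node (nat_lit 0x45087ae44) (.node (nat_lit 0x45087a634) (.leaf (nat_lit 0x45087a614) (nat_lit 2817))
 (.leaf (nat_lit 0x45087a634) (nat_lit 3332))
) (.node (nat_lit 0x45087ae64) (.leaf (nat_lit 0x45087ae44) (nat_lit 3075))
 (.node (nat_lit 0x45087b214) (.leaf (nat_lit 0x45087ae64) (nat_lit 2816))
 (.leaf (nat_lit 0x45087b214) (nat_lit 3074))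
)))) (.node (nat_lit 0x450c0ee54) (.node (nat_lit 0x45087ba64) (.node (nat_lit 0x45087ba44) (.leaf (nat_lit 0x45087b234) (nat_lit 2307))
 (.leaf (nat_lit 0x45087ba44) (nat_lit 3330))
) (.node (nat_lit 0x450c0e204) (.leaf (nat_lit 0x45087ba64) (nat_lit 2305))
 (.node (nat_lit 0x450c0e234) (.leaf (nat_lit 0x450c0e204) (nat_lit 1027))
 (.leaf (nat_lit 0x450c0e234) (nat_lit 2563))
))) (.node (nat_lit 0x450c0f634) (.node (nat_lit 0x450c0ee64) (.leaf (nat_lit 0x450c0ee54) (nat_lit 3073))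
 (.node (nat_lit 0x450c0f604) (.leaf (nat_lit 0x450c0ee64) (nat_lit 2563))
 (.leaf (nat_lit 0x450c0f604) (nat_lit 1795))
)) (.node (nat_lit 0x450c0fa54) (.leaf (nat_lit 0x450c0f634) (nat_lit 3331))
 (.node (nat_lit 0x450c0fa64) (.leaf (nat_lit 0x450c0fa54) (nat_lit 3331))
 (.leaf (nat_lit 0x450c0fa64) (nat_lit 1795))
)))))))) (.node (nat_lit 0x45183f314) (.node (nat_lit 0x450c6ea44) (.node (nat_lit 0x450c3f624) (.node (nat_lit 0x450c2ee44) (.node (nat_lit 0x450c1f634) (.node (nat_lit 0x450c1ee54) (.node (nat_lit 0x450c1e234) (.leaf (nat_lit 0x450c1e204) (nat_lit 1280))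
 (.leaf (nat_lit 0x450c1e234) (nat_lit 2816))
) (.node (nat_lit 0x450c1ee64) (.leaf (nat_lit 0x450c1ee54) (nat_lit 2817))
 (.node (nat_lit 0x450c1f604) (.leaf (nat_lit 0x450c1ee64) (nat_lit 2816))
 (.leaf (nat_lit 0x450c1f604) (nat_lit 2048))
))) (.node (nat_lit 0x450c1fa64) (.node (nat_lit 0x450c1fa54) (.leaf (nat_lit 0x450c1f634) (nat_lit 3585))
 (.leaf (nat_lit 0x450c1fa54) (nat_lit 3584))
) (.node (nat_lit 0x450c2e214) (.leaf (nat_lit 0x450c1fa64) (nat_lit 2048))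
 (.node (nat_lit 0x450c2e224) (.leaf (nat_lit 0x450c2e214) (nat_lit 3074))
 (.leaf (nat_lit 0x450c2e224) (nat_lit 1795))
)))) (.node (nat_lit 0x450c2fa74) (.node (nat_lit 0x450c2f614) (.node (nat_lit 0x450c2ee74) (.leaf (nat_lit 0x450c2ee44) (nat_lit 3076))
 (.leaf (nat_lit 0x450c2ee74) (nat_lit 2561))
) (.node (nat_lit 0x450c2f624) (.leaf (nat_lit 0x450c2f614) (nat_lit 2817))
 (.node (nat_lit 0x450c2fa44) (.leaf (nat_lit 0x450c2f624) (nat_lit 2820))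
 (.leaf (nat_lit 0x450c2fa44) (nat_lit 2563))
))) (.node (nat_lit 0x450c3ee44) (.node (nat_lit 0x450c3e214) (.leaf (nat_lit 0x450c2fa74) (nat_lit 3328))
 (.node (nat_lit 0x450c3e224) (.leaf (nat_lit 0x450c3e214) (nat_lit 3330))
 (.leaf (nat_lit 0x450c3e224) (nat_lit 2048))
)) (.node (nat_lit 0x450c3ee74) (.leaf (nat_lit 0x450c3ee44) (nat_lit 3332))
 (.node (nat_lit 0x450c3f614) (.leaf (nat_lit 0x450c3ee74) (nat_lit 2305))
 (.leaf (nat_lit 0x450c3f614) (nat_lit 2561))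
))))) (.node (nat_lit 0x450c4fe64) (.node (nat_lit 0x450c4ea54) (.node (nat_lit 0x450c3fa74) (.node (nat_lit 0x450c3fa44) (.leaf (nat_lit 0x450c3f624) (nat_lit 3076))
 (.leaf (nat_lit 0x450c3fa44) (nat_lit 2816))
) (.node (nat_lit 0x450c4e604) (.leaf (nat_lit 0x450c3fa74) (nat_lit 3075))
 (.node (nat_lit 0x450c4e634) (.leaf (nat_lit 0x450c4e604) (nat_lit 2051))
 (.leaf (nat_lit 0x450c4e634) (nat_lit 3587))
))) (.node (nat_lit 0x450c4f204) (.node (nat_lit 0x450c4ea64) (.leaf (nat_lit 0x450c4ea54) (nat_lit 3587))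
 (.leaf (nat_lit 0x450c4ea64) (nat_lit 2051))
) (.node (nat_lit 0x450c4f234) (.leaf (nat_lit 0x450c4f204) (nat_lit 1283))
 (.node (nat_lit 0x450c4fe54) (.leaf (nat_lit 0x450c4f234) (nat_lit 2819))
 (.leaf (nat_lit 0x450c4fe54) (nat_lit 2817))
)))) (.node (nat_lit 0x450c5f204) (.node (nat_lit 0x450c5e634) (.node (nat_lit 0x450c5e604) (.leaf (nat_lit 0x450c4fe64) (nat_lit 2819))
 (.leaf (nat_lit 0x450c5e604) (nat_lit 2304))
) (.node (nat_lit 0x450c5ea54) (.leaf (nat_lit 0x450c5e634) (nat_lit 3329))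
 (.node (nat_lit 0x450c5ea64) (.leaf (nat_lit 0x450c5ea54) (nat_lit 3588))
 (.leaf (nat_lit 0x450c5ea64) (nat_lit 2304))
))) (.node (nat_lit 0x450c5fe64) (.node (nat_lit 0x450c5f234) (.leaf (nat_lit 0x450c5f204) (nat_lit 1536))
 (.node (nat_lit 0x450c5fe54) (.leaf (nat_lit 0x450c5f234) (nat_lit 3072))
 (.leaf (nat_lit 0x450c5fe54) (nat_lit 2561))
)) (.node (nat_lit 0x450c6e614) (.leaf (nat_lit 0x450c5fe64) (nat_lit 3072))
 (.node (nat_lit 0x450c6e624) (.leaf (nat_lit 0x450c6e614) (nat_lit 2561))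
 (.leaf (nat_lit 0x450c6e624) (nat_lit 3076))
)))))) (.node (nat_lit 0x45180fb54) (.node (nat_lit 0x450c7f214) (.node (nat_lit 0x450c6fe74) (.node (nat_lit 0x450c6f214) (.node (nat_lit 0x450c6ea74) (.leaf (nat_lit 0x450c6ea44) (nat_lit 2819))
 (.leaf (nat_lit 0x450c6ea74) (nat_lit 3072))
) (.node (nat_lit 0x450c6f224) (.leaf (nat_lit 0x450c6f214) (nat_lit 3330))
 (.node (nat_lit 0x450c6fe44) (.leaf (nat_lit 0x450c6f224) (nat_lit 2051))
 (.leaf (nat_lit 0x450c6fe44) (nat_lit 3332))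
))) (.node (nat_lit 0x450c7e624) (.node (nat_lit 0x450c7e614) (.leaf (nat_lit 0x450c6fe74) (nat_lit 2305))
 (.leaf (nat_lit 0x450c7e614) (nat_lit 2305))
) (.node (nat_lit 0x450c7ea44) (.leaf (nat_lit 0x450c7e624) (nat_lit 3332))
 (.node (nat_lit 0x450c7ea74) (.leaf (nat_lit 0x450c7ea44) (nat_lit 3072))
 (.leaf (nat_lit 0x450c7ea74) (nat_lit 2819))
)))) (.node (nat_lit 0x45180e364) (.node (nat_lit 0x450c7fe44) (.node (nat_lit 0x450c7f224) (.leaf (nat_lit 0x450c7f214) (nat_lit 3331))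
 (.leaf (nat_lit 0x450c7f224) (nat_lit 2304))
) (.node (nat_lit 0x450c7fe74) (.leaf (nat_lit 0x450c7fe44) (nat_lit 3330))
 (.node (nat_lit 0x45180e304) (.leaf (nat_lit 0x450c7fe74) (nat_lit 2049))
 (.leaf (nat_lit 0x45180e304) (nat_lit 1283))
))) (.node (nat_lit 0x45180f704) (.node (nat_lit 0x45180ef34) (.leaf (nat_lit 0x45180e364) (nat_lit 2051))
 (.node (nat_lit 0x45180ef54) (.leaf (nat_lit 0x45180ef34) (nat_lit 2307))
 (.leaf (nat_lit 0x45180ef54) (nat_lit 3075))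
)) (.node (nat_lit 0x45180f764) (.leaf (nat_lit 0x45180f704) (nat_lit 2051))
 (.node (nat_lit 0x45180fb34) (.leaf (nat_lit 0x45180f764) (nat_lit 2819))
 (.leaf (nat_lit 0x45180fb34) (nat_lit 3075))
))))) (.node (nat_lit 0x45182e774) (.node (nat_lit 0x45181f704) (.node (nat_lit 0x45181e364) (.node (nat_lit 0x45181e304) (.leaf (nat_lit 0x45180fb54) (nat_lit 3330))
 (.leaf (nat_lit 0x45181e304) (nat_lit 1536))
) (.node (nat_lit 0x45181ef34) (.leaf (nat_lit 0x45181e364) (nat_lit 2304))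
 (.node (nat_lit 0x45181ef54) (.leaf (nat_lit 0x45181ef34) (nat_lit 2560))
 (.leaf (nat_lit 0x45181ef54) (nat_lit 3328))
))) (.node (nat_lit 0x45181fb34) (.node (nat_lit 0x45181f764) (.leaf (nat_lit 0x45181f704) (nat_lit 2304))
 (.leaf (nat_lit 0x45181f764) (nat_lit 3072))
) (.node (nat_lit 0x45181fb54) (.leaf (nat_lit 0x45181fb34) (nat_lit 3328))
 (.node (nat_lit 0x45182e714) (.leaf (nat_lit 0x45181fb54) (nat_lit 3074))
 (.leaf (nat_lit 0x45182e714) (nat_lit 2817))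
)))) (.node (nat_lit 0x45182ff24) (.node (nat_lit 0x45182eb44) (.node (nat_lit 0x45182eb24) (.leaf (nat_lit 0x45182e774) (nat_lit 3588))
 (.leaf (nat_lit 0x45182eb24) (nat_lit 2051))
) (.node (nat_lit 0x45182f314) (.leaf (nat_lit 0x45182eb44) (nat_lit 2819))
 (.node (nat_lit 0x45182f374) (.leaf (nat_lit 0x45182f314) (nat_lit 3074))
 (.leaf (nat_lit 0x45182f374) (nat_lit 2816))
))) (.node (nat_lit 0x45183e774) (.node (nat_lit 0x45182ff44) (.leaf (nat_lit 0x45182ff24) (nat_lit 2819))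
 (.node (nat_lit 0x45183e714) (.leaf (nat_lit 0x45182ff44) (nat_lit 3330))
 (.leaf (nat_lit 0x45183e714) (nat_lit 3073))
)) (.node (nat_lit 0x45183eb24) (.leaf (nat_lit 0x45183e774) (nat_lit 3332))
 (.node (nat_lit 0x45183eb44) (.leaf (nat_lit 0x45183eb24) (nat_lit 2304))
 (.leaf (nat_lit 0x45183eb44) (nat_lit 3072))
))))))) (.node (nat_lit 0x451c0bf24) (.node (nat_lit 0x45186e374) (.node (nat_lit 0x45184ff34) (.node (nat_lit 0x45184e764) (.node (nat_lit 0x45183ff24) (.node (nat_lit 0x45183f374) (.leaf (nat_lit 0x45183f314) (nat_lit 2818))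
 (.leaf (nat_lit 0x45183f374) (nat_lit 2563))
) (.node (nat_lit 0x45183ff44) (.leaf (nat_lit 0x45183ff24) (nat_lit 3072))
 (.node (nat_lit 0x45184e704) (.leaf (nat_lit 0x45183ff44) (nat_lit 3332))
 (.leaf (nat_lit 0x45184e704) (nat_lit 2307))
))) (.node (nat_lit 0x45184eb54) (.node (nat_lit 0x45184eb34) (.leaf (nat_lit 0x45184e764) (nat_lit 3075))
 (.leaf (nat_lit 0x45184eb34) (nat_lit 3331))
) (.node (nat_lit 0x45184f304) (.leaf (nat_lit 0x45184eb54) (nat_lit 3074))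
 (.node (nat_lit 0x45184f364) (.leaf (nat_lit 0x45184f304) (nat_lit 1539))
 (.leaf (nat_lit 0x45184f364) (nat_lit 2307))
)))) (.node (nat_lit 0x45185eb54) (.node (nat_lit 0x45185e704) (.node (nat_lit 0x45184ff54) (.leaf (nat_lit 0x45184ff34) (nat_lit 2563))
 (.leaf (nat_lit 0x45184ff54) (nat_lit 3331))
) (.node (nat_lit 0x45185e764) (.leaf (nat_lit 0x45185e704) (nat_lit 2560))
 (.node (nat_lit 0x45185eb34) (.leaf (nat_lit 0x45185e764) (nat_lit 3328))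
 (.leaf (nat_lit 0x45185eb34) (nat_lit 3584))
))) (.node (nat_lit 0x45185ff34) (.node (nat_lit 0x45185f304) (.leaf (nat_lit 0x45185eb54) (nat_lit 2818))
 (.node (nat_lit 0x45185f364) (.leaf (nat_lit 0x45185f304) (nat_lit 1792))
 (.leaf (nat_lit 0x45185f364) (nat_lit 2560))
)) (.node (nat_lit 0x45185ff54) (.leaf (nat_lit 0x45185ff34) (nat_lit 2816))
 (.node (nat_lit 0x45186e314) (.leaf (nat_lit 0x45185ff54) (nat_lit 3584))
 (.leaf (nat_lit 0x45186e314) (nat_lit 2818))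
))))) (.node (nat_lit 0x45187ef44) (.node (nat_lit 0x45186fb24) (.node (nat_lit 0x45186ef44) (.node (nat_lit 0x45186ef24) (.leaf (nat_lit 0x45186e374) (nat_lit 2560))
 (.leaf (nat_lit 0x45186ef24) (nat_lit 3075))
) (.node (nat_lit 0x45186f714) (.leaf (nat_lit 0x45186ef44) (nat_lit 3332))
 (.node (nat_lit 0x45186f774) (.leaf (nat_lit 0x45186f714) (nat_lit 3073))
 (.leaf (nat_lit 0x45186f774) (nat_lit 3332))
))) (.node (nat_lit 0x45187e314) (.node (nat_lit 0x45186fb44) (.leaf (nat_lit 0x45186fb24) (nat_lit 2307))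
 (.leaf (nat_lit 0x45186fb44) (nat_lit 3075))
) (.node (nat_lit 0x45187e374) (.leaf (nat_lit 0x45187e314) (nat_lit 2562))
 (.node (nat_lit 0x45187ef24) (.leaf (nat_lit 0x45187e374) (nat_lit 2307))
 (.leaf (nat_lit 0x45187ef24) (nat_lit 3328))
)))) (.node (nat_lit 0x451c0a304) (.node (nat_lit 0x45187f774) (.node (nat_lit 0x45187f714) (.leaf (nat_lit 0x45187ef44) (nat_lit 3076))
 (.leaf (nat_lit 0x45187f714) (nat_lit 3329))
) (.node (nat_lit 0x45187fb24) (.leaf (nat_lit 0x45187f774) (nat_lit 3076))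
 (.node (nat_lit 0x45187fb44) (.leaf (nat_lit 0x45187fb24) (nat_lit 2560))
 (.leaf (nat_lit 0x45187fb44) (nat_lit 3328))
))) (.node (nat_lit 0x451c0ab54) (.node (nat_lit 0x451c0a374) (.leaf (nat_lit 0x451c0a304) (nat_lit 1283))
 (.node (nat_lit 0x451c0ab24) (.leaf (nat_lit 0x451c0a374) (nat_lit 2307))
 (.leaf (nat_lit 0x451c0ab24) (nat_lit 2051))
)) (.node (nat_lit 0x451c0b704) (.leaf (nat_lit 0x451c0ab54) (nat_lit 3331))
 (.node (nat_lit 0x451c0b774) (.leaf (nat_lit 0x451c0b704) (nat_lit 2052))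
 (.leaf (nat_lit 0x451c0b774) (nat_lit 3075))
)))))) (.node (nat_lit 0x451c3af44) (.node (nat_lit 0x451c2a714) (.node (nat_lit 0x451c1ab54) (.node (nat_lit 0x451c1a304) (.node (nat_lit 0x451c0bf54) (.leaf (nat_lit 0x451c0bf24) (nat_lit 2819))
 (.leaf (nat_lit 0x451c0bf54) (nat_lit 3329))
) (.node (nat_lit 0x451c1a374) (.leaf (nat_lit 0x451c1a304) (nat_lit 1536))
 (.node (nat_lit 0x451c1ab24) (.leaf (nat_lit 0x451c1a374) (nat_lit 2560))
 (.leaf (nat_lit 0x451c1ab24) (nat_lit 2304))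
))) (.node (nat_lit 0x451c1b774) (.node (nat_lit 0x451c1b704) (.leaf (nat_lit 0x451c1ab54) (nat_lit 3585))
 (.leaf (nat_lit 0x451c1b704) (nat_lit 2308))
) (.node (nat_lit 0x451c1bf24) (.leaf (nat_lit 0x451c1b774) (nat_lit 3328))
 (.node (nat_lit 0x451c1bf54) (.leaf (nat_lit 0x451c1bf24) (nat_lit 3072))
 (.leaf (nat_lit 0x451c1bf54) (nat_lit 3073))
)))) (.node (nat_lit 0x451c2b364) (.node (nat_lit 0x451c2af34) (.node (nat_lit 0x451c2a764) (.leaf (nat_lit 0x451c2a714) (nat_lit 2817))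
 (.leaf (nat_lit 0x451c2a764) (nat_lit 3076))
) (.node (nat_lit 0x451c2af44) (.leaf (nat_lit 0x451c2af34) (nat_lit 2560))
 (.node (nat_lit 0x451c2b314) (.leaf (nat_lit 0x451c2af44) (nat_lit 3328))
 (.leaf (nat_lit 0x451c2b314) (nat_lit 3074))
))) (.node (nat_lit 0x451c3a714) (.node (nat_lit 0x451c2bb34) (.leaf (nat_lit 0x451c2b364) (nat_lit 2307))
 (.node (nat_lit 0x451c2bb44) (.leaf (nat_lit 0x451c2bb34) (nat_lit 3328))
 (.leaf (nat_lit 0x451c2bb44) (nat_lit 3076))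
)) (.node (nat_lit 0x451c3a764) (.leaf (nat_lit 0x451c3a714) (nat_lit 2561))
 (.node (nat_lit 0x451c3af34) (.leaf (nat_lit 0x451c3a764) (nat_lit 3332))
 (.leaf (nat_lit 0x451c3af34) (nat_lit 2307))
))))) (.node (nat_lit 0x451c4b374) (.node (nat_lit 0x451c4a704) (.node (nat_lit 0x451c3b364) (.node (nat_lit 0x451c3b314) (.leaf (nat_lit 0x451c3af44) (nat_lit 3075))
 (.leaf (nat_lit 0x451c3b314) (nat_lit 3330))
) (.node (nat_lit 0x451c3bb34) (.leaf (nat_lit 0x451c3b364) (nat_lit 2560))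
 (.node (nat_lit 0x451c3bb44) (.leaf (nat_lit 0x451c3bb34) (nat_lit 3075))
 (.leaf (nat_lit 0x451c3bb44) (nat_lit 3332))
))) (.node (nat_lit 0x451c4af24) (.node (nat_lit 0x451c4a774) (.leaf (nat_lit 0x451c4a704) (nat_lit 2308))
 (.leaf (nat_lit 0x451c4a774) (nat_lit 3331))
) (.node (nat_lit 0x451c4af54) (.leaf (nat_lit 0x451c4af24) (nat_lit 3075))
 (.node (nat_lit 0x451c4b304) (.leaf (nat_lit 0x451c4af54) (nat_lit 3073))
 (.leaf (nat_lit 0x451c4b304) (nat_lit 1539))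
)))) (.node (nat_lit 0x451c5af24) (.node (nat_lit 0x451c4bb54) (.node (nat_lit 0x451c4bb24) (.leaf (nat_lit 0x451c4b374) (nat_lit 2563))
 (.leaf (nat_lit 0x451c4bb24) (nat_lit 2307))
) (.node (nat_lit 0x451c5a704) (.leaf (nat_lit 0x451c4bb54) (nat_lit 3587))
 (.node (nat_lit 0x451c5a774) (.leaf (nat_lit 0x451c5a704) (nat_lit 2564))
 (.leaf (nat_lit 0x451c5a774) (nat_lit 3329))
))) (.node (nat_lit 0x451c5b374) (.node (nat_lit 0x451c5af54) (.leaf (nat_lit 0x451c5af24) (nat_lit 3328))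
 (.node (nat_lit 0x451c5b304) (.leaf (nat_lit 0x451c5af54) (nat_lit 2817))
 (.leaf (nat_lit 0x451c5b304) (nat_lit 1792))
)) (.node (nat_lit 0x451c5bb24) (.leaf (nat_lit 0x451c5b374) (nat_lit 2816))
 (.node (nat_lit 0x451c5bb54) (.leaf (nat_lit 0x451c5bb24) (nat_lit 2560))
 (.leaf (nat_lit 0x451c5bb54) (nat_lit 3329))
))))))))) (.node (nat_lit 0x46103251c) (.node (nat_lit 0x460c0f65c) (.node (nat_lit 0x460832a5c) (.node (nat_lit 0x46080326c) (.node (nat_lit 0x451c7ab34) (.node (nat_lit 0x451c6b764) (.node (nat_lit 0x451c6ab34) (.node (nat_lit 0x451c6a364) (.leaf (nat_lit 0x451c6a314) (nat_lit 2818))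
 (.leaf (nat_lit 0x451c6a364) (nat_lit 2051))
) (.node (nat_lit 0x451c6ab44) (.leaf (nat_lit 0x451c6ab34) (nat_lit 3584))
 (.node (nat_lit 0x451c6b714) (.leaf (nat_lit 0x451c6ab44) (nat_lit 2820))
 (.leaf (nat_lit 0x451c6b714) (nat_lit 3073))
))) (.node (nat_lit 0x451c6bf44) (.node (nat_lit 0x451c6bf34) (.leaf (nat_lit 0x451c6b764) (nat_lit 2820))
 (.leaf (nat_lit 0x451c6bf34) (nat_lit 2816))
) (.node (nat_lit 0x451c7a314) (.leaf (nat_lit 0x451c6bf44) (nat_lit 3332))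
 (.node (nat_lit 0x451c7a364) (.leaf (nat_lit 0x451c7a314) (nat_lit 3074))
 (.leaf (nat_lit 0x451c7a364) (nat_lit 2304))
)))) (.node (nat_lit 0x451c7bf44) (.node (nat_lit 0x451c7b714) (.node (nat_lit 0x451c7ab44) (.leaf (nat_lit 0x451c7ab34) (nat_lit 3331))
 (.leaf (nat_lit 0x451c7ab44) (nat_lit 3076))
) (.node (nat_lit 0x451c7b764) (.leaf (nat_lit 0x451c7b714) (nat_lit 2817))
 (.node (nat_lit 0x451c7bf34) (.leaf (nat_lit 0x451c7b764) (nat_lit 3076))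
 (.leaf (nat_lit 0x451c7bf34) (nat_lit 2563))
))) (.node (nat_lit 0x460802a4c) (.node (nat_lit 0x46080220c) (.leaf (nat_lit 0x451c7bf44) (nat_lit 3331))
 (.node (nat_lit 0x46080222c) (.leaf (nat_lit 0x46080220c) (nat_lit 1539))
 (.leaf (nat_lit 0x46080222c) (nat_lit 2818))
)) (.node (nat_lit 0x460802a6c) (.leaf (nat_lit 0x460802a4c) (nat_lit 2307))
 (.node (nat_lit 0x46080324c) (.leaf (nat_lit 0x460802a6c) (nat_lit 3330))
 (.leaf (nat_lit 0x46080324c) (nat_lit 1795))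
))))) (.node (nat_lit 0x460813a2c) (.node (nat_lit 0x460812a4c) (.node (nat_lit 0x460803a2c) (.node (nat_lit 0x460803a0c) (.leaf (nat_lit 0x46080326c) (nat_lit 3074))
 (.leaf (nat_lit 0x460803a0c) (nat_lit 2051))
) (.node (nat_lit 0x46081220c) (.leaf (nat_lit 0x460803a2c) (nat_lit 3074))
 (.node (nat_lit 0x46081222c) (.leaf (nat_lit 0x46081220c) (nat_lit 1792))
 (.leaf (nat_lit 0x46081222c) (nat_lit 3074))
))) (.node (nat_lit 0x46081324c) (.node (nat_lit 0x460812a6c) (.leaf (nat_lit 0x460812a4c) (nat_lit 2560))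
 (.leaf (nat_lit 0x460812a6c) (nat_lit 3329))
) (.node (nat_lit 0x46081326c) (.leaf (nat_lit 0x46081324c) (nat_lit 2048))
 (.node (nat_lit 0x460813a0c) (.leaf (nat_lit 0x46081326c) (nat_lit 3330))
 (.leaf (nat_lit 0x460813a0c) (nat_lit 2304))
)))) (.node (nat_lit 0x46082325c) (.node (nat_lit 0x46082223c) (.node (nat_lit 0x46082221c) (.leaf (nat_lit 0x460813a2c) (nat_lit 3330))
 (.leaf (nat_lit 0x46082221c) (nat_lit 3331))
) (.node (nat_lit 0x460822a5c) (.leaf (nat_lit 0x46082223c) (nat_lit 2560))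
 (.node (nat_lit 0x460822a7c) (.leaf (nat_lit 0x460822a5c) (nat_lit 2819))
 (.leaf (nat_lit 0x460822a7c) (nat_lit 3332))
))) (.node (nat_lit 0x460823a3c) (.node (nat_lit 0x46082327c) (.leaf (nat_lit 0x46082325c) (nat_lit 3075))
 (.node (nat_lit 0x460823a1c) (.leaf (nat_lit 0x46082327c) (nat_lit 2816))
 (.leaf (nat_lit 0x460823a1c) (nat_lit 3075))
)) (.node (nat_lit 0x46083221c) (.leaf (nat_lit 0x460823a3c) (nat_lit 3076))
 (.node (nat_lit 0x46083223c) (.leaf (nat_lit 0x46083221c) (nat_lit 3330))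
 (.leaf (nat_lit 0x46083223c) (nat_lit 2307))
)))))) (.node (nat_lit 0x460853e3c) (.node (nat_lit 0x46084365c) (.node (nat_lit 0x460833a3c) (.node (nat_lit 0x46083325c) (.node (nat_lit 0x460832a7c) (.leaf (nat_lit 0x460832a5c) (nat_lit 3075))
 (.leaf (nat_lit 0x460832a7c) (nat_lit 3076))
) (.node (nat_lit 0x46083327c) (.leaf (nat_lit 0x46083325c) (nat_lit 3328))
 (.node (nat_lit 0x460833a1c) (.leaf (nat_lit 0x46083327c) (nat_lit 2563))
 (.leaf (nat_lit 0x460833a1c) (nat_lit 3331))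
))) (.node (nat_lit 0x46084263c) (.node (nat_lit 0x46084261c) (.leaf (nat_lit 0x460833a3c) (nat_lit 2820))
 (.leaf (nat_lit 0x46084261c) (nat_lit 2561))
) (.node (nat_lit 0x460842e5c) (.leaf (nat_lit 0x46084263c) (nat_lit 3331))
 (.node (nat_lit 0x460842e7c) (.leaf (nat_lit 0x460842e5c) (nat_lit 2817))
 (.leaf (nat_lit 0x460842e7c) (nat_lit 2819))
)))) (.node (nat_lit 0x46085263c) (.node (nat_lit 0x460843e1c) (.node (nat_lit 0x46084367c) (.leaf (nat_lit 0x46084365c) (nat_lit 2305))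
 (.leaf (nat_lit 0x46084367c) (nat_lit 3329))
) (.node (nat_lit 0x460843e3c) (.leaf (nat_lit 0x460843e1c) (nat_lit 3073))
 (.node (nat_lit 0x46085261c) (.leaf (nat_lit 0x460843e3c) (nat_lit 2563))
 (.leaf (nat_lit 0x46085261c) (nat_lit 2305))
))) (.node (nat_lit 0x46085365c) (.node (nat_lit 0x460852e5c) (.leaf (nat_lit 0x46085263c) (nat_lit 3329))
 (.node (nat_lit 0x460852e7c) (.leaf (nat_lit 0x460852e5c) (nat_lit 2561))
 (.leaf (nat_lit 0x460852e7c) (nat_lit 3072))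
)) (.node (nat_lit 0x46085367c) (.leaf (nat_lit 0x46085365c) (nat_lit 2049))
 (.node (nat_lit 0x460853e1c) (.leaf (nat_lit 0x46085367c) (nat_lit 3073))
 (.leaf (nat_lit 0x460853e1c) (nat_lit 2817))
))))) (.node (nat_lit 0x46087262c) (.node (nat_lit 0x46086364c) (.node (nat_lit 0x46086262c) (.node (nat_lit 0x46086260c) (.leaf (nat_lit 0x460853e3c) (nat_lit 2816))
 (.leaf (nat_lit 0x46086260c) (nat_lit 2560))
) (.node (nat_lit 0x460862e4c) (.leaf (nat_lit 0x46086262c) (nat_lit 3329))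
 (.node (nat_lit 0x460862e6c) (.leaf (nat_lit 0x460862e4c) (nat_lit 2304))
 (.leaf (nat_lit 0x460862e6c) (nat_lit 3331))
))) (.node (nat_lit 0x460863e0c) (.node (nat_lit 0x46086366c) (.leaf (nat_lit 0x46086364c) (nat_lit 2816))
 (.leaf (nat_lit 0x46086366c) (nat_lit 3073))
) (.node (nat_lit 0x460863e2c) (.leaf (nat_lit 0x460863e0c) (nat_lit 2048))
 (.node (nat_lit 0x46087260c) (.leaf (nat_lit 0x460863e2c) (nat_lit 3328))
 (.leaf (nat_lit 0x46087260c) (nat_lit 2307))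
)))) (.node (nat_lit 0x460873e0c) (.node (nat_lit 0x460872e6c) (.node (nat_lit 0x460872e4c) (.leaf (nat_lit 0x46087262c) (nat_lit 3331))
 (.leaf (nat_lit 0x460872e4c) (nat_lit 2051))
) (.node (nat_lit 0x46087364c) (.leaf (nat_lit 0x460872e6c) (nat_lit 3331))
 (.node (nat_lit 0x46087366c) (.leaf (nat_lit 0x46087364c) (nat_lit 2563))
 (.leaf (nat_lit 0x46087366c) (nat_lit 3329))
))) (.node (nat_lit 0x460c0e23c) (.node (nat_lit 0x460873e2c) (.leaf (nat_lit 0x460873e0c) (nat_lit 1795))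
 (.node (nat_lit 0x460c0e20c) (.leaf (nat_lit 0x460873e2c) (nat_lit 3075))
 (.leaf (nat_lit 0x460c0e20c) (nat_lit 1281))
)) (.node (nat_lit 0x460c0ee5c) (.leaf (nat_lit 0x460c0e23c) (nat_lit 2818))
 (.node (nat_lit 0x460c0ee6c) (.leaf (nat_lit 0x460c0ee5c) (nat_lit 2820))
 (.leaf (nat_lit 0x460c0ee6c) (nat_lit 2816))
))))))) (.node (nat_lit 0x460c5fe1c) (.node (nat_lit 0x460c3e22c) (.node (nat_lit 0x460c1fa0c) (.node (nat_lit 0x460c1e23c) (.node (nat_lit 0x460c0fa0c) (.node (nat_lit 0x460c0f66c) (.leaf (nat_lit 0x460c0f65c) (nat_lit 2049))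
 (.leaf (nat_lit 0x460c0f66c) (nat_lit 3584))
) (.node (nat_lit 0x460c0fa3c) (.leaf (nat_lit 0x460c0fa0c) (nat_lit 1795))
 (.node (nat_lit 0x460c1e20c) (.leaf (nat_lit 0x460c0fa3c) (nat_lit 3330))
 (.leaf (nat_lit 0x460c1e20c) (nat_lit 1537))
))) (.node (nat_lit 0x460c1ee6c) (.node (nat_lit 0x460c1ee5c) (.leaf (nat_lit 0x460c1e23c) (nat_lit 3074))
 (.leaf (nat_lit 0x460c1ee5c) (nat_lit 3076))
) (.node (nat_lit 0x460c1f65c) (.leaf (nat_lit 0x460c1ee6c) (nat_lit 2563))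
 (.node (nat_lit 0x460c1f66c) (.leaf (nat_lit 0x460c1f65c) (nat_lit 2305))
 (.leaf (nat_lit 0x460c1f66c) (nat_lit 3331))
)))) (.node (nat_lit 0x460c2ee7c) (.node (nat_lit 0x460c2e21c) (.node (nat_lit 0x460c1fa3c) (.leaf (nat_lit 0x460c1fa0c) (nat_lit 2048))
 (.leaf (nat_lit 0x460c1fa3c) (nat_lit 3587))
) (.node (nat_lit 0x460c2e22c) (.leaf (nat_lit 0x460c2e21c) (nat_lit 3330))
 (.node (nat_lit 0x460c2ee4c) (.leaf (nat_lit 0x460c2e22c) (nat_lit 2051))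
 (.leaf (nat_lit 0x460c2ee4c) (nat_lit 2304))
))) (.node (nat_lit 0x460c2fa1c) (.node (nat_lit 0x460c2f64c) (.leaf (nat_lit 0x460c2ee7c) (nat_lit 3332))
 (.node (nat_lit 0x460c2f67c) (.leaf (nat_lit 0x460c2f64c) (nat_lit 2560))
 (.leaf (nat_lit 0x460c2f67c) (nat_lit 3075))
)) (.node (nat_lit 0x460c2fa2c) (.leaf (nat_lit 0x460c2fa1c) (nat_lit 3072))
 (.node (nat_lit 0x460c3e21c) (.leaf (nat_lit 0x460c2fa2c) (nat_lit 2564))
 (.leaf (nat_lit 0x460c3e21c) (nat_lit 3331))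
))))) (.node (nat_lit 0x460c4ea7c) (.node (nat_lit 0x460c3fa1c) (.node (nat_lit 0x460c3ee7c) (.node (nat_lit 0x460c3ee4c) (.leaf (nat_lit 0x460c3e22c) (nat_lit 2304))
 (.leaf (nat_lit 0x460c3ee4c) (nat_lit 2051))
) (.node (nat_lit 0x460c3f64c) (.leaf (nat_lit 0x460c3ee7c) (nat_lit 3331))
 (.node (nat_lit 0x460c3f67c) (.leaf (nat_lit 0x460c3f64c) (nat_lit 2307))
 (.leaf (nat_lit 0x460c3f67c) (nat_lit 3328))
))) (.node (nat_lit 0x460c4e61c) (.node (nat_lit 0x460c3fa2c) (.leaf (nat_lit 0x460c3fa1c) (nat_lit 2819))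
 (.leaf (nat_lit 0x460c3fa2c) (nat_lit 2820))
) (.node (nat_lit 0x460c4e62c) (.leaf (nat_lit 0x460c4e61c) (nat_lit 2305))
 (.node (nat_lit 0x460c4ea4c) (.leaf (nat_lit 0x460c4e62c) (nat_lit 3328))
 (.leaf (nat_lit 0x460c4ea4c) (nat_lit 2051))
)))) (.node (nat_lit 0x460c5e61c) (.node (nat_lit 0x460c4f27c) (.node (nat_lit 0x460c4f24c) (.leaf (nat_lit 0x460c4ea7c) (nat_lit 3586))
 (.leaf (nat_lit 0x460c4f24c) (nat_lit 1537))
) (.node (nat_lit 0x460c4fe1c) (.leaf (nat_lit 0x460c4f27c) (nat_lit 3074))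
 (.node (nat_lit 0x460c4fe2c) (.leaf (nat_lit 0x460c4fe1c) (nat_lit 3076))
 (.leaf (nat_lit 0x460c4fe2c) (nat_lit 2560))
))) (.node (nat_lit 0x460c5ea7c) (.node (nat_lit 0x460c5e62c) (.leaf (nat_lit 0x460c5e61c) (nat_lit 2561))
 (.node (nat_lit 0x460c5ea4c) (.leaf (nat_lit 0x460c5e62c) (nat_lit 3075))
 (.leaf (nat_lit 0x460c5ea4c) (nat_lit 2304))
)) (.node (nat_lit 0x460c5f24c) (.leaf (nat_lit 0x460c5ea7c) (nat_lit 3331))
 (.node (nat_lit 0x460c5f27c) (.leaf (nat_lit 0x460c5f24c) (nat_lit 1793))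
 (.leaf (nat_lit 0x460c5f27c) (nat_lit 3330))
)))))) (.node (nat_lit 0x46100296c) (.node (nat_lit 0x460c7e60c) (.node (nat_lit 0x460c6ea6c) (.node (nat_lit 0x460c6e60c) (.node (nat_lit 0x460c5fe2c) (.leaf (nat_lit 0x460c5fe1c) (nat_lit 3332))
 (.leaf (nat_lit 0x460c5fe2c) (nat_lit 2307))
) (.node (nat_lit 0x460c6e63c) (.leaf (nat_lit 0x460c6e60c) (nat_lit 2304))
 (.node (nat_lit 0x460c6ea5c) (.leaf (nat_lit 0x460c6e63c) (nat_lit 3331))
 (.leaf (nat_lit 0x460c6ea5c) (nat_lit 2816))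
))) (.node (nat_lit 0x460c6f26c) (.node (nat_lit 0x460c6f25c) (.leaf (nat_lit 0x460c6ea6c) (nat_lit 2820))
 (.leaf (nat_lit 0x460c6f25c) (nat_lit 3328))
) (.node (nat_lit 0x460c6fe0c) (.leaf (nat_lit 0x460c6f26c) (nat_lit 2307))
 (.node (nat_lit 0x460c6fe3c) (.leaf (nat_lit 0x460c6fe0c) (nat_lit 2048))
 (.leaf (nat_lit 0x460c6fe3c) (nat_lit 3328))
)))) (.node (nat_lit 0x460c7f26c) (.node (nat_lit 0x460c7ea5c) (.node (nat_lit 0x460c7e63c) (.leaf (nat_lit 0x460c7e60c) (nat_lit 2051))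
 (.leaf (nat_lit 0x460c7e63c) (nat_lit 3584))
) (.node (nat_lit 0x460c7ea6c) (.leaf (nat_lit 0x460c7ea5c) (nat_lit 2563))
 (.node (nat_lit 0x460c7f25c) (.leaf (nat_lit 0x460c7ea6c) (nat_lit 3076))
 (.leaf (nat_lit 0x460c7f25c) (nat_lit 3075))
))) (.node (nat_lit 0x46100210c) (.node (nat_lit 0x460c7fe0c) (.leaf (nat_lit 0x460c7f26c) (nat_lit 2560))
 (.node (nat_lit 0x460c7fe3c) (.leaf (nat_lit 0x460c7fe0c) (nat_lit 1795))
 (.leaf (nat_lit 0x460c7fe3c) (nat_lit 3075))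
)) (.node (nat_lit 0x46100214c) (.leaf (nat_lit 0x46100210c) (nat_lit 1795))
 (.node (nat_lit 0x46100292c) (.leaf (nat_lit 0x46100214c) (nat_lit 2051))
 (.leaf (nat_lit 0x46100292c) (nat_lit 2564))
))))) (.node (nat_lit 0x46101316c) (.node (nat_lit 0x46101210c) (.node (nat_lit 0x46100316c) (.node (nat_lit 0x46100312c) (.leaf (nat_lit 0x46100296c) (nat_lit 2820))
 (.leaf (nat_lit 0x46100312c) (nat_lit 2820))
) (.node (nat_lit 0x46100390c) (.leaf (nat_lit 0x46100316c) (nat_lit 3076))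
 (.node (nat_lit 0x46100394c) (.leaf (nat_lit 0x46100390c) (nat_lit 2052))
 (.leaf (nat_lit 0x46100394c) (nat_lit 2308))
))) (.node (nat_lit 0x46101292c) (.node (nat_lit 0x46101214c) (.leaf (nat_lit 0x46101210c) (nat_lit 2048))
 (.leaf (nat_lit 0x46101214c) (nat_lit 2304))
) (.node (nat_lit 0x46101296c) (.leaf (nat_lit 0x46101292c) (nat_lit 2820))
 (.node (nat_lit 0x46101312c) (.leaf (nat_lit 0x46101296c) (nat_lit 3076))
 (.leaf (nat_lit 0x46101312c) (nat_lit 3076))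
)))) (.node (nat_lit 0x461022d3c) (.node (nat_lit 0x46101394c) (.node (nat_lit 0x46101390c) (.leaf (nat_lit 0x46101316c) (nat_lit 3332))
 (.leaf (nat_lit 0x46101390c) (nat_lit 2308))
) (.node (nat_lit 0x46102251c) (.leaf (nat_lit 0x46101394c) (nat_lit 2564))
 (.node (nat_lit 0x46102255c) (.leaf (nat_lit 0x46102251c) (nat_lit 3329))
 (.leaf (nat_lit 0x46102255c) (nat_lit 3331))
))) (.node (nat_lit 0x46102357c) (.node (nat_lit 0x461022d7c) (.leaf (nat_lit 0x461022d3c) (nat_lit 2816))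
 (.node (nat_lit 0x46102353c) (.leaf (nat_lit 0x461022d7c) (nat_lit 3072))
 (.leaf (nat_lit 0x46102353c) (nat_lit 3073))
)) (.node (nat_lit 0x461023d1c) (.leaf (nat_lit 0x46102357c) (nat_lit 3329))
 (.node (nat_lit 0x461023d5c) (.leaf (nat_lit 0x461023d1c) (nat_lit 3331))
 (.leaf (nat_lit 0x461023d5c) (nat_lit 3075))
)))))))) (.node (nat_lit 0x46145f52c) (.node (nat_lit 0x46140ed3c) (.node (nat_lit 0x46105317c) (.node (nat_lit 0x46104293c) (.node (nat_lit 0x46103357c) (.node (nat_lit 0x461032d3c) (.node (nat_lit 0x46103255c) (.leaf (nat_lit 0x46103251c) (nat_lit 3073))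
 (.leaf (nat_lit 0x46103255c) (nat_lit 3329))
) (.node (nat_lit 0x461032d7c) (.leaf (nat_lit 0x461032d3c) (nat_lit 2563))
 (.node (nat_lit 0x46103353c) (.leaf (nat_lit 0x461032d7c) (nat_lit 2819))
 (.leaf (nat_lit 0x46103353c) (nat_lit 2817))
))) (.node (nat_lit 0x461033d5c) (.node (nat_lit 0x461033d1c) (.leaf (nat_lit 0x46103357c) (nat_lit 3073))
 (.leaf (nat_lit 0x461033d1c) (nat_lit 3329))
) (.node (nat_lit 0x46104211c) (.leaf (nat_lit 0x461033d5c) (nat_lit 3331))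
 (.node (nat_lit 0x46104215c) (.leaf (nat_lit 0x46104211c) (nat_lit 2818))
 (.leaf (nat_lit 0x46104215c) (nat_lit 2562))
)))) (.node (nat_lit 0x46104395c) (.node (nat_lit 0x46104313c) (.node (nat_lit 0x46104297c) (.leaf (nat_lit 0x46104293c) (nat_lit 3331))
 (.leaf (nat_lit 0x46104297c) (nat_lit 3328))
) (.node (nat_lit 0x46104317c) (.leaf (nat_lit 0x46104313c) (nat_lit 2819))
 (.node (nat_lit 0x46104391c) (.leaf (nat_lit 0x46104317c) (nat_lit 3075))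
 (.leaf (nat_lit 0x46104391c) (nat_lit 3330))
))) (.node (nat_lit 0x46105293c) (.node (nat_lit 0x46105211c) (.leaf (nat_lit 0x46104395c) (nat_lit 3074))
 (.node (nat_lit 0x46105215c) (.leaf (nat_lit 0x46105211c) (nat_lit 2562))
 (.leaf (nat_lit 0x46105215c) (nat_lit 2306))
)) (.node (nat_lit 0x46105297c) (.leaf (nat_lit 0x46105293c) (nat_lit 3331))
 (.node (nat_lit 0x46105313c) (.leaf (nat_lit 0x46105297c) (nat_lit 3075))
 (.leaf (nat_lit 0x46105313c) (nat_lit 3072))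
))))) (.node (nat_lit 0x461063d4c) (.node (nat_lit 0x461062d2c) (.node (nat_lit 0x46105395c) (.node (nat_lit 0x46105391c) (.leaf (nat_lit 0x46105317c) (nat_lit 3328))
 (.leaf (nat_lit 0x46105391c) (nat_lit 3074))
) (.node (nat_lit 0x46106250c) (.leaf (nat_lit 0x46105395c) (nat_lit 2818))
 (.node (nat_lit 0x46106254c) (.leaf (nat_lit 0x46106250c) (nat_lit 2816))
 (.leaf (nat_lit 0x46106254c) (nat_lit 3072))
))) (.node (nat_lit 0x46106352c) (.node (nat_lit 0x461062d6c) (.leaf (nat_lit 0x461062d2c) (nat_lit 3329))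
 (.leaf (nat_lit 0x461062d6c) (nat_lit 3073))
) (.node (nat_lit 0x46106356c) (.leaf (nat_lit 0x46106352c) (nat_lit 3072))
 (.node (nat_lit 0x461063d0c) (.leaf (nat_lit 0x46106356c) (nat_lit 3328))
 (.leaf (nat_lit 0x461063d0c) (nat_lit 2304))
)))) (.node (nat_lit 0x46107352c) (.node (nat_lit 0x46107254c) (.node (nat_lit 0x46107250c) (.leaf (nat_lit 0x461063d4c) (nat_lit 2560))
 (.leaf (nat_lit 0x46107250c) (nat_lit 2563))
) (.node (nat_lit 0x461072d2c) (.leaf (nat_lit 0x46107254c) (nat_lit 2819))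
 (.node (nat_lit 0x461072d6c) (.leaf (nat_lit 0x461072d2c) (nat_lit 3075))
 (.leaf (nat_lit 0x461072d6c) (nat_lit 3331))
))) (.node (nat_lit 0x461073d4c) (.node (nat_lit 0x46107356c) (.leaf (nat_lit 0x46107352c) (nat_lit 2819))
 (.node (nat_lit 0x461073d0c) (.leaf (nat_lit 0x46107356c) (nat_lit 3075))
 (.leaf (nat_lit 0x461073d0c) (nat_lit 2051))
)) (.node (nat_lit 0x46140e10c) (.leaf (nat_lit 0x461073d4c) (nat_lit 2307))
 (.node (nat_lit 0x46140e15c) (.leaf (nat_lit 0x46140e10c) (nat_lit 1538))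
 (.leaf (nat_lit 0x46140e15c) (nat_lit 2306))
)))))) (.node (nat_lit 0x46142fd4c) (.node (nat_lit 0x46141f53c) (.node (nat_lit 0x46140f95c) (.node (nat_lit 0x46140f53c) (.node (nat_lit 0x46140ed6c) (.leaf (nat_lit 0x46140ed3c) (nat_lit 2564))
 (.leaf (nat_lit 0x46140ed6c) (nat_lit 3584))
) (.node (nat_lit 0x46140f56c) (.leaf (nat_lit 0x46140f53c) (nat_lit 3076))
 (.node (nat_lit 0x46140f90c) (.leaf (nat_lit 0x46140f56c) (nat_lit 3072))
 (.leaf (nat_lit 0x46140f90c) (nat_lit 2051))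
))) (.node (nat_lit 0x46141e15c) (.node (nat_lit 0x46141e10c) (.leaf (nat_lit 0x46140f95c) (nat_lit 3074))
 (.leaf (nat_lit 0x46141e10c) (nat_lit 1794))
) (.node (nat_lit 0x46141ed3c) (.leaf (nat_lit 0x46141e15c) (nat_lit 2562))
 (.node (nat_lit 0x46141ed6c) (.leaf (nat_lit 0x46141ed3c) (nat_lit 2820))
 (.leaf (nat_lit 0x46141ed6c) (nat_lit 3331))
)))) (.node (nat_lit 0x46142e54c) (.node (nat_lit 0x46141f90c) (.node (nat_lit 0x46141f56c) (.leaf (nat_lit 0x46141f53c) (nat_lit 3332))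
 (.leaf (nat_lit 0x46141f56c) (nat_lit 2819))
) (.node (nat_lit 0x46141f95c) (.leaf (nat_lit 0x46141f90c) (nat_lit 2304))
 (.node (nat_lit 0x46142e51c) (.leaf (nat_lit 0x46141f95c) (nat_lit 3330))
 (.leaf (nat_lit 0x46142e51c) (nat_lit 3073))
))) (.node (nat_lit 0x46142f12c) (.node (nat_lit 0x46142e92c) (.leaf (nat_lit 0x46142e54c) (nat_lit 2816))
 (.node (nat_lit 0x46142e97c) (.leaf (nat_lit 0x46142e92c) (nat_lit 2049))
 (.leaf (nat_lit 0x46142e97c) (nat_lit 3331))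
)) (.node (nat_lit 0x46142f17c) (.leaf (nat_lit 0x46142f12c) (nat_lit 2561))
 (.node (nat_lit 0x46142fd1c) (.leaf (nat_lit 0x46142f17c) (nat_lit 3328))
 (.leaf (nat_lit 0x46142fd1c) (nat_lit 3328))
))))) (.node (nat_lit 0x46144e14c) (.node (nat_lit 0x46143f12c) (.node (nat_lit 0x46143e54c) (.node (nat_lit 0x46143e51c) (.leaf (nat_lit 0x46142fd4c) (nat_lit 2560))
 (.leaf (nat_lit 0x46143e51c) (nat_lit 3329))
) (.node (nat_lit 0x46143e92c) (.leaf (nat_lit 0x46143e54c) (nat_lit 2563))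
 (.node (nat_lit 0x46143e97c) (.leaf (nat_lit 0x46143e92c) (nat_lit 2305))
 (.leaf (nat_lit 0x46143e97c) (nat_lit 3587))
))) (.node (nat_lit 0x46143fd1c) (.node (nat_lit 0x46143f17c) (.leaf (nat_lit 0x46143f12c) (nat_lit 2817))
 (.leaf (nat_lit 0x46143f17c) (nat_lit 3075))
) (.node (nat_lit 0x46143fd4c) (.leaf (nat_lit 0x46143fd1c) (nat_lit 3075))
 (.node (nat_lit 0x46144e11c) (.leaf (nat_lit 0x46143fd4c) (nat_lit 2307))
 (.leaf (nat_lit 0x46144e11c) (nat_lit 2562))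
)))) (.node (nat_lit 0x46144f91c) (.node (nat_lit 0x46144ed7c) (.node (nat_lit 0x46144ed2c) (.leaf (nat_lit 0x46144e14c) (nat_lit 1794))
 (.leaf (nat_lit 0x46144ed2c) (nat_lit 3328))
) (.node (nat_lit 0x46144f52c) (.leaf (nat_lit 0x46144ed7c) (nat_lit 2820))
 (.node (nat_lit 0x46144f57c) (.leaf (nat_lit 0x46144f52c) (nat_lit 2816))
 (.leaf (nat_lit 0x46144f57c) (nat_lit 3332))
))) (.node (nat_lit 0x46145e14c) (.node (nat_lit 0x46144f94c) (.leaf (nat_lit 0x46144f91c) (nat_lit 3330))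
 (.node (nat_lit 0x46145e11c) (.leaf (nat_lit 0x46144f94c) (nat_lit 2307))
 (.leaf (nat_lit 0x46145e11c) (nat_lit 2818))
)) (.node (nat_lit 0x46145ed2c) (.leaf (nat_lit 0x46145e14c) (nat_lit 2050))
 (.node (nat_lit 0x46145ed7c) (.leaf (nat_lit 0x46145ed2c) (nat_lit 3075))
 (.leaf (nat_lit 0x46145ed7c) (nat_lit 3076))
))))))) (.node (nat_lit 0x47082be1c) (.node (nat_lit 0x47080a22c) (.node (nat_lit 0x46146fd0c) (.node (nat_lit 0x46146e55c) (.node (nat_lit 0x46145f91c) (.node (nat_lit 0x46145f57c) (.leaf (nat_lit 0x46145f52c) (nat_lit 2563))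
 (.leaf (nat_lit 0x46145f57c) (nat_lit 3588))
) (.node (nat_lit 0x46145f94c) (.leaf (nat_lit 0x46145f91c) (nat_lit 3329))
 (.node (nat_lit 0x46146e50c) (.leaf (nat_lit 0x46145f94c) (nat_lit 2560))
 (.leaf (nat_lit 0x46146e50c) (nat_lit 2560))
))) (.node (nat_lit 0x46146e96c) (.node (nat_lit 0x46146e93c) (.leaf (nat_lit 0x46146e55c) (nat_lit 3329))
 (.leaf (nat_lit 0x46146e93c) (nat_lit 3587))
) (.node (nat_lit 0x46146f13c) (.leaf (nat_lit 0x46146e96c) (nat_lit 2305))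
 (.node (nat_lit 0x46146f16c) (.leaf (nat_lit 0x46146f13c) (nat_lit 3072))
 (.leaf (nat_lit 0x46146f16c) (nat_lit 2817))
)))) (.node (nat_lit 0x46147e96c) (.node (nat_lit 0x46147e50c) (.node (nat_lit 0x46146fd5c) (.leaf (nat_lit 0x46146fd0c) (nat_lit 2304))
 (.leaf (nat_lit 0x46146fd5c) (nat_lit 3072))
) (.node (nat_lit 0x46147e55c) (.leaf (nat_lit 0x46147e50c) (nat_lit 2307))
 (.node (nat_lit 0x46147e93c) (.leaf (nat_lit 0x46147e55c) (nat_lit 3331))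
 (.leaf (nat_lit 0x46147e93c) (nat_lit 3331))
))) (.node (nat_lit 0x46147fd0c) (.node (nat_lit 0x46147f13c) (.leaf (nat_lit 0x46147e96c) (nat_lit 2561))
 (.node (nat_lit 0x46147f16c) (.leaf (nat_lit 0x46147f13c) (nat_lit 2819))
 (.leaf (nat_lit 0x46147f16c) (nat_lit 3073))
)) (.node (nat_lit 0x46147fd5c) (.leaf (nat_lit 0x46147fd0c) (nat_lit 2051))
 (.node (nat_lit 0x47080a20c) (.leaf (nat_lit 0x46147fd5c) (nat_lit 2819))
 (.leaf (nat_lit 0x47080a20c) (nat_lit 1537))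
))))) (.node (nat_lit 0x47081aa7c) (.node (nat_lit 0x47080be0c) (.node (nat_lit 0x47080aa7c) (.node (nat_lit 0x47080aa5c) (.leaf (nat_lit 0x47080a22c) (nat_lit 2562))
 (.leaf (nat_lit 0x47080aa5c) (nat_lit 3076))
) (.node (nat_lit 0x47080b65c) (.leaf (nat_lit 0x47080aa7c) (nat_lit 3072))
 (.node (nat_lit 0x47080b67c) (.leaf (nat_lit 0x47080b65c) (nat_lit 2305))
 (.leaf (nat_lit 0x47080b67c) (nat_lit 3329))
))) (.node (nat_lit 0x47081a20c) (.node (nat_lit 0x47080be2c) (.leaf (nat_lit 0x47080be0c) (nat_lit 2051))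
 (.leaf (nat_lit 0x47080be2c) (nat_lit 3074))
) (.node (nat_lit 0x47081a22c) (.leaf (nat_lit 0x47081a20c) (nat_lit 1793))
 (.node (nat_lit 0x47081aa5c) (.leaf (nat_lit 0x47081a22c) (nat_lit 2818))
 (.leaf (nat_lit 0x47081aa5c) (nat_lit 3332))
)))) (.node (nat_lit 0x47082a21c) (.node (nat_lit 0x47081b67c) (.node (nat_lit 0x47081b65c) (.leaf (nat_lit 0x47081aa7c) (nat_lit 2819))
 (.leaf (nat_lit 0x47081b65c) (nat_lit 2561))
) (.node (nat_lit 0x47081be0c) (.leaf (nat_lit 0x47081b67c) (nat_lit 3587))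
 (.node (nat_lit 0x47081be2c) (.leaf (nat_lit 0x47081be0c) (nat_lit 2304))
 (.leaf (nat_lit 0x47081be2c) (nat_lit 3330))
))) (.node (nat_lit 0x47082aa6c) (.node (nat_lit 0x47082a23c) (.leaf (nat_lit 0x47082a21c) (nat_lit 3330))
 (.node (nat_lit 0x47082aa4c) (.leaf (nat_lit 0x47082a23c) (nat_lit 2560))
 (.leaf (nat_lit 0x47082aa4c) (nat_lit 2051))
)) (.node (nat_lit 0x47082b64c) (.leaf (nat_lit 0x47082aa6c) (nat_lit 3075))
 (.node (nat_lit 0x47082b66c) (.leaf (nat_lit 0x47082b64c) (nat_lit 2563))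
 (.leaf (nat_lit 0x47082b66c) (nat_lit 3328))
)))))) (.node (nat_lit 0x47085ae6c) (.node (nat_lit 0x47084a61c) (.node (nat_lit 0x47083aa6c) (.node (nat_lit 0x47083a21c) (.node (nat_lit 0x47082be3c) (.leaf (nat_lit 0x47082be1c) (nat_lit 2819))
 (.leaf (nat_lit 0x47082be3c) (nat_lit 3076))
) (.node (nat_lit 0x47083a23c) (.leaf (nat_lit 0x47083a21c) (nat_lit 3074))
 (.node (nat_lit 0x47083aa4c) (.leaf (nat_lit 0x47083a23c) (nat_lit 2307))
 (.leaf (nat_lit 0x47083aa4c) (nat_lit 2304))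
))) (.node (nat_lit 0x47083b66c) (.node (nat_lit 0x47083b64c) (.leaf (nat_lit 0x47083aa6c) (nat_lit 3328))
 (.leaf (nat_lit 0x47083b64c) (nat_lit 2816))
) (.node (nat_lit 0x47083be1c) (.leaf (nat_lit 0x47083b66c) (nat_lit 3075))
 (.node (nat_lit 0x47083be3c) (.leaf (nat_lit 0x47083be1c) (nat_lit 3072))
 (.leaf (nat_lit 0x47083be3c) (nat_lit 2820))
)))) (.node (nat_lit 0x47084b26c) (.node (nat_lit 0x47084ae4c) (.node (nat_lit 0x47084a63c) (.leaf (nat_lit 0x47084a61c) (nat_lit 2561))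
 (.leaf (nat_lit 0x47084a63c) (nat_lit 3585))
) (.node (nat_lit 0x47084ae6c) (.leaf (nat_lit 0x47084ae4c) (nat_lit 2307))
 (.node (nat_lit 0x47084b24c) (.leaf (nat_lit 0x47084ae6c) (nat_lit 3330))
 (.leaf (nat_lit 0x47084b24c) (nat_lit 1793))
))) (.node (nat_lit 0x47085a61c) (.node (nat_lit 0x47084ba1c) (.leaf (nat_lit 0x47084b26c) (nat_lit 2818))
 (.node (nat_lit 0x47084ba3c) (.leaf (nat_lit 0x47084ba1c) (nat_lit 3332))
 (.leaf (nat_lit 0x47084ba3c) (nat_lit 2816))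
)) (.node (nat_lit 0x47085a63c) (.leaf (nat_lit 0x47085a61c) (nat_lit 2817))
 (.node (nat_lit 0x47085ae4c) (.leaf (nat_lit 0x47085a63c) (nat_lit 3331))
 (.leaf (nat_lit 0x47085ae4c) (nat_lit 2560))
))))) (.node (nat_lit 0x47086b27c) (.node (nat_lit 0x47086a60c) (.node (nat_lit 0x47085b26c) (.node (nat_lit 0x47085b24c) (.leaf (nat_lit 0x47085ae6c) (nat_lit 3331))
 (.leaf (nat_lit 0x47085b24c) (nat_lit 2049))
) (.node (nat_lit 0x47085ba1c) (.leaf (nat_lit 0x47085b26c) (nat_lit 3074))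
 (.node (nat_lit 0x47085ba3c) (.leaf (nat_lit 0x47085ba1c) (nat_lit 3330))
 (.leaf (nat_lit 0x47085ba3c) (nat_lit 2563))
))) (.node (nat_lit 0x47086ae5c) (.node (nat_lit 0x47086a62c) (.leaf (nat_lit 0x47086a60c) (nat_lit 2307))
 (.leaf (nat_lit 0x47086a62c) (nat_lit 3584))
) (.node (nat_lit 0x47086ae7c) (.leaf (nat_lit 0x47086ae5c) (nat_lit 2563))
 (.node (nat_lit 0x47086b25c) (.leaf (nat_lit 0x47086ae7c) (nat_lit 3332))
 (.leaf (nat_lit 0x47086b25c) (nat_lit 3331))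
)))) (.node (nat_lit 0x47087ae5c) (.node (nat_lit 0x47086ba2c) (.node (nat_lit 0x47086ba0c) (.leaf (nat_lit 0x47086b27c) (nat_lit 2816))
 (.leaf (nat_lit 0x47086ba0c) (nat_lit 1795))
) (.node (nat_lit 0x47087a60c) (.leaf (nat_lit 0x47086ba2c) (nat_lit 2819))
 (.node (nat_lit 0x47087a62c) (.leaf (nat_lit 0x47087a60c) (nat_lit 2560))
 (.leaf (nat_lit 0x47087a62c) (nat_lit 3331))
))) (.node (nat_lit 0x47087b27c) (.node (nat_lit 0x47087ae7c) (.leaf (nat_lit 0x47087ae5c) (nat_lit 2816))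
 (.node (nat_lit 0x47087b25c) (.leaf (nat_lit 0x47087ae7c) (nat_lit 3076))
 (.leaf (nat_lit 0x47087b25c) (nat_lit 3330))
)) (.node (nat_lit 0x47087ba0c) (.leaf (nat_lit 0x47087b27c) (nat_lit 2563))
 (.node (nat_lit 0x47087ba2c) (.leaf (nat_lit 0x47087ba0c) (nat_lit 2048))
 (.leaf (nat_lit 0x47087ba2c) (nat_lit 3072))
))))))))))) (.node (nat_lit 0x831c466a8) (.node (nat_lit 0x81182c088) (.node (nat_lit 0x47145a11c) (.node (nat_lit 0x47102752c) (.node (nat_lit 0x470c56a5c) (.node (nat_lit 0x470c2726c) (.node (nat_lit 0x470c16e4c) (.node (nat_lit 0x470c0727c) (.node (nat_lit 0x470c06e4c) (.node (nat_lit 0x470c0623c) (.leaf (nat_lit 0x470c0620c) (nat_lit 1283))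
 (.leaf (nat_lit 0x470c0623c) (nat_lit 2819))
) (.node (nat_lit 0x470c06e7c) (.leaf (nat_lit 0x470c06e4c) (nat_lit 2307))
 (.node (nat_lit 0x470c0724c) (.leaf (nat_lit 0x470c06e7c) (nat_lit 3329))
 (.leaf (nat_lit 0x470c0724c) (nat_lit 1539))
))) (.node (nat_lit 0x470c07e3c) (.node (nat_lit 0x470c07e0c) (.leaf (nat_lit 0x470c0727c) (nat_lit 3075))
 (.leaf (nat_lit 0x470c07e0c) (nat_lit 2051))
) (.node (nat_lit 0x470c1620c) (.leaf (nat_lit 0x470c07e3c) (nat_lit 3330))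
 (.node (nat_lit 0x470c1623c) (.leaf (nat_lit 0x470c1620c) (nat_lit 1536))
 (.leaf (nat_lit 0x470c1623c) (nat_lit 3072))
)))) (.node (nat_lit 0x470c17e3c) (.node (nat_lit 0x470c1724c) (.node (nat_lit 0x470c16e7c) (.leaf (nat_lit 0x470c16e4c) (nat_lit 2560))
 (.leaf (nat_lit 0x470c16e7c) (nat_lit 3073))
) (.node (nat_lit 0x470c1727c) (.leaf (nat_lit 0x470c1724c) (nat_lit 1792))
 (.node (nat_lit 0x470c17e0c) (.leaf (nat_lit 0x470c1727c) (nat_lit 3328))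
 (.leaf (nat_lit 0x470c17e0c) (nat_lit 2304))
))) (.node (nat_lit 0x470c26e5c) (.node (nat_lit 0x470c2621c) (.leaf (nat_lit 0x470c17e3c) (nat_lit 3329))
 (.node (nat_lit 0x470c2622c) (.leaf (nat_lit 0x470c2621c) (nat_lit 3330))
 (.leaf (nat_lit 0x470c2622c) (nat_lit 2051))
)) (.node (nat_lit 0x470c26e6c) (.leaf (nat_lit 0x470c26e5c) (nat_lit 2819))
 (.node (nat_lit 0x470c2725c) (.leaf (nat_lit 0x470c26e6c) (nat_lit 2820))
 (.leaf (nat_lit 0x470c2725c) (nat_lit 3328))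
))))) (.node (nat_lit 0x470c37e2c) (.node (nat_lit 0x470c36e5c) (.node (nat_lit 0x470c27e2c) (.node (nat_lit 0x470c27e1c) (.leaf (nat_lit 0x470c2726c) (nat_lit 2307))
 (.leaf (nat_lit 0x470c27e1c) (nat_lit 3075))
) (.node (nat_lit 0x470c3621c) (.leaf (nat_lit 0x470c27e2c) (nat_lit 2564))
 (.node (nat_lit 0x470c3622c) (.leaf (nat_lit 0x470c3621c) (nat_lit 3331))
 (.leaf (nat_lit 0x470c3622c) (nat_lit 2304))
))) (.node (nat_lit 0x470c3725c) (.node (nat_lit 0x470c36e6c) (.leaf (nat_lit 0x470c36e5c) (nat_lit 2563))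
 (.leaf (nat_lit 0x470c36e6c) (nat_lit 3076))
) (.node (nat_lit 0x470c3726c) (.leaf (nat_lit 0x470c3725c) (nat_lit 3075))
 (.node (nat_lit 0x470c37e1c) (.leaf (nat_lit 0x470c3726c) (nat_lit 2560))
 (.leaf (nat_lit 0x470c37e1c) (nat_lit 2819))
)))) (.node (nat_lit 0x470c4765c) (.node (nat_lit 0x470c4662c) (.node (nat_lit 0x470c4661c) (.leaf (nat_lit 0x470c37e2c) (nat_lit 2820))
 (.leaf (nat_lit 0x470c4661c) (nat_lit 2305))
) (.node (nat_lit 0x470c46a5c) (.leaf (nat_lit 0x470c4662c) (nat_lit 3332))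
 (.node (nat_lit 0x470c46a6c) (.leaf (nat_lit 0x470c46a5c) (nat_lit 3073))
 (.leaf (nat_lit 0x470c46a6c) (nat_lit 2563))
))) (.node (nat_lit 0x470c47a2c) (.node (nat_lit 0x470c4766c) (.leaf (nat_lit 0x470c4765c) (nat_lit 2049))
 (.node (nat_lit 0x470c47a1c) (.leaf (nat_lit 0x470c4766c) (nat_lit 3588))
 (.leaf (nat_lit 0x470c47a1c) (nat_lit 3329))
)) (.node (nat_lit 0x470c5661c) (.leaf (nat_lit 0x470c47a2c) (nat_lit 2307))
 (.node (nat_lit 0x470c5662c) (.leaf (nat_lit 0x470c5661c) (nat_lit 2049))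
 (.leaf (nat_lit 0x470c5662c) (nat_lit 3585))
)))))) (.node (nat_lit 0x470c77a3c) (.node (nat_lit 0x470c6764c) (.node (nat_lit 0x470c57a2c) (.node (nat_lit 0x470c5765c) (.node (nat_lit 0x470c56a6c) (.leaf (nat_lit 0x470c56a5c) (nat_lit 2817))
 (.leaf (nat_lit 0x470c56a6c) (nat_lit 2816))
) (.node (nat_lit 0x470c5766c) (.leaf (nat_lit 0x470c5765c) (nat_lit 1793))
 (.node (nat_lit 0x470c57a1c) (.leaf (nat_lit 0x470c5766c) (nat_lit 3329))
 (.leaf (nat_lit 0x470c57a1c) (nat_lit 3073))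
))) (.node (nat_lit 0x470c6663c) (.node (nat_lit 0x470c6660c) (.leaf (nat_lit 0x470c57a2c) (nat_lit 2560))
 (.leaf (nat_lit 0x470c6660c) (nat_lit 2307))
) (.node (nat_lit 0x470c66a4c) (.leaf (nat_lit 0x470c6663c) (nat_lit 3329))
 (.node (nat_lit 0x470c66a7c) (.leaf (nat_lit 0x470c66a4c) (nat_lit 1795))
 (.leaf (nat_lit 0x470c66a7c) (nat_lit 3331))
)))) (.node (nat_lit 0x470c7663c) (.node (nat_lit 0x470c67a0c) (.node (nat_lit 0x470c6767c) (.leaf (nat_lit 0x470c6764c) (nat_lit 2563))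
 (.leaf (nat_lit 0x470c6767c) (nat_lit 3073))
) (.node (nat_lit 0x470c67a3c) (.leaf (nat_lit 0x470c67a0c) (nat_lit 1539))
 (.node (nat_lit 0x470c7660c) (.leaf (nat_lit 0x470c67a3c) (nat_lit 3075))
 (.leaf (nat_lit 0x470c7660c) (nat_lit 2560))
))) (.node (nat_lit 0x470c7764c) (.node (nat_lit 0x470c76a4c) (.leaf (nat_lit 0x470c7663c) (nat_lit 3073))
 (.node (nat_lit 0x470c76a7c) (.leaf (nat_lit 0x470c76a4c) (nat_lit 2048))
 (.leaf (nat_lit 0x470c76a7c) (nat_lit 3584))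
)) (.node (nat_lit 0x470c7767c) (.leaf (nat_lit 0x470c7764c) (nat_lit 2816))
 (.node (nat_lit 0x470c77a0c) (.leaf (nat_lit 0x470c7767c) (nat_lit 2817))
 (.leaf (nat_lit 0x470c77a0c) (nat_lit 1792))
))))) (.node (nat_lit 0x47101614c) (.node (nat_lit 0x47100713c) (.node (nat_lit 0x47100614c) (.node (nat_lit 0x47100610c) (.leaf (nat_lit 0x470c77a3c) (nat_lit 3328))
 (.leaf (nat_lit 0x47100610c) (nat_lit 1539))
) (.node (nat_lit 0x471006d3c) (.leaf (nat_lit 0x47100614c) (nat_lit 1795))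
 (.node (nat_lit 0x471006d7c) (.leaf (nat_lit 0x471006d3c) (nat_lit 2563))
 (.leaf (nat_lit 0x471006d7c) (nat_lit 2819))
))) (.node (nat_lit 0x471007d0c) (.node (nat_lit 0x47100717c) (.leaf (nat_lit 0x47100713c) (nat_lit 3076))
 (.leaf (nat_lit 0x47100717c) (nat_lit 3332))
) (.node (nat_lit 0x471007d4c) (.leaf (nat_lit 0x471007d0c) (nat_lit 2308))
 (.node (nat_lit 0x47101610c) (.leaf (nat_lit 0x471007d4c) (nat_lit 2564))
 (.leaf (nat_lit 0x47101610c) (nat_lit 1792))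
)))) (.node (nat_lit 0x471017d0c) (.node (nat_lit 0x471016d7c) (.node (nat_lit 0x471016d3c) (.leaf (nat_lit 0x47101614c) (nat_lit 2048))
 (.leaf (nat_lit 0x471016d3c) (nat_lit 2816))
) (.node (nat_lit 0x47101713c) (.leaf (nat_lit 0x471016d7c) (nat_lit 3072))
 (.node (nat_lit 0x47101717c) (.leaf (nat_lit 0x47101713c) (nat_lit 3332))
 (.leaf (nat_lit 0x47101717c) (nat_lit 3330))
))) (.node (nat_lit 0x47102655c) (.node (nat_lit 0x471017d4c) (.leaf (nat_lit 0x471017d0c) (nat_lit 2564))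
 (.node (nat_lit 0x47102651c) (.leaf (nat_lit 0x471017d4c) (nat_lit 2820))
 (.leaf (nat_lit 0x47102651c) (nat_lit 3073))
)) (.node (nat_lit 0x47102692c) (.leaf (nat_lit 0x47102655c) (nat_lit 3329))
 (.node (nat_lit 0x47102696c) (.leaf (nat_lit 0x47102692c) (nat_lit 2307))
 (.leaf (nat_lit 0x47102696c) (nat_lit 2563))
))))))) (.node (nat_lit 0x47107790c) (.node (nat_lit 0x47105615c) (.node (nat_lit 0x47103791c) (.node (nat_lit 0x47103655c) (.node (nat_lit 0x47102791c) (.node (nat_lit 0x47102756c) (.leaf (nat_lit 0x47102752c) (nat_lit 2818))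
 (.leaf (nat_lit 0x47102756c) (nat_lit 3074))
) (.node (nat_lit 0x47102795c) (.leaf (nat_lit 0x47102791c) (nat_lit 3331))
 (.node (nat_lit 0x47103651c) (.leaf (nat_lit 0x47102795c) (nat_lit 3075))
 (.leaf (nat_lit 0x47103651c) (nat_lit 3329))
))) (.node (nat_lit 0x47103696c) (.node (nat_lit 0x47103692c) (.leaf (nat_lit 0x47103655c) (nat_lit 3331))
 (.leaf (nat_lit 0x47103692c) (nat_lit 2560))
) (.node (nat_lit 0x47103752c) (.leaf (nat_lit 0x47103696c) (nat_lit 2816))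
 (.node (nat_lit 0x47103756c) (.leaf (nat_lit 0x47103752c) (nat_lit 3074))
 (.leaf (nat_lit 0x47103756c) (nat_lit 3330))
)))) (.node (nat_lit 0x471046d6c) (.node (nat_lit 0x47104611c) (.node (nat_lit 0x47103795c) (.leaf (nat_lit 0x47103791c) (nat_lit 3075))
 (.leaf (nat_lit 0x47103795c) (nat_lit 2819))
) (.node (nat_lit 0x47104615c) (.leaf (nat_lit 0x47104611c) (nat_lit 2562))
 (.node (nat_lit 0x471046d2c) (.leaf (nat_lit 0x47104615c) (nat_lit 2306))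
 (.leaf (nat_lit 0x471046d2c) (nat_lit 3331))
))) (.node (nat_lit 0x471047d1c) (.node (nat_lit 0x47104712c) (.leaf (nat_lit 0x471046d6c) (nat_lit 3587))
 (.node (nat_lit 0x47104716c) (.leaf (nat_lit 0x47104712c) (nat_lit 2563))
 (.leaf (nat_lit 0x47104716c) (nat_lit 2819))
)) (.node (nat_lit 0x471047d5c) (.leaf (nat_lit 0x471047d1c) (nat_lit 3329))
 (.node (nat_lit 0x47105611c) (.leaf (nat_lit 0x471047d5c) (nat_lit 3330))
 (.leaf (nat_lit 0x47105611c) (nat_lit 2306))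
))))) (.node (nat_lit 0x47106697c) (.node (nat_lit 0x471057d1c) (.node (nat_lit 0x471056d6c) (.node (nat_lit 0x471056d2c) (.leaf (nat_lit 0x47105615c) (nat_lit 2050))
 (.leaf (nat_lit 0x471056d2c) (nat_lit 3587))
) (.node (nat_lit 0x47105712c) (.leaf (nat_lit 0x471056d6c) (nat_lit 3331))
 (.node (nat_lit 0x47105716c) (.leaf (nat_lit 0x47105712c) (nat_lit 2816))
 (.leaf (nat_lit 0x47105716c) (nat_lit 3072))
))) (.node (nat_lit 0x47106650c) (.node (nat_lit 0x471057d5c) (.leaf (nat_lit 0x471057d1c) (nat_lit 3330))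
 (.leaf (nat_lit 0x471057d5c) (nat_lit 3074))
) (.node (nat_lit 0x47106654c) (.leaf (nat_lit 0x47106650c) (nat_lit 2563))
 (.node (nat_lit 0x47106693c) (.leaf (nat_lit 0x47106654c) (nat_lit 2819))
 (.leaf (nat_lit 0x47106693c) (nat_lit 3331))
)))) (.node (nat_lit 0x47107650c) (.node (nat_lit 0x47106757c) (.node (nat_lit 0x47106753c) (.leaf (nat_lit 0x47106697c) (nat_lit 3329))
 (.leaf (nat_lit 0x47106753c) (nat_lit 2819))
) (.node (nat_lit 0x47106790c) (.leaf (nat_lit 0x47106757c) (nat_lit 3075))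
 (.node (nat_lit 0x47106794c) (.leaf (nat_lit 0x47106790c) (nat_lit 1795))
 (.leaf (nat_lit 0x47106794c) (nat_lit 2051))
))) (.node (nat_lit 0x47107697c) (.node (nat_lit 0x47107654c) (.leaf (nat_lit 0x47107650c) (nat_lit 2816))
 (.node (nat_lit 0x47107693c) (.leaf (nat_lit 0x47107654c) (nat_lit 3072))
 (.leaf (nat_lit 0x47107693c) (nat_lit 3329))
)) (.node (nat_lit 0x47107753c) (.leaf (nat_lit 0x47107697c) (nat_lit 3073))
 (.node (nat_lit 0x47107757c) (.leaf (nat_lit 0x47107753c) (nat_lit 3072))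
 (.leaf (nat_lit 0x47107757c) (nat_lit 3328))
)))))) (.node (nat_lit 0x47142ad6c) (.node (nat_lit 0x47141a10c) (.node (nat_lit 0x47140a97c) (.node (nat_lit 0x47140a10c) (.node (nat_lit 0x47107794c) (.leaf (nat_lit 0x47107790c) (nat_lit 2048))
 (.leaf (nat_lit 0x47107794c) (nat_lit 2304))
) (.node (nat_lit 0x47140a15c) (.leaf (nat_lit 0x47140a10c) (nat_lit 1539))
 (.node (nat_lit 0x47140a92c) (.leaf (nat_lit 0x47140a15c) (nat_lit 2562))
 (.leaf (nat_lit 0x47140a92c) (nat_lit 2308))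
))) (.node (nat_lit 0x47140b57c) (.node (nat_lit 0x47140b52c) (.leaf (nat_lit 0x47140a97c) (nat_lit 3588))
 (.leaf (nat_lit 0x47140b52c) (nat_lit 2820))
) (.node (nat_lit 0x47140bd0c) (.leaf (nat_lit 0x47140b57c) (nat_lit 3328))
 (.node (nat_lit 0x47140bd5c) (.leaf (nat_lit 0x47140bd0c) (nat_lit 2307))
 (.leaf (nat_lit 0x47140bd5c) (nat_lit 3076))
)))) (.node (nat_lit 0x47141b57c) (.node (nat_lit 0x47141a92c) (.node (nat_lit 0x47141a15c) (.leaf (nat_lit 0x47141a10c) (nat_lit 1792))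
 (.leaf (nat_lit 0x47141a15c) (nat_lit 2818))
) (.node (nat_lit 0x47141a97c) (.leaf (nat_lit 0x47141a92c) (nat_lit 2564))
 (.node (nat_lit 0x47141b52c) (.leaf (nat_lit 0x47141a97c) (nat_lit 3587))
 (.leaf (nat_lit 0x47141b52c) (nat_lit 3076))
))) (.node (nat_lit 0x47142a51c) (.node (nat_lit 0x47141bd0c) (.leaf (nat_lit 0x47141b57c) (nat_lit 3075))
 (.node (nat_lit 0x47141bd5c) (.leaf (nat_lit 0x47141bd0c) (nat_lit 2560))
 (.leaf (nat_lit 0x47141bd5c) (nat_lit 3329))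
)) (.node (nat_lit 0x47142a54c) (.leaf (nat_lit 0x47142a51c) (nat_lit 3073))
 (.node (nat_lit 0x47142ad3c) (.leaf (nat_lit 0x47142a54c) (nat_lit 2819))
 (.leaf (nat_lit 0x47142ad3c) (nat_lit 2561))
))))) (.node (nat_lit 0x47143b16c) (.node (nat_lit 0x47143a51c) (.node (nat_lit 0x47142b16c) (.node (nat_lit 0x47142b13c) (.leaf (nat_lit 0x47142ad6c) (nat_lit 3587))
 (.leaf (nat_lit 0x47142b13c) (nat_lit 3073))
) (.node (nat_lit 0x47142b91c) (.leaf (nat_lit 0x47142b16c) (nat_lit 2819))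
 (.node (nat_lit 0x47142b94c) (.leaf (nat_lit 0x47142b91c) (nat_lit 3075))
 (.leaf (nat_lit 0x47142b94c) (nat_lit 2051))
))) (.node (nat_lit 0x47143ad3c) (.node (nat_lit 0x47143a54c) (.leaf (nat_lit 0x47143a51c) (nat_lit 2817))
 (.leaf (nat_lit 0x47143a54c) (nat_lit 3072))
) (.node (nat_lit 0x47143ad6c) (.leaf (nat_lit 0x47143ad3c) (nat_lit 2305))
 (.node (nat_lit 0x47143b13c) (.leaf (nat_lit 0x47143ad6c) (nat_lit 3331))
 (.leaf (nat_lit 0x47143b13c) (nat_lit 2817))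
)))) (.node (nat_lit 0x47144a93c) (.node (nat_lit 0x47143b94c) (.node (nat_lit 0x47143b91c) (.leaf (nat_lit 0x47143b16c) (nat_lit 3072))
 (.leaf (nat_lit 0x47143b91c) (nat_lit 3328))
) (.node (nat_lit 0x47144a11c) (.leaf (nat_lit 0x47143b94c) (nat_lit 2304))
 (.node (nat_lit 0x47144a14c) (.leaf (nat_lit 0x47144a11c) (nat_lit 2818))
 (.leaf (nat_lit 0x47144a14c) (nat_lit 1795))
))) (.node (nat_lit 0x47144b56c) (.node (nat_lit 0x47144a96c) (.leaf (nat_lit 0x47144a93c) (nat_lit 3584))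
 (.node (nat_lit 0x47144b53c) (.leaf (nat_lit 0x47144a96c) (nat_lit 2564))
 (.leaf (nat_lit 0x47144b53c) (nat_lit 3072))
)) (.node (nat_lit 0x47144bd1c) (.leaf (nat_lit 0x47144b56c) (nat_lit 3076))
 (.node (nat_lit 0x47144bd4c) (.leaf (nat_lit 0x47144bd1c) (nat_lit 3332))
 (.leaf (nat_lit 0x47144bd4c) (nat_lit 2563))
)))))))) (.node (nat_lit 0x8110758b8) (.node (nat_lit 0x811024488) (.node (nat_lit 0x47147b17c) (.node (nat_lit 0x47146ad2c) (.node (nat_lit 0x47145b56c) (.node (nat_lit 0x47145a93c) (.node (nat_lit 0x47145a14c) (.leaf (nat_lit 0x47145a11c) (nat_lit 3074))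
 (.leaf (nat_lit 0x47145a14c) (nat_lit 2048))
) (.node (nat_lit 0x47145a96c) (.leaf (nat_lit 0x47145a93c) (nat_lit 3331))
 (.node (nat_lit 0x47145b53c) (.leaf (nat_lit 0x47145a96c) (nat_lit 2820))
 (.leaf (nat_lit 0x47145b53c) (nat_lit 2819))
))) (.node (nat_lit 0x47145bd4c) (.node (nat_lit 0x47145bd1c) (.leaf (nat_lit 0x47145b56c) (nat_lit 3332))
 (.leaf (nat_lit 0x47145bd1c) (nat_lit 3073))
) (.node (nat_lit 0x47146a50c) (.leaf (nat_lit 0x47145bd4c) (nat_lit 2816))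
 (.node (nat_lit 0x47146a55c) (.leaf (nat_lit 0x47146a50c) (nat_lit 2563))
 (.leaf (nat_lit 0x47146a55c) (nat_lit 3329))
)))) (.node (nat_lit 0x47146b95c) (.node (nat_lit 0x47146b12c) (.node (nat_lit 0x47146ad7c) (.leaf (nat_lit 0x47146ad2c) (nat_lit 3331))
 (.leaf (nat_lit 0x47146ad7c) (nat_lit 2817))
) (.node (nat_lit 0x47146b17c) (.leaf (nat_lit 0x47146b12c) (nat_lit 2563))
 (.node (nat_lit 0x47146b90c) (.leaf (nat_lit 0x47146b17c) (nat_lit 3329))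
 (.leaf (nat_lit 0x47146b90c) (nat_lit 1795))
))) (.node (nat_lit 0x47147ad2c) (.node (nat_lit 0x47147a50c) (.leaf (nat_lit 0x47146b95c) (nat_lit 2819))
 (.node (nat_lit 0x47147a55c) (.leaf (nat_lit 0x47147a50c) (nat_lit 2816))
 (.leaf (nat_lit 0x47147a55c) (nat_lit 3073))
)) (.node (nat_lit 0x47147ad7c) (.leaf (nat_lit 0x47147ad2c) (nat_lit 3587))
 (.node (nat_lit 0x47147b12c) (.leaf (nat_lit 0x47147ad7c) (nat_lit 2561))
 (.leaf (nat_lit 0x47147b12c) (nat_lit 2816))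
))))) (.node (nat_lit 0x8110054d8) (.node (nat_lit 0x811004488) (.node (nat_lit 0x47147b95c) (.node (nat_lit 0x47147b90c) (.leaf (nat_lit 0x47147b17c) (nat_lit 3073))
 (.leaf (nat_lit 0x47147b90c) (nat_lit 2048))
) (.node (nat_lit 0x811004088) (.leaf (nat_lit 0x47147b95c) (nat_lit 3072))
 (.node (nat_lit 0x8110040c8) (.leaf (nat_lit 0x811004088) (nat_lit 1538))
 (.leaf (nat_lit 0x8110040c8) (nat_lit 1794))
))) (.node (nat_lit 0x811005098) (.node (nat_lit 0x8110044c8) (.leaf (nat_lit 0x811004488) (nat_lit 2564))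
 (.leaf (nat_lit 0x8110044c8) (nat_lit 2820))
) (.node (nat_lit 0x8110050d8) (.leaf (nat_lit 0x811005098) (nat_lit 3332))
 (.node (nat_lit 0x811005498) (.leaf (nat_lit 0x8110050d8) (nat_lit 3076))
 (.leaf (nat_lit 0x811005498) (nat_lit 2561))
)))) (.node (nat_lit 0x811015898) (.node (nat_lit 0x8110148c8) (.node (nat_lit 0x811014888) (.leaf (nat_lit 0x8110054d8) (nat_lit 2305))
 (.leaf (nat_lit 0x811014888) (nat_lit 3329))
) (.node (nat_lit 0x811014c88) (.leaf (nat_lit 0x8110148c8) (nat_lit 3073))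
 (.node (nat_lit 0x811014cc8) (.leaf (nat_lit 0x811014c88) (nat_lit 2304))
 (.leaf (nat_lit 0x811014cc8) (nat_lit 2560))
))) (.node (nat_lit 0x811015cd8) (.node (nat_lit 0x8110158d8) (.leaf (nat_lit 0x811015898) (nat_lit 3328))
 (.node (nat_lit 0x811015c98) (.leaf (nat_lit 0x8110158d8) (nat_lit 3072))
 (.leaf (nat_lit 0x811015c98) (nat_lit 2561))
)) (.node (nat_lit 0x811024088) (.leaf (nat_lit 0x811015cd8) (nat_lit 2817))
 (.node (nat_lit 0x8110240c8) (.leaf (nat_lit 0x811024088) (nat_lit 1794))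
 (.leaf (nat_lit 0x8110240c8) (nat_lit 2050))
)))))) (.node (nat_lit 0x8110454f8) (.node (nat_lit 0x811035898) (.node (nat_lit 0x8110254d8) (.node (nat_lit 0x811025098) (.node (nat_lit 0x8110244c8) (.leaf (nat_lit 0x811024488) (nat_lit 2820))
 (.leaf (nat_lit 0x8110244c8) (nat_lit 3076))
) (.node (nat_lit 0x8110250d8) (.leaf (nat_lit 0x811025098) (nat_lit 3331))
 (.node (nat_lit 0x811025498) (.leaf (nat_lit 0x8110250d8) (nat_lit 3332))
 (.leaf (nat_lit 0x811025498) (nat_lit 2817))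
))) (.node (nat_lit 0x8110348c8) (.node (nat_lit 0x811034888) (.leaf (nat_lit 0x8110254d8) (nat_lit 2561))
 (.leaf (nat_lit 0x811034888) (nat_lit 3331))
) (.node (nat_lit 0x811034c88) (.leaf (nat_lit 0x8110348c8) (nat_lit 3329))
 (.node (nat_lit 0x811034cc8) (.leaf (nat_lit 0x811034c88) (nat_lit 2051))
 (.leaf (nat_lit 0x811034cc8) (nat_lit 2307))
)))) (.node (nat_lit 0x8110440e8) (.node (nat_lit 0x811035c98) (.node (nat_lit 0x8110358d8) (.leaf (nat_lit 0x811035898) (nat_lit 3075))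
 (.leaf (nat_lit 0x8110358d8) (nat_lit 2819))
) (.node (nat_lit 0x811035cd8) (.leaf (nat_lit 0x811035c98) (nat_lit 2817))
 (.node (nat_lit 0x8110440a8) (.leaf (nat_lit 0x811035cd8) (nat_lit 3073))
 (.leaf (nat_lit 0x8110440a8) (nat_lit 2306))
))) (.node (nat_lit 0x8110450b8) (.node (nat_lit 0x8110444a8) (.leaf (nat_lit 0x8110440e8) (nat_lit 2050))
 (.node (nat_lit 0x8110444e8) (.leaf (nat_lit 0x8110444a8) (nat_lit 3332))
 (.leaf (nat_lit 0x8110444e8) (nat_lit 3076))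
)) (.node (nat_lit 0x8110450f8) (.leaf (nat_lit 0x8110450b8) (nat_lit 2819))
 (.node (nat_lit 0x8110454b8) (.leaf (nat_lit 0x8110450f8) (nat_lit 2563))
 (.leaf (nat_lit 0x8110454b8) (nat_lit 3073))
))))) (.node (nat_lit 0x8110640e8) (.node (nat_lit 0x8110558b8) (.node (nat_lit 0x8110548e8) (.node (nat_lit 0x8110548a8) (.leaf (nat_lit 0x8110454f8) (nat_lit 3329))
 (.leaf (nat_lit 0x8110548a8) (nat_lit 3073))
) (.node (nat_lit 0x811054ca8) (.leaf (nat_lit 0x8110548e8) (nat_lit 3329))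
 (.node (nat_lit 0x811054ce8) (.leaf (nat_lit 0x811054ca8) (nat_lit 2563))
 (.leaf (nat_lit 0x811054ce8) (nat_lit 2307))
))) (.node (nat_lit 0x811055cb8) (.node (nat_lit 0x8110558f8) (.leaf (nat_lit 0x8110558b8) (nat_lit 3075))
 (.leaf (nat_lit 0x8110558f8) (nat_lit 3331))
) (.node (nat_lit 0x811055cf8) (.leaf (nat_lit 0x811055cb8) (nat_lit 2561))
 (.node (nat_lit 0x8110640a8) (.leaf (nat_lit 0x811055cf8) (nat_lit 2305))
 (.leaf (nat_lit 0x8110640a8) (nat_lit 2050))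
)))) (.node (nat_lit 0x8110654b8) (.node (nat_lit 0x8110644e8) (.node (nat_lit 0x8110644a8) (.leaf (nat_lit 0x8110640e8) (nat_lit 1794))
 (.leaf (nat_lit 0x8110644a8) (nat_lit 3076))
) (.node (nat_lit 0x8110650b8) (.leaf (nat_lit 0x8110644e8) (nat_lit 2820))
 (.node (nat_lit 0x8110650f8) (.leaf (nat_lit 0x8110650b8) (nat_lit 3072))
 (.leaf (nat_lit 0x8110650f8) (nat_lit 2816))
))) (.node (nat_lit 0x8110748e8) (.node (nat_lit 0x8110654f8) (.leaf (nat_lit 0x8110654b8) (nat_lit 2817))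
 (.node (nat_lit 0x8110748a8) (.leaf (nat_lit 0x8110654f8) (nat_lit 3073))
 (.leaf (nat_lit 0x8110748a8) (nat_lit 2817))
)) (.node (nat_lit 0x811074ca8) (.leaf (nat_lit 0x8110748e8) (nat_lit 3073))
 (.node (nat_lit 0x811074ce8) (.leaf (nat_lit 0x811074ca8) (nat_lit 2816))
 (.leaf (nat_lit 0x811074ce8) (nat_lit 2560))
))))))) (.node (nat_lit 0x811445eb8) (.node (nat_lit 0x8114242d8) (.node (nat_lit 0x811405698) (.node (nat_lit 0x8114042d8) (.node (nat_lit 0x811075cb8) (.node (nat_lit 0x8110758f8) (.leaf (nat_lit 0x8110758b8) (nat_lit 3328))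
 (.leaf (nat_lit 0x8110758f8) (nat_lit 3331))
) (.node (nat_lit 0x811075cf8) (.leaf (nat_lit 0x811075cb8) (nat_lit 2305))
 (.node (nat_lit 0x811404288) (.leaf (nat_lit 0x811075cf8) (nat_lit 2049))
 (.leaf (nat_lit 0x811404288) (nat_lit 1281))
))) (.node (nat_lit 0x8114046d8) (.node (nat_lit 0x811404688) (.leaf (nat_lit 0x8114042d8) (nat_lit 2561))
 (.leaf (nat_lit 0x811404688) (nat_lit 2308))
) (.node (nat_lit 0x811405298) (.leaf (nat_lit 0x8114046d8) (nat_lit 3332))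
 (.node (nat_lit 0x8114052c8) (.leaf (nat_lit 0x811405298) (nat_lit 2817))
 (.leaf (nat_lit 0x8114052c8) (nat_lit 1537))
)))) (.node (nat_lit 0x811414ed8) (.node (nat_lit 0x811414a88) (.node (nat_lit 0x8114056c8) (.leaf (nat_lit 0x811405698) (nat_lit 3328))
 (.leaf (nat_lit 0x8114056c8) (nat_lit 2564))
) (.node (nat_lit 0x811414ad8) (.leaf (nat_lit 0x811414a88) (nat_lit 3328))
 (.node (nat_lit 0x811414e88) (.leaf (nat_lit 0x811414ad8) (nat_lit 3073))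
 (.leaf (nat_lit 0x811414e88) (nat_lit 2304))
))) (.node (nat_lit 0x811415e98) (.node (nat_lit 0x811415a98) (.leaf (nat_lit 0x811414ed8) (nat_lit 3328))
 (.node (nat_lit 0x811415ac8) (.leaf (nat_lit 0x811415a98) (nat_lit 2817))
 (.leaf (nat_lit 0x811415ac8) (nat_lit 3330))
)) (.node (nat_lit 0x811415ec8) (.leaf (nat_lit 0x811415e98) (nat_lit 3332))
 (.node (nat_lit 0x811424288) (.leaf (nat_lit 0x811415ec8) (nat_lit 2560))
 (.leaf (nat_lit 0x811424288) (nat_lit 1537))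
))))) (.node (nat_lit 0x811434ed8) (.node (nat_lit 0x811425698) (.node (nat_lit 0x8114246d8) (.node (nat_lit 0x811424688) (.leaf (nat_lit 0x8114242d8) (nat_lit 2817))
 (.leaf (nat_lit 0x811424688) (nat_lit 2564))
) (.node (nat_lit 0x811425298) (.leaf (nat_lit 0x8114246d8) (nat_lit 3331))
 (.node (nat_lit 0x8114252c8) (.leaf (nat_lit 0x811425298) (nat_lit 3073))
 (.leaf (nat_lit 0x8114252c8) (nat_lit 1793))
))) (.node (nat_lit 0x811434a88) (.node (nat_lit 0x8114256c8) (.leaf (nat_lit 0x811425698) (nat_lit 3075))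
 (.leaf (nat_lit 0x8114256c8) (nat_lit 2820))
) (.node (nat_lit 0x811434ad8) (.leaf (nat_lit 0x811434a88) (nat_lit 3075))
 (.node (nat_lit 0x811434e88) (.leaf (nat_lit 0x811434ad8) (nat_lit 3329))
 (.leaf (nat_lit 0x811434e88) (nat_lit 2051))
)))) (.node (nat_lit 0x811444aa8) (.node (nat_lit 0x811435ac8) (.node (nat_lit 0x811435a98) (.leaf (nat_lit 0x811434ed8) (nat_lit 3075))
 (.leaf (nat_lit 0x811435a98) (nat_lit 3073))
) (.node (nat_lit 0x811435e98) (.leaf (nat_lit 0x811435ac8) (nat_lit 3331))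
 (.node (nat_lit 0x811435ec8) (.leaf (nat_lit 0x811435e98) (nat_lit 3331))
 (.leaf (nat_lit 0x811435ec8) (nat_lit 2307))
))) (.node (nat_lit 0x811444ef8) (.node (nat_lit 0x811444af8) (.leaf (nat_lit 0x811444aa8) (nat_lit 2049))
 (.node (nat_lit 0x811444ea8) (.leaf (nat_lit 0x811444af8) (nat_lit 3329))
 (.leaf (nat_lit 0x811444ea8) (nat_lit 3332))
)) (.node (nat_lit 0x811445ab8) (.leaf (nat_lit 0x811444ef8) (nat_lit 2307))
 (.node (nat_lit 0x811445ae8) (.leaf (nat_lit 0x811445ab8) (nat_lit 3073))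
 (.leaf (nat_lit 0x811445ae8) (nat_lit 1793))
)))))) (.node (nat_lit 0x8114746f8) (.node (nat_lit 0x811464aa8) (.node (nat_lit 0x8114546f8) (.node (nat_lit 0x8114542a8) (.node (nat_lit 0x811445ee8) (.leaf (nat_lit 0x811445eb8) (nat_lit 2563))
 (.leaf (nat_lit 0x811445ee8) (nat_lit 3076))
) (.node (nat_lit 0x8114542f8) (.leaf (nat_lit 0x8114542a8) (nat_lit 3330))
 (.node (nat_lit 0x8114546a8) (.leaf (nat_lit 0x8114542f8) (nat_lit 2304))
 (.leaf (nat_lit 0x8114546a8) (nat_lit 2563))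
))) (.node (nat_lit 0x8114552e8) (.node (nat_lit 0x8114552b8) (.leaf (nat_lit 0x8114546f8) (nat_lit 3332))
 (.leaf (nat_lit 0x8114552b8) (nat_lit 2560))
) (.node (nat_lit 0x8114556b8) (.leaf (nat_lit 0x8114552e8) (nat_lit 3331))
 (.node (nat_lit 0x8114556e8) (.leaf (nat_lit 0x8114556b8) (nat_lit 3331))
 (.leaf (nat_lit 0x8114556e8) (nat_lit 2307))
)))) (.node (nat_lit 0x811465ae8) (.node (nat_lit 0x811464ea8) (.node (nat_lit 0x811464af8) (.leaf (nat_lit 0x811464aa8) (nat_lit 1793))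
 (.leaf (nat_lit 0x811464af8) (nat_lit 3073))
) (.node (nat_lit 0x811464ef8) (.leaf (nat_lit 0x811464ea8) (nat_lit 3076))
 (.node (nat_lit 0x811465ab8) (.leaf (nat_lit 0x811464ef8) (nat_lit 2560))
 (.leaf (nat_lit 0x811465ab8) (nat_lit 2817))
))) (.node (nat_lit 0x8114742a8) (.node (nat_lit 0x811465eb8) (.leaf (nat_lit 0x811465ae8) (nat_lit 1537))
 (.node (nat_lit 0x811465ee8) (.leaf (nat_lit 0x811465eb8) (nat_lit 2816))
 (.leaf (nat_lit 0x811465ee8) (nat_lit 2820))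
)) (.node (nat_lit 0x8114742f8) (.leaf (nat_lit 0x8114742a8) (nat_lit 3074))
 (.node (nat_lit 0x8114746a8) (.leaf (nat_lit 0x8114742f8) (nat_lit 2051))
 (.leaf (nat_lit 0x8114746a8) (nat_lit 2819))
))))) (.node (nat_lit 0x81180d8f8) (.node (nat_lit 0x81180c088) (.node (nat_lit 0x8114752e8) (.node (nat_lit 0x8114752b8) (.leaf (nat_lit 0x8114746f8) (nat_lit 3076))
 (.leaf (nat_lit 0x8114752b8) (nat_lit 2307))
) (.node (nat_lit 0x8114756b8) (.leaf (nat_lit 0x8114752e8) (nat_lit 3330))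
 (.node (nat_lit 0x8114756e8) (.leaf (nat_lit 0x8114756b8) (nat_lit 3332))
 (.leaf (nat_lit 0x8114756e8) (nat_lit 2563))
))) (.node (nat_lit 0x81180c488) (.node (nat_lit 0x81180c0e8) (.leaf (nat_lit 0x81180c088) (nat_lit 1282))
 (.leaf (nat_lit 0x81180c0e8) (nat_lit 2050))
) (.node (nat_lit 0x81180c4e8) (.leaf (nat_lit 0x81180c488) (nat_lit 2308))
 (.node (nat_lit 0x81180d898) (.leaf (nat_lit 0x81180c4e8) (nat_lit 3076))
 (.leaf (nat_lit 0x81180d898) (nat_lit 3329))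
)))) (.node (nat_lit 0x81181cc88) (.node (nat_lit 0x81180dcf8) (.node (nat_lit 0x81180dc98) (.leaf (nat_lit 0x81180d8f8) (nat_lit 3331))
 (.leaf (nat_lit 0x81180dc98) (nat_lit 2817))
) (.node (nat_lit 0x81181c888) (.leaf (nat_lit 0x81180dcf8) (nat_lit 2305))
 (.node (nat_lit 0x81181c8e8) (.leaf (nat_lit 0x81181c888) (nat_lit 3332))
 (.leaf (nat_lit 0x81181c8e8) (nat_lit 2817))
))) (.node (nat_lit 0x81181d0f8) (.node (nat_lit 0x81181cce8) (.leaf (nat_lit 0x81181cc88) (nat_lit 2048))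
 (.node (nat_lit 0x81181d098) (.leaf (nat_lit 0x81181cce8) (nat_lit 2816))
 (.leaf (nat_lit 0x81181d098) (nat_lit 3332))
)) (.node (nat_lit 0x81181d498) (.leaf (nat_lit 0x81181d0f8) (nat_lit 2816))
 (.node (nat_lit 0x81181d4f8) (.leaf (nat_lit 0x81181d498) (nat_lit 2305))
 (.leaf (nat_lit 0x81181d4f8) (nat_lit 2817))
))))))))) (.node (nat_lit 0x8310764a8) (.node (nat_lit 0x811c4d2b8) (.node (nat_lit 0x81187cca8) (.node (nat_lit 0x81184d8d8) (.node (nat_lit 0x81183cc88) (.node (nat_lit 0x81182d8f8) (.node (nat_lit 0x81182c488) (.node (nat_lit 0x81182c0e8) (.leaf (nat_lit 0x81182c088) (nat_lit 1538))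
 (.leaf (nat_lit 0x81182c0e8) (nat_lit 2306))
) (.node (nat_lit 0x81182c4e8) (.leaf (nat_lit 0x81182c488) (nat_lit 2564))
 (.node (nat_lit 0x81182d898) (.leaf (nat_lit 0x81182c4e8) (nat_lit 3332))
 (.leaf (nat_lit 0x81182d898) (nat_lit 3073))
))) (.node (nat_lit 0x81182dcf8) (.node (nat_lit 0x81182dc98) (.leaf (nat_lit 0x81182d8f8) (nat_lit 3331))
 (.leaf (nat_lit 0x81182dc98) (nat_lit 3073))
) (.node (nat_lit 0x81183c888) (.leaf (nat_lit 0x81182dcf8) (nat_lit 2561))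
 (.node (nat_lit 0x81183c8e8) (.leaf (nat_lit 0x81183c888) (nat_lit 3076))
 (.leaf (nat_lit 0x81183c8e8) (nat_lit 3073))
)))) (.node (nat_lit 0x81183d4f8) (.node (nat_lit 0x81183d098) (.node (nat_lit 0x81183cce8) (.leaf (nat_lit 0x81183cc88) (nat_lit 1795))
 (.leaf (nat_lit 0x81183cce8) (nat_lit 2563))
) (.node (nat_lit 0x81183d0f8) (.leaf (nat_lit 0x81183d098) (nat_lit 3331))
 (.node (nat_lit 0x81183d498) (.leaf (nat_lit 0x81183d0f8) (nat_lit 2563))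
 (.leaf (nat_lit 0x81183d498) (nat_lit 2561))
))) (.node (nat_lit 0x81184c4a8) (.node (nat_lit 0x81184c0a8) (.leaf (nat_lit 0x81183d4f8) (nat_lit 3073))
 (.node (nat_lit 0x81184c0c8) (.leaf (nat_lit 0x81184c0a8) (nat_lit 2306))
 (.leaf (nat_lit 0x81184c0c8) (nat_lit 1538))
)) (.node (nat_lit 0x81184c4c8) (.leaf (nat_lit 0x81184c4a8) (nat_lit 3332))
 (.node (nat_lit 0x81184d8b8) (.leaf (nat_lit 0x81184c4c8) (nat_lit 2564))
 (.leaf (nat_lit 0x81184d8b8) (nat_lit 3328))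
))))) (.node (nat_lit 0x81185d4d8) (.node (nat_lit 0x81185cca8) (.node (nat_lit 0x81184dcd8) (.node (nat_lit 0x81184dcb8) (.leaf (nat_lit 0x81184d8d8) (nat_lit 3073))
 (.leaf (nat_lit 0x81184dcb8) (nat_lit 2561))
) (.node (nat_lit 0x81185c8a8) (.leaf (nat_lit 0x81184dcd8) (nat_lit 3073))
 (.node (nat_lit 0x81185c8c8) (.leaf (nat_lit 0x81185c8a8) (nat_lit 2561))
 (.leaf (nat_lit 0x81185c8c8) (nat_lit 3329))
))) (.node (nat_lit 0x81185d0b8) (.node (nat_lit 0x81185ccc8) (.leaf (nat_lit 0x81185cca8) (nat_lit 3072))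
 (.leaf (nat_lit 0x81185ccc8) (nat_lit 2304))
) (.node (nat_lit 0x81185d0d8) (.leaf (nat_lit 0x81185d0b8) (nat_lit 3072))
 (.node (nat_lit 0x81185d4b8) (.leaf (nat_lit 0x81185d0d8) (nat_lit 3076))
 (.leaf (nat_lit 0x81185d4b8) (nat_lit 2561))
)))) (.node (nat_lit 0x81186d8b8) (.node (nat_lit 0x81186c0c8) (.node (nat_lit 0x81186c0a8) (.leaf (nat_lit 0x81185d4d8) (nat_lit 2049))
 (.leaf (nat_lit 0x81186c0a8) (nat_lit 2562))
) (.node (nat_lit 0x81186c4a8) (.leaf (nat_lit 0x81186c0c8) (nat_lit 1794))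
 (.node (nat_lit 0x81186c4c8) (.leaf (nat_lit 0x81186c4a8) (nat_lit 3331))
 (.leaf (nat_lit 0x81186c4c8) (nat_lit 2820))
))) (.node (nat_lit 0x81186dcd8) (.node (nat_lit 0x81186d8d8) (.leaf (nat_lit 0x81186d8b8) (nat_lit 3075))
 (.node (nat_lit 0x81186dcb8) (.leaf (nat_lit 0x81186d8d8) (nat_lit 2817))
 (.leaf (nat_lit 0x81186dcb8) (nat_lit 2817))
)) (.node (nat_lit 0x81187c8a8) (.leaf (nat_lit 0x81186dcd8) (nat_lit 3329))
 (.node (nat_lit 0x81187c8c8) (.leaf (nat_lit 0x81187c8a8) (nat_lit 2817))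
 (.leaf (nat_lit 0x81187c8c8) (nat_lit 3332))
)))))) (.node (nat_lit 0x811c1d6e8) (.node (nat_lit 0x811c0da98) (.node (nat_lit 0x81187d4d8) (.node (nat_lit 0x81187d0b8) (.node (nat_lit 0x81187ccc8) (.leaf (nat_lit 0x81187cca8) (nat_lit 2819))
 (.leaf (nat_lit 0x81187ccc8) (nat_lit 2051))
) (.node (nat_lit 0x81187d0d8) (.leaf (nat_lit 0x81187d0b8) (nat_lit 2819))
 (.node (nat_lit 0x81187d4b8) (.leaf (nat_lit 0x81187d0d8) (nat_lit 3332))
 (.leaf (nat_lit 0x81187d4b8) (nat_lit 2817))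
))) (.node (nat_lit 0x811c0c2f8) (.node (nat_lit 0x811c0c288) (.leaf (nat_lit 0x81187d4d8) (nat_lit 2305))
 (.leaf (nat_lit 0x811c0c288) (nat_lit 1025))
) (.node (nat_lit 0x811c0c688) (.leaf (nat_lit 0x811c0c2f8) (nat_lit 2305))
 (.node (nat_lit 0x811c0c6f8) (.leaf (nat_lit 0x811c0c688) (nat_lit 2308))
 (.leaf (nat_lit 0x811c0c6f8) (nat_lit 3328))
)))) (.node (nat_lit 0x811c1caf8) (.node (nat_lit 0x811c0de98) (.node (nat_lit 0x811c0dae8) (.leaf (nat_lit 0x811c0da98) (nat_lit 3073))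
 (.leaf (nat_lit 0x811c0dae8) (nat_lit 1793))
) (.node (nat_lit 0x811c0dee8) (.leaf (nat_lit 0x811c0de98) (nat_lit 3072))
 (.node (nat_lit 0x811c1ca88) (.leaf (nat_lit 0x811c0dee8) (nat_lit 2820))
 (.leaf (nat_lit 0x811c1ca88) (nat_lit 3072))
))) (.node (nat_lit 0x811c1d298) (.node (nat_lit 0x811c1ce88) (.leaf (nat_lit 0x811c1caf8) (nat_lit 2819))
 (.node (nat_lit 0x811c1cef8) (.leaf (nat_lit 0x811c1ce88) (nat_lit 2051))
 (.leaf (nat_lit 0x811c1cef8) (nat_lit 3072))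
)) (.node (nat_lit 0x811c1d2e8) (.leaf (nat_lit 0x811c1d298) (nat_lit 2563))
 (.node (nat_lit 0x811c1d698) (.leaf (nat_lit 0x811c1d2e8) (nat_lit 3074))
 (.leaf (nat_lit 0x811c1d698) (nat_lit 3076))
))))) (.node (nat_lit 0x811c3caf8) (.node (nat_lit 0x811c2da98) (.node (nat_lit 0x811c2c2f8) (.node (nat_lit 0x811c2c288) (.leaf (nat_lit 0x811c1d6e8) (nat_lit 2816))
 (.leaf (nat_lit 0x811c2c288) (nat_lit 1281))
) (.node (nat_lit 0x811c2c688) (.leaf (nat_lit 0x811c2c2f8) (nat_lit 2561))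
 (.node (nat_lit 0x811c2c6f8) (.leaf (nat_lit 0x811c2c688) (nat_lit 2564))
 (.leaf (nat_lit 0x811c2c6f8) (nat_lit 3075))
))) (.node (nat_lit 0x811c2de98) (.node (nat_lit 0x811c2dae8) (.leaf (nat_lit 0x811c2da98) (nat_lit 3329))
 (.leaf (nat_lit 0x811c2dae8) (nat_lit 2049))
) (.node (nat_lit 0x811c2dee8) (.leaf (nat_lit 0x811c2de98) (nat_lit 2819))
 (.node (nat_lit 0x811c3ca88) (.leaf (nat_lit 0x811c2dee8) (nat_lit 3076))
 (.leaf (nat_lit 0x811c3ca88) (nat_lit 2819))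
)))) (.node (nat_lit 0x811c3d698) (.node (nat_lit 0x811c3cef8) (.node (nat_lit 0x811c3ce88) (.leaf (nat_lit 0x811c3caf8) (nat_lit 3072))
 (.leaf (nat_lit 0x811c3ce88) (nat_lit 1795))
) (.node (nat_lit 0x811c3d298) (.leaf (nat_lit 0x811c3cef8) (nat_lit 2819))
 (.node (nat_lit 0x811c3d2e8) (.leaf (nat_lit 0x811c3d298) (nat_lit 2816))
 (.leaf (nat_lit 0x811c3d2e8) (nat_lit 3330))
))) (.node (nat_lit 0x811c4cad8) (.node (nat_lit 0x811c3d6e8) (.leaf (nat_lit 0x811c3d698) (nat_lit 3332))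
 (.node (nat_lit 0x811c4caa8) (.leaf (nat_lit 0x811c3d6e8) (nat_lit 2563))
 (.leaf (nat_lit 0x811c4caa8) (nat_lit 2049))
)) (.node (nat_lit 0x811c4cea8) (.leaf (nat_lit 0x811c4cad8) (nat_lit 3329))
 (.node (nat_lit 0x811c4ced8) (.leaf (nat_lit 0x811c4cea8) (nat_lit 3076))
 (.leaf (nat_lit 0x811c4ced8) (nat_lit 2816))
))))))) (.node (nat_lit 0x8310178b8) (.node (nat_lit 0x811c7c2d8) (.node (nat_lit 0x811c5deb8) (.node (nat_lit 0x811c5c2d8) (.node (nat_lit 0x811c4d6b8) (.node (nat_lit 0x811c4d2c8) (.leaf (nat_lit 0x811c4d2b8) (nat_lit 2561))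
 (.leaf (nat_lit 0x811c4d2c8) (nat_lit 1281))
) (.node (nat_lit 0x811c4d6c8) (.leaf (nat_lit 0x811c4d6b8) (nat_lit 3072))
 (.node (nat_lit 0x811c5c2a8) (.leaf (nat_lit 0x811c4d6c8) (nat_lit 2564))
 (.leaf (nat_lit 0x811c5c2a8) (nat_lit 2818))
))) (.node (nat_lit 0x811c5c6d8) (.node (nat_lit 0x811c5c6a8) (.leaf (nat_lit 0x811c5c2d8) (nat_lit 2307))
 (.leaf (nat_lit 0x811c5c6a8) (nat_lit 3072))
) (.node (nat_lit 0x811c5dab8) (.leaf (nat_lit 0x811c5c6d8) (nat_lit 2820))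
 (.node (nat_lit 0x811c5dac8) (.leaf (nat_lit 0x811c5dab8) (nat_lit 2563))
 (.leaf (nat_lit 0x811c5dac8) (nat_lit 3328))
)))) (.node (nat_lit 0x811c6ced8) (.node (nat_lit 0x811c6caa8) (.node (nat_lit 0x811c5dec8) (.leaf (nat_lit 0x811c5deb8) (nat_lit 3328))
 (.leaf (nat_lit 0x811c5dec8) (nat_lit 2307))
) (.node (nat_lit 0x811c6cad8) (.leaf (nat_lit 0x811c6caa8) (nat_lit 2305))
 (.node (nat_lit 0x811c6cea8) (.leaf (nat_lit 0x811c6cad8) (nat_lit 3585))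
 (.leaf (nat_lit 0x811c6cea8) (nat_lit 3332))
))) (.node (nat_lit 0x811c6d6b8) (.node (nat_lit 0x811c6d2b8) (.leaf (nat_lit 0x811c6ced8) (nat_lit 2563))
 (.node (nat_lit 0x811c6d2c8) (.leaf (nat_lit 0x811c6d2b8) (nat_lit 2817))
 (.leaf (nat_lit 0x811c6d2c8) (nat_lit 1537))
)) (.node (nat_lit 0x811c6d6c8) (.leaf (nat_lit 0x811c6d6b8) (nat_lit 2819))
 (.node (nat_lit 0x811c7c2a8) (.leaf (nat_lit 0x811c6d6c8) (nat_lit 2820))
 (.leaf (nat_lit 0x811c7c2a8) (nat_lit 3074))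
))))) (.node (nat_lit 0x831006cc8) (.node (nat_lit 0x811c7deb8) (.node (nat_lit 0x811c7c6d8) (.node (nat_lit 0x811c7c6a8) (.leaf (nat_lit 0x811c7c2d8) (nat_lit 2560))
 (.leaf (nat_lit 0x811c7c6a8) (nat_lit 2819))
) (.node (nat_lit 0x811c7dab8) (.leaf (nat_lit 0x811c7c6d8) (nat_lit 3076))
 (.node (nat_lit 0x811c7dac8) (.leaf (nat_lit 0x811c7dab8) (nat_lit 2816))
 (.leaf (nat_lit 0x811c7dac8) (nat_lit 3075))
))) (.node (nat_lit 0x831006088) (.node (nat_lit 0x811c7dec8) (.leaf (nat_lit 0x811c7deb8) (nat_lit 3075))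
 (.leaf (nat_lit 0x811c7dec8) (nat_lit 2051))
) (.node (nat_lit 0x8310060c8) (.leaf (nat_lit 0x831006088) (nat_lit 1538))
 (.node (nat_lit 0x831006c88) (.leaf (nat_lit 0x8310060c8) (nat_lit 1794))
 (.leaf (nat_lit 0x831006c88) (nat_lit 2308))
)))) (.node (nat_lit 0x831016488) (.node (nat_lit 0x8310070f8) (.node (nat_lit 0x8310070b8) (.leaf (nat_lit 0x831006cc8) (nat_lit 2564))
 (.leaf (nat_lit 0x8310070b8) (nat_lit 3076))
) (.node (nat_lit 0x831007cb8) (.leaf (nat_lit 0x8310070f8) (nat_lit 2820))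
 (.node (nat_lit 0x831007cf8) (.leaf (nat_lit 0x831007cb8) (nat_lit 2564))
 (.leaf (nat_lit 0x831007cf8) (nat_lit 2308))
))) (.node (nat_lit 0x8310168c8) (.node (nat_lit 0x8310164c8) (.leaf (nat_lit 0x831016488) (nat_lit 2307))
 (.node (nat_lit 0x831016888) (.leaf (nat_lit 0x8310164c8) (nat_lit 2563))
 (.leaf (nat_lit 0x831016888) (nat_lit 3075))
)) (.node (nat_lit 0x8310174b8) (.leaf (nat_lit 0x8310168c8) (nat_lit 3331))
 (.node (nat_lit 0x8310174f8) (.leaf (nat_lit 0x8310174b8) (nat_lit 3073))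
 (.leaf (nat_lit 0x8310174f8) (nat_lit 3329))
)))))) (.node (nat_lit 0x831046ce8) (.node (nat_lit 0x831036488) (.node (nat_lit 0x831026cc8) (.node (nat_lit 0x831026088) (.node (nat_lit 0x8310178f8) (.leaf (nat_lit 0x8310178b8) (nat_lit 3331))
 (.leaf (nat_lit 0x8310178f8) (nat_lit 3075))
) (.node (nat_lit 0x8310260c8) (.leaf (nat_lit 0x831026088) (nat_lit 1794))
 (.node (nat_lit 0x831026c88) (.leaf (nat_lit 0x8310260c8) (nat_lit 2050))
 (.leaf (nat_lit 0x831026c88) (nat_lit 2564))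
))) (.node (nat_lit 0x8310270f8) (.node (nat_lit 0x8310270b8) (.leaf (nat_lit 0x831026cc8) (nat_lit 2820))
 (.leaf (nat_lit 0x8310270b8) (nat_lit 3332))
) (.node (nat_lit 0x831027cb8) (.leaf (nat_lit 0x8310270f8) (nat_lit 3076))
 (.node (nat_lit 0x831027cf8) (.leaf (nat_lit 0x831027cb8) (nat_lit 2820))
 (.leaf (nat_lit 0x831027cf8) (nat_lit 2564))
)))) (.node (nat_lit 0x8310374f8) (.node (nat_lit 0x831036888) (.node (nat_lit 0x8310364c8) (.leaf (nat_lit 0x831036488) (nat_lit 2560))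
 (.leaf (nat_lit 0x8310364c8) (nat_lit 2816))
) (.node (nat_lit 0x8310368c8) (.leaf (nat_lit 0x831036888) (nat_lit 3328))
 (.node (nat_lit 0x8310374b8) (.leaf (nat_lit 0x8310368c8) (nat_lit 3329))
 (.leaf (nat_lit 0x8310374b8) (nat_lit 2817))
))) (.node (nat_lit 0x8310460a8) (.node (nat_lit 0x8310378b8) (.leaf (nat_lit 0x8310374f8) (nat_lit 3073))
 (.node (nat_lit 0x8310378f8) (.leaf (nat_lit 0x8310378b8) (nat_lit 3332))
 (.leaf (nat_lit 0x8310378f8) (nat_lit 3328))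
)) (.node (nat_lit 0x8310460e8) (.leaf (nat_lit 0x8310460a8) (nat_lit 2562))
 (.node (nat_lit 0x831046ca8) (.leaf (nat_lit 0x8310460e8) (nat_lit 2306))
 (.leaf (nat_lit 0x831046ca8) (nat_lit 3076))
))))) (.node (nat_lit 0x8310574d8) (.node (nat_lit 0x8310564a8) (.node (nat_lit 0x8310470d8) (.node (nat_lit 0x831047098) (.leaf (nat_lit 0x831046ce8) (nat_lit 2820))
 (.leaf (nat_lit 0x831047098) (nat_lit 3075))
) (.node (nat_lit 0x831047c98) (.leaf (nat_lit 0x8310470d8) (nat_lit 2819))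
 (.node (nat_lit 0x831047cd8) (.leaf (nat_lit 0x831047c98) (nat_lit 3076))
 (.leaf (nat_lit 0x831047cd8) (nat_lit 3332))
))) (.node (nat_lit 0x8310568a8) (.node (nat_lit 0x8310564e8) (.leaf (nat_lit 0x8310564a8) (nat_lit 3072))
 (.leaf (nat_lit 0x8310564e8) (nat_lit 2816))
) (.node (nat_lit 0x8310568e8) (.leaf (nat_lit 0x8310568a8) (nat_lit 2817))
 (.node (nat_lit 0x831057498) (.leaf (nat_lit 0x8310568e8) (nat_lit 3073))
 (.leaf (nat_lit 0x831057498) (nat_lit 2561))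
)))) (.node (nat_lit 0x831066ca8) (.node (nat_lit 0x8310578d8) (.node (nat_lit 0x831057898) (.leaf (nat_lit 0x8310574d8) (nat_lit 2305))
 (.leaf (nat_lit 0x831057898) (nat_lit 3332))
) (.node (nat_lit 0x8310660a8) (.leaf (nat_lit 0x8310578d8) (nat_lit 3076))
 (.node (nat_lit 0x8310660e8) (.leaf (nat_lit 0x8310660a8) (nat_lit 2306))
 (.leaf (nat_lit 0x8310660e8) (nat_lit 2050))
))) (.node (nat_lit 0x8310670d8) (.node (nat_lit 0x831066ce8) (.leaf (nat_lit 0x831066ca8) (nat_lit 2820))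
 (.node (nat_lit 0x831067098) (.leaf (nat_lit 0x831066ce8) (nat_lit 2564))
 (.leaf (nat_lit 0x831067098) (nat_lit 3328))
)) (.node (nat_lit 0x831067c98) (.leaf (nat_lit 0x8310670d8) (nat_lit 3072))
 (.node (nat_lit 0x831067cd8) (.leaf (nat_lit 0x831067c98) (nat_lit 2820))
 (.leaf (nat_lit 0x831067cd8) (nat_lit 3076))
)))))))) (.node (nat_lit 0x83181f0b8) (.node (nat_lit 0x83144eaa8) (.node (nat_lit 0x83141f2e8) (.node (nat_lit 0x83140ee88) (.node (nat_lit 0x8310774d8) (.node (nat_lit 0x8310768a8) (.node (nat_lit 0x8310764e8) (.leaf (nat_lit 0x8310764a8) (nat_lit 2819))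
 (.leaf (nat_lit 0x8310764e8) (nat_lit 2563))
) (.node (nat_lit 0x8310768e8) (.leaf (nat_lit 0x8310768a8) (nat_lit 3073))
 (.node (nat_lit 0x831077498) (.leaf (nat_lit 0x8310768e8) (nat_lit 3329))
 (.leaf (nat_lit 0x831077498) (nat_lit 2817))
))) (.node (nat_lit 0x8310778d8) (.node (nat_lit 0x831077898) (.leaf (nat_lit 0x8310774d8) (nat_lit 2561))
 (.leaf (nat_lit 0x831077898) (nat_lit 3331))
) (.node (nat_lit 0x83140e288) (.leaf (nat_lit 0x8310778d8) (nat_lit 3332))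
 (.node (nat_lit 0x83140e2d8) (.leaf (nat_lit 0x83140e288) (nat_lit 1281))
 (.leaf (nat_lit 0x83140e2d8) (nat_lit 2561))
)))) (.node (nat_lit 0x83140fae8) (.node (nat_lit 0x83140f6b8) (.node (nat_lit 0x83140eed8) (.leaf (nat_lit 0x83140ee88) (nat_lit 2308))
 (.leaf (nat_lit 0x83140eed8) (nat_lit 3330))
) (.node (nat_lit 0x83140f6e8) (.leaf (nat_lit 0x83140f6b8) (nat_lit 3328))
 (.node (nat_lit 0x83140fab8) (.leaf (nat_lit 0x83140f6e8) (nat_lit 2564))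
 (.leaf (nat_lit 0x83140fab8) (nat_lit 3074))
))) (.node (nat_lit 0x83141ea88) (.node (nat_lit 0x83141e688) (.leaf (nat_lit 0x83140fae8) (nat_lit 1796))
 (.node (nat_lit 0x83141e6d8) (.leaf (nat_lit 0x83141e688) (nat_lit 2051))
 (.leaf (nat_lit 0x83141e6d8) (nat_lit 3075))
)) (.node (nat_lit 0x83141ead8) (.leaf (nat_lit 0x83141ea88) (nat_lit 2819))
 (.node (nat_lit 0x83141f2b8) (.leaf (nat_lit 0x83141ead8) (nat_lit 3328))
 (.leaf (nat_lit 0x83141f2b8) (nat_lit 2820))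
))))) (.node (nat_lit 0x83142fae8) (.node (nat_lit 0x83142ee88) (.node (nat_lit 0x83141fee8) (.node (nat_lit 0x83141feb8) (.leaf (nat_lit 0x83141f2e8) (nat_lit 3331))
 (.leaf (nat_lit 0x83141feb8) (nat_lit 3076))
) (.node (nat_lit 0x83142e288) (.leaf (nat_lit 0x83141fee8) (nat_lit 2563))
 (.node (nat_lit 0x83142e2d8) (.leaf (nat_lit 0x83142e288) (nat_lit 1537))
 (.leaf (nat_lit 0x83142e2d8) (nat_lit 2817))
))) (.node (nat_lit 0x83142f6b8) (.node (nat_lit 0x83142eed8) (.leaf (nat_lit 0x83142ee88) (nat_lit 2564))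
 (.leaf (nat_lit 0x83142eed8) (nat_lit 3331))
) (.node (nat_lit 0x83142f6e8) (.leaf (nat_lit 0x83142f6b8) (nat_lit 3075))
 (.node (nat_lit 0x83142fab8) (.leaf (nat_lit 0x83142f6e8) (nat_lit 2820))
 (.leaf (nat_lit 0x83142fab8) (nat_lit 3330))
)))) (.node (nat_lit 0x83143f2b8) (.node (nat_lit 0x83143e6d8) (.node (nat_lit 0x83143e688) (.leaf (nat_lit 0x83142fae8) (nat_lit 2052))
 (.leaf (nat_lit 0x83143e688) (nat_lit 2307))
) (.node (nat_lit 0x83143ea88) (.leaf (nat_lit 0x83143e6d8) (nat_lit 3328))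
 (.node (nat_lit 0x83143ead8) (.leaf (nat_lit 0x83143ea88) (nat_lit 3072))
 (.leaf (nat_lit 0x83143ead8) (nat_lit 3075))
))) (.node (nat_lit 0x83143fee8) (.node (nat_lit 0x83143f2e8) (.leaf (nat_lit 0x83143f2b8) (nat_lit 2564))
 (.node (nat_lit 0x83143feb8) (.leaf (nat_lit 0x83143f2e8) (nat_lit 3330))
 (.leaf (nat_lit 0x83143feb8) (nat_lit 2820))
)) (.node (nat_lit 0x83144e6a8) (.leaf (nat_lit 0x83143fee8) (nat_lit 2819))
 (.node (nat_lit 0x83144e6f8) (.leaf (nat_lit 0x83144e6a8) (nat_lit 2820))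
 (.leaf (nat_lit 0x83144e6f8) (nat_lit 3072))
)))))) (.node (nat_lit 0x83146fec8) (.node (nat_lit 0x83145f698) (.node (nat_lit 0x83144fec8) (.node (nat_lit 0x83144f298) (.node (nat_lit 0x83144eaf8) (.leaf (nat_lit 0x83144eaa8) (nat_lit 2052))
 (.leaf (nat_lit 0x83144eaf8) (nat_lit 3330))
) (.node (nat_lit 0x83144f2c8) (.leaf (nat_lit 0x83144f298) (nat_lit 2817))
 (.node (nat_lit 0x83144fe98) (.leaf (nat_lit 0x83144f2c8) (nat_lit 1537))
 (.leaf (nat_lit 0x83144fe98) (nat_lit 3328))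
))) (.node (nat_lit 0x83145e2f8) (.node (nat_lit 0x83145e2a8) (.leaf (nat_lit 0x83144fec8) (nat_lit 2564))
 (.leaf (nat_lit 0x83145e2a8) (nat_lit 3330))
) (.node (nat_lit 0x83145eea8) (.leaf (nat_lit 0x83145e2f8) (nat_lit 2564))
 (.node (nat_lit 0x83145eef8) (.leaf (nat_lit 0x83145eea8) (nat_lit 2819))
 (.leaf (nat_lit 0x83145eef8) (nat_lit 2820))
)))) (.node (nat_lit 0x83146e6f8) (.node (nat_lit 0x83145fa98) (.node (nat_lit 0x83145f6c8) (.leaf (nat_lit 0x83145f698) (nat_lit 3331))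
 (.leaf (nat_lit 0x83145f6c8) (nat_lit 2307))
) (.node (nat_lit 0x83145fac8) (.leaf (nat_lit 0x83145fa98) (nat_lit 3072))
 (.node (nat_lit 0x83146e6a8) (.leaf (nat_lit 0x83145fac8) (nat_lit 3075))
 (.leaf (nat_lit 0x83146e6a8) (nat_lit 3076))
))) (.node (nat_lit 0x83146f298) (.node (nat_lit 0x83146eaa8) (.leaf (nat_lit 0x83146e6f8) (nat_lit 2819))
 (.node (nat_lit 0x83146eaf8) (.leaf (nat_lit 0x83146eaa8) (nat_lit 2308))
 (.leaf (nat_lit 0x83146eaf8) (nat_lit 3331))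
)) (.node (nat_lit 0x83146f2c8) (.leaf (nat_lit 0x83146f298) (nat_lit 3073))
 (.node (nat_lit 0x83146fe98) (.leaf (nat_lit 0x83146f2c8) (nat_lit 1793))
 (.leaf (nat_lit 0x83146fe98) (nat_lit 3075))
))))) (.node (nat_lit 0x83180e0e8) (.node (nat_lit 0x83147f698) (.node (nat_lit 0x83147e2f8) (.node (nat_lit 0x83147e2a8) (.leaf (nat_lit 0x83146fec8) (nat_lit 2820))
 (.leaf (nat_lit 0x83147e2a8) (nat_lit 3074))
) (.node (nat_lit 0x83147eea8) (.leaf (nat_lit 0x83147e2f8) (nat_lit 2308))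
 (.node (nat_lit 0x83147eef8) (.leaf (nat_lit 0x83147eea8) (nat_lit 3075))
 (.leaf (nat_lit 0x83147eef8) (nat_lit 2564))
))) (.node (nat_lit 0x83147fa98) (.node (nat_lit 0x83147f6c8) (.leaf (nat_lit 0x83147f698) (nat_lit 3332))
 (.leaf (nat_lit 0x83147f6c8) (nat_lit 2563))
) (.node (nat_lit 0x83147fac8) (.leaf (nat_lit 0x83147fa98) (nat_lit 2819))
 (.node (nat_lit 0x83180e088) (.leaf (nat_lit 0x83147fac8) (nat_lit 3328))
 (.leaf (nat_lit 0x83180e088) (nat_lit 1538))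
)))) (.node (nat_lit 0x83180f8b8) (.node (nat_lit 0x83180ece8) (.node (nat_lit 0x83180ec88) (.leaf (nat_lit 0x83180e0e8) (nat_lit 2050))
 (.leaf (nat_lit 0x83180ec88) (nat_lit 2052))
) (.node (nat_lit 0x83180f4b8) (.leaf (nat_lit 0x83180ece8) (nat_lit 2820))
 (.node (nat_lit 0x83180f4d8) (.leaf (nat_lit 0x83180f4b8) (nat_lit 2820))
 (.leaf (nat_lit 0x83180f4d8) (nat_lit 2308))
))) (.node (nat_lit 0x83181e4e8) (.node (nat_lit 0x83180f8d8) (.leaf (nat_lit 0x83180f8b8) (nat_lit 3332))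
 (.node (nat_lit 0x83181e488) (.leaf (nat_lit 0x83180f8d8) (nat_lit 3076))
 (.leaf (nat_lit 0x83181e488) (nat_lit 2051))
)) (.node (nat_lit 0x83181e888) (.leaf (nat_lit 0x83181e4e8) (nat_lit 2819))
 (.node (nat_lit 0x83181e8e8) (.leaf (nat_lit 0x83181e888) (nat_lit 2819))
 (.leaf (nat_lit 0x83181e8e8) (nat_lit 3332))
))))))) (.node (nat_lit 0x83186f898) (.node (nat_lit 0x83184e0c8) (.node (nat_lit 0x83182f8b8) (.node (nat_lit 0x83182e0e8) (.node (nat_lit 0x83181fcb8) (.node (nat_lit 0x83181f0d8) (.leaf (nat_lit 0x83181f0b8) (nat_lit 3332))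
 (.leaf (nat_lit 0x83181f0d8) (nat_lit 2819))
) (.node (nat_lit 0x83181fcd8) (.leaf (nat_lit 0x83181fcb8) (nat_lit 2817))
 (.node (nat_lit 0x83182e088) (.leaf (nat_lit 0x83181fcd8) (nat_lit 3329))
 (.leaf (nat_lit 0x83182e088) (nat_lit 1794))
))) (.node (nat_lit 0x83182ece8) (.node (nat_lit 0x83182ec88) (.leaf (nat_lit 0x83182e0e8) (nat_lit 2306))
 (.leaf (nat_lit 0x83182ec88) (nat_lit 2308))
) (.node (nat_lit 0x83182f4b8) (.leaf (nat_lit 0x83182ece8) (nat_lit 3076))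
 (.node (nat_lit 0x83182f4d8) (.leaf (nat_lit 0x83182f4b8) (nat_lit 3076))
 (.leaf (nat_lit 0x83182f4d8) (nat_lit 2564))
)))) (.node (nat_lit 0x83183e8e8) (.node (nat_lit 0x83183e488) (.node (nat_lit 0x83182f8d8) (.leaf (nat_lit 0x83182f8b8) (nat_lit 3331))
 (.leaf (nat_lit 0x83182f8d8) (nat_lit 3332))
) (.node (nat_lit 0x83183e4e8) (.leaf (nat_lit 0x83183e488) (nat_lit 2304))
 (.node (nat_lit 0x83183e888) (.leaf (nat_lit 0x83183e4e8) (nat_lit 3072))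
 (.leaf (nat_lit 0x83183e888) (nat_lit 3075))
))) (.node (nat_lit 0x83183fcb8) (.node (nat_lit 0x83183f0b8) (.leaf (nat_lit 0x83183e8e8) (nat_lit 3076))
 (.node (nat_lit 0x83183f0d8) (.leaf (nat_lit 0x83183f0b8) (nat_lit 3076))
 (.leaf (nat_lit 0x83183f0d8) (nat_lit 3072))
)) (.node (nat_lit 0x83183fcd8) (.leaf (nat_lit 0x83183fcb8) (nat_lit 2561))
 (.node (nat_lit 0x83184e0a8) (.leaf (nat_lit 0x83183fcd8) (nat_lit 3073))
 (.leaf (nat_lit 0x83184e0a8) (nat_lit 2306))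
))))) (.node (nat_lit 0x83185e8c8) (.node (nat_lit 0x83184f898) (.node (nat_lit 0x83184ecc8) (.node (nat_lit 0x83184eca8) (.leaf (nat_lit 0x83184e0c8) (nat_lit 1794))
 (.leaf (nat_lit 0x83184eca8) (nat_lit 3076))
) (.node (nat_lit 0x83184f498) (.leaf (nat_lit 0x83184ecc8) (nat_lit 2308))
 (.node (nat_lit 0x83184f4f8) (.leaf (nat_lit 0x83184f498) (nat_lit 2564))
 (.leaf (nat_lit 0x83184f4f8) (nat_lit 3076))
))) (.node (nat_lit 0x83185e4a8) (.node (nat_lit 0x83184f8f8) (.leaf (nat_lit 0x83184f898) (nat_lit 3332))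
 (.leaf (nat_lit 0x83184f8f8) (nat_lit 3328))
) (.node (nat_lit 0x83185e4c8) (.leaf (nat_lit 0x83185e4a8) (nat_lit 3075))
 (.node (nat_lit 0x83185e8a8) (.leaf (nat_lit 0x83185e4c8) (nat_lit 2307))
 (.leaf (nat_lit 0x83185e8a8) (nat_lit 3076))
)))) (.node (nat_lit 0x83186e0a8) (.node (nat_lit 0x83185f0f8) (.node (nat_lit 0x83185f098) (.leaf (nat_lit 0x83185e8c8) (nat_lit 3075))
 (.leaf (nat_lit 0x83185f098) (nat_lit 3075))
) (.node (nat_lit 0x83185fc98) (.leaf (nat_lit 0x83185f0f8) (nat_lit 3076))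
 (.node (nat_lit 0x83185fcf8) (.leaf (nat_lit 0x83185fc98) (nat_lit 3073))
 (.leaf (nat_lit 0x83185fcf8) (nat_lit 2561))
))) (.node (nat_lit 0x83186ecc8) (.node (nat_lit 0x83186e0c8) (.leaf (nat_lit 0x83186e0a8) (nat_lit 2562))
 (.node (nat_lit 0x83186eca8) (.leaf (nat_lit 0x83186e0c8) (nat_lit 2050))
 (.leaf (nat_lit 0x83186eca8) (nat_lit 3332))
)) (.node (nat_lit 0x83186f498) (.leaf (nat_lit 0x83186ecc8) (nat_lit 2564))
 (.node (nat_lit 0x83186f4f8) (.leaf (nat_lit 0x83186f498) (nat_lit 2820))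
 (.leaf (nat_lit 0x83186f4f8) (nat_lit 3332))
)))))) (.node (nat_lit 0x831c16af8) (.node (nat_lit 0x831c06288) (.node (nat_lit 0x83187e8c8) (.node (nat_lit 0x83187e4a8) (.node (nat_lit 0x83186f8f8) (.leaf (nat_lit 0x83186f898) (nat_lit 3331))
 (.leaf (nat_lit 0x83186f8f8) (nat_lit 3075))
) (.node (nat_lit 0x83187e4c8) (.leaf (nat_lit 0x83187e4a8) (nat_lit 3328))
 (.node (nat_lit 0x83187e8a8) (.leaf (nat_lit 0x83187e4c8) (nat_lit 2560))
 (.leaf (nat_lit 0x83187e8a8) (nat_lit 2820))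
))) (.node (nat_lit 0x83187f0f8) (.node (nat_lit 0x83187f098) (.leaf (nat_lit 0x83187e8c8) (nat_lit 3331))
 (.leaf (nat_lit 0x83187f098) (nat_lit 3328))
) (.node (nat_lit 0x83187fc98) (.leaf (nat_lit 0x83187f0f8) (nat_lit 2820))
 (.node (nat_lit 0x83187fcf8) (.leaf (nat_lit 0x83187fc98) (nat_lit 2817))
 (.leaf (nat_lit 0x83187fcf8) (nat_lit 2305))
)))) (.node (nat_lit 0x831c072c8) (.node (nat_lit 0x831c06e88) (.node (nat_lit 0x831c062f8) (.leaf (nat_lit 0x831c06288) (nat_lit 1284))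
 (.leaf (nat_lit 0x831c062f8) (nat_lit 2562))
) (.node (nat_lit 0x831c06ef8) (.leaf (nat_lit 0x831c06e88) (nat_lit 2052))
 (.node (nat_lit 0x831c072b8) (.leaf (nat_lit 0x831c06ef8) (nat_lit 3076))
 (.leaf (nat_lit 0x831c072b8) (nat_lit 2818))
))) (.node (nat_lit 0x831c16688) (.node (nat_lit 0x831c07eb8) (.leaf (nat_lit 0x831c072c8) (nat_lit 1540))
 (.node (nat_lit 0x831c07ec8) (.leaf (nat_lit 0x831c07eb8) (nat_lit 3332))
 (.leaf (nat_lit 0x831c07ec8) (nat_lit 2308))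
)) (.node (nat_lit 0x831c166f8) (.leaf (nat_lit 0x831c16688) (nat_lit 2051))
 (.node (nat_lit 0x831c16a88) (.leaf (nat_lit 0x831c166f8) (nat_lit 3331))
 (.leaf (nat_lit 0x831c16a88) (nat_lit 2819))
))))) (.node (nat_lit 0x831c272c8) (.node (nat_lit 0x831c26288) (.node (nat_lit 0x831c176c8) (.node (nat_lit 0x831c176b8) (.leaf (nat_lit 0x831c16af8) (nat_lit 3332))
 (.leaf (nat_lit 0x831c176b8) (nat_lit 3332))
) (.node (nat_lit 0x831c17ab8) (.leaf (nat_lit 0x831c176c8) (nat_lit 2307))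
 (.node (nat_lit 0x831c17ac8) (.leaf (nat_lit 0x831c17ab8) (nat_lit 3076))
 (.leaf (nat_lit 0x831c17ac8) (nat_lit 3075))
))) (.node (nat_lit 0x831c26e88) (.node (nat_lit 0x831c262f8) (.leaf (nat_lit 0x831c26288) (nat_lit 1540))
 (.leaf (nat_lit 0x831c262f8) (nat_lit 2818))
) (.node (nat_lit 0x831c26ef8) (.leaf (nat_lit 0x831c26e88) (nat_lit 2308))
 (.node (nat_lit 0x831c272b8) (.leaf (nat_lit 0x831c26ef8) (nat_lit 3332))
 (.leaf (nat_lit 0x831c272b8) (nat_lit 3074))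
)))) (.node (nat_lit 0x831c36a88) (.node (nat_lit 0x831c27ec8) (.node (nat_lit 0x831c27eb8) (.leaf (nat_lit 0x831c272c8) (nat_lit 1796))
 (.leaf (nat_lit 0x831c27eb8) (nat_lit 3331))
) (.node (nat_lit 0x831c36688) (.leaf (nat_lit 0x831c27ec8) (nat_lit 2564))
 (.node (nat_lit 0x831c366f8) (.leaf (nat_lit 0x831c36688) (nat_lit 2307))
 (.leaf (nat_lit 0x831c366f8) (nat_lit 3332))
))) (.node (nat_lit 0x831c376c8) (.node (nat_lit 0x831c36af8) (.leaf (nat_lit 0x831c36a88) (nat_lit 3075))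
 (.node (nat_lit 0x831c376b8) (.leaf (nat_lit 0x831c36af8) (nat_lit 3076))
 (.leaf (nat_lit 0x831c376b8) (nat_lit 3076))
)) (.node (nat_lit 0x831c37ab8) (.leaf (nat_lit 0x831c376c8) (nat_lit 2563))
 (.node (nat_lit 0x831c37ac8) (.leaf (nat_lit 0x831c37ab8) (nat_lit 2820))
 (.leaf (nat_lit 0x831c37ac8) (nat_lit 3331))
)))))))))) (.node (nat_lit 0x850464a2a) (.node (nat_lit 0x841414aa2) (.node (nat_lit 0x840465a02) (.node (nat_lit 0x840414662) (.node (nat_lit 0x831c676e8) (.node (nat_lit 0x831c56ea8) (.node (nat_lit 0x831c476e8) (.node (nat_lit 0x831c46aa8) (.node (nat_lit 0x831c466d8) (.leaf (nat_lit 0x831c466a8) (nat_lit 3332))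
 (.leaf (nat_lit 0x831c466d8) (nat_lit 2563))
) (.node (nat_lit 0x831c46ad8) (.leaf (nat_lit 0x831c46aa8) (nat_lit 2305))
 (.node (nat_lit 0x831c47698) (.leaf (nat_lit 0x831c46ad8) (nat_lit 3585))
 (.leaf (nat_lit 0x831c47698) (nat_lit 2819))
))) (.node (nat_lit 0x831c47ae8) (.node (nat_lit 0x831c47a98) (.leaf (nat_lit 0x831c476e8) (nat_lit 3076))
 (.leaf (nat_lit 0x831c47a98) (nat_lit 3329))
) (.node (nat_lit 0x831c562a8) (.leaf (nat_lit 0x831c47ae8) (nat_lit 2049))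
 (.node (nat_lit 0x831c562d8) (.leaf (nat_lit 0x831c562a8) (nat_lit 3074))
 (.leaf (nat_lit 0x831c562d8) (nat_lit 2307))
)))) (.node (nat_lit 0x831c57ee8) (.node (nat_lit 0x831c57298) (.node (nat_lit 0x831c56ed8) (.leaf (nat_lit 0x831c56ea8) (nat_lit 3075))
 (.leaf (nat_lit 0x831c56ed8) (nat_lit 2820))
) (.node (nat_lit 0x831c572e8) (.leaf (nat_lit 0x831c57298) (nat_lit 2563))
 (.node (nat_lit 0x831c57e98) (.leaf (nat_lit 0x831c572e8) (nat_lit 3330))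
 (.leaf (nat_lit 0x831c57e98) (nat_lit 3076))
))) (.node (nat_lit 0x831c66aa8) (.node (nat_lit 0x831c666a8) (.leaf (nat_lit 0x831c57ee8) (nat_lit 2819))
 (.node (nat_lit 0x831c666d8) (.leaf (nat_lit 0x831c666a8) (nat_lit 3076))
 (.leaf (nat_lit 0x831c666d8) (nat_lit 2816))
)) (.node (nat_lit 0x831c66ad8) (.leaf (nat_lit 0x831c66aa8) (nat_lit 2049))
 (.node (nat_lit 0x831c67698) (.leaf (nat_lit 0x831c66ad8) (nat_lit 3329))
 (.leaf (nat_lit 0x831c67698) (nat_lit 3072))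
))))) (.node (nat_lit 0x831c77ee8) (.node (nat_lit 0x831c76ea8) (.node (nat_lit 0x831c67ae8) (.node (nat_lit 0x831c67a98) (.leaf (nat_lit 0x831c676e8) (nat_lit 2820))
 (.leaf (nat_lit 0x831c67a98) (nat_lit 3073))
) (.node (nat_lit 0x831c762a8) (.leaf (nat_lit 0x831c67ae8) (nat_lit 1793))
 (.node (nat_lit 0x831c762d8) (.leaf (nat_lit 0x831c762a8) (nat_lit 3330))
 (.leaf (nat_lit 0x831c762d8) (nat_lit 2560))
))) (.node (nat_lit 0x831c77298) (.node (nat_lit 0x831c76ed8) (.leaf (nat_lit 0x831c76ea8) (nat_lit 2819))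
 (.leaf (nat_lit 0x831c76ed8) (nat_lit 3076))
) (.node (nat_lit 0x831c772e8) (.leaf (nat_lit 0x831c77298) (nat_lit 2816))
 (.node (nat_lit 0x831c77e98) (.leaf (nat_lit 0x831c772e8) (nat_lit 3331))
 (.leaf (nat_lit 0x831c77e98) (nat_lit 3332))
)))) (.node (nat_lit 0x840405202) (.node (nat_lit 0x840404212) (.node (nat_lit 0x840404202) (.leaf (nat_lit 0x831c77ee8) (nat_lit 2563))
 (.leaf (nat_lit 0x840404202) (nat_lit 771))
) (.node (nat_lit 0x840404642) (.leaf (nat_lit 0x840404212) (nat_lit 2818))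
 (.node (nat_lit 0x840404652) (.leaf (nat_lit 0x840404642) (nat_lit 3072))
 (.leaf (nat_lit 0x840404652) (nat_lit 2307))
))) (.node (nat_lit 0x840405652) (.node (nat_lit 0x840405212) (.leaf (nat_lit 0x840405202) (nat_lit 1027))
 (.node (nat_lit 0x840405642) (.leaf (nat_lit 0x840405212) (nat_lit 3074))
 (.leaf (nat_lit 0x840405642) (nat_lit 3328))
)) (.node (nat_lit 0x840414222) (.leaf (nat_lit 0x840405652) (nat_lit 2051))
 (.node (nat_lit 0x840414232) (.leaf (nat_lit 0x840414222) (nat_lit 3073))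
 (.leaf (nat_lit 0x840414232) (nat_lit 2308))
)))))) (.node (nat_lit 0x840435672) (.node (nat_lit 0x840425202) (.node (nat_lit 0x840415672) (.node (nat_lit 0x840415222) (.node (nat_lit 0x840414672) (.leaf (nat_lit 0x840414662) (nat_lit 3332))
 (.leaf (nat_lit 0x840414672) (nat_lit 2307))
) (.node (nat_lit 0x840415232) (.leaf (nat_lit 0x840415222) (nat_lit 2817))
 (.node (nat_lit 0x840415662) (.leaf (nat_lit 0x840415232) (nat_lit 2564))
 (.leaf (nat_lit 0x840415662) (nat_lit 3076))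
))) (.node (nat_lit 0x840424212) (.node (nat_lit 0x840424202) (.leaf (nat_lit 0x840415672) (nat_lit 2563))
 (.leaf (nat_lit 0x840424202) (nat_lit 1024))
) (.node (nat_lit 0x840424642) (.leaf (nat_lit 0x840424212) (nat_lit 3074))
 (.node (nat_lit 0x840424652) (.leaf (nat_lit 0x840424642) (nat_lit 2819))
 (.leaf (nat_lit 0x840424652) (nat_lit 2560))
)))) (.node (nat_lit 0x840434232) (.node (nat_lit 0x840425642) (.node (nat_lit 0x840425212) (.leaf (nat_lit 0x840425202) (nat_lit 1280))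
 (.leaf (nat_lit 0x840425212) (nat_lit 3330))
) (.node (nat_lit 0x840425652) (.leaf (nat_lit 0x840425642) (nat_lit 3075))
 (.node (nat_lit 0x840434222) (.leaf (nat_lit 0x840425652) (nat_lit 2304))
 (.leaf (nat_lit 0x840434222) (nat_lit 3329))
))) (.node (nat_lit 0x840435222) (.node (nat_lit 0x840434662) (.leaf (nat_lit 0x840434232) (nat_lit 2052))
 (.node (nat_lit 0x840434672) (.leaf (nat_lit 0x840434662) (nat_lit 3076))
 (.leaf (nat_lit 0x840434672) (nat_lit 2560))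
)) (.node (nat_lit 0x840435232) (.leaf (nat_lit 0x840435222) (nat_lit 3073))
 (.node (nat_lit 0x840435662) (.leaf (nat_lit 0x840435232) (nat_lit 2308))
 (.leaf (nat_lit 0x840435662) (nat_lit 2820))
))))) (.node (nat_lit 0x840454a32) (.node (nat_lit 0x840445a02) (.node (nat_lit 0x840444a12) (.node (nat_lit 0x840444a02) (.leaf (nat_lit 0x840435672) (nat_lit 2816))
 (.leaf (nat_lit 0x840444a02) (nat_lit 1536))
) (.node (nat_lit 0x840444e42) (.leaf (nat_lit 0x840444a12) (nat_lit 3587))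
 (.node (nat_lit 0x840444e52) (.leaf (nat_lit 0x840444e42) (nat_lit 2819))
 (.leaf (nat_lit 0x840444e52) (nat_lit 2560))
))) (.node (nat_lit 0x840445e42) (.node (nat_lit 0x840445a12) (.leaf (nat_lit 0x840445a02) (nat_lit 1280))
 (.leaf (nat_lit 0x840445a12) (nat_lit 3584))
) (.node (nat_lit 0x840445e52) (.leaf (nat_lit 0x840445e42) (nat_lit 2563))
 (.node (nat_lit 0x840454a22) (.leaf (nat_lit 0x840445e52) (nat_lit 2816))
 (.leaf (nat_lit 0x840454a22) (nat_lit 2817))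
)))) (.node (nat_lit 0x840455e62) (.node (nat_lit 0x840454e72) (.node (nat_lit 0x840454e62) (.leaf (nat_lit 0x840454a32) (nat_lit 2563))
 (.leaf (nat_lit 0x840454e62) (nat_lit 3075))
) (.node (nat_lit 0x840455a22) (.leaf (nat_lit 0x840454e72) (nat_lit 2305))
 (.node (nat_lit 0x840455a32) (.leaf (nat_lit 0x840455a22) (nat_lit 3073))
 (.leaf (nat_lit 0x840455a32) (nat_lit 2307))
))) (.node (nat_lit 0x840464a12) (.node (nat_lit 0x840455e72) (.leaf (nat_lit 0x840455e62) (nat_lit 3331))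
 (.node (nat_lit 0x840464a02) (.leaf (nat_lit 0x840455e72) (nat_lit 2049))
 (.leaf (nat_lit 0x840464a02) (nat_lit 1283))
)) (.node (nat_lit 0x840464e42) (.leaf (nat_lit 0x840464a12) (nat_lit 3587))
 (.node (nat_lit 0x840464e52) (.leaf (nat_lit 0x840464e42) (nat_lit 3072))
 (.leaf (nat_lit 0x840464e52) (nat_lit 2307))
))))))) (.node (nat_lit 0x840c37e52) (.node (nat_lit 0x840c16222) (.node (nat_lit 0x840475e62) (.node (nat_lit 0x840474a32) (.node (nat_lit 0x840465e42) (.node (nat_lit 0x840465a12) (.leaf (nat_lit 0x840465a02) (nat_lit 1027))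
 (.leaf (nat_lit 0x840465a12) (nat_lit 3331))
) (.node (nat_lit 0x840465e52) (.leaf (nat_lit 0x840465e42) (nat_lit 2816))
 (.node (nat_lit 0x840474a22) (.leaf (nat_lit 0x840465e52) (nat_lit 2563))
 (.leaf (nat_lit 0x840474a22) (nat_lit 2561))
))) (.node (nat_lit 0x840474e72) (.node (nat_lit 0x840474e62) (.leaf (nat_lit 0x840474a32) (nat_lit 2816))
 (.leaf (nat_lit 0x840474e62) (nat_lit 3328))
) (.node (nat_lit 0x840475a22) (.leaf (nat_lit 0x840474e72) (nat_lit 2049))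
 (.node (nat_lit 0x840475a32) (.leaf (nat_lit 0x840475a22) (nat_lit 2817))
 (.leaf (nat_lit 0x840475a32) (nat_lit 2560))
)))) (.node (nat_lit 0x840c06e72) (.node (nat_lit 0x840c06202) (.node (nat_lit 0x840475e72) (.leaf (nat_lit 0x840475e62) (nat_lit 3584))
 (.leaf (nat_lit 0x840475e72) (nat_lit 1793))
) (.node (nat_lit 0x840c06232) (.leaf (nat_lit 0x840c06202) (nat_lit 1027))
 (.node (nat_lit 0x840c06e42) (.leaf (nat_lit 0x840c06232) (nat_lit 2562))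
 (.leaf (nat_lit 0x840c06e42) (nat_lit 3328))
))) (.node (nat_lit 0x840c07e42) (.node (nat_lit 0x840c07202) (.leaf (nat_lit 0x840c06e72) (nat_lit 2561))
 (.node (nat_lit 0x840c07232) (.leaf (nat_lit 0x840c07202) (nat_lit 1283))
 (.leaf (nat_lit 0x840c07232) (nat_lit 2818))
)) (.node (nat_lit 0x840c07e72) (.leaf (nat_lit 0x840c07e42) (nat_lit 3330))
 (.node (nat_lit 0x840c16212) (.leaf (nat_lit 0x840c07e72) (nat_lit 2305))
 (.leaf (nat_lit 0x840c16212) (nat_lit 2308))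
))))) (.node (nat_lit 0x840c26e72) (.node (nat_lit 0x840c17e52) (.node (nat_lit 0x840c16e62) (.node (nat_lit 0x840c16e52) (.leaf (nat_lit 0x840c16222) (nat_lit 3330))
 (.leaf (nat_lit 0x840c16e52) (nat_lit 2816))
) (.node (nat_lit 0x840c17212) (.leaf (nat_lit 0x840c16e62) (nat_lit 3332))
 (.node (nat_lit 0x840c17222) (.leaf (nat_lit 0x840c17212) (nat_lit 2564))
 (.leaf (nat_lit 0x840c17222) (nat_lit 3329))
))) (.node (nat_lit 0x840c26202) (.node (nat_lit 0x840c17e62) (.leaf (nat_lit 0x840c17e52) (nat_lit 3072))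
 (.leaf (nat_lit 0x840c17e62) (nat_lit 3076))
) (.node (nat_lit 0x840c26232) (.leaf (nat_lit 0x840c26202) (nat_lit 1280))
 (.node (nat_lit 0x840c26e42) (.leaf (nat_lit 0x840c26232) (nat_lit 2818))
 (.leaf (nat_lit 0x840c26e42) (nat_lit 3075))
)))) (.node (nat_lit 0x840c36212) (.node (nat_lit 0x840c27232) (.node (nat_lit 0x840c27202) (.leaf (nat_lit 0x840c26e72) (nat_lit 2817))
 (.leaf (nat_lit 0x840c27202) (nat_lit 1536))
) (.node (nat_lit 0x840c27e42) (.leaf (nat_lit 0x840c27232) (nat_lit 3074))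
 (.node (nat_lit 0x840c27e72) (.leaf (nat_lit 0x840c27e42) (nat_lit 3331))
 (.leaf (nat_lit 0x840c27e72) (nat_lit 2561))
))) (.node (nat_lit 0x840c36e62) (.node (nat_lit 0x840c36222) (.leaf (nat_lit 0x840c36212) (nat_lit 2564))
 (.node (nat_lit 0x840c36e52) (.leaf (nat_lit 0x840c36222) (nat_lit 3329))
 (.leaf (nat_lit 0x840c36e52) (nat_lit 2563))
)) (.node (nat_lit 0x840c37212) (.leaf (nat_lit 0x840c36e62) (nat_lit 3588))
 (.node (nat_lit 0x840c37222) (.leaf (nat_lit 0x840c37212) (nat_lit 2820))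
 (.leaf (nat_lit 0x840c37222) (nat_lit 3073))
)))))) (.node (nat_lit 0x840c66a32) (.node (nat_lit 0x840c56652) (.node (nat_lit 0x840c46a32) (.node (nat_lit 0x840c46642) (.node (nat_lit 0x840c37e62) (.leaf (nat_lit 0x840c37e52) (nat_lit 2819))
 (.leaf (nat_lit 0x840c37e62) (nat_lit 3332))
) (.node (nat_lit 0x840c46672) (.leaf (nat_lit 0x840c46642) (nat_lit 3075))
 (.node (nat_lit 0x840c46a02) (.leaf (nat_lit 0x840c46672) (nat_lit 2816))
 (.leaf (nat_lit 0x840c46a02) (nat_lit 1792))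
))) (.node (nat_lit 0x840c47672) (.node (nat_lit 0x840c47642) (.leaf (nat_lit 0x840c46a32) (nat_lit 3584))
 (.leaf (nat_lit 0x840c47642) (nat_lit 2819))
) (.node (nat_lit 0x840c47a02) (.leaf (nat_lit 0x840c47672) (nat_lit 3072))
 (.node (nat_lit 0x840c47a32) (.leaf (nat_lit 0x840c47a02) (nat_lit 1536))
 (.leaf (nat_lit 0x840c47a32) (nat_lit 3328))
)))) (.node (nat_lit 0x840c57662) (.node (nat_lit 0x840c56a12) (.node (nat_lit 0x840c56662) (.leaf (nat_lit 0x840c56652) (nat_lit 2305))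
 (.leaf (nat_lit 0x840c56662) (nat_lit 3587))
) (.node (nat_lit 0x840c56a22) (.leaf (nat_lit 0x840c56a12) (nat_lit 3072))
 (.node (nat_lit 0x840c57652) (.leaf (nat_lit 0x840c56a22) (nat_lit 2561))
 (.leaf (nat_lit 0x840c57652) (nat_lit 2049))
))) (.node (nat_lit 0x840c66642) (.node (nat_lit 0x840c57a12) (.leaf (nat_lit 0x840c57662) (nat_lit 3331))
 (.node (nat_lit 0x840c57a22) (.leaf (nat_lit 0x840c57a12) (nat_lit 2816))
 (.leaf (nat_lit 0x840c57a22) (nat_lit 2817))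
)) (.node (nat_lit 0x840c66672) (.leaf (nat_lit 0x840c66642) (nat_lit 3328))
 (.node (nat_lit 0x840c66a02) (.leaf (nat_lit 0x840c66672) (nat_lit 2563))
 (.leaf (nat_lit 0x840c66a02) (nat_lit 1539))
))))) (.node (nat_lit 0x840c77662) (.node (nat_lit 0x840c76652) (.node (nat_lit 0x840c67672) (.node (nat_lit 0x840c67642) (.leaf (nat_lit 0x840c66a32) (nat_lit 3331))
 (.leaf (nat_lit 0x840c67642) (nat_lit 3072))
) (.node (nat_lit 0x840c67a02) (.leaf (nat_lit 0x840c67672) (nat_lit 2819))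
 (.node (nat_lit 0x840c67a32) (.leaf (nat_lit 0x840c67a02) (nat_lit 1283))
 (.leaf (nat_lit 0x840c67a32) (nat_lit 3075))
))) (.node (nat_lit 0x840c76a12) (.node (nat_lit 0x840c76662) (.leaf (nat_lit 0x840c76652) (nat_lit 2561))
 (.leaf (nat_lit 0x840c76662) (nat_lit 3331))
) (.node (nat_lit 0x840c76a22) (.leaf (nat_lit 0x840c76a12) (nat_lit 2819))
 (.node (nat_lit 0x840c77652) (.leaf (nat_lit 0x840c76a22) (nat_lit 2817))
 (.leaf (nat_lit 0x840c77652) (nat_lit 2305))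
)))) (.node (nat_lit 0x841404692) (.node (nat_lit 0x840c77a22) (.node (nat_lit 0x840c77a12) (.leaf (nat_lit 0x840c77662) (nat_lit 3587))
 (.leaf (nat_lit 0x840c77a12) (nat_lit 2563))
) (.node (nat_lit 0x841404282) (.leaf (nat_lit 0x840c77a22) (nat_lit 3073))
 (.node (nat_lit 0x8414042d2) (.leaf (nat_lit 0x841404282) (nat_lit 1027))
 (.leaf (nat_lit 0x8414042d2) (nat_lit 2307))
))) (.node (nat_lit 0x8414052d2) (.node (nat_lit 0x8414046c2) (.leaf (nat_lit 0x841404692) (nat_lit 2564))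
 (.node (nat_lit 0x841405282) (.leaf (nat_lit 0x8414046c2) (nat_lit 3332))
 (.leaf (nat_lit 0x841405282) (nat_lit 1283))
)) (.node (nat_lit 0x841405692) (.leaf (nat_lit 0x8414052d2) (nat_lit 2563))
 (.node (nat_lit 0x8414056c2) (.leaf (nat_lit 0x841405692) (nat_lit 2820))
 (.leaf (nat_lit 0x8414056c2) (nat_lit 3328))
)))))))) (.node (nat_lit 0x841c37692) (.node (nat_lit 0x841464e92) (.node (nat_lit 0x841435af2) (.node (nat_lit 0x841424692) (.node (nat_lit 0x841415af2) (.node (nat_lit 0x841414eb2) (.node (nat_lit 0x841414af2) (.leaf (nat_lit 0x841414aa2) (nat_lit 3330))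
 (.leaf (nat_lit 0x841414af2) (nat_lit 2819))
) (.node (nat_lit 0x841414ee2) (.leaf (nat_lit 0x841414eb2) (nat_lit 2561))
 (.node (nat_lit 0x841415aa2) (.leaf (nat_lit 0x841414ee2) (nat_lit 3330))
 (.leaf (nat_lit 0x841415aa2) (nat_lit 3074))
))) (.node (nat_lit 0x841415ee2) (.node (nat_lit 0x841415eb2) (.leaf (nat_lit 0x841415af2) (nat_lit 2563))
 (.leaf (nat_lit 0x841415eb2) (nat_lit 2817))
) (.node (nat_lit 0x841424282) (.leaf (nat_lit 0x841415ee2) (nat_lit 3586))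
 (.node (nat_lit 0x8414242d2) (.leaf (nat_lit 0x841424282) (nat_lit 1280))
 (.leaf (nat_lit 0x8414242d2) (nat_lit 2560))
)))) (.node (nat_lit 0x8414256c2) (.node (nat_lit 0x841425282) (.node (nat_lit 0x8414246c2) (.leaf (nat_lit 0x841424692) (nat_lit 2820))
 (.leaf (nat_lit 0x8414246c2) (nat_lit 3331))
) (.node (nat_lit 0x8414252d2) (.leaf (nat_lit 0x841425282) (nat_lit 1536))
 (.node (nat_lit 0x841425692) (.leaf (nat_lit 0x8414252d2) (nat_lit 2816))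
 (.leaf (nat_lit 0x841425692) (nat_lit 3076))
))) (.node (nat_lit 0x841434eb2) (.node (nat_lit 0x841434aa2) (.leaf (nat_lit 0x8414256c2) (nat_lit 3075))
 (.node (nat_lit 0x841434af2) (.leaf (nat_lit 0x841434aa2) (nat_lit 3329))
 (.leaf (nat_lit 0x841434af2) (nat_lit 3072))
)) (.node (nat_lit 0x841434ee2) (.leaf (nat_lit 0x841434eb2) (nat_lit 2305))
 (.node (nat_lit 0x841435aa2) (.leaf (nat_lit 0x841434ee2) (nat_lit 3074))
 (.leaf (nat_lit 0x841435aa2) (nat_lit 3330))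
))))) (.node (nat_lit 0x841445ec2) (.node (nat_lit 0x841444e92) (.node (nat_lit 0x841435ee2) (.node (nat_lit 0x841435eb2) (.leaf (nat_lit 0x841435af2) (nat_lit 2816))
 (.leaf (nat_lit 0x841435eb2) (nat_lit 2561))
) (.node (nat_lit 0x841444a82) (.leaf (nat_lit 0x841435ee2) (nat_lit 3330))
 (.node (nat_lit 0x841444ad2) (.leaf (nat_lit 0x841444a82) (nat_lit 1792))
 (.leaf (nat_lit 0x841444ad2) (nat_lit 3072))
))) (.node (nat_lit 0x841445a82) (.node (nat_lit 0x841444ec2) (.leaf (nat_lit 0x841444e92) (nat_lit 3584))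
 (.leaf (nat_lit 0x841444ec2) (nat_lit 2561))
) (.node (nat_lit 0x841445ad2) (.leaf (nat_lit 0x841445a82) (nat_lit 1536))
 (.node (nat_lit 0x841445e92) (.leaf (nat_lit 0x841445ad2) (nat_lit 2816))
 (.leaf (nat_lit 0x841445e92) (nat_lit 3328))
)))) (.node (nat_lit 0x8414552a2) (.node (nat_lit 0x8414542f2) (.node (nat_lit 0x8414542a2) (.leaf (nat_lit 0x841445ec2) (nat_lit 2817))
 (.leaf (nat_lit 0x8414542a2) (nat_lit 3074))
) (.node (nat_lit 0x8414546b2) (.leaf (nat_lit 0x8414542f2) (nat_lit 2306))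
 (.node (nat_lit 0x8414546e2) (.leaf (nat_lit 0x8414546b2) (nat_lit 2819))
 (.leaf (nat_lit 0x8414546e2) (nat_lit 3587))
))) (.node (nat_lit 0x8414556e2) (.node (nat_lit 0x8414552f2) (.leaf (nat_lit 0x8414552a2) (nat_lit 3330))
 (.node (nat_lit 0x8414556b2) (.leaf (nat_lit 0x8414552f2) (nat_lit 2562))
 (.leaf (nat_lit 0x8414556b2) (nat_lit 2563))
)) (.node (nat_lit 0x841464a82) (.leaf (nat_lit 0x8414556e2) (nat_lit 3331))
 (.node (nat_lit 0x841464ad2) (.leaf (nat_lit 0x841464a82) (nat_lit 1539))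
 (.leaf (nat_lit 0x841464ad2) (nat_lit 2819))
)))))) (.node (nat_lit 0x841c07ec2) (.node (nat_lit 0x8414752a2) (.node (nat_lit 0x841465ec2) (.node (nat_lit 0x841465a82) (.node (nat_lit 0x841464ec2) (.leaf (nat_lit 0x841464e92) (nat_lit 3331))
 (.leaf (nat_lit 0x841464ec2) (nat_lit 2817))
) (.node (nat_lit 0x841465ad2) (.leaf (nat_lit 0x841465a82) (nat_lit 1283))
 (.node (nat_lit 0x841465e92) (.leaf (nat_lit 0x841465ad2) (nat_lit 2563))
 (.leaf (nat_lit 0x841465e92) (nat_lit 3075))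
))) (.node (nat_lit 0x8414742f2) (.node (nat_lit 0x8414742a2) (.leaf (nat_lit 0x841465ec2) (nat_lit 3073))
 (.leaf (nat_lit 0x8414742a2) (nat_lit 2818))
) (.node (nat_lit 0x8414746b2) (.leaf (nat_lit 0x8414742f2) (nat_lit 2050))
 (.node (nat_lit 0x8414746e2) (.leaf (nat_lit 0x8414746b2) (nat_lit 3072))
 (.leaf (nat_lit 0x8414746e2) (nat_lit 3332))
)))) (.node (nat_lit 0x841c062f2) (.node (nat_lit 0x8414756b2) (.node (nat_lit 0x8414752f2) (.leaf (nat_lit 0x8414752a2) (nat_lit 3074))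
 (.leaf (nat_lit 0x8414752f2) (nat_lit 2306))
) (.node (nat_lit 0x8414756e2) (.leaf (nat_lit 0x8414756b2) (nat_lit 2816))
 (.node (nat_lit 0x841c06282) (.leaf (nat_lit 0x8414756e2) (nat_lit 3588))
 (.leaf (nat_lit 0x841c06282) (nat_lit 1028))
))) (.node (nat_lit 0x841c07282) (.node (nat_lit 0x841c06eb2) (.leaf (nat_lit 0x841c062f2) (nat_lit 2308))
 (.node (nat_lit 0x841c06ec2) (.leaf (nat_lit 0x841c06eb2) (nat_lit 2308))
 (.leaf (nat_lit 0x841c06ec2) (nat_lit 3076))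
)) (.node (nat_lit 0x841c072f2) (.leaf (nat_lit 0x841c07282) (nat_lit 1284))
 (.node (nat_lit 0x841c07eb2) (.leaf (nat_lit 0x841c072f2) (nat_lit 2564))
 (.leaf (nat_lit 0x841c07eb2) (nat_lit 2564))
))))) (.node (nat_lit 0x841c262f2) (.node (nat_lit 0x841c17692) (.node (nat_lit 0x841c166e2) (.node (nat_lit 0x841c16692) (.leaf (nat_lit 0x841c07ec2) (nat_lit 3332))
 (.leaf (nat_lit 0x841c16692) (nat_lit 2305))
) (.node (nat_lit 0x841c16aa2) (.leaf (nat_lit 0x841c166e2) (nat_lit 3330))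
 (.node (nat_lit 0x841c16ad2) (.leaf (nat_lit 0x841c16aa2) (nat_lit 3073))
 (.leaf (nat_lit 0x841c16ad2) (nat_lit 3328))
))) (.node (nat_lit 0x841c17aa2) (.node (nat_lit 0x841c176e2) (.leaf (nat_lit 0x841c17692) (nat_lit 2561))
 (.leaf (nat_lit 0x841c176e2) (nat_lit 3586))
) (.node (nat_lit 0x841c17ad2) (.leaf (nat_lit 0x841c17aa2) (nat_lit 3329))
 (.node (nat_lit 0x841c26282) (.leaf (nat_lit 0x841c17ad2) (nat_lit 3072))
 (.leaf (nat_lit 0x841c26282) (nat_lit 1284))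
)))) (.node (nat_lit 0x841c27eb2) (.node (nat_lit 0x841c26ec2) (.node (nat_lit 0x841c26eb2) (.leaf (nat_lit 0x841c262f2) (nat_lit 2564))
 (.leaf (nat_lit 0x841c26eb2) (nat_lit 2564))
) (.node (nat_lit 0x841c27282) (.leaf (nat_lit 0x841c26ec2) (nat_lit 3332))
 (.node (nat_lit 0x841c272f2) (.leaf (nat_lit 0x841c27282) (nat_lit 1540))
 (.leaf (nat_lit 0x841c272f2) (nat_lit 2820))
))) (.node (nat_lit 0x841c366e2) (.node (nat_lit 0x841c27ec2) (.leaf (nat_lit 0x841c27eb2) (nat_lit 2820))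
 (.node (nat_lit 0x841c36692) (.leaf (nat_lit 0x841c27ec2) (nat_lit 3331))
 (.leaf (nat_lit 0x841c36692) (nat_lit 2561))
)) (.node (nat_lit 0x841c36aa2) (.leaf (nat_lit 0x841c366e2) (nat_lit 3587))
 (.node (nat_lit 0x841c36ad2) (.leaf (nat_lit 0x841c36aa2) (nat_lit 3329))
 (.leaf (nat_lit 0x841c36ad2) (nat_lit 3075))
))))))) (.node (nat_lit 0x85040560a) (.node (nat_lit 0x841c666c2) (.node (nat_lit 0x841c47a82) (.node (nat_lit 0x841c466c2) (.node (nat_lit 0x841c37aa2) (.node (nat_lit 0x841c376e2) (.leaf (nat_lit 0x841c37692) (nat_lit 2817))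
 (.leaf (nat_lit 0x841c376e2) (nat_lit 3331))
) (.node (nat_lit 0x841c37ad2) (.leaf (nat_lit 0x841c37aa2) (nat_lit 3330))
 (.node (nat_lit 0x841c466b2) (.leaf (nat_lit 0x841c37ad2) (nat_lit 2819))
 (.leaf (nat_lit 0x841c466b2) (nat_lit 3584))
))) (.node (nat_lit 0x841c46af2) (.node (nat_lit 0x841c46a82) (.leaf (nat_lit 0x841c466c2) (nat_lit 2817))
 (.leaf (nat_lit 0x841c46a82) (nat_lit 2048))
) (.node (nat_lit 0x841c476b2) (.leaf (nat_lit 0x841c46af2) (nat_lit 3328))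
 (.node (nat_lit 0x841c476c2) (.leaf (nat_lit 0x841c476b2) (nat_lit 3328))
 (.leaf (nat_lit 0x841c476c2) (nat_lit 3073))
)))) (.node (nat_lit 0x841c56ee2) (.node (nat_lit 0x841c562a2) (.node (nat_lit 0x841c47af2) (.leaf (nat_lit 0x841c47a82) (nat_lit 1792))
 (.leaf (nat_lit 0x841c47af2) (nat_lit 3072))
) (.node (nat_lit 0x841c562d2) (.leaf (nat_lit 0x841c562a2) (nat_lit 2818))
 (.node (nat_lit 0x841c56e92) (.leaf (nat_lit 0x841c562d2) (nat_lit 2306))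
 (.leaf (nat_lit 0x841c56e92) (nat_lit 3328))
))) (.node (nat_lit 0x841c57e92) (.node (nat_lit 0x841c572a2) (.leaf (nat_lit 0x841c56ee2) (nat_lit 3075))
 (.node (nat_lit 0x841c572d2) (.leaf (nat_lit 0x841c572a2) (nat_lit 3074))
 (.leaf (nat_lit 0x841c572d2) (nat_lit 2562))
)) (.node (nat_lit 0x841c57ee2) (.leaf (nat_lit 0x841c57e92) (nat_lit 3072))
 (.node (nat_lit 0x841c666b2) (.leaf (nat_lit 0x841c57ee2) (nat_lit 3331))
 (.leaf (nat_lit 0x841c666b2) (nat_lit 3331))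
))))) (.node (nat_lit 0x841c76ee2) (.node (nat_lit 0x841c67a82) (.node (nat_lit 0x841c66af2) (.node (nat_lit 0x841c66a82) (.leaf (nat_lit 0x841c666c2) (nat_lit 3073))
 (.leaf (nat_lit 0x841c66a82) (nat_lit 1795))
) (.node (nat_lit 0x841c676b2) (.leaf (nat_lit 0x841c66af2) (nat_lit 3075))
 (.node (nat_lit 0x841c676c2) (.leaf (nat_lit 0x841c676b2) (nat_lit 3075))
 (.leaf (nat_lit 0x841c676c2) (nat_lit 3329))
))) (.node (nat_lit 0x841c762a2) (.node (nat_lit 0x841c67af2) (.leaf (nat_lit 0x841c67a82) (nat_lit 1539))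
 (.leaf (nat_lit 0x841c67af2) (nat_lit 2819))
) (.node (nat_lit 0x841c762d2) (.leaf (nat_lit 0x841c762a2) (nat_lit 3074))
 (.node (nat_lit 0x841c76e92) (.leaf (nat_lit 0x841c762d2) (nat_lit 2562))
 (.leaf (nat_lit 0x841c76e92) (nat_lit 3075))
)))) (.node (nat_lit 0x85040420a) (.node (nat_lit 0x841c772d2) (.node (nat_lit 0x841c772a2) (.leaf (nat_lit 0x841c76ee2) (nat_lit 3328))
 (.leaf (nat_lit 0x841c772a2) (nat_lit 3330))
) (.node (nat_lit 0x841c77e92) (.leaf (nat_lit 0x841c772d2) (nat_lit 2818))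
 (.node (nat_lit 0x841c77ee2) (.leaf (nat_lit 0x841c77e92) (nat_lit 2819))
 (.leaf (nat_lit 0x841c77ee2) (nat_lit 3584))
))) (.node (nat_lit 0x85040465a) (.node (nat_lit 0x85040421a) (.leaf (nat_lit 0x85040420a) (nat_lit 1025))
 (.node (nat_lit 0x85040464a) (.leaf (nat_lit 0x85040421a) (nat_lit 3074))
 (.leaf (nat_lit 0x85040464a) (nat_lit 2052))
)) (.node (nat_lit 0x85040524a) (.leaf (nat_lit 0x85040465a) (nat_lit 3072))
 (.node (nat_lit 0x85040525a) (.leaf (nat_lit 0x85040524a) (nat_lit 1281))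
 (.leaf (nat_lit 0x85040525a) (nat_lit 3330))
)))))) (.node (nat_lit 0x85043467a) (.node (nat_lit 0x85042420a) (.node (nat_lit 0x85041467a) (.node (nat_lit 0x85041422a) (.node (nat_lit 0x85040561a) (.leaf (nat_lit 0x85040560a) (nat_lit 1796))
 (.leaf (nat_lit 0x85040561a) (nat_lit 3328))
) (.node (nat_lit 0x85041423a) (.leaf (nat_lit 0x85041422a) (nat_lit 2819))
 (.node (nat_lit 0x85041466a) (.leaf (nat_lit 0x85041423a) (nat_lit 2304))
 (.leaf (nat_lit 0x85041466a) (nat_lit 2051))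
))) (.node (nat_lit 0x85041527a) (.node (nat_lit 0x85041526a) (.leaf (nat_lit 0x85041467a) (nat_lit 3076))
 (.leaf (nat_lit 0x85041526a) (nat_lit 2563))
) (.node (nat_lit 0x85041562a) (.leaf (nat_lit 0x85041527a) (nat_lit 2560))
 (.node (nat_lit 0x85041563a) (.leaf (nat_lit 0x85041562a) (nat_lit 2307))
 (.leaf (nat_lit 0x85041563a) (nat_lit 2820))
)))) (.node (nat_lit 0x85042525a) (.node (nat_lit 0x85042464a) (.node (nat_lit 0x85042421a) (.leaf (nat_lit 0x85042420a) (nat_lit 1281))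
 (.leaf (nat_lit 0x85042421a) (nat_lit 3330))
) (.node (nat_lit 0x85042465a) (.leaf (nat_lit 0x85042464a) (nat_lit 2308))
 (.node (nat_lit 0x85042524a) (.leaf (nat_lit 0x85042465a) (nat_lit 2819))
 (.leaf (nat_lit 0x85042524a) (nat_lit 1537))
))) (.node (nat_lit 0x85043422a) (.node (nat_lit 0x85042560a) (.leaf (nat_lit 0x85042525a) (nat_lit 3586))
 (.node (nat_lit 0x85042561a) (.leaf (nat_lit 0x85042560a) (nat_lit 2052))
 (.leaf (nat_lit 0x85042561a) (nat_lit 3075))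
)) (.node (nat_lit 0x85043423a) (.leaf (nat_lit 0x85043422a) (nat_lit 3072))
 (.node (nat_lit 0x85043466a) (.leaf (nat_lit 0x85043423a) (nat_lit 2051))
 (.leaf (nat_lit 0x85043466a) (nat_lit 2307))
))))) (.node (nat_lit 0x850445a7a) (.node (nat_lit 0x850444a2a) (.node (nat_lit 0x85043527a) (.node (nat_lit 0x85043526a) (.leaf (nat_lit 0x85043467a) (nat_lit 2820))
 (.leaf (nat_lit 0x85043526a) (nat_lit 2816))
) (.node (nat_lit 0x85043562a) (.leaf (nat_lit 0x85043527a) (nat_lit 2307))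
 (.node (nat_lit 0x85043563a) (.leaf (nat_lit 0x85043562a) (nat_lit 2563))
 (.leaf (nat_lit 0x85043563a) (nat_lit 2564))
))) (.node (nat_lit 0x850444e6a) (.node (nat_lit 0x850444a3a) (.leaf (nat_lit 0x850444a2a) (nat_lit 1793))
 (.leaf (nat_lit 0x850444a3a) (nat_lit 3332))
) (.node (nat_lit 0x850444e7a) (.leaf (nat_lit 0x850444e6a) (nat_lit 2560))
 (.node (nat_lit 0x850445a6a) (.leaf (nat_lit 0x850444e7a) (nat_lit 2563))
 (.leaf (nat_lit 0x850445a6a) (nat_lit 1537))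
)))) (.node (nat_lit 0x850454e4a) (.node (nat_lit 0x850445e3a) (.node (nat_lit 0x850445e2a) (.leaf (nat_lit 0x850445a7a) (nat_lit 3588))
 (.leaf (nat_lit 0x850445e2a) (nat_lit 2816))
) (.node (nat_lit 0x850454a0a) (.leaf (nat_lit 0x850445e3a) (nat_lit 2307))
 (.node (nat_lit 0x850454a1a) (.leaf (nat_lit 0x850454a0a) (nat_lit 2560))
 (.leaf (nat_lit 0x850454a1a) (nat_lit 2819))
))) (.node (nat_lit 0x850455a5a) (.node (nat_lit 0x850454e5a) (.leaf (nat_lit 0x850454e4a) (nat_lit 2048))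
 (.node (nat_lit 0x850455a4a) (.leaf (nat_lit 0x850454e5a) (nat_lit 3076))
 (.leaf (nat_lit 0x850455a4a) (nat_lit 2816))
)) (.node (nat_lit 0x850455e0a) (.leaf (nat_lit 0x850455a5a) (nat_lit 2563))
 (.node (nat_lit 0x850455e1a) (.leaf (nat_lit 0x850455e0a) (nat_lit 1792))
 (.leaf (nat_lit 0x850455e1a) (nat_lit 3332))
))))))))) (.node (nat_lit 0x85183e49a) (.node (nat_lit 0x85100509a) (.node (nat_lit 0x850c3ee4a) (.node (nat_lit 0x850c0f63a) (.node (nat_lit 0x850474e4a) (.node (nat_lit 0x850465a7a) (.node (nat_lit 0x850464e6a) (.node (nat_lit 0x850464a3a) (.leaf (nat_lit 0x850464a2a) (nat_lit 1537))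
 (.leaf (nat_lit 0x850464a3a) (nat_lit 3586))
) (.node (nat_lit 0x850464e7a) (.leaf (nat_lit 0x850464e6a) (nat_lit 2307))
 (.node (nat_lit 0x850465a6a) (.leaf (nat_lit 0x850464e7a) (nat_lit 2816))
 (.leaf (nat_lit 0x850465a6a) (nat_lit 1281))
))) (.node (nat_lit 0x850465e3a) (.node (nat_lit 0x850465e2a) (.leaf (nat_lit 0x850465a7a) (nat_lit 3330))
 (.leaf (nat_lit 0x850465e2a) (nat_lit 2563))
) (.node (nat_lit 0x850474a0a) (.leaf (nat_lit 0x850465e3a) (nat_lit 2560))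
 (.node (nat_lit 0x850474a1a) (.leaf (nat_lit 0x850474a0a) (nat_lit 2307))
 (.leaf (nat_lit 0x850474a1a) (nat_lit 3072))
)))) (.node (nat_lit 0x850475e1a) (.node (nat_lit 0x850475a4a) (.node (nat_lit 0x850474e5a) (.leaf (nat_lit 0x850474e4a) (nat_lit 1795))
 (.leaf (nat_lit 0x850474e5a) (nat_lit 3332))
) (.node (nat_lit 0x850475a5a) (.leaf (nat_lit 0x850475a4a) (nat_lit 2563))
 (.node (nat_lit 0x850475e0a) (.leaf (nat_lit 0x850475a5a) (nat_lit 2816))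
 (.leaf (nat_lit 0x850475e0a) (nat_lit 1539))
))) (.node (nat_lit 0x850c0ee5a) (.node (nat_lit 0x850c0e20a) (.leaf (nat_lit 0x850475e1a) (nat_lit 3331))
 (.node (nat_lit 0x850c0e23a) (.leaf (nat_lit 0x850c0e20a) (nat_lit 1025))
 (.leaf (nat_lit 0x850c0e23a) (nat_lit 2562))
)) (.node (nat_lit 0x850c0ee6a) (.leaf (nat_lit 0x850c0ee5a) (nat_lit 3072))
 (.node (nat_lit 0x850c0f60a) (.leaf (nat_lit 0x850c0ee6a) (nat_lit 2564))
 (.leaf (nat_lit 0x850c0f60a) (nat_lit 2051))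
))))) (.node (nat_lit 0x850c1fa7a) (.node (nat_lit 0x850c1ee4a) (.node (nat_lit 0x850c0fa6a) (.node (nat_lit 0x850c0fa5a) (.leaf (nat_lit 0x850c0f63a) (nat_lit 3074))
 (.leaf (nat_lit 0x850c0fa5a) (nat_lit 3330))
) (.node (nat_lit 0x850c1e21a) (.leaf (nat_lit 0x850c0fa6a) (nat_lit 1793))
 (.node (nat_lit 0x850c1e22a) (.leaf (nat_lit 0x850c1e21a) (nat_lit 2307))
 (.leaf (nat_lit 0x850c1e22a) (nat_lit 3328))
))) (.node (nat_lit 0x850c1f61a) (.node (nat_lit 0x850c1ee7a) (.leaf (nat_lit 0x850c1ee4a) (nat_lit 2304))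
 (.leaf (nat_lit 0x850c1ee7a) (nat_lit 3332))
) (.node (nat_lit 0x850c1f62a) (.leaf (nat_lit 0x850c1f61a) (nat_lit 2820))
 (.node (nat_lit 0x850c1fa4a) (.leaf (nat_lit 0x850c1f62a) (nat_lit 2816))
 (.leaf (nat_lit 0x850c1fa4a) (nat_lit 2816))
)))) (.node (nat_lit 0x850c2f60a) (.node (nat_lit 0x850c2e23a) (.node (nat_lit 0x850c2e20a) (.leaf (nat_lit 0x850c1fa7a) (nat_lit 2819))
 (.leaf (nat_lit 0x850c2e20a) (nat_lit 1281))
) (.node (nat_lit 0x850c2ee5a) (.leaf (nat_lit 0x850c2e23a) (nat_lit 2818))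
 (.node (nat_lit 0x850c2ee6a) (.leaf (nat_lit 0x850c2ee5a) (nat_lit 2819))
 (.leaf (nat_lit 0x850c2ee6a) (nat_lit 2820))
))) (.node (nat_lit 0x850c2fa6a) (.node (nat_lit 0x850c2f63a) (.leaf (nat_lit 0x850c2f60a) (nat_lit 2304))
 (.node (nat_lit 0x850c2fa5a) (.leaf (nat_lit 0x850c2f63a) (nat_lit 3331))
 (.leaf (nat_lit 0x850c2fa5a) (nat_lit 3587))
)) (.node (nat_lit 0x850c3e21a) (.leaf (nat_lit 0x850c2fa6a) (nat_lit 2049))
 (.node (nat_lit 0x850c3e22a) (.leaf (nat_lit 0x850c3e21a) (nat_lit 2560))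
 (.leaf (nat_lit 0x850c3e22a) (nat_lit 3075))
)))))) (.node (nat_lit 0x850c5fe3a) (.node (nat_lit 0x850c4f24a) (.node (nat_lit 0x850c3fa7a) (.node (nat_lit 0x850c3f61a) (.node (nat_lit 0x850c3ee7a) (.leaf (nat_lit 0x850c3ee4a) (nat_lit 2051))
 (.leaf (nat_lit 0x850c3ee7a) (nat_lit 3331))
) (.node (nat_lit 0x850c3f62a) (.leaf (nat_lit 0x850c3f61a) (nat_lit 3076))
 (.node (nat_lit 0x850c3fa4a) (.leaf (nat_lit 0x850c3f62a) (nat_lit 2563))
 (.leaf (nat_lit 0x850c3fa4a) (nat_lit 2563))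
))) (.node (nat_lit 0x850c4e67a) (.node (nat_lit 0x850c4e64a) (.leaf (nat_lit 0x850c3fa7a) (nat_lit 3072))
 (.leaf (nat_lit 0x850c4e64a) (nat_lit 2307))
) (.node (nat_lit 0x850c4ea1a) (.leaf (nat_lit 0x850c4e67a) (nat_lit 3330))
 (.node (nat_lit 0x850c4ea2a) (.leaf (nat_lit 0x850c4ea1a) (nat_lit 3586))
 (.leaf (nat_lit 0x850c4ea2a) (nat_lit 2049))
)))) (.node (nat_lit 0x850c5e66a) (.node (nat_lit 0x850c4fe1a) (.node (nat_lit 0x850c4f27a) (.leaf (nat_lit 0x850c4f24a) (nat_lit 1281))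
 (.leaf (nat_lit 0x850c4f27a) (nat_lit 2818))
) (.node (nat_lit 0x850c4fe2a) (.leaf (nat_lit 0x850c4fe1a) (nat_lit 2816))
 (.node (nat_lit 0x850c5e65a) (.leaf (nat_lit 0x850c4fe2a) (nat_lit 2820))
 (.leaf (nat_lit 0x850c5e65a) (nat_lit 3076))
))) (.node (nat_lit 0x850c5f25a) (.node (nat_lit 0x850c5ea0a) (.leaf (nat_lit 0x850c5e66a) (nat_lit 2560))
 (.node (nat_lit 0x850c5ea3a) (.leaf (nat_lit 0x850c5ea0a) (nat_lit 2560))
 (.leaf (nat_lit 0x850c5ea3a) (nat_lit 3075))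
)) (.node (nat_lit 0x850c5f26a) (.leaf (nat_lit 0x850c5f25a) (nat_lit 2563))
 (.node (nat_lit 0x850c5fe0a) (.leaf (nat_lit 0x850c5f26a) (nat_lit 3072))
 (.leaf (nat_lit 0x850c5fe0a) (nat_lit 2048))
))))) (.node (nat_lit 0x850c7e66a) (.node (nat_lit 0x850c6f24a) (.node (nat_lit 0x850c6e67a) (.node (nat_lit 0x850c6e64a) (.leaf (nat_lit 0x850c5fe3a) (nat_lit 3328))
 (.leaf (nat_lit 0x850c6e64a) (nat_lit 2560))
) (.node (nat_lit 0x850c6ea1a) (.leaf (nat_lit 0x850c6e67a) (nat_lit 3075))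
 (.node (nat_lit 0x850c6ea2a) (.leaf (nat_lit 0x850c6ea1a) (nat_lit 3331))
 (.leaf (nat_lit 0x850c6ea2a) (nat_lit 2305))
))) (.node (nat_lit 0x850c6fe1a) (.node (nat_lit 0x850c6f27a) (.leaf (nat_lit 0x850c6f24a) (nat_lit 1537))
 (.leaf (nat_lit 0x850c6f27a) (nat_lit 3074))
) (.node (nat_lit 0x850c6fe2a) (.leaf (nat_lit 0x850c6fe1a) (nat_lit 2563))
 (.node (nat_lit 0x850c7e65a) (.leaf (nat_lit 0x850c6fe2a) (nat_lit 3076))
 (.leaf (nat_lit 0x850c7e65a) (nat_lit 3332))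
)))) (.node (nat_lit 0x850c7fe0a) (.node (nat_lit 0x850c7ea3a) (.node (nat_lit 0x850c7ea0a) (.leaf (nat_lit 0x850c7e66a) (nat_lit 2307))
 (.leaf (nat_lit 0x850c7ea0a) (nat_lit 2307))
) (.node (nat_lit 0x850c7f25a) (.leaf (nat_lit 0x850c7ea3a) (nat_lit 3328))
 (.node (nat_lit 0x850c7f26a) (.leaf (nat_lit 0x850c7f25a) (nat_lit 2816))
 (.leaf (nat_lit 0x850c7f26a) (nat_lit 2819))
))) (.node (nat_lit 0x8510040ca) (.node (nat_lit 0x850c7fe3a) (.leaf (nat_lit 0x850c7fe0a) (nat_lit 1795))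
 (.node (nat_lit 0x85100408a) (.leaf (nat_lit 0x850c7fe3a) (nat_lit 3075))
 (.leaf (nat_lit 0x85100408a) (nat_lit 1282))
)) (.node (nat_lit 0x85100449a) (.leaf (nat_lit 0x8510040ca) (nat_lit 1538))
 (.node (nat_lit 0x8510044da) (.leaf (nat_lit 0x85100449a) (nat_lit 2820))
 (.leaf (nat_lit 0x8510044da) (nat_lit 3076))
))))))) (.node (nat_lit 0x851055c8a) (.node (nat_lit 0x8510348ea) (.node (nat_lit 0x851015caa) (.node (nat_lit 0x8510148ea) (.node (nat_lit 0x85100548a) (.node (nat_lit 0x8510050da) (.leaf (nat_lit 0x85100509a) (nat_lit 3076))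
 (.leaf (nat_lit 0x8510050da) (nat_lit 3332))
) (.node (nat_lit 0x8510054ca) (.leaf (nat_lit 0x85100548a) (nat_lit 2050))
 (.node (nat_lit 0x8510148aa) (.leaf (nat_lit 0x8510054ca) (nat_lit 2306))
 (.leaf (nat_lit 0x8510148aa) (nat_lit 3075))
))) (.node (nat_lit 0x851014cfa) (.node (nat_lit 0x851014cba) (.leaf (nat_lit 0x8510148ea) (nat_lit 2819))
 (.leaf (nat_lit 0x851014cba) (nat_lit 2560))
) (.node (nat_lit 0x8510158ba) (.leaf (nat_lit 0x851014cfa) (nat_lit 2816))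
 (.node (nat_lit 0x8510158fa) (.leaf (nat_lit 0x8510158ba) (nat_lit 3074))
 (.leaf (nat_lit 0x8510158fa) (nat_lit 3330))
)))) (.node (nat_lit 0x8510244da) (.node (nat_lit 0x85102408a) (.node (nat_lit 0x851015cea) (.leaf (nat_lit 0x851015caa) (nat_lit 2563))
 (.leaf (nat_lit 0x851015cea) (nat_lit 2307))
) (.node (nat_lit 0x8510240ca) (.leaf (nat_lit 0x85102408a) (nat_lit 1538))
 (.node (nat_lit 0x85102449a) (.leaf (nat_lit 0x8510240ca) (nat_lit 1794))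
 (.leaf (nat_lit 0x85102449a) (nat_lit 3076))
))) (.node (nat_lit 0x85102548a) (.node (nat_lit 0x85102509a) (.leaf (nat_lit 0x8510244da) (nat_lit 3332))
 (.node (nat_lit 0x8510250da) (.leaf (nat_lit 0x85102509a) (nat_lit 3331))
 (.leaf (nat_lit 0x8510250da) (nat_lit 3075))
)) (.node (nat_lit 0x8510254ca) (.leaf (nat_lit 0x85102548a) (nat_lit 2306))
 (.node (nat_lit 0x8510348aa) (.leaf (nat_lit 0x8510254ca) (nat_lit 2562))
 (.leaf (nat_lit 0x8510348aa) (nat_lit 3328))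
))))) (.node (nat_lit 0x8510444fa) (.node (nat_lit 0x851035caa) (.node (nat_lit 0x851034cfa) (.node (nat_lit 0x851034cba) (.leaf (nat_lit 0x8510348ea) (nat_lit 3072))
 (.leaf (nat_lit 0x851034cba) (nat_lit 2307))
) (.node (nat_lit 0x8510358ba) (.leaf (nat_lit 0x851034cfa) (nat_lit 2563))
 (.node (nat_lit 0x8510358fa) (.leaf (nat_lit 0x8510358ba) (nat_lit 2818))
 (.leaf (nat_lit 0x8510358fa) (nat_lit 3074))
))) (.node (nat_lit 0x8510440aa) (.node (nat_lit 0x851035cea) (.leaf (nat_lit 0x851035caa) (nat_lit 2819))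
 (.leaf (nat_lit 0x851035cea) (nat_lit 2563))
) (.node (nat_lit 0x8510440ea) (.leaf (nat_lit 0x8510440aa) (nat_lit 2050))
 (.node (nat_lit 0x8510444ba) (.leaf (nat_lit 0x8510440ea) (nat_lit 1794))
 (.leaf (nat_lit 0x8510444ba) (nat_lit 3588))
)))) (.node (nat_lit 0x85105488a) (.node (nat_lit 0x8510450fa) (.node (nat_lit 0x8510450ba) (.leaf (nat_lit 0x8510444fa) (nat_lit 3332))
 (.leaf (nat_lit 0x8510450ba) (nat_lit 2563))
) (.node (nat_lit 0x8510454aa) (.leaf (nat_lit 0x8510450fa) (nat_lit 2819))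
 (.node (nat_lit 0x8510454ea) (.leaf (nat_lit 0x8510454aa) (nat_lit 3072))
 (.leaf (nat_lit 0x8510454ea) (nat_lit 2816))
))) (.node (nat_lit 0x851054cda) (.node (nat_lit 0x8510548ca) (.leaf (nat_lit 0x85105488a) (nat_lit 2816))
 (.node (nat_lit 0x851054c9a) (.leaf (nat_lit 0x8510548ca) (nat_lit 3072))
 (.leaf (nat_lit 0x851054c9a) (nat_lit 2817))
)) (.node (nat_lit 0x85105589a) (.leaf (nat_lit 0x851054cda) (nat_lit 2561))
 (.node (nat_lit 0x8510558da) (.leaf (nat_lit 0x85105589a) (nat_lit 3585))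
 (.leaf (nat_lit 0x8510558da) (nat_lit 3329))
)))))) (.node (nat_lit 0x85180ecda) (.node (nat_lit 0x85107488a) (.node (nat_lit 0x8510644fa) (.node (nat_lit 0x8510640aa) (.node (nat_lit 0x851055cca) (.leaf (nat_lit 0x851055c8a) (nat_lit 2048))
 (.leaf (nat_lit 0x851055cca) (nat_lit 2304))
) (.node (nat_lit 0x8510640ea) (.leaf (nat_lit 0x8510640aa) (nat_lit 1794))
 (.node (nat_lit 0x8510644ba) (.leaf (nat_lit 0x8510640ea) (nat_lit 1538))
 (.leaf (nat_lit 0x8510644ba) (nat_lit 3332))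
))) (.node (nat_lit 0x8510650fa) (.node (nat_lit 0x8510650ba) (.leaf (nat_lit 0x8510644fa) (nat_lit 3076))
 (.leaf (nat_lit 0x8510650ba) (nat_lit 2816))
) (.node (nat_lit 0x8510654aa) (.leaf (nat_lit 0x8510650fa) (nat_lit 3072))
 (.node (nat_lit 0x8510654ea) (.leaf (nat_lit 0x8510654aa) (nat_lit 2819))
 (.leaf (nat_lit 0x8510654ea) (nat_lit 2563))
)))) (.node (nat_lit 0x8510758da) (.node (nat_lit 0x851074c9a) (.node (nat_lit 0x8510748ca) (.leaf (nat_lit 0x85107488a) (nat_lit 2563))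
 (.leaf (nat_lit 0x8510748ca) (nat_lit 2819))
) (.node (nat_lit 0x851074cda) (.leaf (nat_lit 0x851074c9a) (nat_lit 3073))
 (.node (nat_lit 0x85107589a) (.leaf (nat_lit 0x851074cda) (nat_lit 2817))
 (.leaf (nat_lit 0x85107589a) (nat_lit 3331))
))) (.node (nat_lit 0x85180e08a) (.node (nat_lit 0x851075c8a) (.leaf (nat_lit 0x8510758da) (nat_lit 3587))
 (.node (nat_lit 0x851075cca) (.leaf (nat_lit 0x851075c8a) (nat_lit 1795))
 (.leaf (nat_lit 0x851075cca) (nat_lit 2051))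
)) (.node (nat_lit 0x85180e0ea) (.leaf (nat_lit 0x85180e08a) (nat_lit 1282))
 (.node (nat_lit 0x85180ecba) (.leaf (nat_lit 0x85180e0ea) (nat_lit 2050))
 (.leaf (nat_lit 0x85180ecba) (nat_lit 2308))
))))) (.node (nat_lit 0x85181f0fa) (.node (nat_lit 0x85181e49a) (.node (nat_lit 0x85180f4ea) (.node (nat_lit 0x85180f48a) (.leaf (nat_lit 0x85180ecda) (nat_lit 3076))
 (.leaf (nat_lit 0x85180f48a) (nat_lit 2052))
) (.node (nat_lit 0x85180f8ba) (.leaf (nat_lit 0x85180f4ea) (nat_lit 2564))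
 (.node (nat_lit 0x85180f8da) (.leaf (nat_lit 0x85180f8ba) (nat_lit 2820))
 (.leaf (nat_lit 0x85180f8da) (nat_lit 3328))
))) (.node (nat_lit 0x85181e8aa) (.node (nat_lit 0x85181e4fa) (.leaf (nat_lit 0x85181e49a) (nat_lit 2305))
 (.leaf (nat_lit 0x85181e4fa) (nat_lit 3075))
) (.node (nat_lit 0x85181e8ca) (.leaf (nat_lit 0x85181e8aa) (nat_lit 3073))
 (.node (nat_lit 0x85181f09a) (.leaf (nat_lit 0x85181e8ca) (nat_lit 3076))
 (.leaf (nat_lit 0x85181f09a) (nat_lit 3073))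
)))) (.node (nat_lit 0x85182ecba) (.node (nat_lit 0x85181fcca) (.node (nat_lit 0x85181fcaa) (.leaf (nat_lit 0x85181f0fa) (nat_lit 3328))
 (.leaf (nat_lit 0x85181fcaa) (nat_lit 3072))
) (.node (nat_lit 0x85182e08a) (.leaf (nat_lit 0x85181fcca) (nat_lit 2560))
 (.node (nat_lit 0x85182e0ea) (.leaf (nat_lit 0x85182e08a) (nat_lit 1538))
 (.leaf (nat_lit 0x85182e0ea) (nat_lit 2306))
))) (.node (nat_lit 0x85182f4ea) (.node (nat_lit 0x85182ecda) (.leaf (nat_lit 0x85182ecba) (nat_lit 2564))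
 (.node (nat_lit 0x85182f48a) (.leaf (nat_lit 0x85182ecda) (nat_lit 3332))
 (.leaf (nat_lit 0x85182f48a) (nat_lit 2308))
)) (.node (nat_lit 0x85182f8ba) (.leaf (nat_lit 0x85182f4ea) (nat_lit 2820))
 (.node (nat_lit 0x85182f8da) (.leaf (nat_lit 0x85182f8ba) (nat_lit 3076))
 (.leaf (nat_lit 0x85182f8da) (nat_lit 3075))
)))))))) (.node (nat_lit 0x86045d222) (.node (nat_lit 0x86040c662) (.node (nat_lit 0x85185f0da) (.node (nat_lit 0x85184ec9a) (.node (nat_lit 0x85183f0fa) (.node (nat_lit 0x85183e8aa) (.node (nat_lit 0x85183e4fa) (.leaf (nat_lit 0x85183e49a) (nat_lit 2561))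
 (.leaf (nat_lit 0x85183e4fa) (nat_lit 3328))
) (.node (nat_lit 0x85183e8ca) (.leaf (nat_lit 0x85183e8aa) (nat_lit 3331))
 (.node (nat_lit 0x85183f09a) (.leaf (nat_lit 0x85183e8ca) (nat_lit 2820))
 (.leaf (nat_lit 0x85183f09a) (nat_lit 3329))
))) (.node (nat_lit 0x85183fcca) (.node (nat_lit 0x85183fcaa) (.leaf (nat_lit 0x85183f0fa) (nat_lit 3075))
 (.leaf (nat_lit 0x85183fcaa) (nat_lit 2819))
) (.node (nat_lit 0x85184e0aa) (.leaf (nat_lit 0x85183fcca) (nat_lit 2307))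
 (.node (nat_lit 0x85184e0ca) (.leaf (nat_lit 0x85184e0aa) (nat_lit 2306))
 (.leaf (nat_lit 0x85184e0ca) (nat_lit 1538))
)))) (.node (nat_lit 0x85184f8fa) (.node (nat_lit 0x85184f4aa) (.node (nat_lit 0x85184ecfa) (.leaf (nat_lit 0x85184ec9a) (nat_lit 3332))
 (.leaf (nat_lit 0x85184ecfa) (nat_lit 2564))
) (.node (nat_lit 0x85184f4ca) (.leaf (nat_lit 0x85184f4aa) (nat_lit 2820))
 (.node (nat_lit 0x85184f89a) (.leaf (nat_lit 0x85184f4ca) (nat_lit 2308))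
 (.leaf (nat_lit 0x85184f89a) (nat_lit 3072))
))) (.node (nat_lit 0x85185e88a) (.node (nat_lit 0x85185e4ba) (.leaf (nat_lit 0x85184f8fa) (nat_lit 3076))
 (.node (nat_lit 0x85185e4da) (.leaf (nat_lit 0x85185e4ba) (nat_lit 3331))
 (.leaf (nat_lit 0x85185e4da) (nat_lit 2561))
)) (.node (nat_lit 0x85185e8ea) (.leaf (nat_lit 0x85185e88a) (nat_lit 2820))
 (.node (nat_lit 0x85185f0ba) (.leaf (nat_lit 0x85185e8ea) (nat_lit 3329))
 (.leaf (nat_lit 0x85185f0ba) (nat_lit 3072))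
))))) (.node (nat_lit 0x85186f8fa) (.node (nat_lit 0x85186ec9a) (.node (nat_lit 0x85185fcea) (.node (nat_lit 0x85185fc8a) (.leaf (nat_lit 0x85185f0da) (nat_lit 3329))
 (.leaf (nat_lit 0x85185fc8a) (nat_lit 2304))
) (.node (nat_lit 0x85186e0aa) (.leaf (nat_lit 0x85185fcea) (nat_lit 2816))
 (.node (nat_lit 0x85186e0ca) (.leaf (nat_lit 0x85186e0aa) (nat_lit 2562))
 (.leaf (nat_lit 0x85186e0ca) (nat_lit 1794))
))) (.node (nat_lit 0x85186f4aa) (.node (nat_lit 0x85186ecfa) (.leaf (nat_lit 0x85186ec9a) (nat_lit 3588))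
 (.leaf (nat_lit 0x85186ecfa) (nat_lit 2820))
) (.node (nat_lit 0x85186f4ca) (.leaf (nat_lit 0x85186f4aa) (nat_lit 3076))
 (.node (nat_lit 0x85186f89a) (.leaf (nat_lit 0x85186f4ca) (nat_lit 2564))
 (.leaf (nat_lit 0x85186f89a) (nat_lit 2819))
)))) (.node (nat_lit 0x85187f0ba) (.node (nat_lit 0x85187e4da) (.node (nat_lit 0x85187e4ba) (.leaf (nat_lit 0x85186f8fa) (nat_lit 3332))
 (.leaf (nat_lit 0x85187e4ba) (nat_lit 3584))
) (.node (nat_lit 0x85187e88a) (.leaf (nat_lit 0x85187e4da) (nat_lit 2817))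
 (.node (nat_lit 0x85187e8ea) (.leaf (nat_lit 0x85187e88a) (nat_lit 2564))
 (.leaf (nat_lit 0x85187e8ea) (nat_lit 3075))
))) (.node (nat_lit 0x85187fcea) (.node (nat_lit 0x85187f0da) (.leaf (nat_lit 0x85187f0ba) (nat_lit 2819))
 (.node (nat_lit 0x85187fc8a) (.leaf (nat_lit 0x85187f0da) (nat_lit 3585))
 (.leaf (nat_lit 0x85187fc8a) (nat_lit 2051))
)) (.node (nat_lit 0x86040c202) (.leaf (nat_lit 0x85187fcea) (nat_lit 2563))
 (.node (nat_lit 0x86040c212) (.leaf (nat_lit 0x86040c202) (nat_lit 515))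
 (.leaf (nat_lit 0x86040c212) (nat_lit 2819))
)))))) (.node (nat_lit 0x86042de72) (.node (nat_lit 0x86041da22) (.node (nat_lit 0x86040de72) (.node (nat_lit 0x86040da02) (.node (nat_lit 0x86040c672) (.leaf (nat_lit 0x86040c662) (nat_lit 3073))
 (.leaf (nat_lit 0x86040c672) (nat_lit 2563))
) (.node (nat_lit 0x86040da12) (.leaf (nat_lit 0x86040da02) (nat_lit 1283))
 (.node (nat_lit 0x86040de62) (.leaf (nat_lit 0x86040da12) (nat_lit 3330))
 (.leaf (nat_lit 0x86040de62) (nat_lit 3584))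
))) (.node (nat_lit 0x86041c232) (.node (nat_lit 0x86041c222) (.leaf (nat_lit 0x86040de72) (nat_lit 1795))
 (.leaf (nat_lit 0x86041c222) (nat_lit 3329))
) (.node (nat_lit 0x86041c642) (.leaf (nat_lit 0x86041c232) (nat_lit 2048))
 (.node (nat_lit 0x86041c652) (.leaf (nat_lit 0x86041c642) (nat_lit 3332))
 (.leaf (nat_lit 0x86041c652) (nat_lit 2049))
)))) (.node (nat_lit 0x86042c212) (.node (nat_lit 0x86041de42) (.node (nat_lit 0x86041da32) (.leaf (nat_lit 0x86041da22) (nat_lit 2561))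
 (.leaf (nat_lit 0x86041da32) (nat_lit 2820))
) (.node (nat_lit 0x86041de52) (.leaf (nat_lit 0x86041de42) (nat_lit 2816))
 (.node (nat_lit 0x86042c202) (.leaf (nat_lit 0x86041de52) (nat_lit 2561))
 (.leaf (nat_lit 0x86042c202) (nat_lit 768))
))) (.node (nat_lit 0x86042da02) (.node (nat_lit 0x86042c662) (.leaf (nat_lit 0x86042c212) (nat_lit 3072))
 (.node (nat_lit 0x86042c672) (.leaf (nat_lit 0x86042c662) (nat_lit 2817))
 (.leaf (nat_lit 0x86042c672) (nat_lit 2816))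
)) (.node (nat_lit 0x86042da12) (.leaf (nat_lit 0x86042da02) (nat_lit 1536))
 (.node (nat_lit 0x86042de62) (.leaf (nat_lit 0x86042da12) (nat_lit 3585))
 (.leaf (nat_lit 0x86042de62) (nat_lit 3331))
))))) (.node (nat_lit 0x86044ca12) (.node (nat_lit 0x86043da22) (.node (nat_lit 0x86043c232) (.node (nat_lit 0x86043c222) (.leaf (nat_lit 0x86042de72) (nat_lit 2048))
 (.leaf (nat_lit 0x86043c222) (nat_lit 3330))
) (.node (nat_lit 0x86043c642) (.leaf (nat_lit 0x86043c232) (nat_lit 1795))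
 (.node (nat_lit 0x86043c652) (.leaf (nat_lit 0x86043c642) (nat_lit 3076))
 (.leaf (nat_lit 0x86043c652) (nat_lit 2305))
))) (.node (nat_lit 0x86043de42) (.node (nat_lit 0x86043da32) (.leaf (nat_lit 0x86043da22) (nat_lit 2817))
 (.leaf (nat_lit 0x86043da32) (nat_lit 2564))
) (.node (nat_lit 0x86043de52) (.leaf (nat_lit 0x86043de42) (nat_lit 2563))
 (.node (nat_lit 0x86044ca02) (.leaf (nat_lit 0x86043de52) (nat_lit 2817))
 (.leaf (nat_lit 0x86044ca02) (nat_lit 1539))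
)))) (.node (nat_lit 0x86044d662) (.node (nat_lit 0x86044ce72) (.node (nat_lit 0x86044ce62) (.leaf (nat_lit 0x86044ca12) (nat_lit 3586))
 (.leaf (nat_lit 0x86044ce62) (nat_lit 3328))
) (.node (nat_lit 0x86044d202) (.leaf (nat_lit 0x86044ce72) (nat_lit 2051))
 (.node (nat_lit 0x86044d212) (.leaf (nat_lit 0x86044d202) (nat_lit 771))
 (.leaf (nat_lit 0x86044d212) (nat_lit 3075))
))) (.node (nat_lit 0x86045ca32) (.node (nat_lit 0x86044d672) (.leaf (nat_lit 0x86044d662) (nat_lit 2817))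
 (.node (nat_lit 0x86045ca22) (.leaf (nat_lit 0x86044d672) (nat_lit 2819))
 (.leaf (nat_lit 0x86045ca22) (nat_lit 2305))
)) (.node (nat_lit 0x86045ce42) (.leaf (nat_lit 0x86045ca32) (nat_lit 3076))
 (.node (nat_lit 0x86045ce52) (.leaf (nat_lit 0x86045ce42) (nat_lit 3072))
 (.leaf (nat_lit 0x86045ce52) (nat_lit 2305))
))))))) (.node (nat_lit 0x860c2fa02) (.node (nat_lit 0x860c0e232) (.node (nat_lit 0x86046d662) (.node (nat_lit 0x86046ca12) (.node (nat_lit 0x86045d642) (.node (nat_lit 0x86045d232) (.leaf (nat_lit 0x86045d222) (nat_lit 3073))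
 (.leaf (nat_lit 0x86045d232) (nat_lit 2304))
) (.node (nat_lit 0x86045d652) (.leaf (nat_lit 0x86045d642) (nat_lit 3330))
 (.node (nat_lit 0x86046ca02) (.leaf (nat_lit 0x86045d652) (nat_lit 1793))
 (.leaf (nat_lit 0x86046ca02) (nat_lit 1792))
))) (.node (nat_lit 0x86046ce72) (.node (nat_lit 0x86046ce62) (.leaf (nat_lit 0x86046ca12) (nat_lit 3329))
 (.leaf (nat_lit 0x86046ce62) (nat_lit 3075))
) (.node (nat_lit 0x86046d202) (.leaf (nat_lit 0x86046ce72) (nat_lit 2304))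
 (.node (nat_lit 0x86046d212) (.leaf (nat_lit 0x86046d202) (nat_lit 1024))
 (.leaf (nat_lit 0x86046d212) (nat_lit 3328))
)))) (.node (nat_lit 0x86047ce52) (.node (nat_lit 0x86047ca22) (.node (nat_lit 0x86046d672) (.leaf (nat_lit 0x86046d662) (nat_lit 2561))
 (.leaf (nat_lit 0x86046d672) (nat_lit 3072))
) (.node (nat_lit 0x86047ca32) (.leaf (nat_lit 0x86047ca22) (nat_lit 2561))
 (.node (nat_lit 0x86047ce42) (.leaf (nat_lit 0x86047ca32) (nat_lit 2820))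
 (.leaf (nat_lit 0x86047ce42) (nat_lit 2819))
))) (.node (nat_lit 0x86047d642) (.node (nat_lit 0x86047d222) (.leaf (nat_lit 0x86047ce52) (nat_lit 2561))
 (.node (nat_lit 0x86047d232) (.leaf (nat_lit 0x86047d222) (nat_lit 3329))
 (.leaf (nat_lit 0x86047d232) (nat_lit 2051))
)) (.node (nat_lit 0x86047d652) (.leaf (nat_lit 0x86047d642) (nat_lit 3332))
 (.node (nat_lit 0x860c0e202) (.leaf (nat_lit 0x86047d652) (nat_lit 2049))
 (.leaf (nat_lit 0x860c0e202) (nat_lit 771))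
))))) (.node (nat_lit 0x860c1ee72) (.node (nat_lit 0x860c0fa02) (.node (nat_lit 0x860c0ee62) (.node (nat_lit 0x860c0ee52) (.leaf (nat_lit 0x860c0e232) (nat_lit 2563))
 (.leaf (nat_lit 0x860c0ee52) (nat_lit 2819))
) (.node (nat_lit 0x860c0f652) (.leaf (nat_lit 0x860c0ee62) (nat_lit 3329))
 (.node (nat_lit 0x860c0f662) (.leaf (nat_lit 0x860c0f652) (nat_lit 2051))
 (.leaf (nat_lit 0x860c0f662) (nat_lit 3329))
))) (.node (nat_lit 0x860c1e212) (.node (nat_lit 0x860c0fa32) (.leaf (nat_lit 0x860c0fa02) (nat_lit 1539))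
 (.leaf (nat_lit 0x860c0fa32) (nat_lit 3074))
) (.node (nat_lit 0x860c1e222) (.leaf (nat_lit 0x860c1e212) (nat_lit 2051))
 (.node (nat_lit 0x860c1ee42) (.leaf (nat_lit 0x860c1e222) (nat_lit 3330))
 (.leaf (nat_lit 0x860c1ee42) (nat_lit 3332))
)))) (.node (nat_lit 0x860c2e202) (.node (nat_lit 0x860c1f672) (.node (nat_lit 0x860c1f642) (.leaf (nat_lit 0x860c1ee72) (nat_lit 2561))
 (.leaf (nat_lit 0x860c1f642) (nat_lit 2819))
) (.node (nat_lit 0x860c1fa12) (.leaf (nat_lit 0x860c1f672) (nat_lit 3073))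
 (.node (nat_lit 0x860c1fa22) (.leaf (nat_lit 0x860c1fa12) (nat_lit 2820))
 (.leaf (nat_lit 0x860c1fa22) (nat_lit 3073))
))) (.node (nat_lit 0x860c2ee62) (.node (nat_lit 0x860c2e232) (.leaf (nat_lit 0x860c2e202) (nat_lit 1024))
 (.node (nat_lit 0x860c2ee52) (.leaf (nat_lit 0x860c2e232) (nat_lit 2816))
 (.leaf (nat_lit 0x860c2ee52) (nat_lit 3072))
)) (.node (nat_lit 0x860c2f652) (.leaf (nat_lit 0x860c2ee62) (nat_lit 3073))
 (.node (nat_lit 0x860c2f662) (.leaf (nat_lit 0x860c2f652) (nat_lit 2304))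
 (.leaf (nat_lit 0x860c2f662) (nat_lit 3587))
)))))) (.node (nat_lit 0x860c5ea22) (.node (nat_lit 0x860c4e652) (.node (nat_lit 0x860c3ee72) (.node (nat_lit 0x860c3e212) (.node (nat_lit 0x860c2fa32) (.leaf (nat_lit 0x860c2fa02) (nat_lit 1792))
 (.leaf (nat_lit 0x860c2fa32) (nat_lit 3330))
) (.node (nat_lit 0x860c3e222) (.leaf (nat_lit 0x860c3e212) (nat_lit 2304))
 (.node (nat_lit 0x860c3ee42) (.leaf (nat_lit 0x860c3e222) (nat_lit 3329))
 (.leaf (nat_lit 0x860c3ee42) (nat_lit 3330))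
))) (.node (nat_lit 0x860c3f672) (.node (nat_lit 0x860c3f642) (.leaf (nat_lit 0x860c3ee72) (nat_lit 2305))
 (.leaf (nat_lit 0x860c3f642) (nat_lit 3072))
) (.node (nat_lit 0x860c3fa12) (.leaf (nat_lit 0x860c3f672) (nat_lit 2817))
 (.node (nat_lit 0x860c3fa22) (.leaf (nat_lit 0x860c3fa12) (nat_lit 3076))
 (.leaf (nat_lit 0x860c3fa22) (nat_lit 2817))
)))) (.node (nat_lit 0x860c4f232) (.node (nat_lit 0x860c4ea02) (.node (nat_lit 0x860c4e662) (.leaf (nat_lit 0x860c4e652) (nat_lit 2307))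
 (.leaf (nat_lit 0x860c4e662) (nat_lit 3585))
) (.node (nat_lit 0x860c4ea32) (.leaf (nat_lit 0x860c4ea02) (nat_lit 1795))
 (.node (nat_lit 0x860c4f202) (.leaf (nat_lit 0x860c4ea32) (nat_lit 3330))
 (.leaf (nat_lit 0x860c4f202) (nat_lit 1027))
))) (.node (nat_lit 0x860c5e642) (.node (nat_lit 0x860c4fe52) (.leaf (nat_lit 0x860c4f232) (nat_lit 2819))
 (.node (nat_lit 0x860c4fe62) (.leaf (nat_lit 0x860c4fe52) (nat_lit 3075))
 (.leaf (nat_lit 0x860c4fe62) (nat_lit 3073))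
)) (.node (nat_lit 0x860c5e672) (.leaf (nat_lit 0x860c5e642) (nat_lit 3075))
 (.node (nat_lit 0x860c5ea12) (.leaf (nat_lit 0x860c5e672) (nat_lit 2817))
 (.leaf (nat_lit 0x860c5ea12) (nat_lit 3076))
))))) (.node (nat_lit 0x860c6f232) (.node (nat_lit 0x860c6e652) (.node (nat_lit 0x860c5f222) (.node (nat_lit 0x860c5f212) (.leaf (nat_lit 0x860c5ea22) (nat_lit 2817))
 (.leaf (nat_lit 0x860c5f212) (nat_lit 2307))
) (.node (nat_lit 0x860c5fe42) (.leaf (nat_lit 0x860c5f222) (nat_lit 3329))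
 (.node (nat_lit 0x860c5fe72) (.leaf (nat_lit 0x860c5fe42) (nat_lit 3330))
 (.leaf (nat_lit 0x860c5fe72) (nat_lit 2305))
))) (.node (nat_lit 0x860c6ea02) (.node (nat_lit 0x860c6e662) (.leaf (nat_lit 0x860c6e652) (nat_lit 2560))
 (.leaf (nat_lit 0x860c6e662) (nat_lit 3331))
) (.node (nat_lit 0x860c6ea32) (.leaf (nat_lit 0x860c6ea02) (nat_lit 2048))
 (.node (nat_lit 0x860c6f202) (.leaf (nat_lit 0x860c6ea32) (nat_lit 3586))
 (.leaf (nat_lit 0x860c6f202) (nat_lit 1280))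
)))) (.node (nat_lit 0x860c7ea12) (.node (nat_lit 0x860c6fe62) (.node (nat_lit 0x860c6fe52) (.leaf (nat_lit 0x860c6f232) (nat_lit 3072))
 (.leaf (nat_lit 0x860c6fe52) (nat_lit 3328))
) (.node (nat_lit 0x860c7e642) (.leaf (nat_lit 0x860c6fe62) (nat_lit 2817))
 (.node (nat_lit 0x860c7e672) (.leaf (nat_lit 0x860c7e642) (nat_lit 3328))
 (.leaf (nat_lit 0x860c7e672) (nat_lit 2561))
))) (.node (nat_lit 0x860c7f222) (.node (nat_lit 0x860c7ea22) (.leaf (nat_lit 0x860c7ea12) (nat_lit 3332))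
 (.node (nat_lit 0x860c7f212) (.leaf (nat_lit 0x860c7ea22) (nat_lit 2561))
 (.leaf (nat_lit 0x860c7f212) (nat_lit 2560))
)) (.node (nat_lit 0x860c7fe42) (.leaf (nat_lit 0x860c7f222) (nat_lit 3073))
 (.node (nat_lit 0x860c7fe72) (.leaf (nat_lit 0x860c7fe42) (nat_lit 3074))
 (.leaf (nat_lit 0x860c7fe72) (nat_lit 2049))
)))))))))))) (.node (nat_lit 0xc51c0a18e) (.node (nat_lit 0xc210421b8) (.node (nat_lit 0x87182c08a) (.node (nat_lit 0x87045ca0a) (.node (nat_lit 0x861c2da82) (.node (nat_lit 0x86145ee92) (.node (nat_lit 0x86142f6e2) (.node (nat_lit 0x86141eaa2) (.node (nat_lit 0x86140f6e2) (.node (nat_lit 0x86140eeb2) (.node (nat_lit 0x86140e2d2) (.leaf (nat_lit 0x86140e282) (nat_lit 1027))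
 (.leaf (nat_lit 0x86140e2d2) (nat_lit 2307))
) (.node (nat_lit 0x86140eee2) (.leaf (nat_lit 0x86140eeb2) (nat_lit 2563))
 (.node (nat_lit 0x86140f6b2) (.leaf (nat_lit 0x86140eee2) (nat_lit 3332))
 (.leaf (nat_lit 0x86140f6b2) (nat_lit 2820))
))) (.node (nat_lit 0x86140fad2) (.node (nat_lit 0x86140fa82) (.leaf (nat_lit 0x86140f6e2) (nat_lit 3585))
 (.leaf (nat_lit 0x86140fa82) (nat_lit 1540))
) (.node (nat_lit 0x86141e692) (.leaf (nat_lit 0x86140fad2) (nat_lit 2820))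
 (.node (nat_lit 0x86141e6c2) (.leaf (nat_lit 0x86141e692) (nat_lit 2307))
 (.leaf (nat_lit 0x86141e6c2) (nat_lit 3075))
)))) (.node (nat_lit 0x86141fec2) (.node (nat_lit 0x86141f2a2) (.node (nat_lit 0x86141eaf2) (.leaf (nat_lit 0x86141eaa2) (nat_lit 3073))
 (.leaf (nat_lit 0x86141eaf2) (nat_lit 3332))
) (.node (nat_lit 0x86141f2f2) (.leaf (nat_lit 0x86141f2a2) (nat_lit 3330))
 (.node (nat_lit 0x86141fe92) (.leaf (nat_lit 0x86141f2f2) (nat_lit 2818))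
 (.leaf (nat_lit 0x86141fe92) (nat_lit 2817))
))) (.node (nat_lit 0x86142eeb2) (.node (nat_lit 0x86142e282) (.leaf (nat_lit 0x86141fec2) (nat_lit 3332))
 (.node (nat_lit 0x86142e2d2) (.leaf (nat_lit 0x86142e282) (nat_lit 1280))
 (.leaf (nat_lit 0x86142e2d2) (nat_lit 2560))
)) (.node (nat_lit 0x86142eee2) (.leaf (nat_lit 0x86142eeb2) (nat_lit 2816))
 (.node (nat_lit 0x86142f6b2) (.leaf (nat_lit 0x86142eee2) (nat_lit 3585))
 (.leaf (nat_lit 0x86142f6b2) (nat_lit 3076))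
))))) (.node (nat_lit 0x86143fec2) (.node (nat_lit 0x86143eaa2) (.node (nat_lit 0x86142fad2) (.node (nat_lit 0x86142fa82) (.leaf (nat_lit 0x86142f6e2) (nat_lit 3329))
 (.leaf (nat_lit 0x86142fa82) (nat_lit 1796))
) (.node (nat_lit 0x86143e692) (.leaf (nat_lit 0x86142fad2) (nat_lit 3076))
 (.node (nat_lit 0x86143e6c2) (.leaf (nat_lit 0x86143e692) (nat_lit 2560))
 (.leaf (nat_lit 0x86143e6c2) (nat_lit 3328))
))) (.node (nat_lit 0x86143f2a2) (.node (nat_lit 0x86143eaf2) (.leaf (nat_lit 0x86143eaa2) (nat_lit 3329))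
 (.leaf (nat_lit 0x86143eaf2) (nat_lit 3076))
) (.node (nat_lit 0x86143f2f2) (.leaf (nat_lit 0x86143f2a2) (nat_lit 3074))
 (.node (nat_lit 0x86143fe92) (.leaf (nat_lit 0x86143f2f2) (nat_lit 2562))
 (.leaf (nat_lit 0x86143fe92) (nat_lit 3073))
)))) (.node (nat_lit 0x86144f282) (.node (nat_lit 0x86144e6e2) (.node (nat_lit 0x86144e6b2) (.leaf (nat_lit 0x86143fec2) (nat_lit 3076))
 (.leaf (nat_lit 0x86144e6b2) (nat_lit 3076))
) (.node (nat_lit 0x86144ea82) (.leaf (nat_lit 0x86144e6e2) (nat_lit 3329))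
 (.node (nat_lit 0x86144ead2) (.leaf (nat_lit 0x86144ea82) (nat_lit 1796))
 (.leaf (nat_lit 0x86144ead2) (nat_lit 3076))
))) (.node (nat_lit 0x86144fee2) (.node (nat_lit 0x86144f2d2) (.leaf (nat_lit 0x86144f282) (nat_lit 1283))
 (.node (nat_lit 0x86144feb2) (.leaf (nat_lit 0x86144f2d2) (nat_lit 2563))
 (.leaf (nat_lit 0x86144feb2) (nat_lit 2819))
)) (.node (nat_lit 0x86145e2a2) (.leaf (nat_lit 0x86144fee2) (nat_lit 3588))
 (.node (nat_lit 0x86145e2f2) (.leaf (nat_lit 0x86145e2a2) (nat_lit 3074))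
 (.leaf (nat_lit 0x86145e2f2) (nat_lit 2562))
)))))) (.node (nat_lit 0x86147faf2) (.node (nat_lit 0x86146f282) (.node (nat_lit 0x86145faf2) (.node (nat_lit 0x86145f692) (.node (nat_lit 0x86145eec2) (.leaf (nat_lit 0x86145ee92) (nat_lit 3073))
 (.leaf (nat_lit 0x86145eec2) (nat_lit 3076))
) (.node (nat_lit 0x86145f6c2) (.leaf (nat_lit 0x86145f692) (nat_lit 2563))
 (.node (nat_lit 0x86145faa2) (.leaf (nat_lit 0x86145f6c2) (nat_lit 3331))
 (.leaf (nat_lit 0x86145faa2) (nat_lit 3329))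
))) (.node (nat_lit 0x86146e6e2) (.node (nat_lit 0x86146e6b2) (.leaf (nat_lit 0x86145faf2) (nat_lit 3076))
 (.leaf (nat_lit 0x86146e6b2) (nat_lit 3332))
) (.node (nat_lit 0x86146ea82) (.leaf (nat_lit 0x86146e6e2) (nat_lit 3073))
 (.node (nat_lit 0x86146ead2) (.leaf (nat_lit 0x86146ea82) (nat_lit 2052))
 (.leaf (nat_lit 0x86146ead2) (nat_lit 3332))
)))) (.node (nat_lit 0x86147e2f2) (.node (nat_lit 0x86146feb2) (.node (nat_lit 0x86146f2d2) (.leaf (nat_lit 0x86146f282) (nat_lit 1536))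
 (.leaf (nat_lit 0x86146f2d2) (nat_lit 2816))
) (.node (nat_lit 0x86146fee2) (.leaf (nat_lit 0x86146feb2) (nat_lit 3072))
 (.node (nat_lit 0x86147e2a2) (.leaf (nat_lit 0x86146fee2) (nat_lit 3329))
 (.leaf (nat_lit 0x86147e2a2) (nat_lit 2818))
))) (.node (nat_lit 0x86147f692) (.node (nat_lit 0x86147ee92) (.leaf (nat_lit 0x86147e2f2) (nat_lit 2306))
 (.node (nat_lit 0x86147eec2) (.leaf (nat_lit 0x86147ee92) (nat_lit 3329))
 (.leaf (nat_lit 0x86147eec2) (nat_lit 2820))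
)) (.node (nat_lit 0x86147f6c2) (.leaf (nat_lit 0x86147f692) (nat_lit 2816))
 (.node (nat_lit 0x86147faa2) (.leaf (nat_lit 0x86147f6c2) (nat_lit 3332))
 (.leaf (nat_lit 0x86147faa2) (nat_lit 3330))
))))) (.node (nat_lit 0x861c1cad2) (.node (nat_lit 0x861c0da82) (.node (nat_lit 0x861c0c2f2) (.node (nat_lit 0x861c0c282) (.leaf (nat_lit 0x86147faf2) (nat_lit 2820))
 (.leaf (nat_lit 0x861c0c282) (nat_lit 771))
) (.node (nat_lit 0x861c0c692) (.leaf (nat_lit 0x861c0c2f2) (nat_lit 2051))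
 (.node (nat_lit 0x861c0c6e2) (.leaf (nat_lit 0x861c0c692) (nat_lit 2563))
 (.leaf (nat_lit 0x861c0c6e2) (nat_lit 3585))
))) (.node (nat_lit 0x861c0de92) (.node (nat_lit 0x861c0daf2) (.leaf (nat_lit 0x861c0da82) (nat_lit 1539))
 (.leaf (nat_lit 0x861c0daf2) (nat_lit 2819))
) (.node (nat_lit 0x861c0dee2) (.leaf (nat_lit 0x861c0de92) (nat_lit 3076))
 (.node (nat_lit 0x861c1caa2) (.leaf (nat_lit 0x861c0dee2) (nat_lit 3330))
 (.leaf (nat_lit 0x861c1caa2) (nat_lit 3329))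
)))) (.node (nat_lit 0x861c1d6b2) (.node (nat_lit 0x861c1cec2) (.node (nat_lit 0x861c1ceb2) (.leaf (nat_lit 0x861c1cad2) (nat_lit 2818))
 (.leaf (nat_lit 0x861c1ceb2) (nat_lit 2304))
) (.node (nat_lit 0x861c1d2a2) (.leaf (nat_lit 0x861c1cec2) (nat_lit 3072))
 (.node (nat_lit 0x861c1d2d2) (.leaf (nat_lit 0x861c1d2a2) (nat_lit 2818))
 (.leaf (nat_lit 0x861c1d2d2) (nat_lit 2307))
))) (.node (nat_lit 0x861c2c2f2) (.node (nat_lit 0x861c1d6c2) (.leaf (nat_lit 0x861c1d6b2) (nat_lit 3073))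
 (.node (nat_lit 0x861c2c282) (.leaf (nat_lit 0x861c1d6c2) (nat_lit 3332))
 (.leaf (nat_lit 0x861c2c282) (nat_lit 1024))
)) (.node (nat_lit 0x861c2c692) (.leaf (nat_lit 0x861c2c2f2) (nat_lit 2304))
 (.node (nat_lit 0x861c2c6e2) (.leaf (nat_lit 0x861c2c692) (nat_lit 2816))
 (.leaf (nat_lit 0x861c2c6e2) (nat_lit 3329))
))))))) (.node (nat_lit 0x861c7deb2) (.node (nat_lit 0x861c5c2d2) (.node (nat_lit 0x861c3d6b2) (.node (nat_lit 0x861c3cad2) (.node (nat_lit 0x861c2de92) (.node (nat_lit 0x861c2daf2) (.leaf (nat_lit 0x861c2da82) (nat_lit 1792))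
 (.leaf (nat_lit 0x861c2daf2) (nat_lit 3072))
) (.node (nat_lit 0x861c2dee2) (.leaf (nat_lit 0x861c2de92) (nat_lit 3332))
 (.node (nat_lit 0x861c3caa2) (.leaf (nat_lit 0x861c2dee2) (nat_lit 3074))
 (.leaf (nat_lit 0x861c3caa2) (nat_lit 3073))
))) (.node (nat_lit 0x861c3cec2) (.node (nat_lit 0x861c3ceb2) (.leaf (nat_lit 0x861c3cad2) (nat_lit 3074))
 (.leaf (nat_lit 0x861c3ceb2) (nat_lit 2051))
) (.node (nat_lit 0x861c3d2a2) (.leaf (nat_lit 0x861c3cec2) (nat_lit 2819))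
 (.node (nat_lit 0x861c3d2d2) (.leaf (nat_lit 0x861c3d2a2) (nat_lit 3074))
 (.leaf (nat_lit 0x861c3d2d2) (nat_lit 2560))
)))) (.node (nat_lit 0x861c4cee2) (.node (nat_lit 0x861c4ca82) (.node (nat_lit 0x861c3d6c2) (.leaf (nat_lit 0x861c3d6b2) (nat_lit 2817))
 (.leaf (nat_lit 0x861c3d6c2) (nat_lit 3330))
) (.node (nat_lit 0x861c4caf2) (.leaf (nat_lit 0x861c4ca82) (nat_lit 1795))
 (.node (nat_lit 0x861c4ce92) (.leaf (nat_lit 0x861c4caf2) (nat_lit 3075))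
 (.leaf (nat_lit 0x861c4ce92) (nat_lit 3332))
))) (.node (nat_lit 0x861c4d692) (.node (nat_lit 0x861c4d282) (.leaf (nat_lit 0x861c4cee2) (nat_lit 3074))
 (.node (nat_lit 0x861c4d2f2) (.leaf (nat_lit 0x861c4d282) (nat_lit 1027))
 (.leaf (nat_lit 0x861c4d2f2) (nat_lit 2307))
)) (.node (nat_lit 0x861c4d6e2) (.leaf (nat_lit 0x861c4d692) (nat_lit 2819))
 (.node (nat_lit 0x861c5c2a2) (.leaf (nat_lit 0x861c4d6e2) (nat_lit 3329))
 (.leaf (nat_lit 0x861c5c2a2) (nat_lit 2562))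
))))) (.node (nat_lit 0x861c6cee2) (.node (nat_lit 0x861c5deb2) (.node (nat_lit 0x861c5c6c2) (.node (nat_lit 0x861c5c6b2) (.leaf (nat_lit 0x861c5c2d2) (nat_lit 2051))
 (.leaf (nat_lit 0x861c5c6b2) (nat_lit 3329))
) (.node (nat_lit 0x861c5daa2) (.leaf (nat_lit 0x861c5c6c2) (nat_lit 3076))
 (.node (nat_lit 0x861c5dad2) (.leaf (nat_lit 0x861c5daa2) (nat_lit 3330))
 (.leaf (nat_lit 0x861c5dad2) (nat_lit 2562))
))) (.node (nat_lit 0x861c6ca82) (.node (nat_lit 0x861c5dec2) (.leaf (nat_lit 0x861c5deb2) (nat_lit 2560))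
 (.leaf (nat_lit 0x861c5dec2) (nat_lit 3328))
) (.node (nat_lit 0x861c6caf2) (.leaf (nat_lit 0x861c6ca82) (nat_lit 2048))
 (.node (nat_lit 0x861c6ce92) (.leaf (nat_lit 0x861c6caf2) (nat_lit 3328))
 (.leaf (nat_lit 0x861c6ce92) (nat_lit 3588))
)))) (.node (nat_lit 0x861c7c2a2) (.node (nat_lit 0x861c6d2f2) (.node (nat_lit 0x861c6d282) (.leaf (nat_lit 0x861c6cee2) (nat_lit 2818))
 (.leaf (nat_lit 0x861c6d282) (nat_lit 1280))
) (.node (nat_lit 0x861c6d692) (.leaf (nat_lit 0x861c6d2f2) (nat_lit 2560))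
 (.node (nat_lit 0x861c6d6e2) (.leaf (nat_lit 0x861c6d692) (nat_lit 3072))
 (.leaf (nat_lit 0x861c6d6e2) (nat_lit 3073))
))) (.node (nat_lit 0x861c7c6c2) (.node (nat_lit 0x861c7c2d2) (.leaf (nat_lit 0x861c7c2a2) (nat_lit 2818))
 (.node (nat_lit 0x861c7c6b2) (.leaf (nat_lit 0x861c7c2d2) (nat_lit 2304))
 (.leaf (nat_lit 0x861c7c6b2) (nat_lit 3073))
)) (.node (nat_lit 0x861c7daa2) (.leaf (nat_lit 0x861c7c6c2) (nat_lit 3332))
 (.node (nat_lit 0x861c7dad2) (.leaf (nat_lit 0x861c7daa2) (nat_lit 3329))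
 (.leaf (nat_lit 0x861c7dad2) (nat_lit 2818))
)))))) (.node (nat_lit 0x87042c67a) (.node (nat_lit 0x87041c22a) (.node (nat_lit 0x87040c67a) (.node (nat_lit 0x87040c20a) (.node (nat_lit 0x861c7dec2) (.leaf (nat_lit 0x861c7deb2) (nat_lit 2307))
 (.leaf (nat_lit 0x861c7dec2) (nat_lit 3075))
) (.node (nat_lit 0x87040c21a) (.leaf (nat_lit 0x87040c20a) (nat_lit 769))
 (.node (nat_lit 0x87040c66a) (.leaf (nat_lit 0x87040c21a) (nat_lit 2818))
 (.leaf (nat_lit 0x87040c66a) (nat_lit 2308))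
))) (.node (nat_lit 0x87040da7a) (.node (nat_lit 0x87040da6a) (.leaf (nat_lit 0x87040c67a) (nat_lit 2816))
 (.leaf (nat_lit 0x87040da6a) (nat_lit 1537))
) (.node (nat_lit 0x87040de0a) (.leaf (nat_lit 0x87040da7a) (nat_lit 3584))
 (.node (nat_lit 0x87040de1a) (.leaf (nat_lit 0x87040de0a) (nat_lit 1795))
 (.leaf (nat_lit 0x87040de1a) (nat_lit 3328))
)))) (.node (nat_lit 0x87041da5a) (.node (nat_lit 0x87041c64a) (.node (nat_lit 0x87041c23a) (.leaf (nat_lit 0x87041c22a) (nat_lit 3075))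
 (.leaf (nat_lit 0x87041c23a) (nat_lit 2304))
) (.node (nat_lit 0x87041c65a) (.leaf (nat_lit 0x87041c64a) (nat_lit 1795))
 (.node (nat_lit 0x87041da4a) (.leaf (nat_lit 0x87041c65a) (nat_lit 3332))
 (.leaf (nat_lit 0x87041da4a) (nat_lit 2307))
))) (.node (nat_lit 0x87042c20a) (.node (nat_lit 0x87041de2a) (.leaf (nat_lit 0x87041da5a) (nat_lit 2816))
 (.node (nat_lit 0x87041de3a) (.leaf (nat_lit 0x87041de2a) (nat_lit 2307))
 (.leaf (nat_lit 0x87041de3a) (nat_lit 2820))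
)) (.node (nat_lit 0x87042c21a) (.leaf (nat_lit 0x87042c20a) (nat_lit 1025))
 (.node (nat_lit 0x87042c66a) (.leaf (nat_lit 0x87042c21a) (nat_lit 3074))
 (.leaf (nat_lit 0x87042c66a) (nat_lit 2564))
))))) (.node (nat_lit 0x87043da5a) (.node (nat_lit 0x87043c22a) (.node (nat_lit 0x87042da7a) (.node (nat_lit 0x87042da6a) (.leaf (nat_lit 0x87042c67a) (nat_lit 2563))
 (.leaf (nat_lit 0x87042da6a) (nat_lit 1793))
) (.node (nat_lit 0x87042de0a) (.leaf (nat_lit 0x87042da7a) (nat_lit 3331))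
 (.node (nat_lit 0x87042de1a) (.leaf (nat_lit 0x87042de0a) (nat_lit 2048))
 (.leaf (nat_lit 0x87042de1a) (nat_lit 3075))
))) (.node (nat_lit 0x87043c64a) (.node (nat_lit 0x87043c23a) (.leaf (nat_lit 0x87043c22a) (nat_lit 3328))
 (.leaf (nat_lit 0x87043c23a) (nat_lit 2051))
) (.node (nat_lit 0x87043c65a) (.leaf (nat_lit 0x87043c64a) (nat_lit 2051))
 (.node (nat_lit 0x87043da4a) (.leaf (nat_lit 0x87043c65a) (nat_lit 3076))
 (.leaf (nat_lit 0x87043da4a) (nat_lit 2560))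
)))) (.node (nat_lit 0x87044ce4a) (.node (nat_lit 0x87043de3a) (.node (nat_lit 0x87043de2a) (.leaf (nat_lit 0x87043da5a) (nat_lit 2563))
 (.leaf (nat_lit 0x87043de2a) (nat_lit 2560))
) (.node (nat_lit 0x87044ca2a) (.leaf (nat_lit 0x87043de3a) (nat_lit 2564))
 (.node (nat_lit 0x87044ca3a) (.leaf (nat_lit 0x87044ca2a) (nat_lit 1793))
 (.leaf (nat_lit 0x87044ca3a) (nat_lit 3328))
))) (.node (nat_lit 0x87044d25a) (.node (nat_lit 0x87044ce5a) (.leaf (nat_lit 0x87044ce4a) (nat_lit 2051))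
 (.node (nat_lit 0x87044d24a) (.leaf (nat_lit 0x87044ce5a) (nat_lit 3072))
 (.leaf (nat_lit 0x87044d24a) (nat_lit 1025))
)) (.node (nat_lit 0x87044d62a) (.leaf (nat_lit 0x87044d25a) (nat_lit 3074))
 (.node (nat_lit 0x87044d63a) (.leaf (nat_lit 0x87044d62a) (nat_lit 2564))
 (.leaf (nat_lit 0x87044d63a) (nat_lit 2560))
)))))))) (.node (nat_lit 0x870c7760a) (.node (nat_lit 0x870c26e4a) (.node (nat_lit 0x87047d27a) (.node (nat_lit 0x87046ce4a) (.node (nat_lit 0x87045d27a) (.node (nat_lit 0x87045ce6a) (.node (nat_lit 0x87045ca1a) (.leaf (nat_lit 0x87045ca0a) (nat_lit 2051))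
 (.leaf (nat_lit 0x87045ca1a) (nat_lit 3072))
) (.node (nat_lit 0x87045ce7a) (.leaf (nat_lit 0x87045ce6a) (nat_lit 2051))
 (.node (nat_lit 0x87045d26a) (.leaf (nat_lit 0x87045ce7a) (nat_lit 3076))
 (.leaf (nat_lit 0x87045d26a) (nat_lit 2819))
))) (.node (nat_lit 0x87045d61a) (.node (nat_lit 0x87045d60a) (.leaf (nat_lit 0x87045d27a) (nat_lit 2560))
 (.leaf (nat_lit 0x87045d60a) (nat_lit 1539))
) (.node (nat_lit 0x87046ca2a) (.leaf (nat_lit 0x87045d61a) (nat_lit 3331))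
 (.node (nat_lit 0x87046ca3a) (.leaf (nat_lit 0x87046ca2a) (nat_lit 2049))
 (.leaf (nat_lit 0x87046ca3a) (nat_lit 3075))
)))) (.node (nat_lit 0x87046d63a) (.node (nat_lit 0x87046d24a) (.node (nat_lit 0x87046ce5a) (.leaf (nat_lit 0x87046ce4a) (nat_lit 2304))
 (.leaf (nat_lit 0x87046ce5a) (nat_lit 2819))
) (.node (nat_lit 0x87046d25a) (.leaf (nat_lit 0x87046d24a) (nat_lit 1281))
 (.node (nat_lit 0x87046d62a) (.leaf (nat_lit 0x87046d25a) (nat_lit 3330))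
 (.leaf (nat_lit 0x87046d62a) (nat_lit 2820))
))) (.node (nat_lit 0x87047ce6a) (.node (nat_lit 0x87047ca0a) (.leaf (nat_lit 0x87046d63a) (nat_lit 2307))
 (.node (nat_lit 0x87047ca1a) (.leaf (nat_lit 0x87047ca0a) (nat_lit 2304))
 (.leaf (nat_lit 0x87047ca1a) (nat_lit 2819))
)) (.node (nat_lit 0x87047ce7a) (.leaf (nat_lit 0x87047ce6a) (nat_lit 2304))
 (.node (nat_lit 0x87047d26a) (.leaf (nat_lit 0x87047ce7a) (nat_lit 2820))
 (.leaf (nat_lit 0x87047d26a) (nat_lit 3072))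
))))) (.node (nat_lit 0x870c07e3a) (.node (nat_lit 0x870c06e4a) (.node (nat_lit 0x87047d61a) (.node (nat_lit 0x87047d60a) (.leaf (nat_lit 0x87047d27a) (nat_lit 2307))
 (.leaf (nat_lit 0x87047d60a) (nat_lit 1795))
) (.node (nat_lit 0x870c0620a) (.leaf (nat_lit 0x87047d61a) (nat_lit 3332))
 (.node (nat_lit 0x870c0623a) (.leaf (nat_lit 0x870c0620a) (nat_lit 1281))
 (.leaf (nat_lit 0x870c0623a) (nat_lit 2818))
))) (.node (nat_lit 0x870c0724a) (.node (nat_lit 0x870c06e7a) (.leaf (nat_lit 0x870c06e4a) (nat_lit 2307))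
 (.leaf (nat_lit 0x870c06e7a) (nat_lit 3330))
) (.node (nat_lit 0x870c0727a) (.leaf (nat_lit 0x870c0724a) (nat_lit 1537))
 (.node (nat_lit 0x870c07e0a) (.leaf (nat_lit 0x870c0727a) (nat_lit 3074))
 (.leaf (nat_lit 0x870c07e0a) (nat_lit 2051))
)))) (.node (nat_lit 0x870c1725a) (.node (nat_lit 0x870c1622a) (.node (nat_lit 0x870c1621a) (.leaf (nat_lit 0x870c07e3a) (nat_lit 3074))
 (.leaf (nat_lit 0x870c1621a) (nat_lit 2307))
) (.node (nat_lit 0x870c16e5a) (.leaf (nat_lit 0x870c1622a) (nat_lit 3328))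
 (.node (nat_lit 0x870c16e6a) (.leaf (nat_lit 0x870c16e5a) (nat_lit 3076))
 (.leaf (nat_lit 0x870c16e6a) (nat_lit 2563))
))) (.node (nat_lit 0x870c17e2a) (.node (nat_lit 0x870c1726a) (.leaf (nat_lit 0x870c1725a) (nat_lit 2563))
 (.node (nat_lit 0x870c17e1a) (.leaf (nat_lit 0x870c1726a) (nat_lit 3072))
 (.leaf (nat_lit 0x870c17e1a) (nat_lit 2820))
)) (.node (nat_lit 0x870c2620a) (.leaf (nat_lit 0x870c17e2a) (nat_lit 2819))
 (.node (nat_lit 0x870c2623a) (.leaf (nat_lit 0x870c2620a) (nat_lit 1537))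
 (.leaf (nat_lit 0x870c2623a) (nat_lit 3074))
)))))) (.node (nat_lit 0x870c47a6a) (.node (nat_lit 0x870c3725a) (.node (nat_lit 0x870c27e3a) (.node (nat_lit 0x870c2724a) (.node (nat_lit 0x870c26e7a) (.leaf (nat_lit 0x870c26e4a) (nat_lit 2560))
 (.leaf (nat_lit 0x870c26e7a) (nat_lit 3075))
) (.node (nat_lit 0x870c2727a) (.leaf (nat_lit 0x870c2724a) (nat_lit 1793))
 (.node (nat_lit 0x870c27e0a) (.leaf (nat_lit 0x870c2727a) (nat_lit 3330))
 (.leaf (nat_lit 0x870c27e0a) (nat_lit 2304))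
))) (.node (nat_lit 0x870c3622a) (.node (nat_lit 0x870c3621a) (.leaf (nat_lit 0x870c27e3a) (nat_lit 3331))
 (.leaf (nat_lit 0x870c3621a) (nat_lit 2560))
) (.node (nat_lit 0x870c36e5a) (.leaf (nat_lit 0x870c3622a) (nat_lit 3075))
 (.node (nat_lit 0x870c36e6a) (.leaf (nat_lit 0x870c36e5a) (nat_lit 3332))
 (.leaf (nat_lit 0x870c36e6a) (nat_lit 2307))
)))) (.node (nat_lit 0x870c4666a) (.node (nat_lit 0x870c37e1a) (.node (nat_lit 0x870c3726a) (.leaf (nat_lit 0x870c3725a) (nat_lit 2816))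
 (.leaf (nat_lit 0x870c3726a) (nat_lit 2819))
) (.node (nat_lit 0x870c37e2a) (.leaf (nat_lit 0x870c37e1a) (nat_lit 3076))
 (.node (nat_lit 0x870c4665a) (.leaf (nat_lit 0x870c37e2a) (nat_lit 2563))
 (.leaf (nat_lit 0x870c4665a) (nat_lit 2819))
))) (.node (nat_lit 0x870c4761a) (.node (nat_lit 0x870c46a1a) (.leaf (nat_lit 0x870c4666a) (nat_lit 2816))
 (.node (nat_lit 0x870c46a2a) (.leaf (nat_lit 0x870c46a1a) (nat_lit 3586))
 (.leaf (nat_lit 0x870c46a2a) (nat_lit 2049))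
)) (.node (nat_lit 0x870c4762a) (.leaf (nat_lit 0x870c4761a) (nat_lit 2563))
 (.node (nat_lit 0x870c47a5a) (.leaf (nat_lit 0x870c4762a) (nat_lit 3072))
 (.leaf (nat_lit 0x870c47a5a) (nat_lit 3330))
))))) (.node (nat_lit 0x870c6666a) (.node (nat_lit 0x870c5760a) (.node (nat_lit 0x870c5667a) (.node (nat_lit 0x870c5664a) (.leaf (nat_lit 0x870c47a6a) (nat_lit 1793))
 (.leaf (nat_lit 0x870c5664a) (nat_lit 2051))
) (.node (nat_lit 0x870c56a0a) (.leaf (nat_lit 0x870c5667a) (nat_lit 3331))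
 (.node (nat_lit 0x870c56a3a) (.leaf (nat_lit 0x870c56a0a) (nat_lit 2307))
 (.leaf (nat_lit 0x870c56a3a) (nat_lit 3328))
))) (.node (nat_lit 0x870c57a4a) (.node (nat_lit 0x870c5763a) (.leaf (nat_lit 0x870c5760a) (nat_lit 1795))
 (.leaf (nat_lit 0x870c5763a) (nat_lit 3075))
) (.node (nat_lit 0x870c57a7a) (.leaf (nat_lit 0x870c57a4a) (nat_lit 2563))
 (.node (nat_lit 0x870c6665a) (.leaf (nat_lit 0x870c57a7a) (nat_lit 3072))
 (.leaf (nat_lit 0x870c6665a) (nat_lit 3072))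
)))) (.node (nat_lit 0x870c67a5a) (.node (nat_lit 0x870c66a2a) (.node (nat_lit 0x870c66a1a) (.leaf (nat_lit 0x870c6666a) (nat_lit 2563))
 (.leaf (nat_lit 0x870c66a1a) (nat_lit 3330))
) (.node (nat_lit 0x870c6761a) (.leaf (nat_lit 0x870c66a2a) (nat_lit 1793))
 (.node (nat_lit 0x870c6762a) (.leaf (nat_lit 0x870c6761a) (nat_lit 2816))
 (.leaf (nat_lit 0x870c6762a) (nat_lit 2819))
))) (.node (nat_lit 0x870c7667a) (.node (nat_lit 0x870c67a6a) (.leaf (nat_lit 0x870c67a5a) (nat_lit 3074))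
 (.node (nat_lit 0x870c7664a) (.leaf (nat_lit 0x870c67a6a) (nat_lit 1537))
 (.leaf (nat_lit 0x870c7664a) (nat_lit 2304))
)) (.node (nat_lit 0x870c76a0a) (.leaf (nat_lit 0x870c7667a) (nat_lit 3332))
 (.node (nat_lit 0x870c76a3a) (.leaf (nat_lit 0x870c76a0a) (nat_lit 2560))
 (.leaf (nat_lit 0x870c76a3a) (nat_lit 3075))
))))))) (.node (nat_lit 0x871047caa) (.node (nat_lit 0x8710260ca) (.node (nat_lit 0x871007c8a) (.node (nat_lit 0x8710060ca) (.node (nat_lit 0x870c77a4a) (.node (nat_lit 0x870c7763a) (.leaf (nat_lit 0x870c7760a) (nat_lit 2048))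
 (.leaf (nat_lit 0x870c7763a) (nat_lit 3328))
) (.node (nat_lit 0x870c77a7a) (.leaf (nat_lit 0x870c77a4a) (nat_lit 2816))
 (.node (nat_lit 0x87100608a) (.leaf (nat_lit 0x870c77a7a) (nat_lit 2819))
 (.leaf (nat_lit 0x87100608a) (nat_lit 1538))
))) (.node (nat_lit 0x871006cfa) (.node (nat_lit 0x871006cba) (.leaf (nat_lit 0x8710060ca) (nat_lit 1794))
 (.leaf (nat_lit 0x871006cba) (nat_lit 2564))
) (.node (nat_lit 0x8710070ba) (.leaf (nat_lit 0x871006cfa) (nat_lit 2820))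
 (.node (nat_lit 0x8710070fa) (.leaf (nat_lit 0x8710070ba) (nat_lit 2820))
 (.leaf (nat_lit 0x8710070fa) (nat_lit 3076))
)))) (.node (nat_lit 0x8710168ea) (.node (nat_lit 0x87101649a) (.node (nat_lit 0x871007cca) (.leaf (nat_lit 0x871007c8a) (nat_lit 2052))
 (.leaf (nat_lit 0x871007cca) (nat_lit 2308))
) (.node (nat_lit 0x8710164da) (.leaf (nat_lit 0x87101649a) (nat_lit 2563))
 (.node (nat_lit 0x8710168aa) (.leaf (nat_lit 0x8710164da) (nat_lit 2819))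
 (.leaf (nat_lit 0x8710168aa) (nat_lit 3329))
))) (.node (nat_lit 0x87101789a) (.node (nat_lit 0x8710174aa) (.leaf (nat_lit 0x8710168ea) (nat_lit 3328))
 (.node (nat_lit 0x8710174ea) (.leaf (nat_lit 0x8710174aa) (nat_lit 3075))
 (.leaf (nat_lit 0x8710174ea) (nat_lit 2819))
)) (.node (nat_lit 0x8710178da) (.leaf (nat_lit 0x87101789a) (nat_lit 3074))
 (.node (nat_lit 0x87102608a) (.leaf (nat_lit 0x8710178da) (nat_lit 3330))
 (.leaf (nat_lit 0x87102608a) (nat_lit 1794))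
))))) (.node (nat_lit 0x8710368ea) (.node (nat_lit 0x871027c8a) (.node (nat_lit 0x871026cfa) (.node (nat_lit 0x871026cba) (.leaf (nat_lit 0x8710260ca) (nat_lit 2050))
 (.leaf (nat_lit 0x871026cba) (nat_lit 2820))
) (.node (nat_lit 0x8710270ba) (.leaf (nat_lit 0x871026cfa) (nat_lit 3076))
 (.node (nat_lit 0x8710270fa) (.leaf (nat_lit 0x8710270ba) (nat_lit 3076))
 (.leaf (nat_lit 0x8710270fa) (nat_lit 3332))
))) (.node (nat_lit 0x87103649a) (.node (nat_lit 0x871027cca) (.leaf (nat_lit 0x871027c8a) (nat_lit 2308))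
 (.leaf (nat_lit 0x871027cca) (nat_lit 2564))
) (.node (nat_lit 0x8710364da) (.leaf (nat_lit 0x87103649a) (nat_lit 2816))
 (.node (nat_lit 0x8710368aa) (.leaf (nat_lit 0x8710364da) (nat_lit 3072))
 (.leaf (nat_lit 0x8710368aa) (nat_lit 3331))
)))) (.node (nat_lit 0x8710460aa) (.node (nat_lit 0x8710374ea) (.node (nat_lit 0x8710374aa) (.leaf (nat_lit 0x8710368ea) (nat_lit 3075))
 (.leaf (nat_lit 0x8710374aa) (nat_lit 2819))
) (.node (nat_lit 0x87103789a) (.leaf (nat_lit 0x8710374ea) (nat_lit 2563))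
 (.node (nat_lit 0x8710378da) (.leaf (nat_lit 0x87103789a) (nat_lit 3330))
 (.leaf (nat_lit 0x8710378da) (nat_lit 3331))
))) (.node (nat_lit 0x871046cda) (.node (nat_lit 0x8710460ea) (.leaf (nat_lit 0x8710460aa) (nat_lit 2306))
 (.node (nat_lit 0x871046c9a) (.leaf (nat_lit 0x8710460ea) (nat_lit 2050))
 (.leaf (nat_lit 0x871046c9a) (nat_lit 3332))
)) (.node (nat_lit 0x87104709a) (.leaf (nat_lit 0x871046cda) (nat_lit 3076))
 (.node (nat_lit 0x8710470da) (.leaf (nat_lit 0x87104709a) (nat_lit 2819))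
 (.leaf (nat_lit 0x8710470da) (nat_lit 3075))
)))))) (.node (nat_lit 0x8710768ca) (.node (nat_lit 0x8710660aa) (.node (nat_lit 0x8710568ca) (.node (nat_lit 0x8710564ba) (.node (nat_lit 0x871047cea) (.leaf (nat_lit 0x871047caa) (nat_lit 3076))
 (.leaf (nat_lit 0x871047cea) (nat_lit 2820))
) (.node (nat_lit 0x8710564fa) (.leaf (nat_lit 0x8710564ba) (nat_lit 3329))
 (.node (nat_lit 0x87105688a) (.leaf (nat_lit 0x8710564fa) (nat_lit 3073))
 (.leaf (nat_lit 0x87105688a) (nat_lit 2563))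
))) (.node (nat_lit 0x8710574ca) (.node (nat_lit 0x87105748a) (.leaf (nat_lit 0x8710568ca) (nat_lit 2819))
 (.leaf (nat_lit 0x87105748a) (nat_lit 2051))
) (.node (nat_lit 0x8710578ba) (.leaf (nat_lit 0x8710574ca) (nat_lit 2307))
 (.node (nat_lit 0x8710578fa) (.leaf (nat_lit 0x8710578ba) (nat_lit 3075))
 (.leaf (nat_lit 0x8710578fa) (nat_lit 3331))
)))) (.node (nat_lit 0x8710670da) (.node (nat_lit 0x871066c9a) (.node (nat_lit 0x8710660ea) (.leaf (nat_lit 0x8710660aa) (nat_lit 2050))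
 (.leaf (nat_lit 0x8710660ea) (nat_lit 1794))
) (.node (nat_lit 0x871066cda) (.leaf (nat_lit 0x871066c9a) (nat_lit 3076))
 (.node (nat_lit 0x87106709a) (.leaf (nat_lit 0x871066cda) (nat_lit 2820))
 (.leaf (nat_lit 0x87106709a) (nat_lit 3072))
))) (.node (nat_lit 0x8710764ba) (.node (nat_lit 0x871067caa) (.leaf (nat_lit 0x8710670da) (nat_lit 3328))
 (.node (nat_lit 0x871067cea) (.leaf (nat_lit 0x871067caa) (nat_lit 2820))
 (.leaf (nat_lit 0x871067cea) (nat_lit 2564))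
)) (.node (nat_lit 0x8710764fa) (.leaf (nat_lit 0x8710764ba) (nat_lit 3073))
 (.node (nat_lit 0x87107688a) (.leaf (nat_lit 0x8710764fa) (nat_lit 2817))
 (.leaf (nat_lit 0x87107688a) (nat_lit 2816))
))))) (.node (nat_lit 0x87180d8fa) (.node (nat_lit 0x87180c08a) (.node (nat_lit 0x8710774ca) (.node (nat_lit 0x87107748a) (.leaf (nat_lit 0x8710768ca) (nat_lit 3072))
 (.leaf (nat_lit 0x87107748a) (nat_lit 2304))
) (.node (nat_lit 0x8710778ba) (.leaf (nat_lit 0x8710774ca) (nat_lit 2560))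
 (.node (nat_lit 0x8710778fa) (.leaf (nat_lit 0x8710778ba) (nat_lit 3328))
 (.leaf (nat_lit 0x8710778fa) (nat_lit 3584))
))) (.node (nat_lit 0x87180c49a) (.node (nat_lit 0x87180c0ea) (.leaf (nat_lit 0x87180c08a) (nat_lit 1026))
 (.leaf (nat_lit 0x87180c0ea) (nat_lit 1794))
) (.node (nat_lit 0x87180c4fa) (.leaf (nat_lit 0x87180c49a) (nat_lit 2564))
 (.node (nat_lit 0x87180d89a) (.leaf (nat_lit 0x87180c4fa) (nat_lit 3332))
 (.leaf (nat_lit 0x87180d89a) (nat_lit 3076))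
)))) (.node (nat_lit 0x87181ccba) (.node (nat_lit 0x87180dcea) (.node (nat_lit 0x87180dc8a) (.leaf (nat_lit 0x87180d8fa) (nat_lit 3072))
 (.leaf (nat_lit 0x87180dc8a) (nat_lit 2051))
) (.node (nat_lit 0x87181c8aa) (.leaf (nat_lit 0x87180dcea) (nat_lit 2562))
 (.node (nat_lit 0x87181c8ca) (.leaf (nat_lit 0x87181c8aa) (nat_lit 3331))
 (.leaf (nat_lit 0x87181c8ca) (nat_lit 2563))
))) (.node (nat_lit 0x87181d0da) (.node (nat_lit 0x87181ccda) (.leaf (nat_lit 0x87181ccba) (nat_lit 2305))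
 (.node (nat_lit 0x87181d0ba) (.leaf (nat_lit 0x87181ccda) (nat_lit 3072))
 (.leaf (nat_lit 0x87181d0ba) (nat_lit 3073))
)) (.node (nat_lit 0x87181d4aa) (.leaf (nat_lit 0x87181d0da) (nat_lit 3331))
 (.node (nat_lit 0x87181d4ca) (.leaf (nat_lit 0x87181d4aa) (nat_lit 2563))
 (.leaf (nat_lit 0x87181d4ca) (nat_lit 2051))
))))))))) (.node (nat_lit 0xc11474bb8) (.node (nat_lit 0xc110451a8) (.node (nat_lit 0x87187cc9a) (.node (nat_lit 0x87184d8da) (.node (nat_lit 0x87183ccba) (.node (nat_lit 0x87182d8fa) (.node (nat_lit 0x87182c49a) (.node (nat_lit 0x87182c0ea) (.leaf (nat_lit 0x87182c08a) (nat_lit 1282))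
 (.leaf (nat_lit 0x87182c0ea) (nat_lit 2050))
) (.node (nat_lit 0x87182c4fa) (.leaf (nat_lit 0x87182c49a) (nat_lit 2820))
 (.node (nat_lit 0x87182d89a) (.leaf (nat_lit 0x87182c4fa) (nat_lit 3587))
 (.leaf (nat_lit 0x87182d89a) (nat_lit 3331))
))) (.node (nat_lit 0x87182dcea) (.node (nat_lit 0x87182dc8a) (.leaf (nat_lit 0x87182d8fa) (nat_lit 2819))
 (.leaf (nat_lit 0x87182dc8a) (nat_lit 2304))
) (.node (nat_lit 0x87183c8aa) (.leaf (nat_lit 0x87182dcea) (nat_lit 2818))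
 (.node (nat_lit 0x87183c8ca) (.leaf (nat_lit 0x87183c8aa) (nat_lit 3332))
 (.leaf (nat_lit 0x87183c8ca) (nat_lit 2816))
)))) (.node (nat_lit 0x87183d4ca) (.node (nat_lit 0x87183d0ba) (.node (nat_lit 0x87183ccda) (.leaf (nat_lit 0x87183ccba) (nat_lit 2049))
 (.leaf (nat_lit 0x87183ccda) (nat_lit 2819))
) (.node (nat_lit 0x87183d0da) (.leaf (nat_lit 0x87183d0ba) (nat_lit 2817))
 (.node (nat_lit 0x87183d4aa) (.leaf (nat_lit 0x87183d0da) (nat_lit 3330))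
 (.leaf (nat_lit 0x87183d4aa) (nat_lit 2816))
))) (.node (nat_lit 0x87184c4ba) (.node (nat_lit 0x87184c0aa) (.leaf (nat_lit 0x87183d4ca) (nat_lit 2307))
 (.node (nat_lit 0x87184c0ca) (.leaf (nat_lit 0x87184c0aa) (nat_lit 2050))
 (.leaf (nat_lit 0x87184c0ca) (nat_lit 1282))
)) (.node (nat_lit 0x87184c4da) (.leaf (nat_lit 0x87184c4ba) (nat_lit 3588))
 (.node (nat_lit 0x87184d8ba) (.leaf (nat_lit 0x87184c4da) (nat_lit 2820))
 (.leaf (nat_lit 0x87184d8ba) (nat_lit 2816))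
))))) (.node (nat_lit 0x87185d4ea) (.node (nat_lit 0x87185cc9a) (.node (nat_lit 0x87184dcca) (.node (nat_lit 0x87184dcaa) (.leaf (nat_lit 0x87184d8da) (nat_lit 3332))
 (.leaf (nat_lit 0x87184dcaa) (nat_lit 2818))
) (.node (nat_lit 0x87185c88a) (.leaf (nat_lit 0x87184dcca) (nat_lit 2307))
 (.node (nat_lit 0x87185c8ea) (.leaf (nat_lit 0x87185c88a) (nat_lit 2307))
 (.leaf (nat_lit 0x87185c8ea) (nat_lit 3075))
))) (.node (nat_lit 0x87185d09a) (.node (nat_lit 0x87185ccfa) (.leaf (nat_lit 0x87185cc9a) (nat_lit 3328))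
 (.leaf (nat_lit 0x87185ccfa) (nat_lit 2561))
) (.node (nat_lit 0x87185d0fa) (.leaf (nat_lit 0x87185d09a) (nat_lit 3075))
 (.node (nat_lit 0x87185d48a) (.leaf (nat_lit 0x87185d0fa) (nat_lit 3329))
 (.leaf (nat_lit 0x87185d48a) (nat_lit 1795))
)))) (.node (nat_lit 0x87186d8ba) (.node (nat_lit 0x87186c0ca) (.node (nat_lit 0x87186c0aa) (.leaf (nat_lit 0x87185d4ea) (nat_lit 2307))
 (.leaf (nat_lit 0x87186c0aa) (nat_lit 2306))
) (.node (nat_lit 0x87186c4ba) (.leaf (nat_lit 0x87186c0ca) (nat_lit 1538))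
 (.node (nat_lit 0x87186c4da) (.leaf (nat_lit 0x87186c4ba) (nat_lit 3331))
 (.leaf (nat_lit 0x87186c4da) (nat_lit 3076))
))) (.node (nat_lit 0x87186dcca) (.node (nat_lit 0x87186d8da) (.leaf (nat_lit 0x87186d8ba) (nat_lit 2563))
 (.node (nat_lit 0x87186dcaa) (.leaf (nat_lit 0x87186d8da) (nat_lit 3075))
 (.leaf (nat_lit 0x87186dcaa) (nat_lit 3074))
)) (.node (nat_lit 0x87187c88a) (.leaf (nat_lit 0x87186dcca) (nat_lit 2560))
 (.node (nat_lit 0x87187c8ea) (.leaf (nat_lit 0x87187c88a) (nat_lit 2560))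
 (.leaf (nat_lit 0x87187c8ea) (nat_lit 3328))
)))))) (.node (nat_lit 0xc11015dd8) (.node (nat_lit 0xc11005198) (.node (nat_lit 0x87187d4ea) (.node (nat_lit 0x87187d09a) (.node (nat_lit 0x87187ccfa) (.leaf (nat_lit 0x87187cc9a) (nat_lit 3075))
 (.leaf (nat_lit 0x87187ccfa) (nat_lit 2305))
) (.node (nat_lit 0x87187d0fa) (.leaf (nat_lit 0x87187d09a) (nat_lit 3328))
 (.node (nat_lit 0x87187d48a) (.leaf (nat_lit 0x87187d0fa) (nat_lit 3073))
 (.leaf (nat_lit 0x87187d48a) (nat_lit 2051))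
))) (.node (nat_lit 0xc110041c8) (.node (nat_lit 0xc11004188) (.leaf (nat_lit 0x87187d4ea) (nat_lit 2560))
 (.leaf (nat_lit 0xc11004188) (nat_lit 1537))
) (.node (nat_lit 0xc11004588) (.leaf (nat_lit 0xc110041c8) (nat_lit 1793))
 (.node (nat_lit 0xc110045c8) (.leaf (nat_lit 0xc11004588) (nat_lit 2820))
 (.leaf (nat_lit 0xc110045c8) (nat_lit 3076))
)))) (.node (nat_lit 0xc110149c8) (.node (nat_lit 0xc11005598) (.node (nat_lit 0xc110051d8) (.leaf (nat_lit 0xc11005198) (nat_lit 3328))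
 (.leaf (nat_lit 0xc110051d8) (nat_lit 3332))
) (.node (nat_lit 0xc110055d8) (.leaf (nat_lit 0xc11005598) (nat_lit 2561))
 (.node (nat_lit 0xc11014988) (.leaf (nat_lit 0xc110055d8) (nat_lit 2305))
 (.leaf (nat_lit 0xc11014988) (nat_lit 2304))
))) (.node (nat_lit 0xc11015998) (.node (nat_lit 0xc11014d88) (.leaf (nat_lit 0xc110149c8) (nat_lit 2560))
 (.node (nat_lit 0xc11014dc8) (.leaf (nat_lit 0xc11014d88) (nat_lit 3328))
 (.leaf (nat_lit 0xc11014dc8) (nat_lit 3329))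
)) (.node (nat_lit 0xc110159d8) (.leaf (nat_lit 0xc11015998) (nat_lit 2817))
 (.node (nat_lit 0xc11015d98) (.leaf (nat_lit 0xc110159d8) (nat_lit 3073))
 (.leaf (nat_lit 0xc11015d98) (nat_lit 3329))
))))) (.node (nat_lit 0xc110341c8) (.node (nat_lit 0xc11025998) (.node (nat_lit 0xc110249c8) (.node (nat_lit 0xc11024988) (.leaf (nat_lit 0xc11015dd8) (nat_lit 3073))
 (.leaf (nat_lit 0xc11024988) (nat_lit 2051))
) (.node (nat_lit 0xc11024d88) (.leaf (nat_lit 0xc110249c8) (nat_lit 2307))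
 (.node (nat_lit 0xc11024dc8) (.leaf (nat_lit 0xc11024d88) (nat_lit 3075))
 (.leaf (nat_lit 0xc11024dc8) (nat_lit 3331))
))) (.node (nat_lit 0xc11025d98) (.node (nat_lit 0xc110259d8) (.leaf (nat_lit 0xc11025998) (nat_lit 3073))
 (.leaf (nat_lit 0xc110259d8) (nat_lit 3329))
) (.node (nat_lit 0xc11025dd8) (.leaf (nat_lit 0xc11025d98) (nat_lit 3073))
 (.node (nat_lit 0xc11034188) (.leaf (nat_lit 0xc11025dd8) (nat_lit 2817))
 (.leaf (nat_lit 0xc11034188) (nat_lit 1793))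
)))) (.node (nat_lit 0xc11035598) (.node (nat_lit 0xc110345c8) (.node (nat_lit 0xc11034588) (.leaf (nat_lit 0xc110341c8) (nat_lit 2049))
 (.leaf (nat_lit 0xc11034588) (nat_lit 3076))
) (.node (nat_lit 0xc11035198) (.leaf (nat_lit 0xc110345c8) (nat_lit 3332))
 (.node (nat_lit 0xc110351d8) (.leaf (nat_lit 0xc11035198) (nat_lit 3075))
 (.leaf (nat_lit 0xc110351d8) (nat_lit 3331))
))) (.node (nat_lit 0xc110441f8) (.node (nat_lit 0xc110355d8) (.leaf (nat_lit 0xc11035598) (nat_lit 2817))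
 (.node (nat_lit 0xc110441b8) (.leaf (nat_lit 0xc110355d8) (nat_lit 2561))
 (.leaf (nat_lit 0xc110441b8) (nat_lit 2562))
)) (.node (nat_lit 0xc110445b8) (.leaf (nat_lit 0xc110441f8) (nat_lit 2306))
 (.node (nat_lit 0xc110445f8) (.leaf (nat_lit 0xc110445b8) (nat_lit 3331))
 (.leaf (nat_lit 0xc110445f8) (nat_lit 3332))
))))))) (.node (nat_lit 0xc11415f98) (.node (nat_lit 0xc110741f8) (.node (nat_lit 0xc11055da8) (.node (nat_lit 0xc110549f8) (.node (nat_lit 0xc110455a8) (.node (nat_lit 0xc110451e8) (.leaf (nat_lit 0xc110451a8) (nat_lit 2563))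
 (.leaf (nat_lit 0xc110451e8) (nat_lit 2307))
) (.node (nat_lit 0xc110455e8) (.leaf (nat_lit 0xc110455a8) (nat_lit 3329))
 (.node (nat_lit 0xc110549b8) (.leaf (nat_lit 0xc110455e8) (nat_lit 3331))
 (.leaf (nat_lit 0xc110549b8) (nat_lit 2819))
))) (.node (nat_lit 0xc11054df8) (.node (nat_lit 0xc11054db8) (.leaf (nat_lit 0xc110549f8) (nat_lit 2563))
 (.leaf (nat_lit 0xc11054db8) (nat_lit 2817))
) (.node (nat_lit 0xc110559a8) (.leaf (nat_lit 0xc11054df8) (nat_lit 3073))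
 (.node (nat_lit 0xc110559e8) (.leaf (nat_lit 0xc110559a8) (nat_lit 2305))
 (.leaf (nat_lit 0xc110559e8) (nat_lit 2049))
)))) (.node (nat_lit 0xc11064df8) (.node (nat_lit 0xc110649b8) (.node (nat_lit 0xc11055de8) (.leaf (nat_lit 0xc11055da8) (nat_lit 3331))
 (.leaf (nat_lit 0xc11055de8) (nat_lit 3328))
) (.node (nat_lit 0xc110649f8) (.leaf (nat_lit 0xc110649b8) (nat_lit 3072))
 (.node (nat_lit 0xc11064db8) (.leaf (nat_lit 0xc110649f8) (nat_lit 2816))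
 (.leaf (nat_lit 0xc11064db8) (nat_lit 2561))
))) (.node (nat_lit 0xc11065da8) (.node (nat_lit 0xc110659a8) (.leaf (nat_lit 0xc11064df8) (nat_lit 2817))
 (.node (nat_lit 0xc110659e8) (.leaf (nat_lit 0xc110659a8) (nat_lit 2049))
 (.leaf (nat_lit 0xc110659e8) (nat_lit 1793))
)) (.node (nat_lit 0xc11065de8) (.leaf (nat_lit 0xc11065da8) (nat_lit 3331))
 (.node (nat_lit 0xc110741b8) (.leaf (nat_lit 0xc11065de8) (nat_lit 3075))
 (.leaf (nat_lit 0xc110741b8) (nat_lit 2306))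
))))) (.node (nat_lit 0xc114047d8) (.node (nat_lit 0xc110755a8) (.node (nat_lit 0xc110745f8) (.node (nat_lit 0xc110745b8) (.leaf (nat_lit 0xc110741f8) (nat_lit 2050))
 (.leaf (nat_lit 0xc110745b8) (nat_lit 3332))
) (.node (nat_lit 0xc110751a8) (.leaf (nat_lit 0xc110745f8) (nat_lit 3076))
 (.node (nat_lit 0xc110751e8) (.leaf (nat_lit 0xc110751a8) (nat_lit 2816))
 (.leaf (nat_lit 0xc110751e8) (nat_lit 2560))
))) (.node (nat_lit 0xc11404388) (.node (nat_lit 0xc110755e8) (.leaf (nat_lit 0xc110755a8) (nat_lit 3073))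
 (.leaf (nat_lit 0xc110755e8) (nat_lit 3329))
) (.node (nat_lit 0xc114043d8) (.leaf (nat_lit 0xc11404388) (nat_lit 1537))
 (.node (nat_lit 0xc11404788) (.leaf (nat_lit 0xc114043d8) (nat_lit 2562))
 (.leaf (nat_lit 0xc11404788) (nat_lit 2564))
)))) (.node (nat_lit 0xc11414b88) (.node (nat_lit 0xc114053c8) (.node (nat_lit 0xc11405398) (.leaf (nat_lit 0xc114047d8) (nat_lit 3332))
 (.leaf (nat_lit 0xc11405398) (nat_lit 2818))
) (.node (nat_lit 0xc11405798) (.leaf (nat_lit 0xc114053c8) (nat_lit 1793))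
 (.node (nat_lit 0xc114057c8) (.leaf (nat_lit 0xc11405798) (nat_lit 3329))
 (.leaf (nat_lit 0xc114057c8) (nat_lit 2820))
))) (.node (nat_lit 0xc11414fd8) (.node (nat_lit 0xc11414bd8) (.leaf (nat_lit 0xc11414b88) (nat_lit 2048))
 (.node (nat_lit 0xc11414f88) (.leaf (nat_lit 0xc11414bd8) (nat_lit 3328))
 (.leaf (nat_lit 0xc11414f88) (nat_lit 3072))
)) (.node (nat_lit 0xc11415b98) (.leaf (nat_lit 0xc11414fd8) (nat_lit 2817))
 (.node (nat_lit 0xc11415bc8) (.leaf (nat_lit 0xc11415b98) (nat_lit 3584))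
 (.leaf (nat_lit 0xc11415bc8) (nat_lit 2304))
)))))) (.node (nat_lit 0xc11444fe8) (.node (nat_lit 0xc11434388) (.node (nat_lit 0xc11424fd8) (.node (nat_lit 0xc11424b88) (.node (nat_lit 0xc11415fc8) (.leaf (nat_lit 0xc11415f98) (nat_lit 2561))
 (.leaf (nat_lit 0xc11415fc8) (nat_lit 3328))
) (.node (nat_lit 0xc11424bd8) (.leaf (nat_lit 0xc11424b88) (nat_lit 1795))
 (.node (nat_lit 0xc11424f88) (.leaf (nat_lit 0xc11424bd8) (nat_lit 3075))
 (.leaf (nat_lit 0xc11424f88) (nat_lit 2819))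
))) (.node (nat_lit 0xc11425bc8) (.node (nat_lit 0xc11425b98) (.leaf (nat_lit 0xc11424fd8) (nat_lit 3073))
 (.leaf (nat_lit 0xc11425b98) (nat_lit 3331))
) (.node (nat_lit 0xc11425f98) (.leaf (nat_lit 0xc11425bc8) (nat_lit 2051))
 (.node (nat_lit 0xc11425fc8) (.leaf (nat_lit 0xc11425f98) (nat_lit 2817))
 (.leaf (nat_lit 0xc11425fc8) (nat_lit 3075))
)))) (.node (nat_lit 0xc114353c8) (.node (nat_lit 0xc11434788) (.node (nat_lit 0xc114343d8) (.leaf (nat_lit 0xc11434388) (nat_lit 1793))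
 (.leaf (nat_lit 0xc114343d8) (nat_lit 2818))
) (.node (nat_lit 0xc114347d8) (.leaf (nat_lit 0xc11434788) (nat_lit 2820))
 (.node (nat_lit 0xc11435398) (.leaf (nat_lit 0xc114347d8) (nat_lit 3329))
 (.leaf (nat_lit 0xc11435398) (nat_lit 3074))
))) (.node (nat_lit 0xc11444bb8) (.node (nat_lit 0xc11435798) (.leaf (nat_lit 0xc114353c8) (nat_lit 2049))
 (.node (nat_lit 0xc114357c8) (.leaf (nat_lit 0xc11435798) (nat_lit 3073))
 (.leaf (nat_lit 0xc114357c8) (nat_lit 3076))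
)) (.node (nat_lit 0xc11444be8) (.leaf (nat_lit 0xc11444bb8) (nat_lit 3331))
 (.node (nat_lit 0xc11444fb8) (.leaf (nat_lit 0xc11444be8) (nat_lit 2051))
 (.leaf (nat_lit 0xc11444fb8) (nat_lit 2305))
))))) (.node (nat_lit 0xc114553f8) (.node (nat_lit 0xc114543b8) (.node (nat_lit 0xc11445bf8) (.node (nat_lit 0xc11445ba8) (.leaf (nat_lit 0xc11444fe8) (nat_lit 3332))
 (.leaf (nat_lit 0xc11445ba8) (nat_lit 2307))
) (.node (nat_lit 0xc11445fa8) (.leaf (nat_lit 0xc11445bf8) (nat_lit 3332))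
 (.node (nat_lit 0xc11445ff8) (.leaf (nat_lit 0xc11445fa8) (nat_lit 3329))
 (.leaf (nat_lit 0xc11445ff8) (nat_lit 2049))
))) (.node (nat_lit 0xc114547b8) (.node (nat_lit 0xc114543e8) (.leaf (nat_lit 0xc114543b8) (nat_lit 3074))
 (.leaf (nat_lit 0xc114543e8) (nat_lit 2048))
) (.node (nat_lit 0xc114547e8) (.leaf (nat_lit 0xc114547b8) (nat_lit 2819))
 (.node (nat_lit 0xc114553a8) (.leaf (nat_lit 0xc114547e8) (nat_lit 3076))
 (.leaf (nat_lit 0xc114553a8) (nat_lit 2304))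
)))) (.node (nat_lit 0xc114647b8) (.node (nat_lit 0xc114557f8) (.node (nat_lit 0xc114557a8) (.leaf (nat_lit 0xc114553f8) (nat_lit 3330))
 (.leaf (nat_lit 0xc114557a8) (nat_lit 3332))
) (.node (nat_lit 0xc114643b8) (.leaf (nat_lit 0xc114557f8) (nat_lit 2563))
 (.node (nat_lit 0xc114643e8) (.leaf (nat_lit 0xc114643b8) (nat_lit 2818))
 (.leaf (nat_lit 0xc114643e8) (nat_lit 1795))
))) (.node (nat_lit 0xc114653f8) (.node (nat_lit 0xc114647e8) (.leaf (nat_lit 0xc114647b8) (nat_lit 3075))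
 (.node (nat_lit 0xc114653a8) (.leaf (nat_lit 0xc114647e8) (nat_lit 2820))
 (.leaf (nat_lit 0xc114653a8) (nat_lit 2051))
)) (.node (nat_lit 0xc114657a8) (.leaf (nat_lit 0xc114653f8) (nat_lit 3074))
 (.node (nat_lit 0xc114657f8) (.leaf (nat_lit 0xc114657a8) (nat_lit 3076))
 (.leaf (nat_lit 0xc114657f8) (nat_lit 2819))
)))))))) (.node (nat_lit 0xc11c1d198) (.node (nat_lit 0xc1184cfb8) (.node (nat_lit 0xc1181d3f8) (.node (nat_lit 0xc1180c788) (.node (nat_lit 0xc11475bf8) (.node (nat_lit 0xc11474fb8) (.node (nat_lit 0xc11474be8) (.leaf (nat_lit 0xc11474bb8) (nat_lit 3332))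
 (.leaf (nat_lit 0xc11474be8) (nat_lit 2304))
) (.node (nat_lit 0xc11474fe8) (.leaf (nat_lit 0xc11474fb8) (nat_lit 2049))
 (.node (nat_lit 0xc11475ba8) (.leaf (nat_lit 0xc11474fe8) (nat_lit 3329))
 (.leaf (nat_lit 0xc11475ba8) (nat_lit 2560))
))) (.node (nat_lit 0xc11475ff8) (.node (nat_lit 0xc11475fa8) (.leaf (nat_lit 0xc11475bf8) (nat_lit 3076))
 (.leaf (nat_lit 0xc11475fa8) (nat_lit 3073))
) (.node (nat_lit 0xc1180c388) (.leaf (nat_lit 0xc11475ff8) (nat_lit 1793))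
 (.node (nat_lit 0xc1180c3e8) (.leaf (nat_lit 0xc1180c388) (nat_lit 1281))
 (.leaf (nat_lit 0xc1180c3e8) (nat_lit 2049))
)))) (.node (nat_lit 0xc1180dff8) (.node (nat_lit 0xc1180db98) (.node (nat_lit 0xc1180c7e8) (.leaf (nat_lit 0xc1180c788) (nat_lit 2564))
 (.leaf (nat_lit 0xc1180c7e8) (nat_lit 3332))
) (.node (nat_lit 0xc1180dbf8) (.leaf (nat_lit 0xc1180db98) (nat_lit 3072))
 (.node (nat_lit 0xc1180df98) (.leaf (nat_lit 0xc1180dbf8) (nat_lit 3076))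
 (.leaf (nat_lit 0xc1180df98) (nat_lit 2817))
))) (.node (nat_lit 0xc1181cf88) (.node (nat_lit 0xc1181cb88) (.leaf (nat_lit 0xc1180dff8) (nat_lit 2049))
 (.node (nat_lit 0xc1181cbe8) (.leaf (nat_lit 0xc1181cb88) (nat_lit 2048))
 (.leaf (nat_lit 0xc1181cbe8) (nat_lit 2816))
)) (.node (nat_lit 0xc1181cfe8) (.leaf (nat_lit 0xc1181cf88) (nat_lit 3072))
 (.node (nat_lit 0xc1181d398) (.leaf (nat_lit 0xc1181cfe8) (nat_lit 3075))
 (.leaf (nat_lit 0xc1181d398) (nat_lit 2562))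
))))) (.node (nat_lit 0xc1182d7f8) (.node (nat_lit 0xc1182cf88) (.node (nat_lit 0xc1181d7f8) (.node (nat_lit 0xc1181d798) (.leaf (nat_lit 0xc1181d3f8) (nat_lit 2818))
 (.leaf (nat_lit 0xc1181d798) (nat_lit 3332))
) (.node (nat_lit 0xc1182cb88) (.leaf (nat_lit 0xc1181d7f8) (nat_lit 3072))
 (.node (nat_lit 0xc1182cbe8) (.leaf (nat_lit 0xc1182cb88) (nat_lit 1795))
 (.leaf (nat_lit 0xc1182cbe8) (nat_lit 2563))
))) (.node (nat_lit 0xc1182d398) (.node (nat_lit 0xc1182cfe8) (.leaf (nat_lit 0xc1182cf88) (nat_lit 2819))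
 (.leaf (nat_lit 0xc1182cfe8) (nat_lit 3328))
) (.node (nat_lit 0xc1182d3f8) (.leaf (nat_lit 0xc1182d398) (nat_lit 2818))
 (.node (nat_lit 0xc1182d798) (.leaf (nat_lit 0xc1182d3f8) (nat_lit 3074))
 (.leaf (nat_lit 0xc1182d798) (nat_lit 3329))
)))) (.node (nat_lit 0xc1183db98) (.node (nat_lit 0xc1183c3e8) (.node (nat_lit 0xc1183c388) (.leaf (nat_lit 0xc1182d7f8) (nat_lit 2819))
 (.leaf (nat_lit 0xc1183c388) (nat_lit 1537))
) (.node (nat_lit 0xc1183c788) (.leaf (nat_lit 0xc1183c3e8) (nat_lit 2305))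
 (.node (nat_lit 0xc1183c7e8) (.leaf (nat_lit 0xc1183c788) (nat_lit 2820))
 (.leaf (nat_lit 0xc1183c7e8) (nat_lit 3331))
))) (.node (nat_lit 0xc1183dff8) (.node (nat_lit 0xc1183dbf8) (.leaf (nat_lit 0xc1183db98) (nat_lit 2819))
 (.node (nat_lit 0xc1183df98) (.leaf (nat_lit 0xc1183dbf8) (nat_lit 3331))
 (.leaf (nat_lit 0xc1183df98) (nat_lit 3073))
)) (.node (nat_lit 0xc1184cbb8) (.leaf (nat_lit 0xc1183dff8) (nat_lit 2305))
 (.node (nat_lit 0xc1184cbd8) (.leaf (nat_lit 0xc1184cbb8) (nat_lit 3332))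
 (.leaf (nat_lit 0xc1184cbd8) (nat_lit 2816))
)))))) (.node (nat_lit 0xc1186dfc8) (.node (nat_lit 0xc1185dba8) (.node (nat_lit 0xc1184d7c8) (.node (nat_lit 0xc1184d3a8) (.node (nat_lit 0xc1184cfd8) (.leaf (nat_lit 0xc1184cfb8) (nat_lit 2305))
 (.leaf (nat_lit 0xc1184cfd8) (nat_lit 3073))
) (.node (nat_lit 0xc1184d3c8) (.leaf (nat_lit 0xc1184d3a8) (nat_lit 2305))
 (.node (nat_lit 0xc1184d7a8) (.leaf (nat_lit 0xc1184d3c8) (nat_lit 1537))
 (.leaf (nat_lit 0xc1184d7a8) (nat_lit 3328))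
))) (.node (nat_lit 0xc1185c3d8) (.node (nat_lit 0xc1185c3b8) (.leaf (nat_lit 0xc1184d7c8) (nat_lit 2820))
 (.leaf (nat_lit 0xc1185c3b8) (nat_lit 2562))
) (.node (nat_lit 0xc1185c7b8) (.leaf (nat_lit 0xc1185c3d8) (nat_lit 2306))
 (.node (nat_lit 0xc1185c7d8) (.leaf (nat_lit 0xc1185c7b8) (nat_lit 3328))
 (.leaf (nat_lit 0xc1185c7d8) (nat_lit 3076))
)))) (.node (nat_lit 0xc1186c3d8) (.node (nat_lit 0xc1185dfa8) (.node (nat_lit 0xc1185dbc8) (.leaf (nat_lit 0xc1185dba8) (nat_lit 3072))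
 (.leaf (nat_lit 0xc1185dbc8) (nat_lit 2304))
) (.node (nat_lit 0xc1185dfc8) (.leaf (nat_lit 0xc1185dfa8) (nat_lit 2819))
 (.node (nat_lit 0xc1186c3b8) (.leaf (nat_lit 0xc1185dfc8) (nat_lit 3328))
 (.leaf (nat_lit 0xc1186c3b8) (nat_lit 2818))
))) (.node (nat_lit 0xc1186dba8) (.node (nat_lit 0xc1186c7b8) (.leaf (nat_lit 0xc1186c3d8) (nat_lit 2562))
 (.node (nat_lit 0xc1186c7d8) (.leaf (nat_lit 0xc1186c7b8) (nat_lit 3075))
 (.leaf (nat_lit 0xc1186c7d8) (nat_lit 3332))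
)) (.node (nat_lit 0xc1186dbc8) (.leaf (nat_lit 0xc1186dba8) (nat_lit 2819))
 (.node (nat_lit 0xc1186dfa8) (.leaf (nat_lit 0xc1186dbc8) (nat_lit 2051))
 (.leaf (nat_lit 0xc1186dfa8) (nat_lit 3072))
))))) (.node (nat_lit 0xc11c0c1f8) (.node (nat_lit 0xc1187d3a8) (.node (nat_lit 0xc1187cbd8) (.node (nat_lit 0xc1187cbb8) (.leaf (nat_lit 0xc1186dfc8) (nat_lit 3075))
 (.leaf (nat_lit 0xc1187cbb8) (nat_lit 3075))
) (.node (nat_lit 0xc1187cfb8) (.leaf (nat_lit 0xc1187cbd8) (nat_lit 2563))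
 (.node (nat_lit 0xc1187cfd8) (.leaf (nat_lit 0xc1187cfb8) (nat_lit 2561))
 (.leaf (nat_lit 0xc1187cfd8) (nat_lit 3329))
))) (.node (nat_lit 0xc1187d7a8) (.node (nat_lit 0xc1187d3c8) (.leaf (nat_lit 0xc1187d3a8) (nat_lit 2561))
 (.leaf (nat_lit 0xc1187d3c8) (nat_lit 1793))
) (.node (nat_lit 0xc1187d7c8) (.leaf (nat_lit 0xc1187d7a8) (nat_lit 3075))
 (.node (nat_lit 0xc11c0c188) (.leaf (nat_lit 0xc1187d7c8) (nat_lit 3076))
 (.leaf (nat_lit 0xc11c0c188) (nat_lit 1283))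
)))) (.node (nat_lit 0xc11c0dd98) (.node (nat_lit 0xc11c0c5f8) (.node (nat_lit 0xc11c0c588) (.leaf (nat_lit 0xc11c0c1f8) (nat_lit 2306))
 (.leaf (nat_lit 0xc11c0c588) (nat_lit 2308))
) (.node (nat_lit 0xc11c0d998) (.leaf (nat_lit 0xc11c0c5f8) (nat_lit 3332))
 (.node (nat_lit 0xc11c0d9e8) (.leaf (nat_lit 0xc11c0d998) (nat_lit 3073))
 (.leaf (nat_lit 0xc11c0d9e8) (nat_lit 2049))
))) (.node (nat_lit 0xc11c1c9f8) (.node (nat_lit 0xc11c0dde8) (.leaf (nat_lit 0xc11c0dd98) (nat_lit 3073))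
 (.node (nat_lit 0xc11c1c988) (.leaf (nat_lit 0xc11c0dde8) (nat_lit 3075))
 (.leaf (nat_lit 0xc11c1c988) (nat_lit 1792))
)) (.node (nat_lit 0xc11c1cd88) (.leaf (nat_lit 0xc11c1c9f8) (nat_lit 3072))
 (.node (nat_lit 0xc11c1cdf8) (.leaf (nat_lit 0xc11c1cd88) (nat_lit 3076))
 (.leaf (nat_lit 0xc11c1cdf8) (nat_lit 2561))
))))))) (.node (nat_lit 0xc11c6d5a8) (.node (nat_lit 0xc11c4c1c8) (.node (nat_lit 0xc11c2d598) (.node (nat_lit 0xc11c2c9f8) (.node (nat_lit 0xc11c1d598) (.node (nat_lit 0xc11c1d1e8) (.leaf (nat_lit 0xc11c1d198) (nat_lit 3331))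
 (.leaf (nat_lit 0xc11c1d1e8) (nat_lit 2560))
) (.node (nat_lit 0xc11c1d5e8) (.leaf (nat_lit 0xc11c1d598) (nat_lit 2305))
 (.node (nat_lit 0xc11c2c988) (.leaf (nat_lit 0xc11c1d5e8) (nat_lit 3073))
 (.leaf (nat_lit 0xc11c2c988) (nat_lit 1539))
))) (.node (nat_lit 0xc11c2cdf8) (.node (nat_lit 0xc11c2cd88) (.leaf (nat_lit 0xc11c2c9f8) (nat_lit 2819))
 (.leaf (nat_lit 0xc11c2cd88) (nat_lit 2820))
) (.node (nat_lit 0xc11c2d198) (.leaf (nat_lit 0xc11c2cdf8) (nat_lit 2817))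
 (.node (nat_lit 0xc11c2d1e8) (.leaf (nat_lit 0xc11c2d198) (nat_lit 3584))
 (.leaf (nat_lit 0xc11c2d1e8) (nat_lit 2307))
)))) (.node (nat_lit 0xc11c3c5f8) (.node (nat_lit 0xc11c3c188) (.node (nat_lit 0xc11c2d5e8) (.leaf (nat_lit 0xc11c2d598) (nat_lit 2561))
 (.leaf (nat_lit 0xc11c2d5e8) (nat_lit 3329))
) (.node (nat_lit 0xc11c3c1f8) (.leaf (nat_lit 0xc11c3c188) (nat_lit 1536))
 (.node (nat_lit 0xc11c3c588) (.leaf (nat_lit 0xc11c3c1f8) (nat_lit 2562))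
 (.leaf (nat_lit 0xc11c3c588) (nat_lit 2564))
))) (.node (nat_lit 0xc11c3dd98) (.node (nat_lit 0xc11c3d998) (.leaf (nat_lit 0xc11c3c5f8) (nat_lit 3331))
 (.node (nat_lit 0xc11c3d9e8) (.leaf (nat_lit 0xc11c3d998) (nat_lit 3329))
 (.leaf (nat_lit 0xc11c3d9e8) (nat_lit 2305))
)) (.node (nat_lit 0xc11c3dde8) (.leaf (nat_lit 0xc11c3dd98) (nat_lit 2817))
 (.node (nat_lit 0xc11c4c1b8) (.leaf (nat_lit 0xc11c3dde8) (nat_lit 3328))
 (.leaf (nat_lit 0xc11c4c1b8) (nat_lit 2562))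
))))) (.node (nat_lit 0xc11c5cdc8) (.node (nat_lit 0xc11c4dda8) (.node (nat_lit 0xc11c4c5c8) (.node (nat_lit 0xc11c4c5b8) (.leaf (nat_lit 0xc11c4c1c8) (nat_lit 1539))
 (.leaf (nat_lit 0xc11c4c5b8) (nat_lit 3331))
) (.node (nat_lit 0xc11c4d9a8) (.leaf (nat_lit 0xc11c4c5c8) (nat_lit 2564))
 (.node (nat_lit 0xc11c4d9d8) (.leaf (nat_lit 0xc11c4d9a8) (nat_lit 2305))
 (.leaf (nat_lit 0xc11c4d9d8) (nat_lit 3329))
))) (.node (nat_lit 0xc11c5c9b8) (.node (nat_lit 0xc11c4ddd8) (.leaf (nat_lit 0xc11c4dda8) (nat_lit 3331))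
 (.leaf (nat_lit 0xc11c4ddd8) (nat_lit 2817))
) (.node (nat_lit 0xc11c5c9c8) (.leaf (nat_lit 0xc11c5c9b8) (nat_lit 3328))
 (.node (nat_lit 0xc11c5cdb8) (.leaf (nat_lit 0xc11c5c9c8) (nat_lit 2048))
 (.leaf (nat_lit 0xc11c5cdb8) (nat_lit 2305))
)))) (.node (nat_lit 0xc11c6c9b8) (.node (nat_lit 0xc11c5d1d8) (.node (nat_lit 0xc11c5d1a8) (.leaf (nat_lit 0xc11c5cdc8) (nat_lit 3332))
 (.leaf (nat_lit 0xc11c5d1a8) (nat_lit 2816))
) (.node (nat_lit 0xc11c5d5a8) (.leaf (nat_lit 0xc11c5d1d8) (nat_lit 3075))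
 (.node (nat_lit 0xc11c5d5d8) (.leaf (nat_lit 0xc11c5d5a8) (nat_lit 2817))
 (.leaf (nat_lit 0xc11c5d5d8) (nat_lit 2049))
))) (.node (nat_lit 0xc11c6cdc8) (.node (nat_lit 0xc11c6c9c8) (.leaf (nat_lit 0xc11c6c9b8) (nat_lit 3075))
 (.node (nat_lit 0xc11c6cdb8) (.leaf (nat_lit 0xc11c6c9c8) (nat_lit 1795))
 (.leaf (nat_lit 0xc11c6cdb8) (nat_lit 2561))
)) (.node (nat_lit 0xc11c6d1a8) (.leaf (nat_lit 0xc11c6cdc8) (nat_lit 3076))
 (.node (nat_lit 0xc11c6d1d8) (.leaf (nat_lit 0xc11c6d1a8) (nat_lit 2563))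
 (.leaf (nat_lit 0xc11c6d1d8) (nat_lit 3328))
)))))) (.node (nat_lit 0xc21012dc8) (.node (nat_lit 0xc21002188) (.node (nat_lit 0xc11c7c5c8) (.node (nat_lit 0xc11c7c1b8) (.node (nat_lit 0xc11c6d5d8) (.leaf (nat_lit 0xc11c6d5a8) (nat_lit 3073))
 (.leaf (nat_lit 0xc11c6d5d8) (nat_lit 2305))
) (.node (nat_lit 0xc11c7c1c8) (.leaf (nat_lit 0xc11c7c1b8) (nat_lit 2818))
 (.node (nat_lit 0xc11c7c5b8) (.leaf (nat_lit 0xc11c7c1c8) (nat_lit 1792))
 (.leaf (nat_lit 0xc11c7c5b8) (nat_lit 3075))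
))) (.node (nat_lit 0xc11c7d9d8) (.node (nat_lit 0xc11c7d9a8) (.leaf (nat_lit 0xc11c7c5c8) (nat_lit 2820))
 (.leaf (nat_lit 0xc11c7d9a8) (nat_lit 2561))
) (.node (nat_lit 0xc11c7dda8) (.leaf (nat_lit 0xc11c7d9d8) (nat_lit 3331))
 (.node (nat_lit 0xc11c7ddd8) (.leaf (nat_lit 0xc11c7dda8) (nat_lit 3331))
 (.leaf (nat_lit 0xc11c7ddd8) (nat_lit 2561))
)))) (.node (nat_lit 0xc210031e8) (.node (nat_lit 0xc21002988) (.node (nat_lit 0xc210021c8) (.leaf (nat_lit 0xc21002188) (nat_lit 1794))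
 (.leaf (nat_lit 0xc210021c8) (nat_lit 2050))
) (.node (nat_lit 0xc210029c8) (.leaf (nat_lit 0xc21002988) (nat_lit 2308))
 (.node (nat_lit 0xc210031a8) (.leaf (nat_lit 0xc210029c8) (nat_lit 2564))
 (.leaf (nat_lit 0xc210031a8) (nat_lit 2820))
))) (.node (nat_lit 0xc21012588) (.node (nat_lit 0xc210039a8) (.leaf (nat_lit 0xc210031e8) (nat_lit 2564))
 (.node (nat_lit 0xc210039e8) (.leaf (nat_lit 0xc210039a8) (nat_lit 2308))
 (.leaf (nat_lit 0xc210039e8) (nat_lit 2052))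
)) (.node (nat_lit 0xc210125c8) (.leaf (nat_lit 0xc21012588) (nat_lit 2563))
 (.node (nat_lit 0xc21012d88) (.leaf (nat_lit 0xc210125c8) (nat_lit 2819))
 (.leaf (nat_lit 0xc21012d88) (nat_lit 2819))
))))) (.node (nat_lit 0xc210235e8) (.node (nat_lit 0xc21022588) (.node (nat_lit 0xc210135e8) (.node (nat_lit 0xc210135a8) (.leaf (nat_lit 0xc21012dc8) (nat_lit 3075))
 (.leaf (nat_lit 0xc210135a8) (nat_lit 3329))
) (.node (nat_lit 0xc21013da8) (.leaf (nat_lit 0xc210135e8) (nat_lit 3331))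
 (.node (nat_lit 0xc21013de8) (.leaf (nat_lit 0xc21013da8) (nat_lit 3075))
 (.leaf (nat_lit 0xc21013de8) (nat_lit 2819))
))) (.node (nat_lit 0xc21022d88) (.node (nat_lit 0xc210225c8) (.leaf (nat_lit 0xc21022588) (nat_lit 2816))
 (.leaf (nat_lit 0xc210225c8) (nat_lit 3072))
) (.node (nat_lit 0xc21022dc8) (.leaf (nat_lit 0xc21022d88) (nat_lit 3072))
 (.node (nat_lit 0xc210235a8) (.leaf (nat_lit 0xc21022dc8) (nat_lit 3328))
 (.leaf (nat_lit 0xc210235a8) (nat_lit 3073))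
)))) (.node (nat_lit 0xc21032988) (.node (nat_lit 0xc21023de8) (.node (nat_lit 0xc21023da8) (.leaf (nat_lit 0xc210235e8) (nat_lit 3329))
 (.leaf (nat_lit 0xc21023da8) (nat_lit 3328))
) (.node (nat_lit 0xc21032188) (.leaf (nat_lit 0xc21023de8) (nat_lit 3072))
 (.node (nat_lit 0xc210321c8) (.leaf (nat_lit 0xc21032188) (nat_lit 2050))
 (.leaf (nat_lit 0xc210321c8) (nat_lit 2306))
))) (.node (nat_lit 0xc210331e8) (.node (nat_lit 0xc210329c8) (.leaf (nat_lit 0xc21032988) (nat_lit 2564))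
 (.node (nat_lit 0xc210331a8) (.leaf (nat_lit 0xc210329c8) (nat_lit 2820))
 (.leaf (nat_lit 0xc210331a8) (nat_lit 3076))
)) (.node (nat_lit 0xc210339a8) (.leaf (nat_lit 0xc210331e8) (nat_lit 2820))
 (.node (nat_lit 0xc210339e8) (.leaf (nat_lit 0xc210339a8) (nat_lit 2564))
 (.leaf (nat_lit 0xc210339e8) (nat_lit 2308))
)))))))))) (.node (nat_lit 0xc40862656) (.node (nat_lit 0xc21c1a588) (.node (nat_lit 0xc2146b798) (.node (nat_lit 0xc2141af88) (.node (nat_lit 0xc210635d8) (.node (nat_lit 0xc21052db8) (.node (nat_lit 0xc210431d8) (.node (nat_lit 0xc210429b8) (.node (nat_lit 0xc210421f8) (.leaf (nat_lit 0xc210421b8) (nat_lit 2818))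
 (.leaf (nat_lit 0xc210421f8) (nat_lit 2562))
) (.node (nat_lit 0xc210429f8) (.leaf (nat_lit 0xc210429b8) (nat_lit 3332))
 (.node (nat_lit 0xc21043198) (.leaf (nat_lit 0xc210429f8) (nat_lit 3076))
 (.leaf (nat_lit 0xc21043198) (nat_lit 3331))
))) (.node (nat_lit 0xc210439d8) (.node (nat_lit 0xc21043998) (.leaf (nat_lit 0xc210431d8) (nat_lit 3075))
 (.leaf (nat_lit 0xc21043998) (nat_lit 3332))
) (.node (nat_lit 0xc210525b8) (.leaf (nat_lit 0xc210439d8) (nat_lit 3588))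
 (.node (nat_lit 0xc210525f8) (.leaf (nat_lit 0xc210525b8) (nat_lit 3328))
 (.leaf (nat_lit 0xc210525f8) (nat_lit 3072))
)))) (.node (nat_lit 0xc21053dd8) (.node (nat_lit 0xc21053598) (.node (nat_lit 0xc21052df8) (.leaf (nat_lit 0xc21052db8) (nat_lit 2561))
 (.leaf (nat_lit 0xc21052df8) (nat_lit 2817))
) (.node (nat_lit 0xc210535d8) (.leaf (nat_lit 0xc21053598) (nat_lit 2561))
 (.node (nat_lit 0xc21053d98) (.leaf (nat_lit 0xc210535d8) (nat_lit 2305))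
 (.leaf (nat_lit 0xc21053d98) (nat_lit 3330))
))) (.node (nat_lit 0xc21062db8) (.node (nat_lit 0xc210625b8) (.leaf (nat_lit 0xc21053dd8) (nat_lit 3074))
 (.node (nat_lit 0xc210625f8) (.leaf (nat_lit 0xc210625b8) (nat_lit 3075))
 (.leaf (nat_lit 0xc210625f8) (nat_lit 2819))
)) (.node (nat_lit 0xc21062df8) (.leaf (nat_lit 0xc21062db8) (nat_lit 2817))
 (.node (nat_lit 0xc21063598) (.leaf (nat_lit 0xc21062df8) (nat_lit 3073))
 (.leaf (nat_lit 0xc21063598) (nat_lit 2817))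
))))) (.node (nat_lit 0xc210739d8) (.node (nat_lit 0xc210729b8) (.node (nat_lit 0xc21063dd8) (.node (nat_lit 0xc21063d98) (.leaf (nat_lit 0xc210635d8) (nat_lit 2561))
 (.leaf (nat_lit 0xc21063d98) (nat_lit 3331))
) (.node (nat_lit 0xc210721b8) (.leaf (nat_lit 0xc21063dd8) (nat_lit 3330))
 (.node (nat_lit 0xc210721f8) (.leaf (nat_lit 0xc210721b8) (nat_lit 2562))
 (.leaf (nat_lit 0xc210721f8) (nat_lit 2306))
))) (.node (nat_lit 0xc21073198) (.node (nat_lit 0xc210729f8) (.leaf (nat_lit 0xc210729b8) (nat_lit 3076))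
 (.leaf (nat_lit 0xc210729f8) (nat_lit 2820))
) (.node (nat_lit 0xc210731d8) (.leaf (nat_lit 0xc21073198) (nat_lit 3332))
 (.node (nat_lit 0xc21073998) (.leaf (nat_lit 0xc210731d8) (nat_lit 3328))
 (.leaf (nat_lit 0xc21073998) (nat_lit 3076))
)))) (.node (nat_lit 0xc2140b7a8) (.node (nat_lit 0xc2140a3d8) (.node (nat_lit 0xc2140a388) (.leaf (nat_lit 0xc210739d8) (nat_lit 3332))
 (.leaf (nat_lit 0xc2140a388) (nat_lit 1537))
) (.node (nat_lit 0xc2140ab88) (.leaf (nat_lit 0xc2140a3d8) (nat_lit 2562))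
 (.node (nat_lit 0xc2140abd8) (.leaf (nat_lit 0xc2140ab88) (nat_lit 2052))
 (.leaf (nat_lit 0xc2140abd8) (nat_lit 3074))
))) (.node (nat_lit 0xc2140bff8) (.node (nat_lit 0xc2140b7f8) (.leaf (nat_lit 0xc2140b7a8) (nat_lit 3072))
 (.node (nat_lit 0xc2140bfa8) (.leaf (nat_lit 0xc2140b7f8) (nat_lit 2820))
 (.leaf (nat_lit 0xc2140bfa8) (nat_lit 3330))
)) (.node (nat_lit 0xc2141a788) (.leaf (nat_lit 0xc2140bff8) (nat_lit 2052))
 (.node (nat_lit 0xc2141a7d8) (.leaf (nat_lit 0xc2141a788) (nat_lit 2307))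
 (.leaf (nat_lit 0xc2141a7d8) (nat_lit 3075))
)))))) (.node (nat_lit 0xc2143bff8) (.node (nat_lit 0xc2142b3a8) (.node (nat_lit 0xc2141bbf8) (.node (nat_lit 0xc2141b3a8) (.node (nat_lit 0xc2141afd8) (.leaf (nat_lit 0xc2141af88) (nat_lit 2563))
 (.leaf (nat_lit 0xc2141afd8) (nat_lit 3332))
) (.node (nat_lit 0xc2141b3f8) (.leaf (nat_lit 0xc2141b3a8) (nat_lit 2564))
 (.node (nat_lit 0xc2141bba8) (.leaf (nat_lit 0xc2141b3f8) (nat_lit 3330))
 (.leaf (nat_lit 0xc2141bba8) (nat_lit 2820))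
))) (.node (nat_lit 0xc2142a7d8) (.node (nat_lit 0xc2142a788) (.leaf (nat_lit 0xc2141bbf8) (nat_lit 2819))
 (.leaf (nat_lit 0xc2142a788) (nat_lit 2563))
) (.node (nat_lit 0xc2142af88) (.leaf (nat_lit 0xc2142a7d8) (nat_lit 3328))
 (.node (nat_lit 0xc2142afd8) (.leaf (nat_lit 0xc2142af88) (nat_lit 2816))
 (.leaf (nat_lit 0xc2142afd8) (nat_lit 3076))
)))) (.node (nat_lit 0xc2143a3d8) (.node (nat_lit 0xc2142bba8) (.node (nat_lit 0xc2142b3f8) (.leaf (nat_lit 0xc2142b3a8) (nat_lit 2308))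
 (.leaf (nat_lit 0xc2142b3f8) (nat_lit 3074))
) (.node (nat_lit 0xc2142bbf8) (.leaf (nat_lit 0xc2142bba8) (nat_lit 2564))
 (.node (nat_lit 0xc2143a388) (.leaf (nat_lit 0xc2142bbf8) (nat_lit 3075))
 (.leaf (nat_lit 0xc2143a388) (nat_lit 1793))
))) (.node (nat_lit 0xc2143b7a8) (.node (nat_lit 0xc2143ab88) (.leaf (nat_lit 0xc2143a3d8) (nat_lit 2818))
 (.node (nat_lit 0xc2143abd8) (.leaf (nat_lit 0xc2143ab88) (nat_lit 2308))
 (.leaf (nat_lit 0xc2143abd8) (nat_lit 3330))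
)) (.node (nat_lit 0xc2143b7f8) (.leaf (nat_lit 0xc2143b7a8) (nat_lit 2819))
 (.node (nat_lit 0xc2143bfa8) (.leaf (nat_lit 0xc2143b7f8) (nat_lit 3076))
 (.leaf (nat_lit 0xc2143bfa8) (nat_lit 3331))
))))) (.node (nat_lit 0xc2145a3e8) (.node (nat_lit 0xc2144b398) (.node (nat_lit 0xc2144a7e8) (.node (nat_lit 0xc2144a7b8) (.leaf (nat_lit 0xc2143bff8) (nat_lit 2308))
 (.leaf (nat_lit 0xc2144a7b8) (nat_lit 3076))
) (.node (nat_lit 0xc2144afb8) (.leaf (nat_lit 0xc2144a7e8) (nat_lit 2816))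
 (.node (nat_lit 0xc2144afe8) (.leaf (nat_lit 0xc2144afb8) (nat_lit 2308))
 (.leaf (nat_lit 0xc2144afe8) (nat_lit 3331))
))) (.node (nat_lit 0xc2144bb98) (.node (nat_lit 0xc2144b3c8) (.leaf (nat_lit 0xc2144b398) (nat_lit 2818))
 (.leaf (nat_lit 0xc2144b3c8) (nat_lit 1793))
) (.node (nat_lit 0xc2144bbc8) (.leaf (nat_lit 0xc2144bb98) (nat_lit 3330))
 (.node (nat_lit 0xc2145a3b8) (.leaf (nat_lit 0xc2144bbc8) (nat_lit 2308))
 (.leaf (nat_lit 0xc2145a3b8) (nat_lit 3074))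
)))) (.node (nat_lit 0xc2145bf98) (.node (nat_lit 0xc2145abe8) (.node (nat_lit 0xc2145abb8) (.leaf (nat_lit 0xc2145a3e8) (nat_lit 2308))
 (.leaf (nat_lit 0xc2145abb8) (nat_lit 3075))
) (.node (nat_lit 0xc2145b798) (.leaf (nat_lit 0xc2145abe8) (nat_lit 2564))
 (.node (nat_lit 0xc2145b7c8) (.leaf (nat_lit 0xc2145b798) (nat_lit 3331))
 (.leaf (nat_lit 0xc2145b7c8) (nat_lit 2563))
))) (.node (nat_lit 0xc2146a3e8) (.node (nat_lit 0xc2145bfc8) (.leaf (nat_lit 0xc2145bf98) (nat_lit 3076))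
 (.node (nat_lit 0xc2146a3b8) (.leaf (nat_lit 0xc2145bfc8) (nat_lit 2819))
 (.leaf (nat_lit 0xc2146a3b8) (nat_lit 2818))
)) (.node (nat_lit 0xc2146abb8) (.leaf (nat_lit 0xc2146a3e8) (nat_lit 2052))
 (.node (nat_lit 0xc2146abe8) (.leaf (nat_lit 0xc2146abb8) (nat_lit 3331))
 (.leaf (nat_lit 0xc2146abe8) (nat_lit 2308))
))))))) (.node (nat_lit 0xc21833ba8) (.node (nat_lit 0xc218127e8) (.node (nat_lit 0xc2147bb98) (.node (nat_lit 0xc2147a7e8) (.node (nat_lit 0xc2146bf98) (.node (nat_lit 0xc2146b7c8) (.leaf (nat_lit 0xc2146b798) (nat_lit 3332))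
 (.leaf (nat_lit 0xc2146b7c8) (nat_lit 2819))
) (.node (nat_lit 0xc2146bfc8) (.leaf (nat_lit 0xc2146bf98) (nat_lit 2820))
 (.node (nat_lit 0xc2147a7b8) (.leaf (nat_lit 0xc2146bfc8) (nat_lit 3072))
 (.leaf (nat_lit 0xc2147a7b8) (nat_lit 3332))
))) (.node (nat_lit 0xc2147afe8) (.node (nat_lit 0xc2147afb8) (.leaf (nat_lit 0xc2147a7e8) (nat_lit 2563))
 (.leaf (nat_lit 0xc2147afb8) (nat_lit 2564))
) (.node (nat_lit 0xc2147b398) (.leaf (nat_lit 0xc2147afe8) (nat_lit 3075))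
 (.node (nat_lit 0xc2147b3c8) (.leaf (nat_lit 0xc2147b398) (nat_lit 3074))
 (.leaf (nat_lit 0xc2147b3c8) (nat_lit 2049))
)))) (.node (nat_lit 0xc21802be8) (.node (nat_lit 0xc21802388) (.node (nat_lit 0xc2147bbc8) (.leaf (nat_lit 0xc2147bb98) (nat_lit 3331))
 (.leaf (nat_lit 0xc2147bbc8) (nat_lit 2564))
) (.node (nat_lit 0xc218023e8) (.leaf (nat_lit 0xc21802388) (nat_lit 1540))
 (.node (nat_lit 0xc21802b88) (.leaf (nat_lit 0xc218023e8) (nat_lit 2306))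
 (.leaf (nat_lit 0xc21802b88) (nat_lit 2052))
))) (.node (nat_lit 0xc21803ba8) (.node (nat_lit 0xc218033a8) (.leaf (nat_lit 0xc21802be8) (nat_lit 2820))
 (.node (nat_lit 0xc218033c8) (.leaf (nat_lit 0xc218033a8) (nat_lit 2562))
 (.leaf (nat_lit 0xc218033c8) (nat_lit 1796))
)) (.node (nat_lit 0xc21803bc8) (.leaf (nat_lit 0xc21803ba8) (nat_lit 3076))
 (.node (nat_lit 0xc21812788) (.leaf (nat_lit 0xc21803bc8) (nat_lit 2308))
 (.leaf (nat_lit 0xc21812788) (nat_lit 2307))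
))))) (.node (nat_lit 0xc21822fe8) (.node (nat_lit 0xc21813fa8) (.node (nat_lit 0xc21812fe8) (.node (nat_lit 0xc21812f88) (.leaf (nat_lit 0xc218127e8) (nat_lit 3075))
 (.leaf (nat_lit 0xc21812f88) (nat_lit 2819))
) (.node (nat_lit 0xc218137a8) (.leaf (nat_lit 0xc21812fe8) (nat_lit 3331))
 (.node (nat_lit 0xc218137c8) (.leaf (nat_lit 0xc218137a8) (nat_lit 3331))
 (.leaf (nat_lit 0xc218137c8) (nat_lit 2563))
))) (.node (nat_lit 0xc21822788) (.node (nat_lit 0xc21813fc8) (.leaf (nat_lit 0xc21813fa8) (nat_lit 3332))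
 (.leaf (nat_lit 0xc21813fc8) (nat_lit 3075))
) (.node (nat_lit 0xc218227e8) (.leaf (nat_lit 0xc21822788) (nat_lit 2563))
 (.node (nat_lit 0xc21822f88) (.leaf (nat_lit 0xc218227e8) (nat_lit 3328))
 (.leaf (nat_lit 0xc21822f88) (nat_lit 3072))
)))) (.node (nat_lit 0xc21832388) (.node (nat_lit 0xc218237c8) (.node (nat_lit 0xc218237a8) (.leaf (nat_lit 0xc21822fe8) (nat_lit 3332))
 (.leaf (nat_lit 0xc218237a8) (nat_lit 3332))
) (.node (nat_lit 0xc21823fa8) (.leaf (nat_lit 0xc218237c8) (nat_lit 2819))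
 (.node (nat_lit 0xc21823fc8) (.leaf (nat_lit 0xc21823fa8) (nat_lit 3076))
 (.leaf (nat_lit 0xc21823fc8) (nat_lit 3328))
))) (.node (nat_lit 0xc21832be8) (.node (nat_lit 0xc218323e8) (.leaf (nat_lit 0xc21832388) (nat_lit 1796))
 (.node (nat_lit 0xc21832b88) (.leaf (nat_lit 0xc218323e8) (nat_lit 2562))
 (.leaf (nat_lit 0xc21832b88) (nat_lit 2308))
)) (.node (nat_lit 0xc218333a8) (.leaf (nat_lit 0xc21832be8) (nat_lit 3076))
 (.node (nat_lit 0xc218333c8) (.leaf (nat_lit 0xc218333a8) (nat_lit 2818))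
 (.leaf (nat_lit 0xc218333c8) (nat_lit 2052))
)))))) (.node (nat_lit 0xc21862bd8) (.node (nat_lit 0xc218523b8) (.node (nat_lit 0xc21842fd8) (.node (nat_lit 0xc218427b8) (.node (nat_lit 0xc21833bc8) (.leaf (nat_lit 0xc21833ba8) (nat_lit 3332))
 (.leaf (nat_lit 0xc21833bc8) (nat_lit 2564))
) (.node (nat_lit 0xc218427d8) (.leaf (nat_lit 0xc218427b8) (nat_lit 3331))
 (.node (nat_lit 0xc21842fb8) (.leaf (nat_lit 0xc218427d8) (nat_lit 2819))
 (.leaf (nat_lit 0xc21842fb8) (nat_lit 2561))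
))) (.node (nat_lit 0xc218437f8) (.node (nat_lit 0xc21843798) (.leaf (nat_lit 0xc21842fd8) (nat_lit 3329))
 (.leaf (nat_lit 0xc21843798) (nat_lit 3075))
) (.node (nat_lit 0xc21843f98) (.leaf (nat_lit 0xc218437f8) (nat_lit 3332))
 (.node (nat_lit 0xc21843ff8) (.leaf (nat_lit 0xc21843f98) (nat_lit 3073))
 (.leaf (nat_lit 0xc21843ff8) (nat_lit 2305))
)))) (.node (nat_lit 0xc218533f8) (.node (nat_lit 0xc21852bb8) (.node (nat_lit 0xc218523d8) (.leaf (nat_lit 0xc218523b8) (nat_lit 2818))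
 (.leaf (nat_lit 0xc218523d8) (nat_lit 2563))
) (.node (nat_lit 0xc21852bd8) (.leaf (nat_lit 0xc21852bb8) (nat_lit 3331))
 (.node (nat_lit 0xc21853398) (.leaf (nat_lit 0xc21852bd8) (nat_lit 2820))
 (.leaf (nat_lit 0xc21853398) (nat_lit 2819))
))) (.node (nat_lit 0xc218623b8) (.node (nat_lit 0xc21853b98) (.leaf (nat_lit 0xc218533f8) (nat_lit 3074))
 (.node (nat_lit 0xc21853bf8) (.leaf (nat_lit 0xc21853b98) (nat_lit 3076))
 (.leaf (nat_lit 0xc21853bf8) (nat_lit 3075))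
)) (.node (nat_lit 0xc218623d8) (.leaf (nat_lit 0xc218623b8) (nat_lit 3074))
 (.node (nat_lit 0xc21862bb8) (.leaf (nat_lit 0xc218623d8) (nat_lit 2816))
 (.leaf (nat_lit 0xc21862bb8) (nat_lit 3075))
))))) (.node (nat_lit 0xc218737f8) (.node (nat_lit 0xc218727b8) (.node (nat_lit 0xc218633f8) (.node (nat_lit 0xc21863398) (.leaf (nat_lit 0xc21862bd8) (nat_lit 3076))
 (.leaf (nat_lit 0xc21863398) (nat_lit 3072))
) (.node (nat_lit 0xc21863b98) (.leaf (nat_lit 0xc218633f8) (nat_lit 3330))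
 (.node (nat_lit 0xc21863bf8) (.leaf (nat_lit 0xc21863b98) (nat_lit 3332))
 (.leaf (nat_lit 0xc21863bf8) (nat_lit 2819))
))) (.node (nat_lit 0xc21872fb8) (.node (nat_lit 0xc218727d8) (.leaf (nat_lit 0xc218727b8) (nat_lit 3332))
 (.leaf (nat_lit 0xc218727d8) (nat_lit 3072))
) (.node (nat_lit 0xc21872fd8) (.leaf (nat_lit 0xc21872fb8) (nat_lit 2305))
 (.node (nat_lit 0xc21873798) (.leaf (nat_lit 0xc21872fd8) (nat_lit 3073))
 (.leaf (nat_lit 0xc21873798) (nat_lit 3328))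
)))) (.node (nat_lit 0xc21c0a988) (.node (nat_lit 0xc21873ff8) (.node (nat_lit 0xc21873f98) (.leaf (nat_lit 0xc218737f8) (nat_lit 3076))
 (.leaf (nat_lit 0xc21873f98) (nat_lit 2817))
) (.node (nat_lit 0xc21c0a188) (.leaf (nat_lit 0xc21873ff8) (nat_lit 2049))
 (.node (nat_lit 0xc21c0a1f8) (.leaf (nat_lit 0xc21c0a188) (nat_lit 1540))
 (.leaf (nat_lit 0xc21c0a1f8) (nat_lit 2306))
))) (.node (nat_lit 0xc21c0b5d8) (.node (nat_lit 0xc21c0a9f8) (.leaf (nat_lit 0xc21c0a988) (nat_lit 1796))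
 (.node (nat_lit 0xc21c0b5a8) (.leaf (nat_lit 0xc21c0a9f8) (nat_lit 3076))
 (.leaf (nat_lit 0xc21c0b5a8) (nat_lit 3076))
)) (.node (nat_lit 0xc21c0bda8) (.leaf (nat_lit 0xc21c0b5d8) (nat_lit 2308))
 (.node (nat_lit 0xc21c0bdd8) (.leaf (nat_lit 0xc21c0bda8) (nat_lit 3328))
 (.leaf (nat_lit 0xc21c0bdd8) (nat_lit 2820))
)))))))) (.node (nat_lit 0xc40435206) (.node (nat_lit 0xc21c6adb8) (.node (nat_lit 0xc21c3b5d8) (.node (nat_lit 0xc21c2ad88) (.node (nat_lit 0xc21c1b1d8) (.node (nat_lit 0xc21c1ad88) (.node (nat_lit 0xc21c1a5f8) (.leaf (nat_lit 0xc21c1a588) (nat_lit 2051))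
 (.leaf (nat_lit 0xc21c1a5f8) (nat_lit 3075))
) (.node (nat_lit 0xc21c1adf8) (.leaf (nat_lit 0xc21c1ad88) (nat_lit 2563))
 (.node (nat_lit 0xc21c1b1a8) (.leaf (nat_lit 0xc21c1adf8) (nat_lit 3076))
 (.leaf (nat_lit 0xc21c1b1a8) (nat_lit 3076))
))) (.node (nat_lit 0xc21c1b9d8) (.node (nat_lit 0xc21c1b9a8) (.leaf (nat_lit 0xc21c1b1d8) (nat_lit 2819))
 (.leaf (nat_lit 0xc21c1b9a8) (nat_lit 2561))
) (.node (nat_lit 0xc21c2a588) (.leaf (nat_lit 0xc21c1b9d8) (nat_lit 3585))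
 (.node (nat_lit 0xc21c2a5f8) (.leaf (nat_lit 0xc21c2a588) (nat_lit 2304))
 (.leaf (nat_lit 0xc21c2a5f8) (nat_lit 3328))
)))) (.node (nat_lit 0xc21c2b9d8) (.node (nat_lit 0xc21c2b1a8) (.node (nat_lit 0xc21c2adf8) (.leaf (nat_lit 0xc21c2ad88) (nat_lit 2819))
 (.leaf (nat_lit 0xc21c2adf8) (nat_lit 2820))
) (.node (nat_lit 0xc21c2b1d8) (.leaf (nat_lit 0xc21c2b1a8) (nat_lit 2820))
 (.node (nat_lit 0xc21c2b9a8) (.leaf (nat_lit 0xc21c2b1d8) (nat_lit 3072))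
 (.leaf (nat_lit 0xc21c2b9a8) (nat_lit 2305))
))) (.node (nat_lit 0xc21c3a988) (.node (nat_lit 0xc21c3a188) (.leaf (nat_lit 0xc21c2b9d8) (nat_lit 3329))
 (.node (nat_lit 0xc21c3a1f8) (.leaf (nat_lit 0xc21c3a188) (nat_lit 1796))
 (.leaf (nat_lit 0xc21c3a1f8) (nat_lit 2562))
)) (.node (nat_lit 0xc21c3a9f8) (.leaf (nat_lit 0xc21c3a988) (nat_lit 2052))
 (.node (nat_lit 0xc21c3b5a8) (.leaf (nat_lit 0xc21c3a9f8) (nat_lit 3332))
 (.leaf (nat_lit 0xc21c3b5a8) (nat_lit 3331))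
))))) (.node (nat_lit 0xc21c4bde8) (.node (nat_lit 0xc21c4a9b8) (.node (nat_lit 0xc21c3bdd8) (.node (nat_lit 0xc21c3bda8) (.leaf (nat_lit 0xc21c3b5d8) (nat_lit 2564))
 (.leaf (nat_lit 0xc21c3bda8) (nat_lit 3075))
) (.node (nat_lit 0xc21c4a1b8) (.leaf (nat_lit 0xc21c3bdd8) (nat_lit 3076))
 (.node (nat_lit 0xc21c4a1c8) (.leaf (nat_lit 0xc21c4a1b8) (nat_lit 2562))
 (.leaf (nat_lit 0xc21c4a1c8) (nat_lit 1796))
))) (.node (nat_lit 0xc21c4b598) (.node (nat_lit 0xc21c4a9c8) (.leaf (nat_lit 0xc21c4a9b8) (nat_lit 3332))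
 (.leaf (nat_lit 0xc21c4a9c8) (nat_lit 2052))
) (.node (nat_lit 0xc21c4b5e8) (.leaf (nat_lit 0xc21c4b598) (nat_lit 2564))
 (.node (nat_lit 0xc21c4bd98) (.leaf (nat_lit 0xc21c4b5e8) (nat_lit 3332))
 (.leaf (nat_lit 0xc21c4bd98) (nat_lit 3076))
)))) (.node (nat_lit 0xc21c5b198) (.node (nat_lit 0xc21c5a5c8) (.node (nat_lit 0xc21c5a5b8) (.leaf (nat_lit 0xc21c4bde8) (nat_lit 3072))
 (.leaf (nat_lit 0xc21c5a5b8) (nat_lit 3331))
) (.node (nat_lit 0xc21c5adb8) (.leaf (nat_lit 0xc21c5a5c8) (nat_lit 2307))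
 (.node (nat_lit 0xc21c5adc8) (.leaf (nat_lit 0xc21c5adb8) (nat_lit 2820))
 (.leaf (nat_lit 0xc21c5adc8) (nat_lit 2819))
))) (.node (nat_lit 0xc21c5b9e8) (.node (nat_lit 0xc21c5b1e8) (.leaf (nat_lit 0xc21c5b198) (nat_lit 3075))
 (.node (nat_lit 0xc21c5b998) (.leaf (nat_lit 0xc21c5b1e8) (nat_lit 2820))
 (.leaf (nat_lit 0xc21c5b998) (nat_lit 3329))
)) (.node (nat_lit 0xc21c6a5b8) (.leaf (nat_lit 0xc21c5b9e8) (nat_lit 2305))
 (.node (nat_lit 0xc21c6a5c8) (.leaf (nat_lit 0xc21c6a5b8) (nat_lit 3332))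
 (.leaf (nat_lit 0xc21c6a5c8) (nat_lit 2560))
)))))) (.node (nat_lit 0xc40405656) (.node (nat_lit 0xc21c7b598) (.node (nat_lit 0xc21c6b9e8) (.node (nat_lit 0xc21c6b198) (.node (nat_lit 0xc21c6adc8) (.leaf (nat_lit 0xc21c6adb8) (nat_lit 2564))
 (.leaf (nat_lit 0xc21c6adc8) (nat_lit 3075))
) (.node (nat_lit 0xc21c6b1e8) (.leaf (nat_lit 0xc21c6b198) (nat_lit 3328))
 (.node (nat_lit 0xc21c6b998) (.leaf (nat_lit 0xc21c6b1e8) (nat_lit 2564))
 (.leaf (nat_lit 0xc21c6b998) (nat_lit 3073))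
))) (.node (nat_lit 0xc21c7a1c8) (.node (nat_lit 0xc21c7a1b8) (.leaf (nat_lit 0xc21c6b9e8) (nat_lit 2049))
 (.leaf (nat_lit 0xc21c7a1b8) (nat_lit 2818))
) (.node (nat_lit 0xc21c7a9b8) (.leaf (nat_lit 0xc21c7a1c8) (nat_lit 2052))
 (.node (nat_lit 0xc21c7a9c8) (.leaf (nat_lit 0xc21c7a9b8) (nat_lit 3331))
 (.leaf (nat_lit 0xc21c7a9c8) (nat_lit 2308))
)))) (.node (nat_lit 0xc40404216) (.node (nat_lit 0xc21c7bd98) (.node (nat_lit 0xc21c7b5e8) (.leaf (nat_lit 0xc21c7b598) (nat_lit 2820))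
 (.leaf (nat_lit 0xc21c7b5e8) (nat_lit 3075))
) (.node (nat_lit 0xc21c7bde8) (.leaf (nat_lit 0xc21c7bd98) (nat_lit 3332))
 (.node (nat_lit 0xc40404206) (.leaf (nat_lit 0xc21c7bde8) (nat_lit 2819))
 (.leaf (nat_lit 0xc40404206) (nat_lit 1027))
))) (.node (nat_lit 0xc40405206) (.node (nat_lit 0xc40404646) (.leaf (nat_lit 0xc40404216) (nat_lit 3074))
 (.node (nat_lit 0xc40404656) (.leaf (nat_lit 0xc40404646) (nat_lit 2816))
 (.leaf (nat_lit 0xc40404656) (nat_lit 2305))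
)) (.node (nat_lit 0xc40405216) (.leaf (nat_lit 0xc40405206) (nat_lit 1283))
 (.node (nat_lit 0xc40405646) (.leaf (nat_lit 0xc40405216) (nat_lit 3330))
 (.leaf (nat_lit 0xc40405646) (nat_lit 3072))
))))) (.node (nat_lit 0xc40424236) (.node (nat_lit 0xc40415226) (.node (nat_lit 0xc40414236) (.node (nat_lit 0xc40414226) (.leaf (nat_lit 0xc40405656) (nat_lit 2049))
 (.leaf (nat_lit 0xc40414226) (nat_lit 2052))
) (.node (nat_lit 0xc40414666) (.leaf (nat_lit 0xc40414236) (nat_lit 3075))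
 (.node (nat_lit 0xc40414676) (.leaf (nat_lit 0xc40414666) (nat_lit 2051))
 (.leaf (nat_lit 0xc40414676) (nat_lit 3076))
))) (.node (nat_lit 0xc40415666) (.node (nat_lit 0xc40415236) (.leaf (nat_lit 0xc40415226) (nat_lit 2308))
 (.leaf (nat_lit 0xc40415236) (nat_lit 2819))
) (.node (nat_lit 0xc40415676) (.leaf (nat_lit 0xc40415666) (nat_lit 2307))
 (.node (nat_lit 0xc40424226) (.leaf (nat_lit 0xc40415676) (nat_lit 2820))
 (.leaf (nat_lit 0xc40424226) (nat_lit 1796))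
)))) (.node (nat_lit 0xc40425666) (.node (nat_lit 0xc40424676) (.node (nat_lit 0xc40424666) (.leaf (nat_lit 0xc40424236) (nat_lit 3328))
 (.leaf (nat_lit 0xc40424666) (nat_lit 2304))
) (.node (nat_lit 0xc40425226) (.leaf (nat_lit 0xc40424676) (nat_lit 2820))
 (.node (nat_lit 0xc40425236) (.leaf (nat_lit 0xc40425226) (nat_lit 2052))
 (.leaf (nat_lit 0xc40425236) (nat_lit 3072))
))) (.node (nat_lit 0xc40434216) (.node (nat_lit 0xc40425676) (.leaf (nat_lit 0xc40425666) (nat_lit 2560))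
 (.node (nat_lit 0xc40434206) (.leaf (nat_lit 0xc40425676) (nat_lit 2564))
 (.leaf (nat_lit 0xc40434206) (nat_lit 1280))
)) (.node (nat_lit 0xc40434646) (.leaf (nat_lit 0xc40434216) (nat_lit 3330))
 (.node (nat_lit 0xc40434656) (.leaf (nat_lit 0xc40434646) (nat_lit 2563))
 (.leaf (nat_lit 0xc40434656) (nat_lit 2561))
))))))) (.node (nat_lit 0xc40803a46) (.node (nat_lit 0xc40464a76) (.node (nat_lit 0xc40445e06) (.node (nat_lit 0xc40444a56) (.node (nat_lit 0xc40435646) (.node (nat_lit 0xc40435216) (.leaf (nat_lit 0xc40435206) (nat_lit 1536))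
 (.leaf (nat_lit 0xc40435216) (nat_lit 3586))
) (.node (nat_lit 0xc40435656) (.leaf (nat_lit 0xc40435646) (nat_lit 2819))
 (.node (nat_lit 0xc40444a46) (.leaf (nat_lit 0xc40435656) (nat_lit 2305))
 (.leaf (nat_lit 0xc40444a46) (nat_lit 2563))
))) (.node (nat_lit 0xc40444e16) (.node (nat_lit 0xc40444e06) (.leaf (nat_lit 0xc40444a56) (nat_lit 2816))
 (.leaf (nat_lit 0xc40444e06) (nat_lit 1792))
) (.node (nat_lit 0xc40445a46) (.leaf (nat_lit 0xc40444e16) (nat_lit 3331))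
 (.node (nat_lit 0xc40445a56) (.leaf (nat_lit 0xc40445a46) (nat_lit 2307))
 (.leaf (nat_lit 0xc40445a56) (nat_lit 3072))
)))) (.node (nat_lit 0xc40454e36) (.node (nat_lit 0xc40454a66) (.node (nat_lit 0xc40445e16) (.leaf (nat_lit 0xc40445e06) (nat_lit 1536))
 (.leaf (nat_lit 0xc40445e16) (nat_lit 3587))
) (.node (nat_lit 0xc40454a76) (.leaf (nat_lit 0xc40454a66) (nat_lit 2049))
 (.node (nat_lit 0xc40454e26) (.leaf (nat_lit 0xc40454a76) (nat_lit 3075))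
 (.leaf (nat_lit 0xc40454e26) (nat_lit 2563))
))) (.node (nat_lit 0xc40455e26) (.node (nat_lit 0xc40455a66) (.leaf (nat_lit 0xc40454e36) (nat_lit 2561))
 (.node (nat_lit 0xc40455a76) (.leaf (nat_lit 0xc40455a66) (nat_lit 1793))
 (.leaf (nat_lit 0xc40455a76) (nat_lit 3331))
)) (.node (nat_lit 0xc40455e36) (.leaf (nat_lit 0xc40455e26) (nat_lit 2307))
 (.node (nat_lit 0xc40464a66) (.leaf (nat_lit 0xc40455e36) (nat_lit 2817))
 (.leaf (nat_lit 0xc40464a66) (nat_lit 1793))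
))))) (.node (nat_lit 0xc40474e16) (.node (nat_lit 0xc40465e26) (.node (nat_lit 0xc40464e36) (.node (nat_lit 0xc40464e26) (.leaf (nat_lit 0xc40464a76) (nat_lit 3328))
 (.leaf (nat_lit 0xc40464e26) (nat_lit 2816))
) (.node (nat_lit 0xc40465a66) (.leaf (nat_lit 0xc40464e36) (nat_lit 2305))
 (.node (nat_lit 0xc40465a76) (.leaf (nat_lit 0xc40465a66) (nat_lit 1537))
 (.leaf (nat_lit 0xc40465a76) (nat_lit 3330))
))) (.node (nat_lit 0xc40474a46) (.node (nat_lit 0xc40465e36) (.leaf (nat_lit 0xc40465e26) (nat_lit 2560))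
 (.leaf (nat_lit 0xc40465e36) (nat_lit 2561))
) (.node (nat_lit 0xc40474a56) (.leaf (nat_lit 0xc40474a46) (nat_lit 2816))
 (.node (nat_lit 0xc40474e06) (.leaf (nat_lit 0xc40474a56) (nat_lit 2563))
 (.leaf (nat_lit 0xc40474e06) (nat_lit 1539))
)))) (.node (nat_lit 0xc40802206) (.node (nat_lit 0xc40475a56) (.node (nat_lit 0xc40475a46) (.leaf (nat_lit 0xc40474e16) (nat_lit 3587))
 (.leaf (nat_lit 0xc40475a46) (nat_lit 2560))
) (.node (nat_lit 0xc40475e06) (.leaf (nat_lit 0xc40475a56) (nat_lit 2819))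
 (.node (nat_lit 0xc40475e16) (.leaf (nat_lit 0xc40475e06) (nat_lit 1283))
 (.leaf (nat_lit 0xc40475e16) (nat_lit 3331))
))) (.node (nat_lit 0xc40802a66) (.node (nat_lit 0xc40802226) (.leaf (nat_lit 0xc40802206) (nat_lit 1283))
 (.node (nat_lit 0xc40802a46) (.leaf (nat_lit 0xc40802226) (nat_lit 2306))
 (.leaf (nat_lit 0xc40802a46) (nat_lit 3330))
)) (.node (nat_lit 0xc40803206) (.leaf (nat_lit 0xc40802a66) (nat_lit 2305))
 (.node (nat_lit 0xc40803226) (.leaf (nat_lit 0xc40803206) (nat_lit 1539))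
 (.leaf (nat_lit 0xc40803226) (nat_lit 2562))
)))))) (.node (nat_lit 0xc40832a66) (.node (nat_lit 0xc40822216) (.node (nat_lit 0xc40812a76) (.node (nat_lit 0xc40812216) (.node (nat_lit 0xc40803a66) (.leaf (nat_lit 0xc40803a46) (nat_lit 3074))
 (.leaf (nat_lit 0xc40803a66) (nat_lit 2049))
) (.node (nat_lit 0xc40812236) (.leaf (nat_lit 0xc40812216) (nat_lit 2564))
 (.node (nat_lit 0xc40812a56) (.leaf (nat_lit 0xc40812236) (nat_lit 3330))
 (.leaf (nat_lit 0xc40812a56) (nat_lit 3072))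
))) (.node (nat_lit 0xc40813236) (.node (nat_lit 0xc40813216) (.leaf (nat_lit 0xc40812a76) (nat_lit 3331))
 (.leaf (nat_lit 0xc40813216) (nat_lit 2820))
) (.node (nat_lit 0xc40813a56) (.leaf (nat_lit 0xc40813236) (nat_lit 3331))
 (.node (nat_lit 0xc40813a76) (.leaf (nat_lit 0xc40813a56) (nat_lit 3328))
 (.leaf (nat_lit 0xc40813a76) (nat_lit 3075))
)))) (.node (nat_lit 0xc40823236) (.node (nat_lit 0xc40822a56) (.node (nat_lit 0xc40822236) (.leaf (nat_lit 0xc40822216) (nat_lit 2820))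
 (.leaf (nat_lit 0xc40822236) (nat_lit 3331))
) (.node (nat_lit 0xc40822a76) (.leaf (nat_lit 0xc40822a56) (nat_lit 2819))
 (.node (nat_lit 0xc40823216) (.leaf (nat_lit 0xc40822a76) (nat_lit 3331))
 (.leaf (nat_lit 0xc40823216) (nat_lit 3076))
))) (.node (nat_lit 0xc40832206) (.node (nat_lit 0xc40823a56) (.leaf (nat_lit 0xc40823236) (nat_lit 3075))
 (.node (nat_lit 0xc40823a76) (.leaf (nat_lit 0xc40823a56) (nat_lit 3075))
 (.leaf (nat_lit 0xc40823a76) (nat_lit 3328))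
)) (.node (nat_lit 0xc40832226) (.leaf (nat_lit 0xc40832206) (nat_lit 1536))
 (.node (nat_lit 0xc40832a46) (.leaf (nat_lit 0xc40832226) (nat_lit 2562))
 (.leaf (nat_lit 0xc40832a46) (nat_lit 3331))
))))) (.node (nat_lit 0xc40843666) (.node (nat_lit 0xc40842646) (.node (nat_lit 0xc40833226) (.node (nat_lit 0xc40833206) (.leaf (nat_lit 0xc40832a66) (nat_lit 2561))
 (.leaf (nat_lit 0xc40833206) (nat_lit 1792))
) (.node (nat_lit 0xc40833a46) (.leaf (nat_lit 0xc40833226) (nat_lit 2818))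
 (.node (nat_lit 0xc40833a66) (.leaf (nat_lit 0xc40833a46) (nat_lit 3330))
 (.leaf (nat_lit 0xc40833a66) (nat_lit 2305))
))) (.node (nat_lit 0xc40842e06) (.node (nat_lit 0xc40842666) (.leaf (nat_lit 0xc40842646) (nat_lit 3331))
 (.leaf (nat_lit 0xc40842666) (nat_lit 2560))
) (.node (nat_lit 0xc40842e26) (.leaf (nat_lit 0xc40842e06) (nat_lit 2048))
 (.node (nat_lit 0xc40843646) (.leaf (nat_lit 0xc40842e26) (nat_lit 3328))
 (.leaf (nat_lit 0xc40843646) (nat_lit 3075))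
)))) (.node (nat_lit 0xc40852e16) (.node (nat_lit 0xc40843e26) (.node (nat_lit 0xc40843e06) (.leaf (nat_lit 0xc40843666) (nat_lit 2816))
 (.leaf (nat_lit 0xc40843e06) (nat_lit 1792))
) (.node (nat_lit 0xc40852656) (.leaf (nat_lit 0xc40843e26) (nat_lit 3072))
 (.node (nat_lit 0xc40852676) (.leaf (nat_lit 0xc40852656) (nat_lit 2305))
 (.leaf (nat_lit 0xc40852676) (nat_lit 3331))
))) (.node (nat_lit 0xc40853676) (.node (nat_lit 0xc40852e36) (.leaf (nat_lit 0xc40852e16) (nat_lit 3328))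
 (.node (nat_lit 0xc40853656) (.leaf (nat_lit 0xc40852e36) (nat_lit 2305))
 (.leaf (nat_lit 0xc40853656) (nat_lit 2049))
)) (.node (nat_lit 0xc40853e16) (.leaf (nat_lit 0xc40853676) (nat_lit 3075))
 (.node (nat_lit 0xc40853e36) (.leaf (nat_lit 0xc40853e16) (nat_lit 3072))
 (.leaf (nat_lit 0xc40853e36) (nat_lit 2561))
))))))))) (.node (nat_lit 0xc5043420e) (.node (nat_lit 0xc41803386) (.node (nat_lit 0xc41434796) (.node (nat_lit 0xc414053d6) (.node (nat_lit 0xc40872e06) (.node (nat_lit 0xc40863676) (.node (nat_lit 0xc40862e16) (.node (nat_lit 0xc40862676) (.leaf (nat_lit 0xc40862656) (nat_lit 2561))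
 (.leaf (nat_lit 0xc40862676) (nat_lit 3331))
) (.node (nat_lit 0xc40862e36) (.leaf (nat_lit 0xc40862e16) (nat_lit 3075))
 (.node (nat_lit 0xc40863656) (.leaf (nat_lit 0xc40862e36) (nat_lit 2561))
 (.leaf (nat_lit 0xc40863656) (nat_lit 2305))
))) (.node (nat_lit 0xc40863e36) (.node (nat_lit 0xc40863e16) (.leaf (nat_lit 0xc40863676) (nat_lit 3328))
 (.leaf (nat_lit 0xc40863e16) (nat_lit 2819))
) (.node (nat_lit 0xc40872646) (.leaf (nat_lit 0xc40863e36) (nat_lit 2817))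
 (.node (nat_lit 0xc40872666) (.leaf (nat_lit 0xc40872646) (nat_lit 3331))
 (.leaf (nat_lit 0xc40872666) (nat_lit 2307))
)))) (.node (nat_lit 0xc40873e26) (.node (nat_lit 0xc40873646) (.node (nat_lit 0xc40872e26) (.leaf (nat_lit 0xc40872e06) (nat_lit 1795))
 (.leaf (nat_lit 0xc40872e26) (nat_lit 3075))
) (.node (nat_lit 0xc40873666) (.leaf (nat_lit 0xc40873646) (nat_lit 3328))
 (.node (nat_lit 0xc40873e06) (.leaf (nat_lit 0xc40873666) (nat_lit 2563))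
 (.leaf (nat_lit 0xc40873e06) (nat_lit 1539))
))) (.node (nat_lit 0xc41404796) (.node (nat_lit 0xc41404386) (.leaf (nat_lit 0xc40873e26) (nat_lit 2819))
 (.node (nat_lit 0xc414043d6) (.leaf (nat_lit 0xc41404386) (nat_lit 1283))
 (.leaf (nat_lit 0xc414043d6) (nat_lit 2306))
)) (.node (nat_lit 0xc414047c6) (.leaf (nat_lit 0xc41404796) (nat_lit 2820))
 (.node (nat_lit 0xc41405386) (.leaf (nat_lit 0xc414047c6) (nat_lit 3328))
 (.leaf (nat_lit 0xc41405386) (nat_lit 1539))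
))))) (.node (nat_lit 0xc41415fe6) (.node (nat_lit 0xc41414fb6) (.node (nat_lit 0xc414057c6) (.node (nat_lit 0xc41405796) (.leaf (nat_lit 0xc414053d6) (nat_lit 2562))
 (.leaf (nat_lit 0xc41405796) (nat_lit 3076))
) (.node (nat_lit 0xc41414ba6) (.leaf (nat_lit 0xc414057c6) (nat_lit 3072))
 (.node (nat_lit 0xc41414bf6) (.leaf (nat_lit 0xc41414ba6) (nat_lit 2305))
 (.leaf (nat_lit 0xc41414bf6) (nat_lit 3074))
))) (.node (nat_lit 0xc41415ba6) (.node (nat_lit 0xc41414fe6) (.leaf (nat_lit 0xc41414fb6) (nat_lit 3331))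
 (.leaf (nat_lit 0xc41414fe6) (nat_lit 2563))
) (.node (nat_lit 0xc41415bf6) (.leaf (nat_lit 0xc41415ba6) (nat_lit 2561))
 (.node (nat_lit 0xc41415fb6) (.leaf (nat_lit 0xc41415bf6) (nat_lit 3330))
 (.leaf (nat_lit 0xc41415fb6) (nat_lit 3075))
)))) (.node (nat_lit 0xc41425ba6) (.node (nat_lit 0xc41424bf6) (.node (nat_lit 0xc41424ba6) (.leaf (nat_lit 0xc41415fe6) (nat_lit 2307))
 (.leaf (nat_lit 0xc41424ba6) (nat_lit 2049))
) (.node (nat_lit 0xc41424fb6) (.leaf (nat_lit 0xc41424bf6) (nat_lit 2818))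
 (.node (nat_lit 0xc41424fe6) (.leaf (nat_lit 0xc41424fb6) (nat_lit 3073))
 (.leaf (nat_lit 0xc41424fe6) (nat_lit 2816))
))) (.node (nat_lit 0xc41425fe6) (.node (nat_lit 0xc41425bf6) (.leaf (nat_lit 0xc41425ba6) (nat_lit 2305))
 (.node (nat_lit 0xc41425fb6) (.leaf (nat_lit 0xc41425bf6) (nat_lit 3074))
 (.leaf (nat_lit 0xc41425fb6) (nat_lit 3329))
)) (.node (nat_lit 0xc41434386) (.leaf (nat_lit 0xc41425fe6) (nat_lit 2560))
 (.node (nat_lit 0xc414343d6) (.leaf (nat_lit 0xc41434386) (nat_lit 1536))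
 (.leaf (nat_lit 0xc414343d6) (nat_lit 2562))
)))))) (.node (nat_lit 0xc414557f6) (.node (nat_lit 0xc41445b96) (.node (nat_lit 0xc414357c6) (.node (nat_lit 0xc41435386) (.node (nat_lit 0xc414347c6) (.leaf (nat_lit 0xc41434796) (nat_lit 3076))
 (.leaf (nat_lit 0xc414347c6) (nat_lit 3075))
) (.node (nat_lit 0xc414353d6) (.leaf (nat_lit 0xc41435386) (nat_lit 1792))
 (.node (nat_lit 0xc41435796) (.leaf (nat_lit 0xc414353d6) (nat_lit 2818))
 (.leaf (nat_lit 0xc41435796) (nat_lit 3332))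
))) (.node (nat_lit 0xc41444bc6) (.node (nat_lit 0xc41444b96) (.leaf (nat_lit 0xc414357c6) (nat_lit 2819))
 (.leaf (nat_lit 0xc41444b96) (nat_lit 3584))
) (.node (nat_lit 0xc41444f86) (.leaf (nat_lit 0xc41444bc6) (nat_lit 2305))
 (.node (nat_lit 0xc41444fd6) (.leaf (nat_lit 0xc41444f86) (nat_lit 2048))
 (.leaf (nat_lit 0xc41444fd6) (nat_lit 3328))
)))) (.node (nat_lit 0xc414543e6) (.node (nat_lit 0xc41445f86) (.node (nat_lit 0xc41445bc6) (.leaf (nat_lit 0xc41445b96) (nat_lit 3328))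
 (.leaf (nat_lit 0xc41445bc6) (nat_lit 2561))
) (.node (nat_lit 0xc41445fd6) (.leaf (nat_lit 0xc41445f86) (nat_lit 1792))
 (.node (nat_lit 0xc414543b6) (.leaf (nat_lit 0xc41445fd6) (nat_lit 3072))
 (.leaf (nat_lit 0xc414543b6) (nat_lit 2818))
))) (.node (nat_lit 0xc414553b6) (.node (nat_lit 0xc414547a6) (.leaf (nat_lit 0xc414543e6) (nat_lit 2050))
 (.node (nat_lit 0xc414547f6) (.leaf (nat_lit 0xc414547a6) (nat_lit 2819))
 (.leaf (nat_lit 0xc414547f6) (nat_lit 3332))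
)) (.node (nat_lit 0xc414553e6) (.leaf (nat_lit 0xc414553b6) (nat_lit 3074))
 (.node (nat_lit 0xc414557a6) (.leaf (nat_lit 0xc414553e6) (nat_lit 2306))
 (.leaf (nat_lit 0xc414557a6) (nat_lit 2563))
))))) (.node (nat_lit 0xc41474bc6) (.node (nat_lit 0xc414653b6) (.node (nat_lit 0xc414643e6) (.node (nat_lit 0xc414643b6) (.leaf (nat_lit 0xc414557f6) (nat_lit 3331))
 (.leaf (nat_lit 0xc414643b6) (nat_lit 2562))
) (.node (nat_lit 0xc414647a6) (.leaf (nat_lit 0xc414643e6) (nat_lit 1794))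
 (.node (nat_lit 0xc414647f6) (.leaf (nat_lit 0xc414647a6) (nat_lit 3072))
 (.leaf (nat_lit 0xc414647f6) (nat_lit 3076))
))) (.node (nat_lit 0xc414657a6) (.node (nat_lit 0xc414653e6) (.leaf (nat_lit 0xc414653b6) (nat_lit 2818))
 (.leaf (nat_lit 0xc414653e6) (nat_lit 2050))
) (.node (nat_lit 0xc414657f6) (.leaf (nat_lit 0xc414657a6) (nat_lit 2816))
 (.node (nat_lit 0xc41474b96) (.leaf (nat_lit 0xc414657f6) (nat_lit 3332))
 (.leaf (nat_lit 0xc41474b96) (nat_lit 3331))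
)))) (.node (nat_lit 0xc41475f86) (.node (nat_lit 0xc41474fd6) (.node (nat_lit 0xc41474f86) (.leaf (nat_lit 0xc41474bc6) (nat_lit 2561))
 (.leaf (nat_lit 0xc41474f86) (nat_lit 1795))
) (.node (nat_lit 0xc41475b96) (.leaf (nat_lit 0xc41474fd6) (nat_lit 3075))
 (.node (nat_lit 0xc41475bc6) (.leaf (nat_lit 0xc41475b96) (nat_lit 3075))
 (.leaf (nat_lit 0xc41475bc6) (nat_lit 2817))
))) (.node (nat_lit 0xc418023e6) (.node (nat_lit 0xc41475fd6) (.leaf (nat_lit 0xc41475f86) (nat_lit 1539))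
 (.node (nat_lit 0xc41802386) (.leaf (nat_lit 0xc41475fd6) (nat_lit 2819))
 (.leaf (nat_lit 0xc41802386) (nat_lit 1284))
)) (.node (nat_lit 0xc41802ba6) (.leaf (nat_lit 0xc418023e6) (nat_lit 2052))
 (.node (nat_lit 0xc41802bc6) (.leaf (nat_lit 0xc41802ba6) (nat_lit 2052))
 (.leaf (nat_lit 0xc41802bc6) (nat_lit 2820))
))))))) (.node (nat_lit 0xc41853b96) (.node (nat_lit 0xc418323e6) (.node (nat_lit 0xc41813fb6) (.node (nat_lit 0xc418127f6) (.node (nat_lit 0xc41803ba6) (.node (nat_lit 0xc418033e6) (.leaf (nat_lit 0xc41803386) (nat_lit 1540))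
 (.leaf (nat_lit 0xc418033e6) (nat_lit 2308))
) (.node (nat_lit 0xc41803bc6) (.leaf (nat_lit 0xc41803ba6) (nat_lit 2308))
 (.node (nat_lit 0xc41812796) (.leaf (nat_lit 0xc41803bc6) (nat_lit 3076))
 (.leaf (nat_lit 0xc41812796) (nat_lit 2561))
))) (.node (nat_lit 0xc41812fd6) (.node (nat_lit 0xc41812fb6) (.leaf (nat_lit 0xc418127f6) (nat_lit 3331))
 (.leaf (nat_lit 0xc41812fb6) (nat_lit 3073))
) (.node (nat_lit 0xc41813796) (.leaf (nat_lit 0xc41812fd6) (nat_lit 3328))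
 (.node (nat_lit 0xc418137f6) (.leaf (nat_lit 0xc41813796) (nat_lit 2817))
 (.leaf (nat_lit 0xc418137f6) (nat_lit 3328))
)))) (.node (nat_lit 0xc41822fd6) (.node (nat_lit 0xc41822796) (.node (nat_lit 0xc41813fd6) (.leaf (nat_lit 0xc41813fb6) (nat_lit 3329))
 (.leaf (nat_lit 0xc41813fd6) (nat_lit 3072))
) (.node (nat_lit 0xc418227f6) (.leaf (nat_lit 0xc41822796) (nat_lit 2817))
 (.node (nat_lit 0xc41822fb6) (.leaf (nat_lit 0xc418227f6) (nat_lit 3331))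
 (.leaf (nat_lit 0xc41822fb6) (nat_lit 3329))
))) (.node (nat_lit 0xc41823fb6) (.node (nat_lit 0xc41823796) (.leaf (nat_lit 0xc41822fd6) (nat_lit 3075))
 (.node (nat_lit 0xc418237f6) (.leaf (nat_lit 0xc41823796) (nat_lit 3073))
 (.leaf (nat_lit 0xc418237f6) (nat_lit 3075))
)) (.node (nat_lit 0xc41823fd6) (.leaf (nat_lit 0xc41823fb6) (nat_lit 3331))
 (.node (nat_lit 0xc41832386) (.leaf (nat_lit 0xc41823fd6) (nat_lit 2819))
 (.leaf (nat_lit 0xc41832386) (nat_lit 1540))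
))))) (.node (nat_lit 0xc41842fe6) (.node (nat_lit 0xc41833ba6) (.node (nat_lit 0xc41832bc6) (.node (nat_lit 0xc41832ba6) (.leaf (nat_lit 0xc418323e6) (nat_lit 2308))
 (.leaf (nat_lit 0xc41832ba6) (nat_lit 2308))
) (.node (nat_lit 0xc41833386) (.leaf (nat_lit 0xc41832bc6) (nat_lit 3076))
 (.node (nat_lit 0xc418333e6) (.leaf (nat_lit 0xc41833386) (nat_lit 1796))
 (.leaf (nat_lit 0xc418333e6) (nat_lit 2564))
))) (.node (nat_lit 0xc418427a6) (.node (nat_lit 0xc41833bc6) (.leaf (nat_lit 0xc41833ba6) (nat_lit 2564))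
 (.leaf (nat_lit 0xc41833bc6) (nat_lit 3332))
) (.node (nat_lit 0xc418427c6) (.leaf (nat_lit 0xc418427a6) (nat_lit 3328))
 (.node (nat_lit 0xc41842f86) (.leaf (nat_lit 0xc418427c6) (nat_lit 3073))
 (.leaf (nat_lit 0xc41842f86) (nat_lit 2304))
)))) (.node (nat_lit 0xc418523b6) (.node (nat_lit 0xc418437c6) (.node (nat_lit 0xc418437a6) (.leaf (nat_lit 0xc41842fe6) (nat_lit 3072))
 (.leaf (nat_lit 0xc418437a6) (nat_lit 3072))
) (.node (nat_lit 0xc41843f86) (.leaf (nat_lit 0xc418437c6) (nat_lit 3329))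
 (.node (nat_lit 0xc41843fe6) (.leaf (nat_lit 0xc41843f86) (nat_lit 2048))
 (.leaf (nat_lit 0xc41843fe6) (nat_lit 2816))
))) (.node (nat_lit 0xc41852bf6) (.node (nat_lit 0xc418523d6) (.leaf (nat_lit 0xc418523b6) (nat_lit 2562))
 (.node (nat_lit 0xc41852b96) (.leaf (nat_lit 0xc418523d6) (nat_lit 2306))
 (.leaf (nat_lit 0xc41852b96) (nat_lit 3584))
)) (.node (nat_lit 0xc418533b6) (.leaf (nat_lit 0xc41852bf6) (nat_lit 2819))
 (.node (nat_lit 0xc418533d6) (.leaf (nat_lit 0xc418533b6) (nat_lit 2818))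
 (.leaf (nat_lit 0xc418533d6) (nat_lit 2562))
)))))) (.node (nat_lit 0xc5040465e) (.node (nat_lit 0xc418727a6) (.node (nat_lit 0xc41862bf6) (.node (nat_lit 0xc418623b6) (.node (nat_lit 0xc41853bf6) (.leaf (nat_lit 0xc41853b96) (nat_lit 3328))
 (.leaf (nat_lit 0xc41853bf6) (nat_lit 3075))
) (.node (nat_lit 0xc418623d6) (.leaf (nat_lit 0xc418623b6) (nat_lit 2818))
 (.node (nat_lit 0xc41862b96) (.leaf (nat_lit 0xc418623d6) (nat_lit 2562))
 (.leaf (nat_lit 0xc41862b96) (nat_lit 3331))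
))) (.node (nat_lit 0xc418633d6) (.node (nat_lit 0xc418633b6) (.leaf (nat_lit 0xc41862bf6) (nat_lit 3072))
 (.leaf (nat_lit 0xc418633b6) (nat_lit 3074))
) (.node (nat_lit 0xc41863b96) (.leaf (nat_lit 0xc418633d6) (nat_lit 2818))
 (.node (nat_lit 0xc41863bf6) (.leaf (nat_lit 0xc41863b96) (nat_lit 3075))
 (.leaf (nat_lit 0xc41863bf6) (nat_lit 3328))
)))) (.node (nat_lit 0xc418737c6) (.node (nat_lit 0xc41872f86) (.node (nat_lit 0xc418727c6) (.leaf (nat_lit 0xc418727a6) (nat_lit 3075))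
 (.leaf (nat_lit 0xc418727c6) (nat_lit 3329))
) (.node (nat_lit 0xc41872fe6) (.leaf (nat_lit 0xc41872f86) (nat_lit 2051))
 (.node (nat_lit 0xc418737a6) (.leaf (nat_lit 0xc41872fe6) (nat_lit 2819))
 (.leaf (nat_lit 0xc418737a6) (nat_lit 2819))
))) (.node (nat_lit 0xc5040420e) (.node (nat_lit 0xc41873f86) (.leaf (nat_lit 0xc418737c6) (nat_lit 3331))
 (.node (nat_lit 0xc41873fe6) (.leaf (nat_lit 0xc41873f86) (nat_lit 1795))
 (.leaf (nat_lit 0xc41873fe6) (nat_lit 2563))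
)) (.node (nat_lit 0xc5040421e) (.leaf (nat_lit 0xc5040420e) (nat_lit 1027))
 (.node (nat_lit 0xc5040464e) (.leaf (nat_lit 0xc5040421e) (nat_lit 3075))
 (.leaf (nat_lit 0xc5040464e) (nat_lit 2051))
))))) (.node (nat_lit 0xc5041527e) (.node (nat_lit 0xc5041422e) (.node (nat_lit 0xc5040525e) (.node (nat_lit 0xc5040524e) (.leaf (nat_lit 0xc5040465e) (nat_lit 3073))
 (.leaf (nat_lit 0xc5040524e) (nat_lit 1283))
) (.node (nat_lit 0xc5040560e) (.leaf (nat_lit 0xc5040525e) (nat_lit 3331))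
 (.node (nat_lit 0xc5040561e) (.leaf (nat_lit 0xc5040560e) (nat_lit 1795))
 (.leaf (nat_lit 0xc5040561e) (nat_lit 3329))
))) (.node (nat_lit 0xc5041466e) (.node (nat_lit 0xc5041423e) (.leaf (nat_lit 0xc5041422e) (nat_lit 2048))
 (.leaf (nat_lit 0xc5041423e) (nat_lit 3075))
) (.node (nat_lit 0xc5041467e) (.leaf (nat_lit 0xc5041466e) (nat_lit 2820))
 (.node (nat_lit 0xc5041526e) (.leaf (nat_lit 0xc5041467e) (nat_lit 2307))
 (.leaf (nat_lit 0xc5041526e) (nat_lit 2304))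
)))) (.node (nat_lit 0xc5042466e) (.node (nat_lit 0xc5041563e) (.node (nat_lit 0xc5041562e) (.leaf (nat_lit 0xc5041527e) (nat_lit 2819))
 (.leaf (nat_lit 0xc5041562e) (nat_lit 2564))
) (.node (nat_lit 0xc5042422e) (.leaf (nat_lit 0xc5041563e) (nat_lit 2563))
 (.node (nat_lit 0xc5042423e) (.leaf (nat_lit 0xc5042422e) (nat_lit 1795))
 (.leaf (nat_lit 0xc5042423e) (nat_lit 3328))
))) (.node (nat_lit 0xc5042527e) (.node (nat_lit 0xc5042467e) (.leaf (nat_lit 0xc5042466e) (nat_lit 2564))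
 (.node (nat_lit 0xc5042526e) (.leaf (nat_lit 0xc5042467e) (nat_lit 2563))
 (.leaf (nat_lit 0xc5042526e) (nat_lit 2051))
)) (.node (nat_lit 0xc5042562e) (.leaf (nat_lit 0xc5042527e) (nat_lit 3072))
 (.node (nat_lit 0xc5042563e) (.leaf (nat_lit 0xc5042562e) (nat_lit 2308))
 (.leaf (nat_lit 0xc5042563e) (nat_lit 2819))
)))))))) (.node (nat_lit 0xc5085b25e) (.node (nat_lit 0xc5080aa5e) (.node (nat_lit 0xc50455a1e) (.node (nat_lit 0xc50444e2e) (.node (nat_lit 0xc5043525e) (.node (nat_lit 0xc5043464e) (.node (nat_lit 0xc5043421e) (.leaf (nat_lit 0xc5043420e) (nat_lit 1280))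
 (.leaf (nat_lit 0xc5043421e) (nat_lit 3328))
) (.node (nat_lit 0xc5043465e) (.leaf (nat_lit 0xc5043464e) (nat_lit 2304))
 (.node (nat_lit 0xc5043524e) (.leaf (nat_lit 0xc5043465e) (nat_lit 2817))
 (.leaf (nat_lit 0xc5043524e) (nat_lit 1536))
))) (.node (nat_lit 0xc5043561e) (.node (nat_lit 0xc5043560e) (.leaf (nat_lit 0xc5043525e) (nat_lit 3584))
 (.leaf (nat_lit 0xc5043560e) (nat_lit 2048))
) (.node (nat_lit 0xc50444a6e) (.leaf (nat_lit 0xc5043561e) (nat_lit 3073))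
 (.node (nat_lit 0xc50444a7e) (.leaf (nat_lit 0xc50444a6e) (nat_lit 2307))
 (.leaf (nat_lit 0xc50444a7e) (nat_lit 2816))
)))) (.node (nat_lit 0xc50445e7e) (.node (nat_lit 0xc50445a2e) (.node (nat_lit 0xc50444e3e) (.leaf (nat_lit 0xc50444e2e) (nat_lit 3076))
 (.leaf (nat_lit 0xc50444e3e) (nat_lit 2049))
) (.node (nat_lit 0xc50445a3e) (.leaf (nat_lit 0xc50445a2e) (nat_lit 2051))
 (.node (nat_lit 0xc50445e6e) (.leaf (nat_lit 0xc50445a3e) (nat_lit 3072))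
 (.leaf (nat_lit 0xc50445e6e) (nat_lit 3332))
))) (.node (nat_lit 0xc50454e0e) (.node (nat_lit 0xc50454a4e) (.leaf (nat_lit 0xc50445e7e) (nat_lit 1793))
 (.node (nat_lit 0xc50454a5e) (.leaf (nat_lit 0xc50454a4e) (nat_lit 1792))
 (.leaf (nat_lit 0xc50454a5e) (nat_lit 3332))
)) (.node (nat_lit 0xc50454e1e) (.leaf (nat_lit 0xc50454e0e) (nat_lit 2304))
 (.node (nat_lit 0xc50455a0e) (.leaf (nat_lit 0xc50454e1e) (nat_lit 2817))
 (.leaf (nat_lit 0xc50455a0e) (nat_lit 1536))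
))))) (.node (nat_lit 0xc50465e5e) (.node (nat_lit 0xc50464e0e) (.node (nat_lit 0xc50455e5e) (.node (nat_lit 0xc50455e4e) (.leaf (nat_lit 0xc50455a1e) (nat_lit 3588))
 (.leaf (nat_lit 0xc50455e4e) (nat_lit 2560))
) (.node (nat_lit 0xc50464a4e) (.leaf (nat_lit 0xc50455e5e) (nat_lit 2561))
 (.node (nat_lit 0xc50464a5e) (.leaf (nat_lit 0xc50464a4e) (nat_lit 1539))
 (.leaf (nat_lit 0xc50464a5e) (nat_lit 3587))
))) (.node (nat_lit 0xc50465a0e) (.node (nat_lit 0xc50464e1e) (.leaf (nat_lit 0xc50464e0e) (nat_lit 2051))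
 (.leaf (nat_lit 0xc50464e1e) (nat_lit 3073))
) (.node (nat_lit 0xc50465a1e) (.leaf (nat_lit 0xc50465a0e) (nat_lit 1283))
 (.node (nat_lit 0xc50465e4e) (.leaf (nat_lit 0xc50465a1e) (nat_lit 3331))
 (.leaf (nat_lit 0xc50465e4e) (nat_lit 2307))
)))) (.node (nat_lit 0xc50475a2e) (.node (nat_lit 0xc50474a7e) (.node (nat_lit 0xc50474a6e) (.leaf (nat_lit 0xc50465e5e) (nat_lit 2817))
 (.leaf (nat_lit 0xc50474a6e) (nat_lit 2560))
) (.node (nat_lit 0xc50474e2e) (.leaf (nat_lit 0xc50474a7e) (nat_lit 2563))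
 (.node (nat_lit 0xc50474e3e) (.leaf (nat_lit 0xc50474e2e) (nat_lit 3332))
 (.leaf (nat_lit 0xc50474e3e) (nat_lit 1793))
))) (.node (nat_lit 0xc50475e7e) (.node (nat_lit 0xc50475a3e) (.leaf (nat_lit 0xc50475a2e) (nat_lit 2304))
 (.node (nat_lit 0xc50475e6e) (.leaf (nat_lit 0xc50475a3e) (nat_lit 2819))
 (.leaf (nat_lit 0xc50475e6e) (nat_lit 3588))
)) (.node (nat_lit 0xc5080a20e) (.leaf (nat_lit 0xc50475e7e) (nat_lit 1537))
 (.node (nat_lit 0xc5080a22e) (.leaf (nat_lit 0xc5080a20e) (nat_lit 1281))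
 (.leaf (nat_lit 0xc5080a22e) (nat_lit 2306))
)))))) (.node (nat_lit 0xc5082be6e) (.node (nat_lit 0xc5081b61e) (.node (nat_lit 0xc5080be7e) (.node (nat_lit 0xc5080b60e) (.node (nat_lit 0xc5080aa7e) (.leaf (nat_lit 0xc5080aa5e) (nat_lit 3328))
 (.leaf (nat_lit 0xc5080aa7e) (nat_lit 2820))
) (.node (nat_lit 0xc5080b62e) (.leaf (nat_lit 0xc5080b60e) (nat_lit 2051))
 (.node (nat_lit 0xc5080be5e) (.leaf (nat_lit 0xc5080b62e) (nat_lit 2818))
 (.leaf (nat_lit 0xc5080be5e) (nat_lit 3329))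
))) (.node (nat_lit 0xc5081a23e) (.node (nat_lit 0xc5081a21e) (.leaf (nat_lit 0xc5080be7e) (nat_lit 2049))
 (.leaf (nat_lit 0xc5081a21e) (nat_lit 2563))
) (.node (nat_lit 0xc5081aa4e) (.leaf (nat_lit 0xc5081a23e) (nat_lit 3074))
 (.node (nat_lit 0xc5081aa6e) (.leaf (nat_lit 0xc5081aa4e) (nat_lit 2048))
 (.leaf (nat_lit 0xc5081aa6e) (nat_lit 3328))
)))) (.node (nat_lit 0xc5082a23e) (.node (nat_lit 0xc5081be4e) (.node (nat_lit 0xc5081b63e) (.leaf (nat_lit 0xc5081b61e) (nat_lit 3076))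
 (.leaf (nat_lit 0xc5081b63e) (nat_lit 3072))
) (.node (nat_lit 0xc5081be6e) (.leaf (nat_lit 0xc5081be4e) (nat_lit 2816))
 (.node (nat_lit 0xc5082a21e) (.leaf (nat_lit 0xc5081be6e) (nat_lit 3075))
 (.leaf (nat_lit 0xc5082a21e) (nat_lit 2816))
))) (.node (nat_lit 0xc5082b61e) (.node (nat_lit 0xc5082aa4e) (.leaf (nat_lit 0xc5082a23e) (nat_lit 3331))
 (.node (nat_lit 0xc5082aa6e) (.leaf (nat_lit 0xc5082aa4e) (nat_lit 1795))
 (.leaf (nat_lit 0xc5082aa6e) (nat_lit 3075))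
)) (.node (nat_lit 0xc5082b63e) (.leaf (nat_lit 0xc5082b61e) (nat_lit 3332))
 (.node (nat_lit 0xc5082be4e) (.leaf (nat_lit 0xc5082b63e) (nat_lit 2819))
 (.leaf (nat_lit 0xc5082be4e) (nat_lit 2563))
))))) (.node (nat_lit 0xc5084a66e) (.node (nat_lit 0xc5083b60e) (.node (nat_lit 0xc5083a22e) (.node (nat_lit 0xc5083a20e) (.leaf (nat_lit 0xc5082be6e) (nat_lit 3328))
 (.leaf (nat_lit 0xc5083a20e) (nat_lit 1537))
) (.node (nat_lit 0xc5083aa5e) (.leaf (nat_lit 0xc5083a22e) (nat_lit 2562))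
 (.node (nat_lit 0xc5083aa7e) (.leaf (nat_lit 0xc5083aa5e) (nat_lit 3075))
 (.leaf (nat_lit 0xc5083aa7e) (nat_lit 3076))
))) (.node (nat_lit 0xc5083be5e) (.node (nat_lit 0xc5083b62e) (.leaf (nat_lit 0xc5083b60e) (nat_lit 2304))
 (.leaf (nat_lit 0xc5083b62e) (nat_lit 3074))
) (.node (nat_lit 0xc5083be7e) (.leaf (nat_lit 0xc5083be5e) (nat_lit 3585))
 (.node (nat_lit 0xc5084a64e) (.leaf (nat_lit 0xc5083be7e) (nat_lit 2305))
 (.leaf (nat_lit 0xc5084a64e) (nat_lit 2307))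
)))) (.node (nat_lit 0xc5084ba1e) (.node (nat_lit 0xc5084ae3e) (.node (nat_lit 0xc5084ae1e) (.leaf (nat_lit 0xc5084a66e) (nat_lit 3074))
 (.leaf (nat_lit 0xc5084ae1e) (nat_lit 3585))
) (.node (nat_lit 0xc5084b24e) (.leaf (nat_lit 0xc5084ae3e) (nat_lit 2305))
 (.node (nat_lit 0xc5084b26e) (.leaf (nat_lit 0xc5084b24e) (nat_lit 1537))
 (.leaf (nat_lit 0xc5084b26e) (nat_lit 2562))
))) (.node (nat_lit 0xc5085a67e) (.node (nat_lit 0xc5084ba3e) (.leaf (nat_lit 0xc5084ba1e) (nat_lit 3072))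
 (.node (nat_lit 0xc5085a65e) (.leaf (nat_lit 0xc5084ba3e) (nat_lit 3076))
 (.leaf (nat_lit 0xc5085a65e) (nat_lit 3332))
)) (.node (nat_lit 0xc5085ae0e) (.leaf (nat_lit 0xc5085a67e) (nat_lit 2816))
 (.node (nat_lit 0xc5085ae2e) (.leaf (nat_lit 0xc5085ae0e) (nat_lit 2560))
 (.leaf (nat_lit 0xc5085ae2e) (nat_lit 3331))
))))))) (.node (nat_lit 0xc51025dae) (.node (nat_lit 0xc510041ce) (.node (nat_lit 0xc5086ba0e) (.node (nat_lit 0xc5086a67e) (.node (nat_lit 0xc5085ba0e) (.node (nat_lit 0xc5085b27e) (.leaf (nat_lit 0xc5085b25e) (nat_lit 2819))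
 (.leaf (nat_lit 0xc5085b27e) (nat_lit 3330))
) (.node (nat_lit 0xc5085ba2e) (.leaf (nat_lit 0xc5085ba0e) (nat_lit 1792))
 (.node (nat_lit 0xc5086a65e) (.leaf (nat_lit 0xc5085ba2e) (nat_lit 3072))
 (.leaf (nat_lit 0xc5086a65e) (nat_lit 3588))
))) (.node (nat_lit 0xc5086ae2e) (.node (nat_lit 0xc5086ae0e) (.leaf (nat_lit 0xc5086a67e) (nat_lit 2563))
 (.leaf (nat_lit 0xc5086ae0e) (nat_lit 2307))
) (.node (nat_lit 0xc5086b25e) (.leaf (nat_lit 0xc5086ae2e) (nat_lit 3331))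
 (.node (nat_lit 0xc5086b27e) (.leaf (nat_lit 0xc5086b25e) (nat_lit 3072))
 (.leaf (nat_lit 0xc5086b27e) (nat_lit 3075))
)))) (.node (nat_lit 0xc5087ae3e) (.node (nat_lit 0xc5087a64e) (.node (nat_lit 0xc5086ba2e) (.leaf (nat_lit 0xc5086ba0e) (nat_lit 1539))
 (.leaf (nat_lit 0xc5086ba2e) (nat_lit 2819))
) (.node (nat_lit 0xc5087a66e) (.leaf (nat_lit 0xc5087a64e) (nat_lit 2560))
 (.node (nat_lit 0xc5087ae1e) (.leaf (nat_lit 0xc5087a66e) (nat_lit 3330))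
 (.leaf (nat_lit 0xc5087ae1e) (nat_lit 3587))
))) (.node (nat_lit 0xc5087ba1e) (.node (nat_lit 0xc5087b24e) (.leaf (nat_lit 0xc5087ae3e) (nat_lit 2561))
 (.node (nat_lit 0xc5087b26e) (.leaf (nat_lit 0xc5087b24e) (nat_lit 1793))
 (.leaf (nat_lit 0xc5087b26e) (nat_lit 2818))
)) (.node (nat_lit 0xc5087ba3e) (.leaf (nat_lit 0xc5087ba1e) (nat_lit 2819))
 (.node (nat_lit 0xc5100418e) (.leaf (nat_lit 0xc5087ba3e) (nat_lit 3332))
 (.leaf (nat_lit 0xc5100418e) (nat_lit 1283))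
))))) (.node (nat_lit 0xc51014dfe) (.node (nat_lit 0xc5100558e) (.node (nat_lit 0xc510045de) (.node (nat_lit 0xc5100459e) (.leaf (nat_lit 0xc510041ce) (nat_lit 1539))
 (.leaf (nat_lit 0xc5100459e) (nat_lit 2819))
) (.node (nat_lit 0xc5100519e) (.leaf (nat_lit 0xc510045de) (nat_lit 3075))
 (.node (nat_lit 0xc510051de) (.leaf (nat_lit 0xc5100519e) (nat_lit 3332))
 (.leaf (nat_lit 0xc510051de) (nat_lit 3330))
))) (.node (nat_lit 0xc510149ae) (.node (nat_lit 0xc510055ce) (.leaf (nat_lit 0xc5100558e) (nat_lit 2051))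
 (.leaf (nat_lit 0xc510055ce) (nat_lit 2307))
) (.node (nat_lit 0xc510149ee) (.leaf (nat_lit 0xc510149ae) (nat_lit 2304))
 (.node (nat_lit 0xc51014dbe) (.leaf (nat_lit 0xc510149ee) (nat_lit 2560))
 (.leaf (nat_lit 0xc51014dbe) (nat_lit 3331))
)))) (.node (nat_lit 0xc510249ae) (.node (nat_lit 0xc510159fe) (.node (nat_lit 0xc510159be) (.leaf (nat_lit 0xc51014dfe) (nat_lit 3075))
 (.leaf (nat_lit 0xc510159be) (nat_lit 2819))
) (.node (nat_lit 0xc51015dae) (.leaf (nat_lit 0xc510159fe) (nat_lit 2563))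
 (.node (nat_lit 0xc51015dee) (.leaf (nat_lit 0xc51015dae) (nat_lit 2818))
 (.leaf (nat_lit 0xc51015dee) (nat_lit 3074))
))) (.node (nat_lit 0xc51024dfe) (.node (nat_lit 0xc510249ee) (.leaf (nat_lit 0xc510249ae) (nat_lit 2051))
 (.node (nat_lit 0xc51024dbe) (.leaf (nat_lit 0xc510249ee) (nat_lit 2307))
 (.leaf (nat_lit 0xc51024dbe) (nat_lit 3329))
)) (.node (nat_lit 0xc510259be) (.leaf (nat_lit 0xc51024dfe) (nat_lit 3328))
 (.node (nat_lit 0xc510259fe) (.leaf (nat_lit 0xc510259be) (nat_lit 3075))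
 (.leaf (nat_lit 0xc510259fe) (nat_lit 2819))
)))))) (.node (nat_lit 0xc51054dce) (.node (nat_lit 0xc510441be) (.node (nat_lit 0xc510345de) (.node (nat_lit 0xc5103418e) (.node (nat_lit 0xc51025dee) (.leaf (nat_lit 0xc51025dae) (nat_lit 2562))
 (.leaf (nat_lit 0xc51025dee) (nat_lit 2818))
) (.node (nat_lit 0xc510341ce) (.leaf (nat_lit 0xc5103418e) (nat_lit 1536))
 (.node (nat_lit 0xc5103459e) (.leaf (nat_lit 0xc510341ce) (nat_lit 1792))
 (.leaf (nat_lit 0xc5103459e) (nat_lit 3072))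
))) (.node (nat_lit 0xc510351de) (.node (nat_lit 0xc5103519e) (.leaf (nat_lit 0xc510345de) (nat_lit 3328))
 (.leaf (nat_lit 0xc5103519e) (nat_lit 3330))
) (.node (nat_lit 0xc5103558e) (.leaf (nat_lit 0xc510351de) (nat_lit 3074))
 (.node (nat_lit 0xc510355ce) (.leaf (nat_lit 0xc5103558e) (nat_lit 2304))
 (.leaf (nat_lit 0xc510355ce) (nat_lit 2560))
)))) (.node (nat_lit 0xc510451ee) (.node (nat_lit 0xc510445ae) (.node (nat_lit 0xc510441fe) (.leaf (nat_lit 0xc510441be) (nat_lit 2306))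
 (.leaf (nat_lit 0xc510441fe) (nat_lit 2050))
) (.node (nat_lit 0xc510445ee) (.leaf (nat_lit 0xc510445ae) (nat_lit 3330))
 (.node (nat_lit 0xc510451ae) (.leaf (nat_lit 0xc510445ee) (nat_lit 3586))
 (.leaf (nat_lit 0xc510451ae) (nat_lit 2307))
))) (.node (nat_lit 0xc5105499e) (.node (nat_lit 0xc510455be) (.leaf (nat_lit 0xc510451ee) (nat_lit 2563))
 (.node (nat_lit 0xc510455fe) (.leaf (nat_lit 0xc510455be) (nat_lit 3328))
 (.leaf (nat_lit 0xc510455fe) (nat_lit 3072))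
)) (.node (nat_lit 0xc510549de) (.leaf (nat_lit 0xc5105499e) (nat_lit 3073))
 (.node (nat_lit 0xc51054d8e) (.leaf (nat_lit 0xc510549de) (nat_lit 2817))
 (.leaf (nat_lit 0xc51054d8e) (nat_lit 2560))
))))) (.node (nat_lit 0xc510659ce) (.node (nat_lit 0xc5106499e) (.node (nat_lit 0xc510559ce) (.node (nat_lit 0xc5105598e) (.leaf (nat_lit 0xc51054dce) (nat_lit 2816))
 (.leaf (nat_lit 0xc5105598e) (nat_lit 1792))
) (.node (nat_lit 0xc51055d9e) (.leaf (nat_lit 0xc510559ce) (nat_lit 2048))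
 (.node (nat_lit 0xc51055dde) (.leaf (nat_lit 0xc51055d9e) (nat_lit 3328))
 (.leaf (nat_lit 0xc51055dde) (nat_lit 3584))
))) (.node (nat_lit 0xc51064d8e) (.node (nat_lit 0xc510649de) (.leaf (nat_lit 0xc5106499e) (nat_lit 3329))
 (.leaf (nat_lit 0xc510649de) (nat_lit 3073))
) (.node (nat_lit 0xc51064dce) (.leaf (nat_lit 0xc51064d8e) (nat_lit 2307))
 (.node (nat_lit 0xc5106598e) (.leaf (nat_lit 0xc51064dce) (nat_lit 2563))
 (.leaf (nat_lit 0xc5106598e) (nat_lit 1539))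
)))) (.node (nat_lit 0xc510745ae) (.node (nat_lit 0xc51065dde) (.node (nat_lit 0xc51065d9e) (.leaf (nat_lit 0xc510659ce) (nat_lit 1795))
 (.leaf (nat_lit 0xc51065d9e) (nat_lit 3075))
) (.node (nat_lit 0xc510741be) (.leaf (nat_lit 0xc51065dde) (nat_lit 3331))
 (.node (nat_lit 0xc510741fe) (.leaf (nat_lit 0xc510741be) (nat_lit 2050))
 (.leaf (nat_lit 0xc510741fe) (nat_lit 1794))
))) (.node (nat_lit 0xc510751ee) (.node (nat_lit 0xc510745ee) (.leaf (nat_lit 0xc510745ae) (nat_lit 3588))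
 (.node (nat_lit 0xc510751ae) (.leaf (nat_lit 0xc510745ee) (nat_lit 3332))
 (.leaf (nat_lit 0xc510751ae) (nat_lit 2560))
)) (.node (nat_lit 0xc510755be) (.leaf (nat_lit 0xc510751ee) (nat_lit 2816))
 (.node (nat_lit 0xc510755fe) (.leaf (nat_lit 0xc510755be) (nat_lit 3075))
 (.leaf (nat_lit 0xc510755fe) (nat_lit 2819))
))))))))))) (.node (nat_lit 0x1010c48184) (.node (nat_lit 0xc7042c226) (.node (nat_lit 0xc6085264e) (.node (nat_lit 0xc6042da2e) (.node (nat_lit 0xc51c5ad8e) (.node (nat_lit 0xc51c2b1ee) (.node (nat_lit 0xc51c1adbe) (.node (nat_lit 0xc51c0b5fe) (.node (nat_lit 0xc51c0a9ae) (.node (nat_lit 0xc51c0a1fe) (.leaf (nat_lit 0xc51c0a18e) (nat_lit 1538))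
 (.leaf (nat_lit 0xc51c0a1fe) (nat_lit 2306))
) (.node (nat_lit 0xc51c0a9de) (.leaf (nat_lit 0xc51c0a9ae) (nat_lit 2052))
 (.node (nat_lit 0xc51c0b58e) (.leaf (nat_lit 0xc51c0a9de) (nat_lit 3332))
 (.leaf (nat_lit 0xc51c0b58e) (nat_lit 2052))
))) (.node (nat_lit 0xc51c0bdde) (.node (nat_lit 0xc51c0bdae) (.leaf (nat_lit 0xc51c0b5fe) (nat_lit 2820))
 (.leaf (nat_lit 0xc51c0bdae) (nat_lit 2564))
) (.node (nat_lit 0xc51c1a59e) (.leaf (nat_lit 0xc51c0bdde) (nat_lit 3584))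
 (.node (nat_lit 0xc51c1a5ee) (.leaf (nat_lit 0xc51c1a59e) (nat_lit 2305))
 (.leaf (nat_lit 0xc51c1a5ee) (nat_lit 3331))
)))) (.node (nat_lit 0xc51c1b9ce) (.node (nat_lit 0xc51c1b19e) (.node (nat_lit 0xc51c1adce) (.leaf (nat_lit 0xc51c1adbe) (nat_lit 2817))
 (.leaf (nat_lit 0xc51c1adce) (nat_lit 2820))
) (.node (nat_lit 0xc51c1b1ee) (.leaf (nat_lit 0xc51c1b19e) (nat_lit 3073))
 (.node (nat_lit 0xc51c1b9be) (.leaf (nat_lit 0xc51c1b1ee) (nat_lit 3072))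
 (.leaf (nat_lit 0xc51c1b9be) (nat_lit 3328))
))) (.node (nat_lit 0xc51c2adbe) (.node (nat_lit 0xc51c2a59e) (.leaf (nat_lit 0xc51c1b9ce) (nat_lit 2304))
 (.node (nat_lit 0xc51c2a5ee) (.leaf (nat_lit 0xc51c2a59e) (nat_lit 2561))
 (.leaf (nat_lit 0xc51c2a5ee) (nat_lit 3588))
)) (.node (nat_lit 0xc51c2adce) (.leaf (nat_lit 0xc51c2adbe) (nat_lit 3073))
 (.node (nat_lit 0xc51c2b19e) (.leaf (nat_lit 0xc51c2adce) (nat_lit 2564))
 (.leaf (nat_lit 0xc51c2b19e) (nat_lit 3329))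
))))) (.node (nat_lit 0xc51c3bdde) (.node (nat_lit 0xc51c3a9ae) (.node (nat_lit 0xc51c2b9ce) (.node (nat_lit 0xc51c2b9be) (.leaf (nat_lit 0xc51c2b1ee) (nat_lit 2819))
 (.leaf (nat_lit 0xc51c2b9be) (nat_lit 3075))
) (.node (nat_lit 0xc51c3a18e) (.leaf (nat_lit 0xc51c2b9ce) (nat_lit 2051))
 (.node (nat_lit 0xc51c3a1fe) (.leaf (nat_lit 0xc51c3a18e) (nat_lit 1794))
 (.leaf (nat_lit 0xc51c3a1fe) (nat_lit 2562))
))) (.node (nat_lit 0xc51c3b58e) (.node (nat_lit 0xc51c3a9de) (.leaf (nat_lit 0xc51c3a9ae) (nat_lit 2308))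
 (.leaf (nat_lit 0xc51c3a9de) (nat_lit 3588))
) (.node (nat_lit 0xc51c3b5fe) (.leaf (nat_lit 0xc51c3b58e) (nat_lit 2308))
 (.node (nat_lit 0xc51c3bdae) (.leaf (nat_lit 0xc51c3b5fe) (nat_lit 3076))
 (.leaf (nat_lit 0xc51c3bdae) (nat_lit 2820))
)))) (.node (nat_lit 0xc51c4b5be) (.node (nat_lit 0xc51c4a1ce) (.node (nat_lit 0xc51c4a1be) (.leaf (nat_lit 0xc51c3bdde) (nat_lit 3331))
 (.leaf (nat_lit 0xc51c4a1be) (nat_lit 2562))
) (.node (nat_lit 0xc51c4a99e) (.leaf (nat_lit 0xc51c4a1ce) (nat_lit 1794))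
 (.node (nat_lit 0xc51c4a9ee) (.leaf (nat_lit 0xc51c4a99e) (nat_lit 3588))
 (.leaf (nat_lit 0xc51c4a9ee) (nat_lit 2308))
))) (.node (nat_lit 0xc51c4bdee) (.node (nat_lit 0xc51c4b5ce) (.leaf (nat_lit 0xc51c4b5be) (nat_lit 3076))
 (.node (nat_lit 0xc51c4bd9e) (.leaf (nat_lit 0xc51c4b5ce) (nat_lit 2308))
 (.leaf (nat_lit 0xc51c4bd9e) (nat_lit 3328))
)) (.node (nat_lit 0xc51c5a5ae) (.leaf (nat_lit 0xc51c4bdee) (nat_lit 2820))
 (.node (nat_lit 0xc51c5a5de) (.leaf (nat_lit 0xc51c5a5ae) (nat_lit 3587))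
 (.leaf (nat_lit 0xc51c5a5de) (nat_lit 2561))
)))))) (.node (nat_lit 0xc51c7bdee) (.node (nat_lit 0xc51c6b1ae) (.node (nat_lit 0xc51c5b9fe) (.node (nat_lit 0xc51c5b1ae) (.node (nat_lit 0xc51c5adfe) (.leaf (nat_lit 0xc51c5ad8e) (nat_lit 2564))
 (.leaf (nat_lit 0xc51c5adfe) (nat_lit 3073))
) (.node (nat_lit 0xc51c5b1de) (.leaf (nat_lit 0xc51c5b1ae) (nat_lit 2816))
 (.node (nat_lit 0xc51c5b98e) (.leaf (nat_lit 0xc51c5b1de) (nat_lit 3329))
 (.leaf (nat_lit 0xc51c5b98e) (nat_lit 2048))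
))) (.node (nat_lit 0xc51c6a5de) (.node (nat_lit 0xc51c6a5ae) (.leaf (nat_lit 0xc51c5b9fe) (nat_lit 3072))
 (.leaf (nat_lit 0xc51c6a5ae) (nat_lit 3332))
) (.node (nat_lit 0xc51c6ad8e) (.leaf (nat_lit 0xc51c6a5de) (nat_lit 2817))
 (.node (nat_lit 0xc51c6adfe) (.leaf (nat_lit 0xc51c6ad8e) (nat_lit 2308))
 (.leaf (nat_lit 0xc51c6adfe) (nat_lit 3329))
)))) (.node (nat_lit 0xc51c7a1ce) (.node (nat_lit 0xc51c6b98e) (.node (nat_lit 0xc51c6b1de) (.leaf (nat_lit 0xc51c6b1ae) (nat_lit 2563))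
 (.leaf (nat_lit 0xc51c6b1de) (nat_lit 3585))
) (.node (nat_lit 0xc51c6b9fe) (.leaf (nat_lit 0xc51c6b98e) (nat_lit 1795))
 (.node (nat_lit 0xc51c7a1be) (.leaf (nat_lit 0xc51c6b9fe) (nat_lit 2819))
 (.leaf (nat_lit 0xc51c7a1be) (nat_lit 2818))
))) (.node (nat_lit 0xc51c7b5be) (.node (nat_lit 0xc51c7a99e) (.leaf (nat_lit 0xc51c7a1ce) (nat_lit 2050))
 (.node (nat_lit 0xc51c7a9ee) (.leaf (nat_lit 0xc51c7a99e) (nat_lit 3587))
 (.leaf (nat_lit 0xc51c7a9ee) (nat_lit 2564))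
)) (.node (nat_lit 0xc51c7b5ce) (.leaf (nat_lit 0xc51c7b5be) (nat_lit 3332))
 (.node (nat_lit 0xc51c7bd9e) (.leaf (nat_lit 0xc51c7b5ce) (nat_lit 2564))
 (.leaf (nat_lit 0xc51c7bd9e) (nat_lit 3075))
))))) (.node (nat_lit 0xc6041c23e) (.node (nat_lit 0xc6040da0e) (.node (nat_lit 0xc6040c21e) (.node (nat_lit 0xc6040c20e) (.leaf (nat_lit 0xc51c7bdee) (nat_lit 3076))
 (.leaf (nat_lit 0xc6040c20e) (nat_lit 1025))
) (.node (nat_lit 0xc6040c66e) (.leaf (nat_lit 0xc6040c21e) (nat_lit 2818))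
 (.node (nat_lit 0xc6040c67e) (.leaf (nat_lit 0xc6040c66e) (nat_lit 2560))
 (.leaf (nat_lit 0xc6040c67e) (nat_lit 2564))
))) (.node (nat_lit 0xc6040de6e) (.node (nat_lit 0xc6040da1e) (.leaf (nat_lit 0xc6040da0e) (nat_lit 1539))
 (.leaf (nat_lit 0xc6040da1e) (nat_lit 3584))
) (.node (nat_lit 0xc6040de7e) (.leaf (nat_lit 0xc6040de6e) (nat_lit 3328))
 (.node (nat_lit 0xc6041c22e) (.leaf (nat_lit 0xc6040de7e) (nat_lit 1793))
 (.leaf (nat_lit 0xc6041c22e) (nat_lit 2048))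
)))) (.node (nat_lit 0xc6041de4e) (.node (nat_lit 0xc6041c65e) (.node (nat_lit 0xc6041c64e) (.leaf (nat_lit 0xc6041c23e) (nat_lit 3331))
 (.leaf (nat_lit 0xc6041c64e) (nat_lit 1795))
) (.node (nat_lit 0xc6041da2e) (.leaf (nat_lit 0xc6041c65e) (nat_lit 3332))
 (.node (nat_lit 0xc6041da3e) (.leaf (nat_lit 0xc6041da2e) (nat_lit 2564))
 (.leaf (nat_lit 0xc6041da3e) (nat_lit 2563))
))) (.node (nat_lit 0xc6042c23e) (.node (nat_lit 0xc6041de5e) (.leaf (nat_lit 0xc6041de4e) (nat_lit 2051))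
 (.node (nat_lit 0xc6042c22e) (.leaf (nat_lit 0xc6041de5e) (nat_lit 3072))
 (.leaf (nat_lit 0xc6042c22e) (nat_lit 1795))
)) (.node (nat_lit 0xc6042c64e) (.leaf (nat_lit 0xc6042c23e) (nat_lit 3330))
 (.node (nat_lit 0xc6042c65e) (.leaf (nat_lit 0xc6042c64e) (nat_lit 2048))
 (.leaf (nat_lit 0xc6042c65e) (nat_lit 3076))
))))))) (.node (nat_lit 0xc6047d62e) (.node (nat_lit 0xc6045ca7e) (.node (nat_lit 0xc6043de6e) (.node (nat_lit 0xc6043c21e) (.node (nat_lit 0xc6042de4e) (.node (nat_lit 0xc6042da3e) (.leaf (nat_lit 0xc6042da2e) (nat_lit 2308))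
 (.leaf (nat_lit 0xc6042da3e) (nat_lit 2816))
) (.node (nat_lit 0xc6042de5e) (.leaf (nat_lit 0xc6042de4e) (nat_lit 2304))
 (.node (nat_lit 0xc6043c20e) (.leaf (nat_lit 0xc6042de5e) (nat_lit 2819))
 (.leaf (nat_lit 0xc6043c20e) (nat_lit 1281))
))) (.node (nat_lit 0xc6043c67e) (.node (nat_lit 0xc6043c66e) (.leaf (nat_lit 0xc6043c21e) (nat_lit 3074))
 (.leaf (nat_lit 0xc6043c66e) (nat_lit 2307))
) (.node (nat_lit 0xc6043da0e) (.leaf (nat_lit 0xc6043c67e) (nat_lit 2820))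
 (.node (nat_lit 0xc6043da1e) (.leaf (nat_lit 0xc6043da0e) (nat_lit 1792))
 (.leaf (nat_lit 0xc6043da1e) (nat_lit 3331))
)))) (.node (nat_lit 0xc6044ce3e) (.node (nat_lit 0xc6044ca4e) (.node (nat_lit 0xc6043de7e) (.leaf (nat_lit 0xc6043de6e) (nat_lit 3075))
 (.leaf (nat_lit 0xc6043de7e) (nat_lit 2049))
) (.node (nat_lit 0xc6044ca5e) (.leaf (nat_lit 0xc6044ca4e) (nat_lit 1795))
 (.node (nat_lit 0xc6044ce2e) (.leaf (nat_lit 0xc6044ca5e) (nat_lit 3328))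
 (.leaf (nat_lit 0xc6044ce2e) (nat_lit 3072))
))) (.node (nat_lit 0xc6044d62e) (.node (nat_lit 0xc6044d24e) (.leaf (nat_lit 0xc6044ce3e) (nat_lit 2049))
 (.node (nat_lit 0xc6044d25e) (.leaf (nat_lit 0xc6044d24e) (nat_lit 1281))
 (.leaf (nat_lit 0xc6044d25e) (nat_lit 3074))
)) (.node (nat_lit 0xc6044d63e) (.leaf (nat_lit 0xc6044d62e) (nat_lit 2304))
 (.node (nat_lit 0xc6045ca6e) (.leaf (nat_lit 0xc6044d63e) (nat_lit 2820))
 (.leaf (nat_lit 0xc6045ca6e) (nat_lit 2820))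
))))) (.node (nat_lit 0xc6046ce1e) (.node (nat_lit 0xc6045d60e) (.node (nat_lit 0xc6045ce1e) (.node (nat_lit 0xc6045ce0e) (.leaf (nat_lit 0xc6045ca7e) (nat_lit 2307))
 (.leaf (nat_lit 0xc6045ce0e) (nat_lit 1795))
) (.node (nat_lit 0xc6045d26e) (.leaf (nat_lit 0xc6045ce1e) (nat_lit 3328))
 (.node (nat_lit 0xc6045d27e) (.leaf (nat_lit 0xc6045d26e) (nat_lit 2304))
 (.leaf (nat_lit 0xc6045d27e) (nat_lit 3075))
))) (.node (nat_lit 0xc6046ca6e) (.node (nat_lit 0xc6045d61e) (.leaf (nat_lit 0xc6045d60e) (nat_lit 1539))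
 (.leaf (nat_lit 0xc6045d61e) (nat_lit 3331))
) (.node (nat_lit 0xc6046ca7e) (.leaf (nat_lit 0xc6046ca6e) (nat_lit 2564))
 (.node (nat_lit 0xc6046ce0e) (.leaf (nat_lit 0xc6046ca7e) (nat_lit 2560))
 (.leaf (nat_lit 0xc6046ce0e) (nat_lit 2048))
)))) (.node (nat_lit 0xc6047ca4e) (.node (nat_lit 0xc6046d27e) (.node (nat_lit 0xc6046d26e) (.leaf (nat_lit 0xc6046ce1e) (nat_lit 3075))
 (.leaf (nat_lit 0xc6046d26e) (nat_lit 2051))
) (.node (nat_lit 0xc6046d60e) (.leaf (nat_lit 0xc6046d27e) (nat_lit 3328))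
 (.node (nat_lit 0xc6046d61e) (.leaf (nat_lit 0xc6046d60e) (nat_lit 1792))
 (.leaf (nat_lit 0xc6046d61e) (nat_lit 3332))
))) (.node (nat_lit 0xc6047ce3e) (.node (nat_lit 0xc6047ca5e) (.leaf (nat_lit 0xc6047ca4e) (nat_lit 2048))
 (.node (nat_lit 0xc6047ce2e) (.leaf (nat_lit 0xc6047ca5e) (nat_lit 3075))
 (.leaf (nat_lit 0xc6047ce2e) (nat_lit 2819))
)) (.node (nat_lit 0xc6047d24e) (.leaf (nat_lit 0xc6047ce3e) (nat_lit 2305))
 (.node (nat_lit 0xc6047d25e) (.leaf (nat_lit 0xc6047d24e) (nat_lit 1537))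
 (.leaf (nat_lit 0xc6047d25e) (nat_lit 3330))
)))))) (.node (nat_lit 0xc60822a7e) (.node (nat_lit 0xc6081221e) (.node (nat_lit 0xc60802a6e) (.node (nat_lit 0xc6080220e) (.node (nat_lit 0xc6047d63e) (.leaf (nat_lit 0xc6047d62e) (nat_lit 2051))
 (.leaf (nat_lit 0xc6047d63e) (nat_lit 3076))
) (.node (nat_lit 0xc6080222e) (.leaf (nat_lit 0xc6080220e) (nat_lit 1537))
 (.node (nat_lit 0xc60802a4e) (.leaf (nat_lit 0xc6080222e) (nat_lit 2562))
 (.leaf (nat_lit 0xc60802a4e) (nat_lit 2051))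
))) (.node (nat_lit 0xc6080326e) (.node (nat_lit 0xc6080324e) (.leaf (nat_lit 0xc60802a6e) (nat_lit 3074))
 (.leaf (nat_lit 0xc6080324e) (nat_lit 1793))
) (.node (nat_lit 0xc60803a0e) (.leaf (nat_lit 0xc6080326e) (nat_lit 2818))
 (.node (nat_lit 0xc60803a2e) (.leaf (nat_lit 0xc60803a0e) (nat_lit 1795))
 (.leaf (nat_lit 0xc60803a2e) (nat_lit 2818))
)))) (.node (nat_lit 0xc6081327e) (.node (nat_lit 0xc60812a5e) (.node (nat_lit 0xc6081223e) (.leaf (nat_lit 0xc6081221e) (nat_lit 2563))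
 (.leaf (nat_lit 0xc6081223e) (nat_lit 3332))
) (.node (nat_lit 0xc60812a7e) (.leaf (nat_lit 0xc60812a5e) (nat_lit 3332))
 (.node (nat_lit 0xc6081325e) (.leaf (nat_lit 0xc60812a7e) (nat_lit 2819))
 (.leaf (nat_lit 0xc6081325e) (nat_lit 2819))
))) (.node (nat_lit 0xc6082221e) (.node (nat_lit 0xc60813a1e) (.leaf (nat_lit 0xc6081327e) (nat_lit 3328))
 (.node (nat_lit 0xc60813a3e) (.leaf (nat_lit 0xc60813a1e) (nat_lit 3076))
 (.leaf (nat_lit 0xc60813a3e) (nat_lit 3075))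
)) (.node (nat_lit 0xc6082223e) (.leaf (nat_lit 0xc6082221e) (nat_lit 2816))
 (.node (nat_lit 0xc60822a5e) (.leaf (nat_lit 0xc6082223e) (nat_lit 3331))
 (.leaf (nat_lit 0xc60822a5e) (nat_lit 3588))
))))) (.node (nat_lit 0xc6083326e) (.node (nat_lit 0xc6083220e) (.node (nat_lit 0xc6082327e) (.node (nat_lit 0xc6082325e) (.leaf (nat_lit 0xc60822a7e) (nat_lit 2563))
 (.leaf (nat_lit 0xc6082325e) (nat_lit 3072))
) (.node (nat_lit 0xc60823a1e) (.leaf (nat_lit 0xc6082327e) (nat_lit 3075))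
 (.node (nat_lit 0xc60823a3e) (.leaf (nat_lit 0xc60823a1e) (nat_lit 3332))
 (.leaf (nat_lit 0xc60823a3e) (nat_lit 2819))
))) (.node (nat_lit 0xc60832a4e) (.node (nat_lit 0xc6083222e) (.leaf (nat_lit 0xc6083220e) (nat_lit 1793))
 (.leaf (nat_lit 0xc6083222e) (nat_lit 2818))
) (.node (nat_lit 0xc60832a6e) (.leaf (nat_lit 0xc60832a4e) (nat_lit 2304))
 (.node (nat_lit 0xc6083324e) (.leaf (nat_lit 0xc60832a6e) (nat_lit 3330))
 (.leaf (nat_lit 0xc6083324e) (nat_lit 2049))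
)))) (.node (nat_lit 0xc60842e1e) (.node (nat_lit 0xc60833a2e) (.node (nat_lit 0xc60833a0e) (.leaf (nat_lit 0xc6083326e) (nat_lit 3074))
 (.leaf (nat_lit 0xc60833a0e) (nat_lit 2048))
) (.node (nat_lit 0xc6084265e) (.leaf (nat_lit 0xc60833a2e) (nat_lit 3074))
 (.node (nat_lit 0xc6084267e) (.leaf (nat_lit 0xc6084265e) (nat_lit 3075))
 (.leaf (nat_lit 0xc6084267e) (nat_lit 2817))
))) (.node (nat_lit 0xc6084363e) (.node (nat_lit 0xc60842e3e) (.leaf (nat_lit 0xc60842e1e) (nat_lit 3331))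
 (.node (nat_lit 0xc6084361e) (.leaf (nat_lit 0xc60842e3e) (nat_lit 2305))
 (.leaf (nat_lit 0xc6084361e) (nat_lit 2819))
)) (.node (nat_lit 0xc60843e5e) (.leaf (nat_lit 0xc6084363e) (nat_lit 3073))
 (.node (nat_lit 0xc60843e7e) (.leaf (nat_lit 0xc60843e5e) (nat_lit 3329))
 (.leaf (nat_lit 0xc60843e7e) (nat_lit 2049))
)))))))) (.node (nat_lit 0xc6107319e) (.node (nat_lit 0xc61022dbe) (.node (nat_lit 0xc6087363e) (.node (nat_lit 0xc60862e0e) (.node (nat_lit 0xc6085362e) (.node (nat_lit 0xc60852e0e) (.node (nat_lit 0xc6085266e) (.leaf (nat_lit 0xc6085264e) (nat_lit 2051))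
 (.leaf (nat_lit 0xc6085266e) (nat_lit 3075))
) (.node (nat_lit 0xc60852e2e) (.leaf (nat_lit 0xc60852e0e) (nat_lit 2051))
 (.node (nat_lit 0xc6085360e) (.leaf (nat_lit 0xc60852e2e) (nat_lit 3331))
 (.leaf (nat_lit 0xc6085360e) (nat_lit 1795))
))) (.node (nat_lit 0xc60853e6e) (.node (nat_lit 0xc60853e4e) (.leaf (nat_lit 0xc6085362e) (nat_lit 2819))
 (.leaf (nat_lit 0xc60853e4e) (nat_lit 2307))
) (.node (nat_lit 0xc6086264e) (.leaf (nat_lit 0xc60853e6e) (nat_lit 3328))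
 (.node (nat_lit 0xc6086266e) (.leaf (nat_lit 0xc6086264e) (nat_lit 2304))
 (.leaf (nat_lit 0xc6086266e) (nat_lit 3328))
)))) (.node (nat_lit 0xc60863e6e) (.node (nat_lit 0xc6086360e) (.node (nat_lit 0xc60862e2e) (.leaf (nat_lit 0xc60862e0e) (nat_lit 2304))
 (.leaf (nat_lit 0xc60862e2e) (nat_lit 3331))
) (.node (nat_lit 0xc6086362e) (.leaf (nat_lit 0xc6086360e) (nat_lit 2048))
 (.node (nat_lit 0xc60863e4e) (.leaf (nat_lit 0xc6086362e) (nat_lit 3072))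
 (.leaf (nat_lit 0xc60863e4e) (nat_lit 2560))
))) (.node (nat_lit 0xc60872e1e) (.node (nat_lit 0xc6087265e) (.leaf (nat_lit 0xc60863e6e) (nat_lit 3075))
 (.node (nat_lit 0xc6087267e) (.leaf (nat_lit 0xc6087265e) (nat_lit 3328))
 (.leaf (nat_lit 0xc6087267e) (nat_lit 2561))
)) (.node (nat_lit 0xc60872e3e) (.leaf (nat_lit 0xc60872e1e) (nat_lit 3329))
 (.node (nat_lit 0xc6087361e) (.leaf (nat_lit 0xc60872e3e) (nat_lit 2049))
 (.leaf (nat_lit 0xc6087361e) (nat_lit 3072))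
))))) (.node (nat_lit 0xc610039ce) (.node (nat_lit 0xc610029ae) (.node (nat_lit 0xc60873e7e) (.node (nat_lit 0xc60873e5e) (.leaf (nat_lit 0xc6087363e) (nat_lit 2817))
 (.leaf (nat_lit 0xc60873e5e) (nat_lit 3073))
) (.node (nat_lit 0xc6100218e) (.leaf (nat_lit 0xc60873e7e) (nat_lit 1793))
 (.node (nat_lit 0xc610021ce) (.leaf (nat_lit 0xc6100218e) (nat_lit 1540))
 (.leaf (nat_lit 0xc610021ce) (nat_lit 1796))
))) (.node (nat_lit 0xc610031ae) (.node (nat_lit 0xc610029ee) (.leaf (nat_lit 0xc610029ae) (nat_lit 2308))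
 (.leaf (nat_lit 0xc610029ee) (nat_lit 2564))
) (.node (nat_lit 0xc610031ee) (.leaf (nat_lit 0xc610031ae) (nat_lit 2564))
 (.node (nat_lit 0xc6100398e) (.leaf (nat_lit 0xc610031ee) (nat_lit 2820))
 (.leaf (nat_lit 0xc6100398e) (nat_lit 1796))
)))) (.node (nat_lit 0xc610135be) (.node (nat_lit 0xc610125de) (.node (nat_lit 0xc6101259e) (.leaf (nat_lit 0xc610039ce) (nat_lit 2052))
 (.leaf (nat_lit 0xc6101259e) (nat_lit 2819))
) (.node (nat_lit 0xc61012dbe) (.leaf (nat_lit 0xc610125de) (nat_lit 3075))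
 (.node (nat_lit 0xc61012dfe) (.leaf (nat_lit 0xc61012dbe) (nat_lit 3073))
 (.leaf (nat_lit 0xc61012dfe) (nat_lit 3329))
))) (.node (nat_lit 0xc61013dde) (.node (nat_lit 0xc610135fe) (.leaf (nat_lit 0xc610135be) (nat_lit 3331))
 (.node (nat_lit 0xc61013d9e) (.leaf (nat_lit 0xc610135fe) (nat_lit 3075))
 (.leaf (nat_lit 0xc61013d9e) (nat_lit 3073))
)) (.node (nat_lit 0xc6102259e) (.leaf (nat_lit 0xc61013dde) (nat_lit 3329))
 (.node (nat_lit 0xc610225de) (.leaf (nat_lit 0xc6102259e) (nat_lit 3072))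
 (.leaf (nat_lit 0xc610225de) (nat_lit 3328))
)))))) (.node (nat_lit 0xc610439fe) (.node (nat_lit 0xc610331ae) (.node (nat_lit 0xc61023dde) (.node (nat_lit 0xc610235be) (.node (nat_lit 0xc61022dfe) (.leaf (nat_lit 0xc61022dbe) (nat_lit 3329))
 (.leaf (nat_lit 0xc61022dfe) (nat_lit 3331))
) (.node (nat_lit 0xc610235fe) (.leaf (nat_lit 0xc610235be) (nat_lit 3075))
 (.node (nat_lit 0xc61023d9e) (.leaf (nat_lit 0xc610235fe) (nat_lit 2819))
 (.leaf (nat_lit 0xc61023d9e) (nat_lit 3329))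
))) (.node (nat_lit 0xc610321ce) (.node (nat_lit 0xc6103218e) (.leaf (nat_lit 0xc61023dde) (nat_lit 3331))
 (.leaf (nat_lit 0xc6103218e) (nat_lit 1796))
) (.node (nat_lit 0xc610329ae) (.leaf (nat_lit 0xc610321ce) (nat_lit 2052))
 (.node (nat_lit 0xc610329ee) (.leaf (nat_lit 0xc610329ae) (nat_lit 2564))
 (.leaf (nat_lit 0xc610329ee) (nat_lit 2820))
)))) (.node (nat_lit 0xc610421fe) (.node (nat_lit 0xc6103398e) (.node (nat_lit 0xc610331ee) (.leaf (nat_lit 0xc610331ae) (nat_lit 2820))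
 (.leaf (nat_lit 0xc610331ee) (nat_lit 3076))
) (.node (nat_lit 0xc610339ce) (.leaf (nat_lit 0xc6103398e) (nat_lit 2052))
 (.node (nat_lit 0xc610421be) (.leaf (nat_lit 0xc610339ce) (nat_lit 2308))
 (.leaf (nat_lit 0xc610421be) (nat_lit 2562))
))) (.node (nat_lit 0xc6104319e) (.node (nat_lit 0xc6104299e) (.leaf (nat_lit 0xc610421fe) (nat_lit 2306))
 (.node (nat_lit 0xc610429de) (.leaf (nat_lit 0xc6104299e) (nat_lit 3588))
 (.leaf (nat_lit 0xc610429de) (nat_lit 3332))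
)) (.node (nat_lit 0xc610431de) (.leaf (nat_lit 0xc6104319e) (nat_lit 3075))
 (.node (nat_lit 0xc610439be) (.leaf (nat_lit 0xc610431de) (nat_lit 3331))
 (.leaf (nat_lit 0xc610439be) (nat_lit 3332))
))))) (.node (nat_lit 0xc610625ee) (.node (nat_lit 0xc6105358e) (.node (nat_lit 0xc610525ee) (.node (nat_lit 0xc610525ae) (.leaf (nat_lit 0xc610439fe) (nat_lit 3076))
 (.leaf (nat_lit 0xc610525ae) (nat_lit 3331))
) (.node (nat_lit 0xc61052d8e) (.leaf (nat_lit 0xc610525ee) (nat_lit 3329))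
 (.node (nat_lit 0xc61052dce) (.leaf (nat_lit 0xc61052d8e) (nat_lit 2307))
 (.leaf (nat_lit 0xc61052dce) (nat_lit 2563))
))) (.node (nat_lit 0xc61053dae) (.node (nat_lit 0xc610535ce) (.leaf (nat_lit 0xc6105358e) (nat_lit 2051))
 (.leaf (nat_lit 0xc610535ce) (nat_lit 2307))
) (.node (nat_lit 0xc61053dee) (.leaf (nat_lit 0xc61053dae) (nat_lit 2819))
 (.node (nat_lit 0xc610625ae) (.leaf (nat_lit 0xc61053dee) (nat_lit 3075))
 (.leaf (nat_lit 0xc610625ae) (nat_lit 3329))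
)))) (.node (nat_lit 0xc61063dae) (.node (nat_lit 0xc61062dce) (.node (nat_lit 0xc61062d8e) (.leaf (nat_lit 0xc610625ee) (nat_lit 3073))
 (.leaf (nat_lit 0xc61062d8e) (nat_lit 2560))
) (.node (nat_lit 0xc6106358e) (.leaf (nat_lit 0xc61062dce) (nat_lit 2816))
 (.node (nat_lit 0xc610635ce) (.leaf (nat_lit 0xc6106358e) (nat_lit 2304))
 (.leaf (nat_lit 0xc610635ce) (nat_lit 2560))
))) (.node (nat_lit 0xc610721fe) (.node (nat_lit 0xc61063dee) (.leaf (nat_lit 0xc61063dae) (nat_lit 3072))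
 (.node (nat_lit 0xc610721be) (.leaf (nat_lit 0xc61063dee) (nat_lit 3328))
 (.leaf (nat_lit 0xc610721be) (nat_lit 2306))
)) (.node (nat_lit 0xc6107299e) (.leaf (nat_lit 0xc610721fe) (nat_lit 2050))
 (.node (nat_lit 0xc610729de) (.leaf (nat_lit 0xc6107299e) (nat_lit 3332))
 (.leaf (nat_lit 0xc610729de) (nat_lit 3076))
))))))) (.node (nat_lit 0xc61c4ddae) (.node (nat_lit 0xc61c2c9de) (.node (nat_lit 0xc61c0dd9e) (.node (nat_lit 0xc61c0c1fe) (.node (nat_lit 0xc610739be) (.node (nat_lit 0xc610731de) (.leaf (nat_lit 0xc6107319e) (nat_lit 3328))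
 (.leaf (nat_lit 0xc610731de) (nat_lit 3331))
) (.node (nat_lit 0xc610739fe) (.leaf (nat_lit 0xc610739be) (nat_lit 3076))
 (.node (nat_lit 0xc61c0c18e) (.leaf (nat_lit 0xc610739fe) (nat_lit 2820))
 (.leaf (nat_lit 0xc61c0c18e) (nat_lit 1282))
))) (.node (nat_lit 0xc61c0c5ee) (.node (nat_lit 0xc61c0c59e) (.leaf (nat_lit 0xc61c0c1fe) (nat_lit 2050))
 (.leaf (nat_lit 0xc61c0c59e) (nat_lit 2564))
) (.node (nat_lit 0xc61c0d98e) (.leaf (nat_lit 0xc61c0c5ee) (nat_lit 3584))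
 (.node (nat_lit 0xc61c0d9fe) (.leaf (nat_lit 0xc61c0d98e) (nat_lit 1795))
 (.leaf (nat_lit 0xc61c0d9fe) (nat_lit 2818))
)))) (.node (nat_lit 0xc61c1cdce) (.node (nat_lit 0xc61c1c9ae) (.node (nat_lit 0xc61c0ddee) (.leaf (nat_lit 0xc61c0dd9e) (nat_lit 3332))
 (.leaf (nat_lit 0xc61c0ddee) (nat_lit 2816))
) (.node (nat_lit 0xc61c1c9de) (.leaf (nat_lit 0xc61c1c9ae) (nat_lit 2049))
 (.node (nat_lit 0xc61c1cdbe) (.leaf (nat_lit 0xc61c1c9de) (nat_lit 3328))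
 (.leaf (nat_lit 0xc61c1cdbe) (nat_lit 3332))
))) (.node (nat_lit 0xc61c1d5be) (.node (nat_lit 0xc61c1d1ae) (.leaf (nat_lit 0xc61c1cdce) (nat_lit 2307))
 (.node (nat_lit 0xc61c1d1de) (.leaf (nat_lit 0xc61c1d1ae) (nat_lit 2817))
 (.leaf (nat_lit 0xc61c1d1de) (nat_lit 3331))
)) (.node (nat_lit 0xc61c1d5ce) (.leaf (nat_lit 0xc61c1d5be) (nat_lit 2819))
 (.node (nat_lit 0xc61c2c9ae) (.leaf (nat_lit 0xc61c1d5ce) (nat_lit 2051))
 (.leaf (nat_lit 0xc61c2c9ae) (nat_lit 1793))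
))))) (.node (nat_lit 0xc61c3c5ee) (.node (nat_lit 0xc61c2d5be) (.node (nat_lit 0xc61c2cdce) (.node (nat_lit 0xc61c2cdbe) (.leaf (nat_lit 0xc61c2c9de) (nat_lit 3075))
 (.leaf (nat_lit 0xc61c2cdbe) (nat_lit 3076))
) (.node (nat_lit 0xc61c2d1ae) (.leaf (nat_lit 0xc61c2cdce) (nat_lit 2560))
 (.node (nat_lit 0xc61c2d1de) (.leaf (nat_lit 0xc61c2d1ae) (nat_lit 2561))
 (.leaf (nat_lit 0xc61c2d1de) (nat_lit 3330))
))) (.node (nat_lit 0xc61c3c18e) (.node (nat_lit 0xc61c2d5ce) (.leaf (nat_lit 0xc61c2d5be) (nat_lit 3072))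
 (.leaf (nat_lit 0xc61c2d5ce) (nat_lit 2304))
) (.node (nat_lit 0xc61c3c1fe) (.leaf (nat_lit 0xc61c3c18e) (nat_lit 1538))
 (.node (nat_lit 0xc61c3c59e) (.leaf (nat_lit 0xc61c3c1fe) (nat_lit 2306))
 (.leaf (nat_lit 0xc61c3c59e) (nat_lit 2820))
)))) (.node (nat_lit 0xc61c4c1be) (.node (nat_lit 0xc61c3d9fe) (.node (nat_lit 0xc61c3d98e) (.leaf (nat_lit 0xc61c3c5ee) (nat_lit 3331))
 (.leaf (nat_lit 0xc61c3d98e) (nat_lit 2048))
) (.node (nat_lit 0xc61c3dd9e) (.leaf (nat_lit 0xc61c3d9fe) (nat_lit 3074))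
 (.node (nat_lit 0xc61c3ddee) (.leaf (nat_lit 0xc61c3dd9e) (nat_lit 3587))
 (.leaf (nat_lit 0xc61c3ddee) (nat_lit 2563))
))) (.node (nat_lit 0xc61c4c5de) (.node (nat_lit 0xc61c4c1ce) (.leaf (nat_lit 0xc61c4c1be) (nat_lit 2306))
 (.node (nat_lit 0xc61c4c5ae) (.leaf (nat_lit 0xc61c4c1ce) (nat_lit 1538))
 (.leaf (nat_lit 0xc61c4c5ae) (nat_lit 3328))
)) (.node (nat_lit 0xc61c4d9be) (.leaf (nat_lit 0xc61c4c5de) (nat_lit 2820))
 (.node (nat_lit 0xc61c4d9ce) (.leaf (nat_lit 0xc61c4d9be) (nat_lit 3074))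
 (.leaf (nat_lit 0xc61c4d9ce) (nat_lit 2051))
)))))) (.node (nat_lit 0xc61c7c5de) (.node (nat_lit 0xc61c6c99e) (.node (nat_lit 0xc61c5cdfe) (.node (nat_lit 0xc61c5c99e) (.node (nat_lit 0xc61c4ddde) (.leaf (nat_lit 0xc61c4ddae) (nat_lit 2560))
 (.leaf (nat_lit 0xc61c4ddde) (nat_lit 3588))
) (.node (nat_lit 0xc61c5c9ee) (.leaf (nat_lit 0xc61c5c99e) (nat_lit 3584))
 (.node (nat_lit 0xc61c5cd8e) (.leaf (nat_lit 0xc61c5c9ee) (nat_lit 2305))
 (.leaf (nat_lit 0xc61c5cd8e) (nat_lit 2051))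
))) (.node (nat_lit 0xc61c5d1ee) (.node (nat_lit 0xc61c5d19e) (.leaf (nat_lit 0xc61c5cdfe) (nat_lit 3331))
 (.leaf (nat_lit 0xc61c5d19e) (nat_lit 3075))
) (.node (nat_lit 0xc61c5d58e) (.leaf (nat_lit 0xc61c5d1ee) (nat_lit 3073))
 (.node (nat_lit 0xc61c5d5fe) (.leaf (nat_lit 0xc61c5d58e) (nat_lit 1795))
 (.leaf (nat_lit 0xc61c5d5fe) (nat_lit 2563))
)))) (.node (nat_lit 0xc61c6d1ee) (.node (nat_lit 0xc61c6cd8e) (.node (nat_lit 0xc61c6c9ee) (.leaf (nat_lit 0xc61c6c99e) (nat_lit 3331))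
 (.leaf (nat_lit 0xc61c6c9ee) (nat_lit 2049))
) (.node (nat_lit 0xc61c6cdfe) (.leaf (nat_lit 0xc61c6cd8e) (nat_lit 2304))
 (.node (nat_lit 0xc61c6d19e) (.leaf (nat_lit 0xc61c6cdfe) (nat_lit 3332))
 (.leaf (nat_lit 0xc61c6d19e) (nat_lit 3328))
))) (.node (nat_lit 0xc61c7c1be) (.node (nat_lit 0xc61c6d58e) (.leaf (nat_lit 0xc61c6d1ee) (nat_lit 2817))
 (.node (nat_lit 0xc61c6d5fe) (.leaf (nat_lit 0xc61c6d58e) (nat_lit 2048))
 (.leaf (nat_lit 0xc61c6d5fe) (nat_lit 2816))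
)) (.node (nat_lit 0xc61c7c1ce) (.leaf (nat_lit 0xc61c7c1be) (nat_lit 2562))
 (.node (nat_lit 0xc61c7c5ae) (.leaf (nat_lit 0xc61c7c1ce) (nat_lit 1794))
 (.leaf (nat_lit 0xc61c7c5ae) (nat_lit 3075))
))))) (.node (nat_lit 0xc7040da76) (.node (nat_lit 0xc7040c206) (.node (nat_lit 0xc61c7d9ce) (.node (nat_lit 0xc61c7d9be) (.leaf (nat_lit 0xc61c7c5de) (nat_lit 3076))
 (.leaf (nat_lit 0xc61c7d9be) (nat_lit 3330))
) (.node (nat_lit 0xc61c7ddae) (.leaf (nat_lit 0xc61c7d9ce) (nat_lit 2304))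
 (.node (nat_lit 0xc61c7ddde) (.leaf (nat_lit 0xc61c7ddae) (nat_lit 2307))
 (.leaf (nat_lit 0xc61c7ddde) (nat_lit 3331))
))) (.node (nat_lit 0xc7040c666) (.node (nat_lit 0xc7040c216) (.leaf (nat_lit 0xc7040c206) (nat_lit 771))
 (.leaf (nat_lit 0xc7040c216) (nat_lit 2819))
) (.node (nat_lit 0xc7040c676) (.leaf (nat_lit 0xc7040c666) (nat_lit 2307))
 (.node (nat_lit 0xc7040da66) (.leaf (nat_lit 0xc7040c676) (nat_lit 2817))
 (.leaf (nat_lit 0xc7040da66) (nat_lit 1539))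
)))) (.node (nat_lit 0xc7041c646) (.node (nat_lit 0xc7040de16) (.node (nat_lit 0xc7040de06) (.leaf (nat_lit 0xc7040da76) (nat_lit 3587))
 (.leaf (nat_lit 0xc7040de06) (nat_lit 1539))
) (.node (nat_lit 0xc7041c226) (.leaf (nat_lit 0xc7040de16) (nat_lit 3585))
 (.node (nat_lit 0xc7041c236) (.leaf (nat_lit 0xc7041c226) (nat_lit 1792))
 (.leaf (nat_lit 0xc7041c236) (nat_lit 3331))
))) (.node (nat_lit 0xc7041da56) (.node (nat_lit 0xc7041c656) (.leaf (nat_lit 0xc7041c646) (nat_lit 3076))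
 (.node (nat_lit 0xc7041da46) (.leaf (nat_lit 0xc7041c656) (nat_lit 2049))
 (.leaf (nat_lit 0xc7041da46) (nat_lit 2560))
)) (.node (nat_lit 0xc7041de26) (.leaf (nat_lit 0xc7041da56) (nat_lit 2817))
 (.node (nat_lit 0xc7041de36) (.leaf (nat_lit 0xc7041de26) (nat_lit 2820))
 (.leaf (nat_lit 0xc7041de36) (nat_lit 2305))
))))))))) (.node (nat_lit 0xc7147a7a6) (.node (nat_lit 0xc7084b206) (.node (nat_lit 0xc7047ce06) (.node (nat_lit 0xc7044d216) (.node (nat_lit 0xc7043c666) (.node (nat_lit 0xc7042da56) (.node (nat_lit 0xc7042c646) (.node (nat_lit 0xc7042c236) (.leaf (nat_lit 0xc7042c226) (nat_lit 1539))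
 (.leaf (nat_lit 0xc7042c236) (nat_lit 3330))
) (.node (nat_lit 0xc7042c656) (.leaf (nat_lit 0xc7042c646) (nat_lit 2820))
 (.node (nat_lit 0xc7042da46) (.leaf (nat_lit 0xc7042c656) (nat_lit 2305))
 (.leaf (nat_lit 0xc7042da46) (nat_lit 2307))
))) (.node (nat_lit 0xc7042de36) (.node (nat_lit 0xc7042de26) (.leaf (nat_lit 0xc7042da56) (nat_lit 3073))
 (.leaf (nat_lit 0xc7042de26) (nat_lit 2564))
) (.node (nat_lit 0xc7043c206) (.leaf (nat_lit 0xc7042de36) (nat_lit 2561))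
 (.node (nat_lit 0xc7043c216) (.leaf (nat_lit 0xc7043c206) (nat_lit 1024))
 (.leaf (nat_lit 0xc7043c216) (nat_lit 3072))
)))) (.node (nat_lit 0xc7043de16) (.node (nat_lit 0xc7043da66) (.node (nat_lit 0xc7043c676) (.leaf (nat_lit 0xc7043c666) (nat_lit 2560))
 (.leaf (nat_lit 0xc7043c676) (nat_lit 2561))
) (.node (nat_lit 0xc7043da76) (.leaf (nat_lit 0xc7043da66) (nat_lit 1792))
 (.node (nat_lit 0xc7043de06) (.leaf (nat_lit 0xc7043da76) (nat_lit 3587))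
 (.leaf (nat_lit 0xc7043de06) (nat_lit 1792))
))) (.node (nat_lit 0xc7044ce06) (.node (nat_lit 0xc7044ca66) (.leaf (nat_lit 0xc7043de16) (nat_lit 3329))
 (.node (nat_lit 0xc7044ca76) (.leaf (nat_lit 0xc7044ca66) (nat_lit 1795))
 (.leaf (nat_lit 0xc7044ca76) (nat_lit 3584))
)) (.node (nat_lit 0xc7044ce16) (.leaf (nat_lit 0xc7044ce06) (nat_lit 1795))
 (.node (nat_lit 0xc7044d206) (.leaf (nat_lit 0xc7044ce16) (nat_lit 3329))
 (.leaf (nat_lit 0xc7044d206) (nat_lit 1027))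
))))) (.node (nat_lit 0xc7045d656) (.node (nat_lit 0xc7045ce26) (.node (nat_lit 0xc7044d676) (.node (nat_lit 0xc7044d666) (.leaf (nat_lit 0xc7044d216) (nat_lit 3075))
 (.leaf (nat_lit 0xc7044d666) (nat_lit 2563))
) (.node (nat_lit 0xc7045ca46) (.leaf (nat_lit 0xc7044d676) (nat_lit 2561))
 (.node (nat_lit 0xc7045ca56) (.leaf (nat_lit 0xc7045ca46) (nat_lit 2816))
 (.leaf (nat_lit 0xc7045ca56) (nat_lit 2561))
))) (.node (nat_lit 0xc7045d226) (.node (nat_lit 0xc7045ce36) (.leaf (nat_lit 0xc7045ce26) (nat_lit 3076))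
 (.leaf (nat_lit 0xc7045ce36) (nat_lit 2049))
) (.node (nat_lit 0xc7045d236) (.leaf (nat_lit 0xc7045d226) (nat_lit 2048))
 (.node (nat_lit 0xc7045d646) (.leaf (nat_lit 0xc7045d236) (nat_lit 3075))
 (.leaf (nat_lit 0xc7045d646) (nat_lit 3332))
)))) (.node (nat_lit 0xc7046d226) (.node (nat_lit 0xc7046ca56) (.node (nat_lit 0xc7046ca46) (.leaf (nat_lit 0xc7045d656) (nat_lit 1793))
 (.leaf (nat_lit 0xc7046ca46) (nat_lit 2563))
) (.node (nat_lit 0xc7046ce26) (.leaf (nat_lit 0xc7046ca56) (nat_lit 2817))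
 (.node (nat_lit 0xc7046ce36) (.leaf (nat_lit 0xc7046ce26) (nat_lit 2820))
 (.leaf (nat_lit 0xc7046ce36) (nat_lit 2305))
))) (.node (nat_lit 0xc7046d656) (.node (nat_lit 0xc7046d236) (.leaf (nat_lit 0xc7046d226) (nat_lit 1795))
 (.node (nat_lit 0xc7046d646) (.leaf (nat_lit 0xc7046d236) (nat_lit 3328))
 (.leaf (nat_lit 0xc7046d646) (nat_lit 3076))
)) (.node (nat_lit 0xc7047ca66) (.leaf (nat_lit 0xc7046d656) (nat_lit 2049))
 (.node (nat_lit 0xc7047ca76) (.leaf (nat_lit 0xc7047ca66) (nat_lit 2048))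
 (.leaf (nat_lit 0xc7047ca76) (nat_lit 3331))
)))))) (.node (nat_lit 0xc7081be36) (.node (nat_lit 0xc7080b656) (.node (nat_lit 0xc7047d676) (.node (nat_lit 0xc7047d206) (.node (nat_lit 0xc7047ce16) (.leaf (nat_lit 0xc7047ce06) (nat_lit 2048))
 (.leaf (nat_lit 0xc7047ce16) (nat_lit 3073))
) (.node (nat_lit 0xc7047d216) (.leaf (nat_lit 0xc7047d206) (nat_lit 1280))
 (.node (nat_lit 0xc7047d666) (.leaf (nat_lit 0xc7047d216) (nat_lit 3328))
 (.leaf (nat_lit 0xc7047d666) (nat_lit 2816))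
))) (.node (nat_lit 0xc7080a226) (.node (nat_lit 0xc7080a206) (.leaf (nat_lit 0xc7047d676) (nat_lit 2305))
 (.leaf (nat_lit 0xc7080a206) (nat_lit 1027))
) (.node (nat_lit 0xc7080aa56) (.leaf (nat_lit 0xc7080a226) (nat_lit 2307))
 (.node (nat_lit 0xc7080aa76) (.leaf (nat_lit 0xc7080aa56) (nat_lit 3075))
 (.leaf (nat_lit 0xc7080aa76) (nat_lit 3585))
)))) (.node (nat_lit 0xc7081a236) (.node (nat_lit 0xc7080be06) (.node (nat_lit 0xc7080b676) (.leaf (nat_lit 0xc7080b656) (nat_lit 2307))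
 (.leaf (nat_lit 0xc7080b676) (nat_lit 3073))
) (.node (nat_lit 0xc7080be26) (.leaf (nat_lit 0xc7080be06) (nat_lit 1795))
 (.node (nat_lit 0xc7081a216) (.leaf (nat_lit 0xc7080be26) (nat_lit 3074))
 (.leaf (nat_lit 0xc7081a216) (nat_lit 2307))
))) (.node (nat_lit 0xc7081b646) (.node (nat_lit 0xc7081aa46) (.leaf (nat_lit 0xc7081a236) (nat_lit 3074))
 (.node (nat_lit 0xc7081aa66) (.leaf (nat_lit 0xc7081aa46) (nat_lit 3330))
 (.leaf (nat_lit 0xc7081aa66) (nat_lit 2305))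
)) (.node (nat_lit 0xc7081b666) (.leaf (nat_lit 0xc7081b646) (nat_lit 3075))
 (.node (nat_lit 0xc7081be16) (.leaf (nat_lit 0xc7081b666) (nat_lit 3072))
 (.leaf (nat_lit 0xc7081be16) (nat_lit 3076))
))))) (.node (nat_lit 0xc7083a226) (.node (nat_lit 0xc7082b646) (.node (nat_lit 0xc7082a236) (.node (nat_lit 0xc7082a216) (.leaf (nat_lit 0xc7081be36) (nat_lit 3073))
 (.leaf (nat_lit 0xc7082a216) (nat_lit 2560))
) (.node (nat_lit 0xc7082aa46) (.leaf (nat_lit 0xc7082a236) (nat_lit 3330))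
 (.node (nat_lit 0xc7082aa66) (.leaf (nat_lit 0xc7082aa46) (nat_lit 3074))
 (.leaf (nat_lit 0xc7082aa66) (nat_lit 2049))
))) (.node (nat_lit 0xc7082be16) (.node (nat_lit 0xc7082b666) (.leaf (nat_lit 0xc7082b646) (nat_lit 3328))
 (.leaf (nat_lit 0xc7082b666) (nat_lit 2819))
) (.node (nat_lit 0xc7082be36) (.leaf (nat_lit 0xc7082be16) (nat_lit 3332))
 (.node (nat_lit 0xc7083a206) (.leaf (nat_lit 0xc7082be36) (nat_lit 2817))
 (.leaf (nat_lit 0xc7083a206) (nat_lit 1280))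
)))) (.node (nat_lit 0xc7083be06) (.node (nat_lit 0xc7083aa76) (.node (nat_lit 0xc7083aa56) (.leaf (nat_lit 0xc7083a226) (nat_lit 2560))
 (.leaf (nat_lit 0xc7083aa56) (nat_lit 3328))
) (.node (nat_lit 0xc7083b656) (.leaf (nat_lit 0xc7083aa76) (nat_lit 3329))
 (.node (nat_lit 0xc7083b676) (.leaf (nat_lit 0xc7083b656) (nat_lit 2560))
 (.leaf (nat_lit 0xc7083b676) (nat_lit 3329))
))) (.node (nat_lit 0xc7084a676) (.node (nat_lit 0xc7083be26) (.leaf (nat_lit 0xc7083be06) (nat_lit 2048))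
 (.node (nat_lit 0xc7084a656) (.leaf (nat_lit 0xc7083be26) (nat_lit 3330))
 (.leaf (nat_lit 0xc7084a656) (nat_lit 2563))
)) (.node (nat_lit 0xc7084ae06) (.leaf (nat_lit 0xc7084a676) (nat_lit 3329))
 (.node (nat_lit 0xc7084ae26) (.leaf (nat_lit 0xc7084ae06) (nat_lit 2051))
 (.leaf (nat_lit 0xc7084ae26) (nat_lit 3330))
))))))) (.node (nat_lit 0xc7141bb96) (.node (nat_lit 0xc7087a676) (.node (nat_lit 0xc7085ba46) (.node (nat_lit 0xc7085a666) (.node (nat_lit 0xc7084ba56) (.node (nat_lit 0xc7084b226) (.leaf (nat_lit 0xc7084b206) (nat_lit 1283))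
 (.leaf (nat_lit 0xc7084b226) (nat_lit 2563))
) (.node (nat_lit 0xc7084ba76) (.leaf (nat_lit 0xc7084ba56) (nat_lit 3331))
 (.node (nat_lit 0xc7085a646) (.leaf (nat_lit 0xc7084ba76) (nat_lit 3329))
 (.leaf (nat_lit 0xc7085a646) (nat_lit 3331))
))) (.node (nat_lit 0xc7085ae36) (.node (nat_lit 0xc7085ae16) (.leaf (nat_lit 0xc7085a666) (nat_lit 2816))
 (.leaf (nat_lit 0xc7085ae16) (nat_lit 3332))
) (.node (nat_lit 0xc7085b216) (.leaf (nat_lit 0xc7085ae36) (nat_lit 2817))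
 (.node (nat_lit 0xc7085b236) (.leaf (nat_lit 0xc7085b216) (nat_lit 2563))
 (.leaf (nat_lit 0xc7085b236) (nat_lit 3330))
)))) (.node (nat_lit 0xc7086ae36) (.node (nat_lit 0xc7086a646) (.node (nat_lit 0xc7085ba66) (.leaf (nat_lit 0xc7085ba46) (nat_lit 3074))
 (.leaf (nat_lit 0xc7085ba66) (nat_lit 2049))
) (.node (nat_lit 0xc7086a666) (.leaf (nat_lit 0xc7086a646) (nat_lit 3330))
 (.node (nat_lit 0xc7086ae16) (.leaf (nat_lit 0xc7086a666) (nat_lit 2563))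
 (.leaf (nat_lit 0xc7086ae16) (nat_lit 3588))
))) (.node (nat_lit 0xc7086ba46) (.node (nat_lit 0xc7086b216) (.leaf (nat_lit 0xc7086ae36) (nat_lit 2561))
 (.node (nat_lit 0xc7086b236) (.leaf (nat_lit 0xc7086b216) (nat_lit 2816))
 (.leaf (nat_lit 0xc7086b236) (nat_lit 3329))
)) (.node (nat_lit 0xc7086ba66) (.leaf (nat_lit 0xc7086ba46) (nat_lit 2818))
 (.node (nat_lit 0xc7087a656) (.leaf (nat_lit 0xc7086ba66) (nat_lit 1793))
 (.leaf (nat_lit 0xc7087a656) (nat_lit 2816))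
))))) (.node (nat_lit 0xc7140abf6) (.node (nat_lit 0xc7087ba56) (.node (nat_lit 0xc7087ae26) (.node (nat_lit 0xc7087ae06) (.leaf (nat_lit 0xc7087a676) (nat_lit 3585))
 (.leaf (nat_lit 0xc7087ae06) (nat_lit 2304))
) (.node (nat_lit 0xc7087b206) (.leaf (nat_lit 0xc7087ae26) (nat_lit 3586))
 (.node (nat_lit 0xc7087b226) (.leaf (nat_lit 0xc7087b206) (nat_lit 1536))
 (.leaf (nat_lit 0xc7087b226) (nat_lit 2816))
))) (.node (nat_lit 0xc7140a386) (.node (nat_lit 0xc7087ba76) (.leaf (nat_lit 0xc7087ba56) (nat_lit 3584))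
 (.leaf (nat_lit 0xc7087ba76) (nat_lit 3073))
) (.node (nat_lit 0xc7140a3d6) (.leaf (nat_lit 0xc7140a386) (nat_lit 1283))
 (.node (nat_lit 0xc7140aba6) (.leaf (nat_lit 0xc7140a3d6) (nat_lit 2563))
 (.leaf (nat_lit 0xc7140aba6) (nat_lit 2307))
)))) (.node (nat_lit 0xc7141a796) (.node (nat_lit 0xc7140b7f6) (.node (nat_lit 0xc7140b7a6) (.leaf (nat_lit 0xc7140abf6) (nat_lit 3076))
 (.leaf (nat_lit 0xc7140b7a6) (nat_lit 2820))
) (.node (nat_lit 0xc7140bf86) (.leaf (nat_lit 0xc7140b7f6) (nat_lit 3329))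
 (.node (nat_lit 0xc7140bfd6) (.leaf (nat_lit 0xc7140bf86) (nat_lit 1796))
 (.leaf (nat_lit 0xc7140bfd6) (nat_lit 3076))
))) (.node (nat_lit 0xc7141afe6) (.node (nat_lit 0xc7141a7c6) (.leaf (nat_lit 0xc7141a796) (nat_lit 2563))
 (.node (nat_lit 0xc7141afb6) (.leaf (nat_lit 0xc7141a7c6) (nat_lit 3331))
 (.leaf (nat_lit 0xc7141afb6) (nat_lit 2817))
)) (.node (nat_lit 0xc7141b3b6) (.leaf (nat_lit 0xc7141afe6) (nat_lit 3076))
 (.node (nat_lit 0xc7141b3e6) (.leaf (nat_lit 0xc7141b3b6) (nat_lit 3330))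
 (.leaf (nat_lit 0xc7141b3e6) (nat_lit 2562))
)))))) (.node (nat_lit 0xc7144afd6) (.node (nat_lit 0xc7143a386) (.node (nat_lit 0xc7142afe6) (.node (nat_lit 0xc7142a796) (.node (nat_lit 0xc7141bbc6) (.leaf (nat_lit 0xc7141bb96) (nat_lit 3073))
 (.leaf (nat_lit 0xc7141bbc6) (nat_lit 3076))
) (.node (nat_lit 0xc7142a7c6) (.leaf (nat_lit 0xc7142a796) (nat_lit 2816))
 (.node (nat_lit 0xc7142afb6) (.leaf (nat_lit 0xc7142a7c6) (nat_lit 3332))
 (.leaf (nat_lit 0xc7142afb6) (nat_lit 3073))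
))) (.node (nat_lit 0xc7142b3e6) (.node (nat_lit 0xc7142b3b6) (.leaf (nat_lit 0xc7142afe6) (nat_lit 2820))
 (.leaf (nat_lit 0xc7142b3b6) (nat_lit 3074))
) (.node (nat_lit 0xc7142bb96) (.leaf (nat_lit 0xc7142b3e6) (nat_lit 2306))
 (.node (nat_lit 0xc7142bbc6) (.leaf (nat_lit 0xc7142bb96) (nat_lit 3329))
 (.leaf (nat_lit 0xc7142bbc6) (nat_lit 2820))
)))) (.node (nat_lit 0xc7143b7f6) (.node (nat_lit 0xc7143aba6) (.node (nat_lit 0xc7143a3d6) (.leaf (nat_lit 0xc7143a386) (nat_lit 1536))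
 (.leaf (nat_lit 0xc7143a3d6) (nat_lit 2816))
) (.node (nat_lit 0xc7143abf6) (.leaf (nat_lit 0xc7143aba6) (nat_lit 2560))
 (.node (nat_lit 0xc7143b7a6) (.leaf (nat_lit 0xc7143abf6) (nat_lit 3332))
 (.leaf (nat_lit 0xc7143b7a6) (nat_lit 3076))
))) (.node (nat_lit 0xc7144a7a6) (.node (nat_lit 0xc7143bf86) (.leaf (nat_lit 0xc7143b7f6) (nat_lit 3073))
 (.node (nat_lit 0xc7143bfd6) (.leaf (nat_lit 0xc7143bf86) (nat_lit 2052))
 (.leaf (nat_lit 0xc7143bfd6) (nat_lit 3332))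
)) (.node (nat_lit 0xc7144a7f6) (.leaf (nat_lit 0xc7144a7a6) (nat_lit 3076))
 (.node (nat_lit 0xc7144af86) (.leaf (nat_lit 0xc7144a7f6) (nat_lit 3073))
 (.leaf (nat_lit 0xc7144af86) (nat_lit 2052))
))))) (.node (nat_lit 0xc7145b7c6) (.node (nat_lit 0xc7145a3b6) (.node (nat_lit 0xc7144b3d6) (.node (nat_lit 0xc7144b386) (.leaf (nat_lit 0xc7144afd6) (nat_lit 3332))
 (.leaf (nat_lit 0xc7144b386) (nat_lit 1539))
) (.node (nat_lit 0xc7144bba6) (.leaf (nat_lit 0xc7144b3d6) (nat_lit 2819))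
 (.node (nat_lit 0xc7144bbf6) (.leaf (nat_lit 0xc7144bba6) (nat_lit 2563))
 (.leaf (nat_lit 0xc7144bbf6) (nat_lit 3332))
))) (.node (nat_lit 0xc7145ab96) (.node (nat_lit 0xc7145a3e6) (.leaf (nat_lit 0xc7145a3b6) (nat_lit 3074))
 (.leaf (nat_lit 0xc7145a3e6) (nat_lit 2306))
) (.node (nat_lit 0xc7145abc6) (.leaf (nat_lit 0xc7145ab96) (nat_lit 3329))
 (.node (nat_lit 0xc7145b796) (.leaf (nat_lit 0xc7145abc6) (nat_lit 2820))
 (.leaf (nat_lit 0xc7145b796) (nat_lit 2819))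
)))) (.node (nat_lit 0xc7146ab96) (.node (nat_lit 0xc7145bfe6) (.node (nat_lit 0xc7145bfb6) (.leaf (nat_lit 0xc7145b7c6) (nat_lit 3332))
 (.leaf (nat_lit 0xc7145bfb6) (nat_lit 3073))
) (.node (nat_lit 0xc7146a3b6) (.leaf (nat_lit 0xc7145bfe6) (nat_lit 2820))
 (.node (nat_lit 0xc7146a3e6) (.leaf (nat_lit 0xc7146a3b6) (nat_lit 2818))
 (.leaf (nat_lit 0xc7146a3e6) (nat_lit 2050))
))) (.node (nat_lit 0xc7146b7c6) (.node (nat_lit 0xc7146abc6) (.leaf (nat_lit 0xc7146ab96) (nat_lit 3585))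
 (.node (nat_lit 0xc7146b796) (.leaf (nat_lit 0xc7146abc6) (nat_lit 2564))
 (.leaf (nat_lit 0xc7146b796) (nat_lit 3072))
)) (.node (nat_lit 0xc7146bfb6) (.leaf (nat_lit 0xc7146b7c6) (nat_lit 3076))
 (.node (nat_lit 0xc7146bfe6) (.leaf (nat_lit 0xc7146bfb6) (nat_lit 3329))
 (.leaf (nat_lit 0xc7146bfe6) (nat_lit 2564))
)))))))) (.node (nat_lit 0x1010819894) (.node (nat_lit 0xc7184cf86) (.node (nat_lit 0xc7181d3d6) (.node (nat_lit 0xc7180c796) (.node (nat_lit 0xc7147b3d6) (.node (nat_lit 0xc7147af86) (.node (nat_lit 0xc7147a7f6) (.leaf (nat_lit 0xc7147a7a6) (nat_lit 3332))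
 (.leaf (nat_lit 0xc7147a7f6) (nat_lit 2817))
) (.node (nat_lit 0xc7147afd6) (.leaf (nat_lit 0xc7147af86) (nat_lit 2308))
 (.node (nat_lit 0xc7147b386) (.leaf (nat_lit 0xc7147afd6) (nat_lit 3329))
 (.leaf (nat_lit 0xc7147b386) (nat_lit 1792))
))) (.node (nat_lit 0xc7147bbf6) (.node (nat_lit 0xc7147bba6) (.leaf (nat_lit 0xc7147b3d6) (nat_lit 3072))
 (.leaf (nat_lit 0xc7147bba6) (nat_lit 2816))
) (.node (nat_lit 0xc7180c386) (.leaf (nat_lit 0xc7147bbf6) (nat_lit 3588))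
 (.node (nat_lit 0xc7180c3e6) (.leaf (nat_lit 0xc7180c386) (nat_lit 1027))
 (.leaf (nat_lit 0xc7180c3e6) (nat_lit 1795))
)))) (.node (nat_lit 0xc7180dfe6) (.node (nat_lit 0xc7180db96) (.node (nat_lit 0xc7180c7f6) (.leaf (nat_lit 0xc7180c796) (nat_lit 2563))
 (.leaf (nat_lit 0xc7180c7f6) (nat_lit 3331))
) (.node (nat_lit 0xc7180dbf6) (.leaf (nat_lit 0xc7180db96) (nat_lit 3332))
 (.node (nat_lit 0xc7180df86) (.leaf (nat_lit 0xc7180dbf6) (nat_lit 3074))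
 (.leaf (nat_lit 0xc7180df86) (nat_lit 1795))
))) (.node (nat_lit 0xc7181cfb6) (.node (nat_lit 0xc7181cba6) (.leaf (nat_lit 0xc7180dfe6) (nat_lit 2563))
 (.node (nat_lit 0xc7181cbc6) (.leaf (nat_lit 0xc7181cba6) (nat_lit 2048))
 (.leaf (nat_lit 0xc7181cbc6) (nat_lit 2816))
)) (.node (nat_lit 0xc7181cfd6) (.leaf (nat_lit 0xc7181cfb6) (nat_lit 3329))
 (.node (nat_lit 0xc7181d3b6) (.leaf (nat_lit 0xc7181cfd6) (nat_lit 3074))
 (.leaf (nat_lit 0xc7181d3b6) (nat_lit 2562))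
))))) (.node (nat_lit 0xc7182d7c6) (.node (nat_lit 0xc7182cfb6) (.node (nat_lit 0xc7181d7c6) (.node (nat_lit 0xc7181d7a6) (.leaf (nat_lit 0xc7181d3d6) (nat_lit 2306))
 (.leaf (nat_lit 0xc7181d7a6) (nat_lit 3074))
) (.node (nat_lit 0xc7182cba6) (.leaf (nat_lit 0xc7181d7c6) (nat_lit 3330))
 (.node (nat_lit 0xc7182cbc6) (.leaf (nat_lit 0xc7182cba6) (nat_lit 1795))
 (.leaf (nat_lit 0xc7182cbc6) (nat_lit 2563))
))) (.node (nat_lit 0xc7182d3b6) (.node (nat_lit 0xc7182cfd6) (.leaf (nat_lit 0xc7182cfb6) (nat_lit 3073))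
 (.leaf (nat_lit 0xc7182cfd6) (nat_lit 3330))
) (.node (nat_lit 0xc7182d3d6) (.leaf (nat_lit 0xc7182d3b6) (nat_lit 2818))
 (.node (nat_lit 0xc7182d7a6) (.leaf (nat_lit 0xc7182d3d6) (nat_lit 2562))
 (.leaf (nat_lit 0xc7182d7a6) (nat_lit 2818))
)))) (.node (nat_lit 0xc7183db96) (.node (nat_lit 0xc7183c3e6) (.node (nat_lit 0xc7183c386) (.leaf (nat_lit 0xc7182d7c6) (nat_lit 3074))
 (.leaf (nat_lit 0xc7183c386) (nat_lit 1280))
) (.node (nat_lit 0xc7183c796) (.leaf (nat_lit 0xc7183c3e6) (nat_lit 2048))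
 (.node (nat_lit 0xc7183c7f6) (.leaf (nat_lit 0xc7183c796) (nat_lit 2816))
 (.leaf (nat_lit 0xc7183c7f6) (nat_lit 3585))
))) (.node (nat_lit 0xc7183dfe6) (.node (nat_lit 0xc7183dbf6) (.leaf (nat_lit 0xc7183db96) (nat_lit 3585))
 (.node (nat_lit 0xc7183df86) (.leaf (nat_lit 0xc7183dbf6) (nat_lit 2818))
 (.leaf (nat_lit 0xc7183df86) (nat_lit 2048))
)) (.node (nat_lit 0xc7184cb96) (.leaf (nat_lit 0xc7183dfe6) (nat_lit 2816))
 (.node (nat_lit 0xc7184cbf6) (.leaf (nat_lit 0xc7184cb96) (nat_lit 3588))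
 (.leaf (nat_lit 0xc7184cbf6) (nat_lit 2818))
)))))) (.node (nat_lit 0xc7186dfd6) (.node (nat_lit 0xc7185dba6) (.node (nat_lit 0xc7184d7f6) (.node (nat_lit 0xc7184d386) (.node (nat_lit 0xc7184cfe6) (.leaf (nat_lit 0xc7184cf86) (nat_lit 2051))
 (.leaf (nat_lit 0xc7184cfe6) (nat_lit 2819))
) (.node (nat_lit 0xc7184d3e6) (.leaf (nat_lit 0xc7184d386) (nat_lit 1283))
 (.node (nat_lit 0xc7184d796) (.leaf (nat_lit 0xc7184d3e6) (nat_lit 2051))
 (.leaf (nat_lit 0xc7184d796) (nat_lit 2819))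
))) (.node (nat_lit 0xc7185c3d6) (.node (nat_lit 0xc7185c3b6) (.leaf (nat_lit 0xc7184d7f6) (nat_lit 3587))
 (.leaf (nat_lit 0xc7185c3b6) (nat_lit 2306))
) (.node (nat_lit 0xc7185c7a6) (.leaf (nat_lit 0xc7185c3d6) (nat_lit 2050))
 (.node (nat_lit 0xc7185c7c6) (.leaf (nat_lit 0xc7185c7a6) (nat_lit 3330))
 (.leaf (nat_lit 0xc7185c7c6) (nat_lit 3332))
)))) (.node (nat_lit 0xc7186c3d6) (.node (nat_lit 0xc7185dfb6) (.node (nat_lit 0xc7185dbc6) (.leaf (nat_lit 0xc7185dba6) (nat_lit 2304))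
 (.leaf (nat_lit 0xc7185dbc6) (nat_lit 3072))
) (.node (nat_lit 0xc7185dfd6) (.leaf (nat_lit 0xc7185dfb6) (nat_lit 3331))
 (.node (nat_lit 0xc7186c3b6) (.leaf (nat_lit 0xc7185dfd6) (nat_lit 2818))
 (.leaf (nat_lit 0xc7186c3b6) (nat_lit 2562))
))) (.node (nat_lit 0xc7186dba6) (.node (nat_lit 0xc7186c7a6) (.leaf (nat_lit 0xc7186c3d6) (nat_lit 2306))
 (.node (nat_lit 0xc7186c7c6) (.leaf (nat_lit 0xc7186c7a6) (nat_lit 3074))
 (.leaf (nat_lit 0xc7186c7c6) (nat_lit 3330))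
)) (.node (nat_lit 0xc7186dbc6) (.leaf (nat_lit 0xc7186dba6) (nat_lit 2051))
 (.node (nat_lit 0xc7186dfb6) (.leaf (nat_lit 0xc7186dbc6) (nat_lit 2819))
 (.leaf (nat_lit 0xc7186dfb6) (nat_lit 3329))
))))) (.node (nat_lit 0x10108080a4) (.node (nat_lit 0xc7187d386) (.node (nat_lit 0xc7187cbf6) (.node (nat_lit 0xc7187cb96) (.leaf (nat_lit 0xc7186dfd6) (nat_lit 3074))
 (.leaf (nat_lit 0xc7187cb96) (nat_lit 3329))
) (.node (nat_lit 0xc7187cf86) (.leaf (nat_lit 0xc7187cbf6) (nat_lit 2562))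
 (.node (nat_lit 0xc7187cfe6) (.leaf (nat_lit 0xc7187cf86) (nat_lit 2304))
 (.leaf (nat_lit 0xc7187cfe6) (nat_lit 3072))
))) (.node (nat_lit 0xc7187d796) (.node (nat_lit 0xc7187d3e6) (.leaf (nat_lit 0xc7187d386) (nat_lit 1536))
 (.leaf (nat_lit 0xc7187d3e6) (nat_lit 2304))
) (.node (nat_lit 0xc7187d7f6) (.leaf (nat_lit 0xc7187d796) (nat_lit 3072))
 (.node (nat_lit 0x1010808084) (.leaf (nat_lit 0xc7187d7f6) (nat_lit 3329))
 (.leaf (nat_lit 0x1010808084) (nat_lit 769))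
)))) (.node (nat_lit 0x1010808c94) (.node (nat_lit 0x10108084a4) (.node (nat_lit 0x1010808484) (.leaf (nat_lit 0x10108080a4) (nat_lit 2050))
 (.leaf (nat_lit 0x1010808484) (nat_lit 2052))
) (.node (nat_lit 0x1010808894) (.leaf (nat_lit 0x10108084a4) (nat_lit 2818))
 (.node (nat_lit 0x10108088b4) (.leaf (nat_lit 0x1010808894) (nat_lit 3331))
 (.leaf (nat_lit 0x10108088b4) (nat_lit 2820))
))) (.node (nat_lit 0x10108190a4) (.node (nat_lit 0x1010808cb4) (.leaf (nat_lit 0x1010808c94) (nat_lit 2817))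
 (.node (nat_lit 0x1010819084) (.leaf (nat_lit 0x1010808cb4) (nat_lit 2052))
 (.leaf (nat_lit 0x1010819084) (nat_lit 3076))
)) (.node (nat_lit 0x1010819484) (.leaf (nat_lit 0x10108190a4) (nat_lit 3329))
 (.node (nat_lit 0x10108194a4) (.leaf (nat_lit 0x1010819484) (nat_lit 1795))
 (.leaf (nat_lit 0x10108194a4) (nat_lit 3075))
))))))) (.node (nat_lit 0x1010868cd4) (.node (nat_lit 0x10108480a4) (.node (nat_lit 0x1010828cd4) (.node (nat_lit 0x10108280e4) (.node (nat_lit 0x1010819c94) (.node (nat_lit 0x10108198b4) (.leaf (nat_lit 0x1010819894) (nat_lit 3332))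
 (.leaf (nat_lit 0x10108198b4) (nat_lit 3075))
) (.node (nat_lit 0x1010819cb4) (.leaf (nat_lit 0x1010819c94) (nat_lit 2305))
 (.node (nat_lit 0x10108280c4) (.leaf (nat_lit 0x1010819cb4) (nat_lit 3329))
 (.leaf (nat_lit 0x10108280c4) (nat_lit 3074))
))) (.node (nat_lit 0x10108284e4) (.node (nat_lit 0x10108284c4) (.leaf (nat_lit 0x10108280e4) (nat_lit 1794))
 (.leaf (nat_lit 0x10108284c4) (nat_lit 3331))
) (.node (nat_lit 0x10108288d4) (.leaf (nat_lit 0x10108284e4) (nat_lit 3076))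
 (.node (nat_lit 0x10108288f4) (.leaf (nat_lit 0x10108288d4) (nat_lit 3331))
 (.leaf (nat_lit 0x10108288f4) (nat_lit 2307))
)))) (.node (nat_lit 0x10108394e4) (.node (nat_lit 0x10108390c4) (.node (nat_lit 0x1010828cf4) (.leaf (nat_lit 0x1010828cd4) (nat_lit 3076))
 (.leaf (nat_lit 0x1010828cf4) (nat_lit 3331))
) (.node (nat_lit 0x10108390e4) (.leaf (nat_lit 0x10108390c4) (nat_lit 3076))
 (.node (nat_lit 0x10108394c4) (.leaf (nat_lit 0x10108390e4) (nat_lit 3331))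
 (.leaf (nat_lit 0x10108394c4) (nat_lit 3331))
))) (.node (nat_lit 0x1010839cd4) (.node (nat_lit 0x10108398d4) (.leaf (nat_lit 0x10108394e4) (nat_lit 2051))
 (.node (nat_lit 0x10108398f4) (.leaf (nat_lit 0x10108398d4) (nat_lit 3331))
 (.leaf (nat_lit 0x10108398f4) (nat_lit 3076))
)) (.node (nat_lit 0x1010839cf4) (.leaf (nat_lit 0x1010839cd4) (nat_lit 3073))
 (.node (nat_lit 0x1010848084) (.leaf (nat_lit 0x1010839cf4) (nat_lit 1793))
 (.leaf (nat_lit 0x1010848084) (nat_lit 1025))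
))))) (.node (nat_lit 0x10108594a4) (.node (nat_lit 0x1010848c94) (.node (nat_lit 0x10108484a4) (.node (nat_lit 0x1010848484) (.leaf (nat_lit 0x10108480a4) (nat_lit 2306))
 (.leaf (nat_lit 0x1010848484) (nat_lit 2308))
) (.node (nat_lit 0x1010848894) (.leaf (nat_lit 0x10108484a4) (nat_lit 3074))
 (.node (nat_lit 0x10108488b4) (.leaf (nat_lit 0x1010848894) (nat_lit 3075))
 (.leaf (nat_lit 0x10108488b4) (nat_lit 3076))
))) (.node (nat_lit 0x1010859084) (.node (nat_lit 0x1010848cb4) (.leaf (nat_lit 0x1010848c94) (nat_lit 3073))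
 (.leaf (nat_lit 0x1010848cb4) (nat_lit 2308))
) (.node (nat_lit 0x10108590a4) (.leaf (nat_lit 0x1010859084) (nat_lit 2820))
 (.node (nat_lit 0x1010859484) (.leaf (nat_lit 0x10108590a4) (nat_lit 3585))
 (.leaf (nat_lit 0x1010859484) (nat_lit 1539))
)))) (.node (nat_lit 0x10108680c4) (.node (nat_lit 0x10108598b4) (.node (nat_lit 0x1010859894) (.leaf (nat_lit 0x10108594a4) (nat_lit 2819))
 (.leaf (nat_lit 0x1010859894) (nat_lit 3588))
) (.node (nat_lit 0x1010859c94) (.leaf (nat_lit 0x10108598b4) (nat_lit 2819))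
 (.node (nat_lit 0x1010859cb4) (.leaf (nat_lit 0x1010859c94) (nat_lit 2561))
 (.leaf (nat_lit 0x1010859cb4) (nat_lit 3585))
))) (.node (nat_lit 0x10108684e4) (.node (nat_lit 0x10108680e4) (.leaf (nat_lit 0x10108680c4) (nat_lit 2818))
 (.node (nat_lit 0x10108684c4) (.leaf (nat_lit 0x10108680e4) (nat_lit 1538))
 (.leaf (nat_lit 0x10108684c4) (nat_lit 3587))
)) (.node (nat_lit 0x10108688d4) (.leaf (nat_lit 0x10108684e4) (nat_lit 2820))
 (.node (nat_lit 0x10108688f4) (.leaf (nat_lit 0x10108688d4) (nat_lit 3587))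
 (.leaf (nat_lit 0x10108688f4) (nat_lit 2563))
)))))) (.node (nat_lit 0x1010c195b4) (.node (nat_lit 0x1010c08184) (.node (nat_lit 0x10108794e4) (.node (nat_lit 0x10108790c4) (.node (nat_lit 0x1010868cf4) (.leaf (nat_lit 0x1010868cd4) (nat_lit 2820))
 (.leaf (nat_lit 0x1010868cf4) (nat_lit 3587))
) (.node (nat_lit 0x10108790e4) (.leaf (nat_lit 0x10108790c4) (nat_lit 2820))
 (.node (nat_lit 0x10108794c4) (.leaf (nat_lit 0x10108790e4) (nat_lit 3587))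
 (.leaf (nat_lit 0x10108794c4) (nat_lit 3587))
))) (.node (nat_lit 0x10108798f4) (.node (nat_lit 0x10108798d4) (.leaf (nat_lit 0x10108794e4) (nat_lit 2307))
 (.leaf (nat_lit 0x10108798d4) (nat_lit 3587))
) (.node (nat_lit 0x1010879cd4) (.leaf (nat_lit 0x10108798f4) (nat_lit 2820))
 (.node (nat_lit 0x1010879cf4) (.leaf (nat_lit 0x1010879cd4) (nat_lit 2817))
 (.leaf (nat_lit 0x1010879cf4) (nat_lit 1537))
)))) (.node (nat_lit 0x1010c089a4) (.node (nat_lit 0x1010c08584) (.node (nat_lit 0x1010c081b4) (.leaf (nat_lit 0x1010c08184) (nat_lit 513))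
 (.leaf (nat_lit 0x1010c081b4) (nat_lit 2306))
) (.node (nat_lit 0x1010c085b4) (.leaf (nat_lit 0x1010c08584) (nat_lit 1796))
 (.node (nat_lit 0x1010c08994) (.leaf (nat_lit 0x1010c085b4) (nat_lit 3074))
 (.leaf (nat_lit 0x1010c08994) (nat_lit 3073))
))) (.node (nat_lit 0x1010c19184) (.node (nat_lit 0x1010c08d94) (.leaf (nat_lit 0x1010c089a4) (nat_lit 1796))
 (.node (nat_lit 0x1010c08da4) (.leaf (nat_lit 0x1010c08d94) (nat_lit 3075))
 (.leaf (nat_lit 0x1010c08da4) (nat_lit 2564))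
)) (.node (nat_lit 0x1010c191b4) (.leaf (nat_lit 0x1010c19184) (nat_lit 2820))
 (.node (nat_lit 0x1010c19584) (.leaf (nat_lit 0x1010c191b4) (nat_lit 3331))
 (.leaf (nat_lit 0x1010c19584) (nat_lit 1539))
))))) (.node (nat_lit 0x1010c299e4) (.node (nat_lit 0x1010c291c4) (.node (nat_lit 0x1010c199a4) (.node (nat_lit 0x1010c19994) (.leaf (nat_lit 0x1010c195b4) (nat_lit 3331))
 (.leaf (nat_lit 0x1010c19994) (nat_lit 2561))
) (.node (nat_lit 0x1010c19d94) (.leaf (nat_lit 0x1010c199a4) (nat_lit 3587))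
 (.node (nat_lit 0x1010c19da4) (.leaf (nat_lit 0x1010c19d94) (nat_lit 3076))
 (.leaf (nat_lit 0x1010c19da4) (nat_lit 2819))
))) (.node (nat_lit 0x1010c295c4) (.node (nat_lit 0x1010c291f4) (.leaf (nat_lit 0x1010c291c4) (nat_lit 2820))
 (.leaf (nat_lit 0x1010c291f4) (nat_lit 3587))
) (.node (nat_lit 0x1010c295f4) (.leaf (nat_lit 0x1010c295c4) (nat_lit 3588))
 (.node (nat_lit 0x1010c299d4) (.leaf (nat_lit 0x1010c295f4) (nat_lit 2307))
 (.leaf (nat_lit 0x1010c299d4) (nat_lit 3329))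
)))) (.node (nat_lit 0x1010c385c4) (.node (nat_lit 0x1010c29de4) (.node (nat_lit 0x1010c29dd4) (.leaf (nat_lit 0x1010c299e4) (nat_lit 1537))
 (.leaf (nat_lit 0x1010c29dd4) (nat_lit 3075))
) (.node (nat_lit 0x1010c381c4) (.leaf (nat_lit 0x1010c29de4) (nat_lit 2820))
 (.node (nat_lit 0x1010c381f4) (.leaf (nat_lit 0x1010c381c4) (nat_lit 3330))
 (.leaf (nat_lit 0x1010c381f4) (nat_lit 2050))
))) (.node (nat_lit 0x1010c389e4) (.node (nat_lit 0x1010c385f4) (.leaf (nat_lit 0x1010c385c4) (nat_lit 3075))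
 (.node (nat_lit 0x1010c389d4) (.leaf (nat_lit 0x1010c385f4) (nat_lit 3076))
 (.leaf (nat_lit 0x1010c389d4) (nat_lit 3075))
)) (.node (nat_lit 0x1010c38dd4) (.leaf (nat_lit 0x1010c389e4) (nat_lit 3075))
 (.node (nat_lit 0x1010c38de4) (.leaf (nat_lit 0x1010c38dd4) (nat_lit 3588))
 (.leaf (nat_lit 0x1010c38de4) (nat_lit 2051))
)))))))))) (.node (nat_lit 0x102146a522) (.node (nat_lit 0x1020418142) (.node (nat_lit 0x101186d8b4) (.node (nat_lit 0x101181cc94) (.node (nat_lit 0x1010c699e4) (.node (nat_lit 0x1010c59584) (.node (nat_lit 0x1010c489a4) (.node (nat_lit 0x1010c48584) (.node (nat_lit 0x1010c481b4) (.leaf (nat_lit 0x1010c48184) (nat_lit 769))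
 (.leaf (nat_lit 0x1010c481b4) (nat_lit 2562))
) (.node (nat_lit 0x1010c485b4) (.leaf (nat_lit 0x1010c48584) (nat_lit 2052))
 (.node (nat_lit 0x1010c48994) (.leaf (nat_lit 0x1010c485b4) (nat_lit 3330))
 (.leaf (nat_lit 0x1010c48994) (nat_lit 3329))
))) (.node (nat_lit 0x1010c48da4) (.node (nat_lit 0x1010c48d94) (.leaf (nat_lit 0x1010c489a4) (nat_lit 2052))
 (.leaf (nat_lit 0x1010c48d94) (nat_lit 2819))
) (.node (nat_lit 0x1010c59184) (.leaf (nat_lit 0x1010c48da4) (nat_lit 2820))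
 (.node (nat_lit 0x1010c591b4) (.leaf (nat_lit 0x1010c59184) (nat_lit 2564))
 (.leaf (nat_lit 0x1010c591b4) (nat_lit 3587))
)))) (.node (nat_lit 0x1010c59da4) (.node (nat_lit 0x1010c59994) (.node (nat_lit 0x1010c595b4) (.leaf (nat_lit 0x1010c59584) (nat_lit 1283))
 (.leaf (nat_lit 0x1010c595b4) (nat_lit 3075))
) (.node (nat_lit 0x1010c599a4) (.leaf (nat_lit 0x1010c59994) (nat_lit 2817))
 (.node (nat_lit 0x1010c59d94) (.leaf (nat_lit 0x1010c599a4) (nat_lit 3331))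
 (.leaf (nat_lit 0x1010c59d94) (nat_lit 3332))
))) (.node (nat_lit 0x1010c695c4) (.node (nat_lit 0x1010c691c4) (.leaf (nat_lit 0x1010c59da4) (nat_lit 2563))
 (.node (nat_lit 0x1010c691f4) (.leaf (nat_lit 0x1010c691c4) (nat_lit 2564))
 (.leaf (nat_lit 0x1010c691f4) (nat_lit 3843))
)) (.node (nat_lit 0x1010c695f4) (.leaf (nat_lit 0x1010c695c4) (nat_lit 3332))
 (.node (nat_lit 0x1010c699d4) (.leaf (nat_lit 0x1010c695f4) (nat_lit 2563))
 (.leaf (nat_lit 0x1010c699d4) (nat_lit 3073))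
))))) (.node (nat_lit 0x1010c78de4) (.node (nat_lit 0x1010c785c4) (.node (nat_lit 0x1010c69de4) (.node (nat_lit 0x1010c69dd4) (.leaf (nat_lit 0x1010c699e4) (nat_lit 1281))
 (.leaf (nat_lit 0x1010c69dd4) (nat_lit 3331))
) (.node (nat_lit 0x1010c781c4) (.leaf (nat_lit 0x1010c69de4) (nat_lit 2564))
 (.node (nat_lit 0x1010c781f4) (.leaf (nat_lit 0x1010c781c4) (nat_lit 3074))
 (.leaf (nat_lit 0x1010c781f4) (nat_lit 1794))
))) (.node (nat_lit 0x1010c789d4) (.node (nat_lit 0x1010c785f4) (.leaf (nat_lit 0x1010c785c4) (nat_lit 3331))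
 (.leaf (nat_lit 0x1010c785f4) (nat_lit 2820))
) (.node (nat_lit 0x1010c789e4) (.leaf (nat_lit 0x1010c789d4) (nat_lit 2819))
 (.node (nat_lit 0x1010c78dd4) (.leaf (nat_lit 0x1010c789e4) (nat_lit 3331))
 (.leaf (nat_lit 0x1010c78dd4) (nat_lit 3332))
)))) (.node (nat_lit 0x101180d894) (.node (nat_lit 0x101180c0e4) (.node (nat_lit 0x101180c084) (.leaf (nat_lit 0x1010c78de4) (nat_lit 2307))
 (.leaf (nat_lit 0x101180c084) (nat_lit 1025))
) (.node (nat_lit 0x101180c484) (.leaf (nat_lit 0x101180c0e4) (nat_lit 1793))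
 (.node (nat_lit 0x101180c4e4) (.leaf (nat_lit 0x101180c484) (nat_lit 2052))
 (.leaf (nat_lit 0x101180c4e4) (nat_lit 2820))
))) (.node (nat_lit 0x101180dcf4) (.node (nat_lit 0x101180d8f4) (.leaf (nat_lit 0x101180d894) (nat_lit 3332))
 (.node (nat_lit 0x101180dc94) (.leaf (nat_lit 0x101180d8f4) (nat_lit 3076))
 (.leaf (nat_lit 0x101180dc94) (nat_lit 2561))
)) (.node (nat_lit 0x101181c894) (.leaf (nat_lit 0x101180dcf4) (nat_lit 1793))
 (.node (nat_lit 0x101181c8f4) (.leaf (nat_lit 0x101181c894) (nat_lit 3585))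
 (.leaf (nat_lit 0x101181c8f4) (nat_lit 2819))
)))))) (.node (nat_lit 0x101183d4c4) (.node (nat_lit 0x101182d8b4) (.node (nat_lit 0x101181d4e4) (.node (nat_lit 0x101181d084) (.node (nat_lit 0x101181ccf4) (.leaf (nat_lit 0x101181cc94) (nat_lit 2561))
 (.leaf (nat_lit 0x101181ccf4) (nat_lit 3329))
) (.node (nat_lit 0x101181d0e4) (.leaf (nat_lit 0x101181d084) (nat_lit 3076))
 (.node (nat_lit 0x101181d484) (.leaf (nat_lit 0x101181d0e4) (nat_lit 3585))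
 (.leaf (nat_lit 0x101181d484) (nat_lit 2051))
))) (.node (nat_lit 0x101182c0c4) (.node (nat_lit 0x101182c0a4) (.leaf (nat_lit 0x101181d4e4) (nat_lit 2819))
 (.leaf (nat_lit 0x101182c0a4) (nat_lit 1794))
) (.node (nat_lit 0x101182c4a4) (.leaf (nat_lit 0x101182c0c4) (nat_lit 2562))
 (.node (nat_lit 0x101182c4c4) (.leaf (nat_lit 0x101182c4a4) (nat_lit 2820))
 (.leaf (nat_lit 0x101182c4c4) (nat_lit 3587))
)))) (.node (nat_lit 0x101183c8d4) (.node (nat_lit 0x101182dcb4) (.node (nat_lit 0x101182d8d4) (.leaf (nat_lit 0x101182d8b4) (nat_lit 2819))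
 (.leaf (nat_lit 0x101182d8d4) (nat_lit 3329))
) (.node (nat_lit 0x101182dcd4) (.leaf (nat_lit 0x101182dcb4) (nat_lit 3585))
 (.node (nat_lit 0x101183c8b4) (.leaf (nat_lit 0x101182dcd4) (nat_lit 3075))
 (.leaf (nat_lit 0x101183c8b4) (nat_lit 3076))
))) (.node (nat_lit 0x101183d0a4) (.node (nat_lit 0x101183ccb4) (.leaf (nat_lit 0x101183c8d4) (nat_lit 3587))
 (.node (nat_lit 0x101183ccd4) (.leaf (nat_lit 0x101183ccb4) (nat_lit 1793))
 (.leaf (nat_lit 0x101183ccd4) (nat_lit 2561))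
)) (.node (nat_lit 0x101183d0c4) (.leaf (nat_lit 0x101183d0a4) (nat_lit 3329))
 (.node (nat_lit 0x101183d4a4) (.leaf (nat_lit 0x101183d0c4) (nat_lit 2561))
 (.leaf (nat_lit 0x101183d4a4) (nat_lit 2563))
))))) (.node (nat_lit 0x101185c8f4) (.node (nat_lit 0x101184d894) (.node (nat_lit 0x101184c0e4) (.node (nat_lit 0x101184c084) (.leaf (nat_lit 0x101183d4c4) (nat_lit 3331))
 (.leaf (nat_lit 0x101184c084) (nat_lit 1281))
) (.node (nat_lit 0x101184c484) (.leaf (nat_lit 0x101184c0e4) (nat_lit 2049))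
 (.node (nat_lit 0x101184c4e4) (.leaf (nat_lit 0x101184c484) (nat_lit 2308))
 (.leaf (nat_lit 0x101184c4e4) (nat_lit 3076))
))) (.node (nat_lit 0x101184dc94) (.node (nat_lit 0x101184d8f4) (.leaf (nat_lit 0x101184d894) (nat_lit 3331))
 (.leaf (nat_lit 0x101184d8f4) (nat_lit 3332))
) (.node (nat_lit 0x101184dcf4) (.leaf (nat_lit 0x101184dc94) (nat_lit 2817))
 (.node (nat_lit 0x101185c894) (.leaf (nat_lit 0x101184dcf4) (nat_lit 2049))
 (.leaf (nat_lit 0x101185c894) (nat_lit 3329))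
)))) (.node (nat_lit 0x101185d484) (.node (nat_lit 0x101185ccf4) (.node (nat_lit 0x101185cc94) (.leaf (nat_lit 0x101185c8f4) (nat_lit 2563))
 (.leaf (nat_lit 0x101185cc94) (nat_lit 2817))
) (.node (nat_lit 0x101185d084) (.leaf (nat_lit 0x101185ccf4) (nat_lit 3585))
 (.node (nat_lit 0x101185d0e4) (.leaf (nat_lit 0x101185d084) (nat_lit 2820))
 (.leaf (nat_lit 0x101185d0e4) (nat_lit 3587))
))) (.node (nat_lit 0x101186c0c4) (.node (nat_lit 0x101185d4e4) (.leaf (nat_lit 0x101185d484) (nat_lit 1795))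
 (.node (nat_lit 0x101186c0a4) (.leaf (nat_lit 0x101185d4e4) (nat_lit 2563))
 (.leaf (nat_lit 0x101186c0a4) (nat_lit 2050))
)) (.node (nat_lit 0x101186c4a4) (.leaf (nat_lit 0x101186c0c4) (nat_lit 2818))
 (.node (nat_lit 0x101186c4c4) (.leaf (nat_lit 0x101186c4a4) (nat_lit 3076))
 (.leaf (nat_lit 0x101186c4c4) (nat_lit 3331))
))))))) (.node (nat_lit 0x1011c3dda4) (.node (nat_lit 0x1011c1c9e4) (.node (nat_lit 0x101187d4a4) (.node (nat_lit 0x101187c8d4) (.node (nat_lit 0x101186dcb4) (.node (nat_lit 0x101186d8d4) (.leaf (nat_lit 0x101186d8b4) (nat_lit 2563))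
 (.leaf (nat_lit 0x101186d8d4) (nat_lit 3073))
) (.node (nat_lit 0x101186dcd4) (.leaf (nat_lit 0x101186dcb4) (nat_lit 3587))
 (.node (nat_lit 0x101187c8b4) (.leaf (nat_lit 0x101186dcd4) (nat_lit 3331))
 (.leaf (nat_lit 0x101187c8b4) (nat_lit 3332))
))) (.node (nat_lit 0x101187ccd4) (.node (nat_lit 0x101187ccb4) (.leaf (nat_lit 0x101187c8d4) (nat_lit 3331))
 (.leaf (nat_lit 0x101187ccb4) (nat_lit 2049))
) (.node (nat_lit 0x101187d0a4) (.leaf (nat_lit 0x101187ccd4) (nat_lit 2817))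
 (.node (nat_lit 0x101187d0c4) (.leaf (nat_lit 0x101187d0a4) (nat_lit 3585))
 (.leaf (nat_lit 0x101187d0c4) (nat_lit 2817))
)))) (.node (nat_lit 0x1011c0c5f4) (.node (nat_lit 0x1011c0c184) (.node (nat_lit 0x101187d4c4) (.leaf (nat_lit 0x101187d4a4) (nat_lit 2307))
 (.leaf (nat_lit 0x101187d4c4) (nat_lit 3075))
) (.node (nat_lit 0x1011c0c1f4) (.leaf (nat_lit 0x1011c0c184) (nat_lit 769))
 (.node (nat_lit 0x1011c0c584) (.leaf (nat_lit 0x1011c0c1f4) (nat_lit 2049))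
 (.leaf (nat_lit 0x1011c0c584) (nat_lit 2052))
))) (.node (nat_lit 0x1011c0dd94) (.node (nat_lit 0x1011c0d994) (.leaf (nat_lit 0x1011c0c5f4) (nat_lit 3076))
 (.node (nat_lit 0x1011c0d9e4) (.leaf (nat_lit 0x1011c0d994) (nat_lit 2817))
 (.leaf (nat_lit 0x1011c0d9e4) (nat_lit 1537))
)) (.node (nat_lit 0x1011c0dde4) (.leaf (nat_lit 0x1011c0dd94) (nat_lit 3331))
 (.node (nat_lit 0x1011c1c994) (.leaf (nat_lit 0x1011c0dde4) (nat_lit 2820))
 (.leaf (nat_lit 0x1011c1c994) (nat_lit 2817))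
))))) (.node (nat_lit 0x1011c2cdd4) (.node (nat_lit 0x1011c1d584) (.node (nat_lit 0x1011c1cde4) (.node (nat_lit 0x1011c1cd94) (.leaf (nat_lit 0x1011c1c9e4) (nat_lit 3587))
 (.leaf (nat_lit 0x1011c1cd94) (nat_lit 3332))
) (.node (nat_lit 0x1011c1d184) (.leaf (nat_lit 0x1011c1cde4) (nat_lit 2563))
 (.node (nat_lit 0x1011c1d1f4) (.leaf (nat_lit 0x1011c1d184) (nat_lit 3075))
 (.leaf (nat_lit 0x1011c1d1f4) (nat_lit 3585))
))) (.node (nat_lit 0x1011c2c9a4) (.node (nat_lit 0x1011c1d5f4) (.leaf (nat_lit 0x1011c1d584) (nat_lit 1795))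
 (.leaf (nat_lit 0x1011c1d5f4) (nat_lit 3075))
) (.node (nat_lit 0x1011c2c9d4) (.leaf (nat_lit 0x1011c2c9a4) (nat_lit 1537))
 (.node (nat_lit 0x1011c2cda4) (.leaf (nat_lit 0x1011c2c9d4) (nat_lit 2817))
 (.leaf (nat_lit 0x1011c2cda4) (nat_lit 2820))
)))) (.node (nat_lit 0x1011c3c1b4) (.node (nat_lit 0x1011c2d1c4) (.node (nat_lit 0x1011c2d1b4) (.leaf (nat_lit 0x1011c2cdd4) (nat_lit 3331))
 (.leaf (nat_lit 0x1011c2d1b4) (nat_lit 3585))
) (.node (nat_lit 0x1011c2d5b4) (.leaf (nat_lit 0x1011c2d1c4) (nat_lit 2305))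
 (.node (nat_lit 0x1011c2d5c4) (.leaf (nat_lit 0x1011c2d5b4) (nat_lit 2819))
 (.leaf (nat_lit 0x1011c2d5c4) (nat_lit 3587))
))) (.node (nat_lit 0x1011c3c5c4) (.node (nat_lit 0x1011c3c1c4) (.leaf (nat_lit 0x1011c3c1b4) (nat_lit 2050))
 (.node (nat_lit 0x1011c3c5b4) (.leaf (nat_lit 0x1011c3c1c4) (nat_lit 2818))
 (.leaf (nat_lit 0x1011c3c5b4) (nat_lit 3076))
)) (.node (nat_lit 0x1011c3d9a4) (.leaf (nat_lit 0x1011c3c5c4) (nat_lit 3331))
 (.node (nat_lit 0x1011c3d9d4) (.leaf (nat_lit 0x1011c3d9a4) (nat_lit 3587))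
 (.leaf (nat_lit 0x1011c3d9d4) (nat_lit 2819))
)))))) (.node (nat_lit 0x1011c6cdd4) (.node (nat_lit 0x1011c5c994) (.node (nat_lit 0x1011c4c5f4) (.node (nat_lit 0x1011c4c184) (.node (nat_lit 0x1011c3ddd4) (.leaf (nat_lit 0x1011c3dda4) (nat_lit 2563))
 (.leaf (nat_lit 0x1011c3ddd4) (nat_lit 3585))
) (.node (nat_lit 0x1011c4c1f4) (.leaf (nat_lit 0x1011c4c184) (nat_lit 1025))
 (.node (nat_lit 0x1011c4c584) (.leaf (nat_lit 0x1011c4c1f4) (nat_lit 2305))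
 (.leaf (nat_lit 0x1011c4c584) (nat_lit 2308))
))) (.node (nat_lit 0x1011c4d9e4) (.node (nat_lit 0x1011c4d994) (.leaf (nat_lit 0x1011c4c5f4) (nat_lit 3332))
 (.leaf (nat_lit 0x1011c4d994) (nat_lit 3073))
) (.node (nat_lit 0x1011c4dd94) (.leaf (nat_lit 0x1011c4d9e4) (nat_lit 1793))
 (.node (nat_lit 0x1011c4dde4) (.leaf (nat_lit 0x1011c4dd94) (nat_lit 3075))
 (.leaf (nat_lit 0x1011c4dde4) (nat_lit 3076))
)))) (.node (nat_lit 0x1011c5d1f4) (.node (nat_lit 0x1011c5cd94) (.node (nat_lit 0x1011c5c9e4) (.leaf (nat_lit 0x1011c5c994) (nat_lit 3073))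
 (.leaf (nat_lit 0x1011c5c9e4) (nat_lit 3331))
) (.node (nat_lit 0x1011c5cde4) (.leaf (nat_lit 0x1011c5cd94) (nat_lit 3588))
 (.node (nat_lit 0x1011c5d184) (.leaf (nat_lit 0x1011c5cde4) (nat_lit 2307))
 (.leaf (nat_lit 0x1011c5d184) (nat_lit 2819))
))) (.node (nat_lit 0x1011c6c9a4) (.node (nat_lit 0x1011c5d584) (.leaf (nat_lit 0x1011c5d1f4) (nat_lit 3841))
 (.node (nat_lit 0x1011c5d5f4) (.leaf (nat_lit 0x1011c5d584) (nat_lit 1539))
 (.leaf (nat_lit 0x1011c5d5f4) (nat_lit 2819))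
)) (.node (nat_lit 0x1011c6c9d4) (.leaf (nat_lit 0x1011c6c9a4) (nat_lit 1793))
 (.node (nat_lit 0x1011c6cda4) (.leaf (nat_lit 0x1011c6c9d4) (nat_lit 3073))
 (.leaf (nat_lit 0x1011c6cda4) (nat_lit 3076))
))))) (.node (nat_lit 0x1011c7d9d4) (.node (nat_lit 0x1011c7c1b4) (.node (nat_lit 0x1011c6d1c4) (.node (nat_lit 0x1011c6d1b4) (.leaf (nat_lit 0x1011c6cdd4) (nat_lit 3075))
 (.leaf (nat_lit 0x1011c6d1b4) (nat_lit 3841))
) (.node (nat_lit 0x1011c6d5b4) (.leaf (nat_lit 0x1011c6d1c4) (nat_lit 2561))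
 (.node (nat_lit 0x1011c6d5c4) (.leaf (nat_lit 0x1011c6d5b4) (nat_lit 2563))
 (.leaf (nat_lit 0x1011c6d5c4) (nat_lit 3331))
))) (.node (nat_lit 0x1011c7c5b4) (.node (nat_lit 0x1011c7c1c4) (.leaf (nat_lit 0x1011c7c1b4) (nat_lit 2306))
 (.leaf (nat_lit 0x1011c7c1c4) (nat_lit 3074))
) (.node (nat_lit 0x1011c7c5c4) (.leaf (nat_lit 0x1011c7c5b4) (nat_lit 3332))
 (.node (nat_lit 0x1011c7d9a4) (.leaf (nat_lit 0x1011c7c5c4) (nat_lit 3075))
 (.leaf (nat_lit 0x1011c7d9a4) (nat_lit 3331))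
)))) (.node (nat_lit 0x1020408522) (.node (nat_lit 0x1011c7ddd4) (.node (nat_lit 0x1011c7dda4) (.leaf (nat_lit 0x1011c7d9d4) (nat_lit 3075))
 (.leaf (nat_lit 0x1011c7dda4) (nat_lit 2307))
) (.node (nat_lit 0x1020408102) (.leaf (nat_lit 0x1011c7ddd4) (nat_lit 3329))
 (.node (nat_lit 0x1020408112) (.leaf (nat_lit 0x1020408102) (nat_lit 0))
 (.leaf (nat_lit 0x1020408112) (nat_lit 2306))
))) (.node (nat_lit 0x1020408912) (.node (nat_lit 0x1020408532) (.leaf (nat_lit 0x1020408522) (nat_lit 3075))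
 (.node (nat_lit 0x1020408902) (.leaf (nat_lit 0x1020408532) (nat_lit 2564))
 (.leaf (nat_lit 0x1020408902) (nat_lit 1284))
)) (.node (nat_lit 0x1020408d22) (.leaf (nat_lit 0x1020408912) (nat_lit 3074))
 (.node (nat_lit 0x1020408d32) (.leaf (nat_lit 0x1020408d22) (nat_lit 3585))
 (.leaf (nat_lit 0x1020408d32) (nat_lit 1796))
)))))))) (.node (nat_lit 0x1020c389c2) (.node (nat_lit 0x1020469522) (.node (nat_lit 0x1020439952) (.node (nat_lit 0x1020429522) (.node (nat_lit 0x1020418952) (.node (nat_lit 0x1020418562) (.node (nat_lit 0x1020418152) (.leaf (nat_lit 0x1020418142) (nat_lit 3330))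
 (.leaf (nat_lit 0x1020418152) (nat_lit 2050))
) (.node (nat_lit 0x1020418572) (.leaf (nat_lit 0x1020418562) (nat_lit 3588))
 (.node (nat_lit 0x1020418942) (.leaf (nat_lit 0x1020418572) (nat_lit 2051))
 (.leaf (nat_lit 0x1020418942) (nat_lit 3075))
))) (.node (nat_lit 0x1020418d72) (.node (nat_lit 0x1020418d62) (.leaf (nat_lit 0x1020418952) (nat_lit 2820))
 (.leaf (nat_lit 0x1020418d62) (nat_lit 3075))
) (.node (nat_lit 0x1020429102) (.leaf (nat_lit 0x1020418d72) (nat_lit 3075))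
 (.node (nat_lit 0x1020429112) (.leaf (nat_lit 0x1020429102) (nat_lit 2308))
 (.leaf (nat_lit 0x1020429112) (nat_lit 3588))
)))) (.node (nat_lit 0x1020429d32) (.node (nat_lit 0x1020429902) (.node (nat_lit 0x1020429532) (.leaf (nat_lit 0x1020429522) (nat_lit 3076))
 (.leaf (nat_lit 0x1020429532) (nat_lit 2819))
) (.node (nat_lit 0x1020429912) (.leaf (nat_lit 0x1020429902) (nat_lit 1027))
 (.node (nat_lit 0x1020429d22) (.leaf (nat_lit 0x1020429912) (nat_lit 3331))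
 (.leaf (nat_lit 0x1020429d22) (nat_lit 2563))
))) (.node (nat_lit 0x1020439562) (.node (nat_lit 0x1020439142) (.leaf (nat_lit 0x1020429d32) (nat_lit 3587))
 (.node (nat_lit 0x1020439152) (.leaf (nat_lit 0x1020439142) (nat_lit 2820))
 (.leaf (nat_lit 0x1020439152) (nat_lit 3076))
)) (.node (nat_lit 0x1020439572) (.leaf (nat_lit 0x1020439562) (nat_lit 3075))
 (.node (nat_lit 0x1020439942) (.leaf (nat_lit 0x1020439572) (nat_lit 2820))
 (.leaf (nat_lit 0x1020439942) (nat_lit 3588))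
))))) (.node (nat_lit 0x1020448d32) (.node (nat_lit 0x1020448522) (.node (nat_lit 0x1020439d72) (.node (nat_lit 0x1020439d62) (.leaf (nat_lit 0x1020439952) (nat_lit 2051))
 (.leaf (nat_lit 0x1020439d62) (nat_lit 3587))
) (.node (nat_lit 0x1020448102) (.leaf (nat_lit 0x1020439d72) (nat_lit 1537))
 (.node (nat_lit 0x1020448112) (.leaf (nat_lit 0x1020448102) (nat_lit 256))
 (.leaf (nat_lit 0x1020448112) (nat_lit 2562))
))) (.node (nat_lit 0x1020448902) (.node (nat_lit 0x1020448532) (.leaf (nat_lit 0x1020448522) (nat_lit 2819))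
 (.leaf (nat_lit 0x1020448532) (nat_lit 2820))
) (.node (nat_lit 0x1020448912) (.leaf (nat_lit 0x1020448902) (nat_lit 1540))
 (.node (nat_lit 0x1020448d22) (.leaf (nat_lit 0x1020448912) (nat_lit 3330))
 (.leaf (nat_lit 0x1020448d22) (nat_lit 3841))
)))) (.node (nat_lit 0x1020458942) (.node (nat_lit 0x1020458152) (.node (nat_lit 0x1020458142) (.leaf (nat_lit 0x1020448d32) (nat_lit 2052))
 (.leaf (nat_lit 0x1020458142) (nat_lit 3074))
) (.node (nat_lit 0x1020458562) (.leaf (nat_lit 0x1020458152) (nat_lit 1794))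
 (.node (nat_lit 0x1020458572) (.leaf (nat_lit 0x1020458562) (nat_lit 3332))
 (.leaf (nat_lit 0x1020458572) (nat_lit 2307))
))) (.node (nat_lit 0x1020458d72) (.node (nat_lit 0x1020458952) (.leaf (nat_lit 0x1020458942) (nat_lit 3331))
 (.node (nat_lit 0x1020458d62) (.leaf (nat_lit 0x1020458952) (nat_lit 2564))
 (.leaf (nat_lit 0x1020458d62) (nat_lit 2819))
)) (.node (nat_lit 0x1020469102) (.leaf (nat_lit 0x1020458d72) (nat_lit 3331))
 (.node (nat_lit 0x1020469112) (.leaf (nat_lit 0x1020469102) (nat_lit 2052))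
 (.leaf (nat_lit 0x1020469112) (nat_lit 3844))
)))))) (.node (nat_lit 0x1020c08da2) (.node (nat_lit 0x1020479942) (.node (nat_lit 0x1020469d32) (.node (nat_lit 0x1020469902) (.node (nat_lit 0x1020469532) (.leaf (nat_lit 0x1020469522) (nat_lit 3332))
 (.leaf (nat_lit 0x1020469532) (nat_lit 2563))
) (.node (nat_lit 0x1020469912) (.leaf (nat_lit 0x1020469902) (nat_lit 771))
 (.node (nat_lit 0x1020469d22) (.leaf (nat_lit 0x1020469912) (nat_lit 3075))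
 (.leaf (nat_lit 0x1020469d22) (nat_lit 2819))
))) (.node (nat_lit 0x1020479152) (.node (nat_lit 0x1020479142) (.leaf (nat_lit 0x1020469d32) (nat_lit 3331))
 (.leaf (nat_lit 0x1020479142) (nat_lit 2564))
) (.node (nat_lit 0x1020479562) (.leaf (nat_lit 0x1020479152) (nat_lit 3332))
 (.node (nat_lit 0x1020479572) (.leaf (nat_lit 0x1020479562) (nat_lit 3331))
 (.leaf (nat_lit 0x1020479572) (nat_lit 2564))
)))) (.node (nat_lit 0x1020c081b2) (.node (nat_lit 0x1020479d62) (.node (nat_lit 0x1020479952) (.leaf (nat_lit 0x1020479942) (nat_lit 3332))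
 (.leaf (nat_lit 0x1020479952) (nat_lit 2307))
) (.node (nat_lit 0x1020479d72) (.leaf (nat_lit 0x1020479d62) (nat_lit 3331))
 (.node (nat_lit 0x1020c08182) (.leaf (nat_lit 0x1020479d72) (nat_lit 1281))
 (.leaf (nat_lit 0x1020c08182) (nat_lit 258))
))) (.node (nat_lit 0x1020c08982) (.node (nat_lit 0x1020c08592) (.leaf (nat_lit 0x1020c081b2) (nat_lit 2050))
 (.node (nat_lit 0x1020c085a2) (.leaf (nat_lit 0x1020c08592) (nat_lit 2052))
 (.leaf (nat_lit 0x1020c085a2) (nat_lit 3329))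
)) (.node (nat_lit 0x1020c089b2) (.leaf (nat_lit 0x1020c08982) (nat_lit 1540))
 (.node (nat_lit 0x1020c08d92) (.leaf (nat_lit 0x1020c089b2) (nat_lit 2818))
 (.leaf (nat_lit 0x1020c08d92) (nat_lit 2820))
))))) (.node (nat_lit 0x1020c291b2) (.node (nat_lit 0x1020c199c2) (.node (nat_lit 0x1020c191f2) (.node (nat_lit 0x1020c191c2) (.leaf (nat_lit 0x1020c08da2) (nat_lit 3331))
 (.leaf (nat_lit 0x1020c191c2) (nat_lit 3076))
) (.node (nat_lit 0x1020c195d2) (.leaf (nat_lit 0x1020c191f2) (nat_lit 3331))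
 (.node (nat_lit 0x1020c195e2) (.leaf (nat_lit 0x1020c195d2) (nat_lit 1793))
 (.leaf (nat_lit 0x1020c195e2) (nat_lit 3331))
))) (.node (nat_lit 0x1020c19dd2) (.node (nat_lit 0x1020c199f2) (.leaf (nat_lit 0x1020c199c2) (nat_lit 3331))
 (.leaf (nat_lit 0x1020c199f2) (nat_lit 2307))
) (.node (nat_lit 0x1020c19de2) (.leaf (nat_lit 0x1020c19dd2) (nat_lit 3076))
 (.node (nat_lit 0x1020c29182) (.leaf (nat_lit 0x1020c19de2) (nat_lit 3331))
 (.leaf (nat_lit 0x1020c29182) (nat_lit 2564))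
)))) (.node (nat_lit 0x1020c29d92) (.node (nat_lit 0x1020c295a2) (.node (nat_lit 0x1020c29592) (.leaf (nat_lit 0x1020c291b2) (nat_lit 3843))
 (.leaf (nat_lit 0x1020c29592) (nat_lit 3843))
) (.node (nat_lit 0x1020c29982) (.leaf (nat_lit 0x1020c295a2) (nat_lit 2561))
 (.node (nat_lit 0x1020c299b2) (.leaf (nat_lit 0x1020c29982) (nat_lit 1283))
 (.leaf (nat_lit 0x1020c299b2) (nat_lit 3075))
))) (.node (nat_lit 0x1020c381f2) (.node (nat_lit 0x1020c29da2) (.leaf (nat_lit 0x1020c29d92) (nat_lit 3075))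
 (.node (nat_lit 0x1020c381c2) (.leaf (nat_lit 0x1020c29da2) (nat_lit 3330))
 (.leaf (nat_lit 0x1020c381c2) (nat_lit 3074))
)) (.node (nat_lit 0x1020c385d2) (.leaf (nat_lit 0x1020c381f2) (nat_lit 1794))
 (.node (nat_lit 0x1020c385e2) (.leaf (nat_lit 0x1020c385d2) (nat_lit 3331))
 (.leaf (nat_lit 0x1020c385e2) (nat_lit 3331))
))))))) (.node (nat_lit 0x102140bd22) (.node (nat_lit 0x1020c691b2) (.node (nat_lit 0x1020c48d92) (.node (nat_lit 0x1020c481b2) (.node (nat_lit 0x1020c38dd2) (.node (nat_lit 0x1020c389f2) (.leaf (nat_lit 0x1020c389c2) (nat_lit 3331))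
 (.leaf (nat_lit 0x1020c389f2) (nat_lit 3076))
) (.node (nat_lit 0x1020c38de2) (.leaf (nat_lit 0x1020c38dd2) (nat_lit 2307))
 (.node (nat_lit 0x1020c48182) (.leaf (nat_lit 0x1020c38de2) (nat_lit 3331))
 (.leaf (nat_lit 0x1020c48182) (nat_lit 514))
))) (.node (nat_lit 0x1020c485a2) (.node (nat_lit 0x1020c48592) (.leaf (nat_lit 0x1020c481b2) (nat_lit 2306))
 (.leaf (nat_lit 0x1020c48592) (nat_lit 2308))
) (.node (nat_lit 0x1020c48982) (.leaf (nat_lit 0x1020c485a2) (nat_lit 3585))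
 (.node (nat_lit 0x1020c489b2) (.leaf (nat_lit 0x1020c48982) (nat_lit 1796))
 (.leaf (nat_lit 0x1020c489b2) (nat_lit 3074))
)))) (.node (nat_lit 0x1020c595e2) (.node (nat_lit 0x1020c591c2) (.node (nat_lit 0x1020c48da2) (.leaf (nat_lit 0x1020c48d92) (nat_lit 3076))
 (.leaf (nat_lit 0x1020c48da2) (nat_lit 3075))
) (.node (nat_lit 0x1020c591f2) (.leaf (nat_lit 0x1020c591c2) (nat_lit 2820))
 (.node (nat_lit 0x1020c595d2) (.leaf (nat_lit 0x1020c591f2) (nat_lit 3587))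
 (.leaf (nat_lit 0x1020c595d2) (nat_lit 1537))
))) (.node (nat_lit 0x1020c59dd2) (.node (nat_lit 0x1020c599c2) (.leaf (nat_lit 0x1020c595e2) (nat_lit 3075))
 (.node (nat_lit 0x1020c599f2) (.leaf (nat_lit 0x1020c599c2) (nat_lit 3587))
 (.leaf (nat_lit 0x1020c599f2) (nat_lit 2563))
)) (.node (nat_lit 0x1020c59de2) (.leaf (nat_lit 0x1020c59dd2) (nat_lit 2820))
 (.node (nat_lit 0x1020c69182) (.leaf (nat_lit 0x1020c59de2) (nat_lit 3587))
 (.leaf (nat_lit 0x1020c69182) (nat_lit 2308))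
))))) (.node (nat_lit 0x1020c785e2) (.node (nat_lit 0x1020c69d92) (.node (nat_lit 0x1020c695a2) (.node (nat_lit 0x1020c69592) (.leaf (nat_lit 0x1020c691b2) (nat_lit 3587))
 (.leaf (nat_lit 0x1020c69592) (nat_lit 3587))
) (.node (nat_lit 0x1020c69982) (.leaf (nat_lit 0x1020c695a2) (nat_lit 2817))
 (.node (nat_lit 0x1020c699b2) (.leaf (nat_lit 0x1020c69982) (nat_lit 1027))
 (.leaf (nat_lit 0x1020c699b2) (nat_lit 2819))
))) (.node (nat_lit 0x1020c781c2) (.node (nat_lit 0x1020c69da2) (.leaf (nat_lit 0x1020c69d92) (nat_lit 2819))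
 (.leaf (nat_lit 0x1020c69da2) (nat_lit 3586))
) (.node (nat_lit 0x1020c781f2) (.leaf (nat_lit 0x1020c781c2) (nat_lit 2818))
 (.node (nat_lit 0x1020c785d2) (.leaf (nat_lit 0x1020c781f2) (nat_lit 1538))
 (.leaf (nat_lit 0x1020c785d2) (nat_lit 3587))
)))) (.node (nat_lit 0x102140a102) (.node (nat_lit 0x1020c789f2) (.node (nat_lit 0x1020c789c2) (.leaf (nat_lit 0x1020c785e2) (nat_lit 3075))
 (.leaf (nat_lit 0x1020c789c2) (nat_lit 3587))
) (.node (nat_lit 0x1020c78dd2) (.leaf (nat_lit 0x1020c789f2) (nat_lit 2820))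
 (.node (nat_lit 0x1020c78de2) (.leaf (nat_lit 0x1020c78dd2) (nat_lit 2563))
 (.leaf (nat_lit 0x1020c78de2) (nat_lit 3587))
))) (.node (nat_lit 0x102140a952) (.node (nat_lit 0x102140a152) (.leaf (nat_lit 0x102140a102) (nat_lit 1028))
 (.node (nat_lit 0x102140a902) (.leaf (nat_lit 0x102140a152) (nat_lit 2308))
 (.leaf (nat_lit 0x102140a902) (nat_lit 1796))
)) (.node (nat_lit 0x102140b522) (.leaf (nat_lit 0x102140a952) (nat_lit 3076))
 (.node (nat_lit 0x102140b572) (.leaf (nat_lit 0x102140b522) (nat_lit 3586))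
 (.leaf (nat_lit 0x102140b572) (nat_lit 3076))
)))))) (.node (nat_lit 0x102143ad62) (.node (nat_lit 0x102142a522) (.node (nat_lit 0x102141a942) (.node (nat_lit 0x102141a112) (.node (nat_lit 0x102140bd72) (.leaf (nat_lit 0x102140bd22) (nat_lit 3329))
 (.leaf (nat_lit 0x102140bd72) (nat_lit 2049))
) (.node (nat_lit 0x102141a142) (.leaf (nat_lit 0x102141a112) (nat_lit 2308))
 (.node (nat_lit 0x102141a912) (.leaf (nat_lit 0x102141a142) (nat_lit 3076))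
 (.leaf (nat_lit 0x102141a912) (nat_lit 3076))
))) (.node (nat_lit 0x102141b562) (.node (nat_lit 0x102141b532) (.leaf (nat_lit 0x102141a942) (nat_lit 3587))
 (.leaf (nat_lit 0x102141b532) (nat_lit 3075))
) (.node (nat_lit 0x102141bd32) (.leaf (nat_lit 0x102141b562) (nat_lit 3841))
 (.node (nat_lit 0x102141bd62) (.leaf (nat_lit 0x102141bd32) (nat_lit 3585))
 (.leaf (nat_lit 0x102141bd62) (nat_lit 3331))
)))) (.node (nat_lit 0x102142b152) (.node (nat_lit 0x102142ad22) (.node (nat_lit 0x102142a572) (.leaf (nat_lit 0x102142a522) (nat_lit 3585))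
 (.leaf (nat_lit 0x102142a572) (nat_lit 3075))
) (.node (nat_lit 0x102142ad72) (.leaf (nat_lit 0x102142ad22) (nat_lit 3329))
 (.node (nat_lit 0x102142b102) (.leaf (nat_lit 0x102142ad72) (nat_lit 3587))
 (.leaf (nat_lit 0x102142b102) (nat_lit 2563))
))) (.node (nat_lit 0x102143a532) (.node (nat_lit 0x102142b902) (.leaf (nat_lit 0x102142b152) (nat_lit 3842))
 (.node (nat_lit 0x102142b952) (.leaf (nat_lit 0x102142b902) (nat_lit 1795))
 (.leaf (nat_lit 0x102142b952) (nat_lit 3075))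
)) (.node (nat_lit 0x102143a562) (.leaf (nat_lit 0x102143a532) (nat_lit 3074))
 (.node (nat_lit 0x102143ad32) (.leaf (nat_lit 0x102143a562) (nat_lit 3843))
 (.leaf (nat_lit 0x102143ad32) (nat_lit 2049))
))))) (.node (nat_lit 0x102144b572) (.node (nat_lit 0x102144a102) (.node (nat_lit 0x102143b142) (.node (nat_lit 0x102143b112) (.leaf (nat_lit 0x102143ad62) (nat_lit 3329))
 (.leaf (nat_lit 0x102143b112) (nat_lit 3843))
) (.node (nat_lit 0x102143b912) (.leaf (nat_lit 0x102143b142) (nat_lit 2561))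
 (.node (nat_lit 0x102143b942) (.leaf (nat_lit 0x102143b912) (nat_lit 3075))
 (.leaf (nat_lit 0x102143b942) (nat_lit 3587))
))) (.node (nat_lit 0x102144a902) (.node (nat_lit 0x102144a152) (.leaf (nat_lit 0x102144a102) (nat_lit 1284))
 (.leaf (nat_lit 0x102144a152) (nat_lit 2564))
) (.node (nat_lit 0x102144a952) (.leaf (nat_lit 0x102144a902) (nat_lit 2052))
 (.node (nat_lit 0x102144b522) (.leaf (nat_lit 0x102144a952) (nat_lit 3332))
 (.leaf (nat_lit 0x102144b522) (nat_lit 3587))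
)))) (.node (nat_lit 0x102145a912) (.node (nat_lit 0x102144bd72) (.node (nat_lit 0x102144bd22) (.leaf (nat_lit 0x102144b572) (nat_lit 3332))
 (.leaf (nat_lit 0x102144bd22) (nat_lit 3585))
) (.node (nat_lit 0x102145a112) (.leaf (nat_lit 0x102144bd72) (nat_lit 2305))
 (.node (nat_lit 0x102145a142) (.leaf (nat_lit 0x102145a112) (nat_lit 2564))
 (.leaf (nat_lit 0x102145a142) (nat_lit 3332))
))) (.node (nat_lit 0x102145b562) (.node (nat_lit 0x102145a942) (.leaf (nat_lit 0x102145a912) (nat_lit 3332))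
 (.node (nat_lit 0x102145b532) (.leaf (nat_lit 0x102145a942) (nat_lit 3331))
 (.leaf (nat_lit 0x102145b532) (nat_lit 2819))
)) (.node (nat_lit 0x102145bd32) (.leaf (nat_lit 0x102145b562) (nat_lit 3585))
 (.node (nat_lit 0x102145bd62) (.leaf (nat_lit 0x102145bd32) (nat_lit 3329))
 (.leaf (nat_lit 0x102145bd62) (nat_lit 3587))
))))))))) (.node (nat_lit 0x1030839086) (.node (nat_lit 0x1030408926) (.node (nat_lit 0x1021c3a9b2) (.node (nat_lit 0x1021c0b5d2) (.node (nat_lit 0x102147ad32) (.node (nat_lit 0x102146b152) (.node (nat_lit 0x102146ad22) (.node (nat_lit 0x102146a572) (.leaf (nat_lit 0x102146a522) (nat_lit 3587))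
 (.leaf (nat_lit 0x102146a572) (nat_lit 2819))
) (.node (nat_lit 0x102146ad72) (.leaf (nat_lit 0x102146ad22) (nat_lit 3585))
 (.node (nat_lit 0x102146b102) (.leaf (nat_lit 0x102146ad72) (nat_lit 3331))
 (.leaf (nat_lit 0x102146b102) (nat_lit 2307))
))) (.node (nat_lit 0x102146b952) (.node (nat_lit 0x102146b902) (.leaf (nat_lit 0x102146b152) (nat_lit 3586))
 (.leaf (nat_lit 0x102146b902) (nat_lit 1539))
) (.node (nat_lit 0x102147a532) (.leaf (nat_lit 0x102146b952) (nat_lit 2819))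
 (.node (nat_lit 0x102147a562) (.leaf (nat_lit 0x102147a532) (nat_lit 3330))
 (.leaf (nat_lit 0x102147a562) (nat_lit 3587))
)))) (.node (nat_lit 0x102147b942) (.node (nat_lit 0x102147b112) (.node (nat_lit 0x102147ad62) (.leaf (nat_lit 0x102147ad32) (nat_lit 2305))
 (.leaf (nat_lit 0x102147ad62) (nat_lit 3585))
) (.node (nat_lit 0x102147b142) (.leaf (nat_lit 0x102147b112) (nat_lit 3587))
 (.node (nat_lit 0x102147b912) (.leaf (nat_lit 0x102147b142) (nat_lit 2817))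
 (.leaf (nat_lit 0x102147b912) (nat_lit 2819))
))) (.node (nat_lit 0x1021c0a982) (.node (nat_lit 0x1021c0a182) (.leaf (nat_lit 0x102147b942) (nat_lit 3843))
 (.node (nat_lit 0x1021c0a1f2) (.leaf (nat_lit 0x1021c0a182) (nat_lit 772))
 (.leaf (nat_lit 0x1021c0a1f2) (nat_lit 2052))
)) (.node (nat_lit 0x1021c0a9f2) (.leaf (nat_lit 0x1021c0a982) (nat_lit 1540))
 (.node (nat_lit 0x1021c0b5a2) (.leaf (nat_lit 0x1021c0a9f2) (nat_lit 2820))
 (.leaf (nat_lit 0x1021c0b5a2) (nat_lit 3073))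
))))) (.node (nat_lit 0x1021c1b9c2) (.node (nat_lit 0x1021c1ad92) (.node (nat_lit 0x1021c0bdd2) (.node (nat_lit 0x1021c0bda2) (.leaf (nat_lit 0x1021c0b5d2) (nat_lit 2052))
 (.leaf (nat_lit 0x1021c0bda2) (nat_lit 3332))
) (.node (nat_lit 0x1021c1a592) (.leaf (nat_lit 0x1021c0bdd2) (nat_lit 2820))
 (.node (nat_lit 0x1021c1a5e2) (.leaf (nat_lit 0x1021c1a592) (nat_lit 2049))
 (.leaf (nat_lit 0x1021c1a5e2) (nat_lit 3073))
))) (.node (nat_lit 0x1021c1b1b2) (.node (nat_lit 0x1021c1ade2) (.leaf (nat_lit 0x1021c1ad92) (nat_lit 2817))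
 (.leaf (nat_lit 0x1021c1ade2) (nat_lit 3587))
) (.node (nat_lit 0x1021c1b1c2) (.leaf (nat_lit 0x1021c1b1b2) (nat_lit 3587))
 (.node (nat_lit 0x1021c1b9b2) (.leaf (nat_lit 0x1021c1b1c2) (nat_lit 2817))
 (.leaf (nat_lit 0x1021c1b9b2) (nat_lit 3075))
)))) (.node (nat_lit 0x1021c2b182) (.node (nat_lit 0x1021c2a5d2) (.node (nat_lit 0x1021c2a5a2) (.leaf (nat_lit 0x1021c1b9c2) (nat_lit 3585))
 (.leaf (nat_lit 0x1021c2a5a2) (nat_lit 3073))
) (.node (nat_lit 0x1021c2ada2) (.leaf (nat_lit 0x1021c2a5d2) (nat_lit 3588))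
 (.node (nat_lit 0x1021c2add2) (.leaf (nat_lit 0x1021c2ada2) (nat_lit 3329))
 (.leaf (nat_lit 0x1021c2add2) (nat_lit 3073))
))) (.node (nat_lit 0x1021c2b9f2) (.node (nat_lit 0x1021c2b1f2) (.leaf (nat_lit 0x1021c2b182) (nat_lit 2564))
 (.node (nat_lit 0x1021c2b982) (.leaf (nat_lit 0x1021c2b1f2) (nat_lit 3843))
 (.leaf (nat_lit 0x1021c2b982) (nat_lit 1796))
)) (.node (nat_lit 0x1021c3a1b2) (.leaf (nat_lit 0x1021c2b9f2) (nat_lit 3076))
 (.node (nat_lit 0x1021c3a1c2) (.leaf (nat_lit 0x1021c3a1b2) (nat_lit 2052))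
 (.leaf (nat_lit 0x1021c3a1c2) (nat_lit 2820))
)))))) (.node (nat_lit 0x1021c5b9c2) (.node (nat_lit 0x1021c4b5a2) (.node (nat_lit 0x1021c3bde2) (.node (nat_lit 0x1021c3b592) (.node (nat_lit 0x1021c3a9c2) (.leaf (nat_lit 0x1021c3a9b2) (nat_lit 2820))
 (.leaf (nat_lit 0x1021c3a9c2) (nat_lit 3588))
) (.node (nat_lit 0x1021c3b5e2) (.leaf (nat_lit 0x1021c3b592) (nat_lit 3841))
 (.node (nat_lit 0x1021c3bd92) (.leaf (nat_lit 0x1021c3b5e2) (nat_lit 3076))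
 (.leaf (nat_lit 0x1021c3bd92) (nat_lit 3073))
))) (.node (nat_lit 0x1021c4a1f2) (.node (nat_lit 0x1021c4a182) (.leaf (nat_lit 0x1021c3bde2) (nat_lit 3588))
 (.leaf (nat_lit 0x1021c4a182) (nat_lit 1028))
) (.node (nat_lit 0x1021c4a982) (.leaf (nat_lit 0x1021c4a1f2) (nat_lit 2308))
 (.node (nat_lit 0x1021c4a9f2) (.leaf (nat_lit 0x1021c4a982) (nat_lit 1796))
 (.leaf (nat_lit 0x1021c4a9f2) (nat_lit 3076))
)))) (.node (nat_lit 0x1021c5a5e2) (.node (nat_lit 0x1021c4bda2) (.node (nat_lit 0x1021c4b5d2) (.leaf (nat_lit 0x1021c4b5a2) (nat_lit 3329))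
 (.leaf (nat_lit 0x1021c4b5d2) (nat_lit 2308))
) (.node (nat_lit 0x1021c4bdd2) (.leaf (nat_lit 0x1021c4bda2) (nat_lit 3588))
 (.node (nat_lit 0x1021c5a592) (.leaf (nat_lit 0x1021c4bdd2) (nat_lit 3076))
 (.leaf (nat_lit 0x1021c5a592) (nat_lit 2305))
))) (.node (nat_lit 0x1021c5b1b2) (.node (nat_lit 0x1021c5ad92) (.leaf (nat_lit 0x1021c5a5e2) (nat_lit 3329))
 (.node (nat_lit 0x1021c5ade2) (.leaf (nat_lit 0x1021c5ad92) (nat_lit 3073))
 (.leaf (nat_lit 0x1021c5ade2) (nat_lit 3331))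
)) (.node (nat_lit 0x1021c5b1c2) (.leaf (nat_lit 0x1021c5b1b2) (nat_lit 3331))
 (.node (nat_lit 0x1021c5b9b2) (.leaf (nat_lit 0x1021c5b1c2) (nat_lit 3073))
 (.leaf (nat_lit 0x1021c5b9b2) (nat_lit 2819))
))))) (.node (nat_lit 0x1021c7a1c2) (.node (nat_lit 0x1021c6b182) (.node (nat_lit 0x1021c6a5d2) (.node (nat_lit 0x1021c6a5a2) (.leaf (nat_lit 0x1021c5b9c2) (nat_lit 3587))
 (.leaf (nat_lit 0x1021c6a5a2) (nat_lit 3329))
) (.node (nat_lit 0x1021c6ada2) (.leaf (nat_lit 0x1021c6a5d2) (nat_lit 3332))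
 (.node (nat_lit 0x1021c6add2) (.leaf (nat_lit 0x1021c6ada2) (nat_lit 3585))
 (.leaf (nat_lit 0x1021c6add2) (nat_lit 2817))
))) (.node (nat_lit 0x1021c6b982) (.node (nat_lit 0x1021c6b1f2) (.leaf (nat_lit 0x1021c6b182) (nat_lit 2308))
 (.leaf (nat_lit 0x1021c6b1f2) (nat_lit 3587))
) (.node (nat_lit 0x1021c6b9f2) (.leaf (nat_lit 0x1021c6b982) (nat_lit 1540))
 (.node (nat_lit 0x1021c7a1b2) (.leaf (nat_lit 0x1021c6b9f2) (nat_lit 2820))
 (.leaf (nat_lit 0x1021c7a1b2) (nat_lit 2308))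
)))) (.node (nat_lit 0x1021c7bd92) (.node (nat_lit 0x1021c7a9c2) (.node (nat_lit 0x1021c7a9b2) (.leaf (nat_lit 0x1021c7a1c2) (nat_lit 3076))
 (.leaf (nat_lit 0x1021c7a9b2) (nat_lit 3076))
) (.node (nat_lit 0x1021c7b592) (.leaf (nat_lit 0x1021c7a9c2) (nat_lit 3587))
 (.node (nat_lit 0x1021c7b5e2) (.leaf (nat_lit 0x1021c7b592) (nat_lit 3585))
 (.leaf (nat_lit 0x1021c7b5e2) (nat_lit 3332))
))) (.node (nat_lit 0x1030408116) (.node (nat_lit 0x1021c7bde2) (.leaf (nat_lit 0x1021c7bd92) (nat_lit 2817))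
 (.node (nat_lit 0x1030408106) (.leaf (nat_lit 0x1021c7bde2) (nat_lit 3585))
 (.leaf (nat_lit 0x1030408106) (nat_lit 257))
)) (.node (nat_lit 0x1030408526) (.leaf (nat_lit 0x1030408116) (nat_lit 2562))
 (.node (nat_lit 0x1030408536) (.leaf (nat_lit 0x1030408526) (nat_lit 2308))
 (.leaf (nat_lit 0x1030408536) (nat_lit 2819))
))))))) (.node (nat_lit 0x1030458d46) (.node (nat_lit 0x1030439116) (.node (nat_lit 0x1030418d46) (.node (nat_lit 0x1030418156) (.node (nat_lit 0x1030408d06) (.node (nat_lit 0x1030408936) (.leaf (nat_lit 0x1030408926) (nat_lit 1540))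
 (.leaf (nat_lit 0x1030408936) (nat_lit 3329))
) (.node (nat_lit 0x1030408d16) (.leaf (nat_lit 0x1030408d06) (nat_lit 1540))
 (.node (nat_lit 0x1030418146) (.leaf (nat_lit 0x1030408d16) (nat_lit 3330))
 (.leaf (nat_lit 0x1030418146) (nat_lit 3586))
))) (.node (nat_lit 0x1030418576) (.node (nat_lit 0x1030418566) (.leaf (nat_lit 0x1030418156) (nat_lit 2306))
 (.leaf (nat_lit 0x1030418566) (nat_lit 1795))
) (.node (nat_lit 0x1030418966) (.leaf (nat_lit 0x1030418576) (nat_lit 3332))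
 (.node (nat_lit 0x1030418976) (.leaf (nat_lit 0x1030418966) (nat_lit 2819))
 (.leaf (nat_lit 0x1030418976) (nat_lit 2819))
)))) (.node (nat_lit 0x1030429576) (.node (nat_lit 0x1030429146) (.node (nat_lit 0x1030418d56) (.leaf (nat_lit 0x1030418d46) (nat_lit 2819))
 (.leaf (nat_lit 0x1030418d56) (nat_lit 2820))
) (.node (nat_lit 0x1030429156) (.leaf (nat_lit 0x1030429146) (nat_lit 2564))
 (.node (nat_lit 0x1030429566) (.leaf (nat_lit 0x1030429156) (nat_lit 3332))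
 (.leaf (nat_lit 0x1030429566) (nat_lit 2564))
))) (.node (nat_lit 0x1030429d46) (.node (nat_lit 0x1030429966) (.leaf (nat_lit 0x1030429576) (nat_lit 2819))
 (.node (nat_lit 0x1030429976) (.leaf (nat_lit 0x1030429966) (nat_lit 1281))
 (.leaf (nat_lit 0x1030429976) (nat_lit 3585))
)) (.node (nat_lit 0x1030429d56) (.leaf (nat_lit 0x1030429d46) (nat_lit 3332))
 (.node (nat_lit 0x1030439106) (.leaf (nat_lit 0x1030429d56) (nat_lit 2307))
 (.leaf (nat_lit 0x1030439106) (nat_lit 2564))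
))))) (.node (nat_lit 0x1030448536) (.node (nat_lit 0x1030439d06) (.node (nat_lit 0x1030439536) (.node (nat_lit 0x1030439526) (.leaf (nat_lit 0x1030439116) (nat_lit 3332))
 (.leaf (nat_lit 0x1030439526) (nat_lit 2563))
) (.node (nat_lit 0x1030439926) (.leaf (nat_lit 0x1030439536) (nat_lit 2820))
 (.node (nat_lit 0x1030439936) (.leaf (nat_lit 0x1030439926) (nat_lit 3331))
 (.leaf (nat_lit 0x1030439936) (nat_lit 2307))
))) (.node (nat_lit 0x1030448106) (.node (nat_lit 0x1030439d16) (.leaf (nat_lit 0x1030439d06) (nat_lit 1283))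
 (.leaf (nat_lit 0x1030439d16) (nat_lit 3587))
) (.node (nat_lit 0x1030448116) (.leaf (nat_lit 0x1030448106) (nat_lit 513))
 (.node (nat_lit 0x1030448526) (.leaf (nat_lit 0x1030448116) (nat_lit 2818))
 (.leaf (nat_lit 0x1030448526) (nat_lit 2564))
)))) (.node (nat_lit 0x1030458146) (.node (nat_lit 0x1030448936) (.node (nat_lit 0x1030448926) (.leaf (nat_lit 0x1030448536) (nat_lit 2563))
 (.leaf (nat_lit 0x1030448926) (nat_lit 1796))
) (.node (nat_lit 0x1030448d06) (.leaf (nat_lit 0x1030448936) (nat_lit 3585))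
 (.node (nat_lit 0x1030448d16) (.leaf (nat_lit 0x1030448d06) (nat_lit 1796))
 (.leaf (nat_lit 0x1030448d16) (nat_lit 3586))
))) (.node (nat_lit 0x1030458576) (.node (nat_lit 0x1030458156) (.leaf (nat_lit 0x1030458146) (nat_lit 3330))
 (.node (nat_lit 0x1030458566) (.leaf (nat_lit 0x1030458156) (nat_lit 2050))
 (.leaf (nat_lit 0x1030458566) (nat_lit 2051))
)) (.node (nat_lit 0x1030458966) (.leaf (nat_lit 0x1030458576) (nat_lit 3076))
 (.node (nat_lit 0x1030458976) (.leaf (nat_lit 0x1030458966) (nat_lit 3075))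
 (.leaf (nat_lit 0x1030458976) (nat_lit 2563))
)))))) (.node (nat_lit 0x10308084b6) (.node (nat_lit 0x1030479106) (.node (nat_lit 0x1030469576) (.node (nat_lit 0x1030469146) (.node (nat_lit 0x1030458d56) (.leaf (nat_lit 0x1030458d46) (nat_lit 3075))
 (.leaf (nat_lit 0x1030458d56) (nat_lit 2564))
) (.node (nat_lit 0x1030469156) (.leaf (nat_lit 0x1030469146) (nat_lit 2308))
 (.node (nat_lit 0x1030469566) (.leaf (nat_lit 0x1030469156) (nat_lit 3588))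
 (.leaf (nat_lit 0x1030469566) (nat_lit 2308))
))) (.node (nat_lit 0x1030469976) (.node (nat_lit 0x1030469966) (.leaf (nat_lit 0x1030469576) (nat_lit 3075))
 (.leaf (nat_lit 0x1030469966) (nat_lit 1025))
) (.node (nat_lit 0x1030469d46) (.leaf (nat_lit 0x1030469976) (nat_lit 3329))
 (.node (nat_lit 0x1030469d56) (.leaf (nat_lit 0x1030469d46) (nat_lit 3076))
 (.leaf (nat_lit 0x1030469d56) (nat_lit 2563))
)))) (.node (nat_lit 0x1030479936) (.node (nat_lit 0x1030479526) (.node (nat_lit 0x1030479116) (.leaf (nat_lit 0x1030479106) (nat_lit 2308))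
 (.leaf (nat_lit 0x1030479116) (nat_lit 3588))
) (.node (nat_lit 0x1030479536) (.leaf (nat_lit 0x1030479526) (nat_lit 2307))
 (.node (nat_lit 0x1030479926) (.leaf (nat_lit 0x1030479536) (nat_lit 3076))
 (.leaf (nat_lit 0x1030479926) (nat_lit 3075))
))) (.node (nat_lit 0x1030808086) (.node (nat_lit 0x1030479d06) (.leaf (nat_lit 0x1030479936) (nat_lit 2563))
 (.node (nat_lit 0x1030479d16) (.leaf (nat_lit 0x1030479d06) (nat_lit 1027))
 (.leaf (nat_lit 0x1030479d16) (nat_lit 3331))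
)) (.node (nat_lit 0x10308080a6) (.leaf (nat_lit 0x1030808086) (nat_lit 514))
 (.node (nat_lit 0x1030808496) (.leaf (nat_lit 0x10308080a6) (nat_lit 1794))
 (.leaf (nat_lit 0x1030808496) (nat_lit 2308))
))))) (.node (nat_lit 0x10308198f6) (.node (nat_lit 0x10308190c6) (.node (nat_lit 0x10308088b6) (.node (nat_lit 0x1030808896) (.leaf (nat_lit 0x10308084b6) (nat_lit 3073))
 (.leaf (nat_lit 0x1030808896) (nat_lit 3076))
) (.node (nat_lit 0x1030808c86) (.leaf (nat_lit 0x10308088b6) (nat_lit 3075))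
 (.node (nat_lit 0x1030808ca6) (.leaf (nat_lit 0x1030808c86) (nat_lit 1796))
 (.leaf (nat_lit 0x1030808ca6) (nat_lit 2562))
))) (.node (nat_lit 0x10308194d6) (.node (nat_lit 0x10308190e6) (.leaf (nat_lit 0x10308190c6) (nat_lit 3332))
 (.leaf (nat_lit 0x10308190e6) (nat_lit 3075))
) (.node (nat_lit 0x10308194f6) (.leaf (nat_lit 0x10308194d6) (nat_lit 2049))
 (.node (nat_lit 0x10308198d6) (.leaf (nat_lit 0x10308194f6) (nat_lit 3075))
 (.leaf (nat_lit 0x10308198d6) (nat_lit 3074))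
)))) (.node (nat_lit 0x10308284d6) (.node (nat_lit 0x1030819ce6) (.node (nat_lit 0x1030819cc6) (.leaf (nat_lit 0x10308198f6) (nat_lit 3586))
 (.leaf (nat_lit 0x1030819cc6) (nat_lit 3075))
) (.node (nat_lit 0x10308280c6) (.leaf (nat_lit 0x1030819ce6) (nat_lit 2051))
 (.node (nat_lit 0x10308280e6) (.leaf (nat_lit 0x10308280c6) (nat_lit 2818))
 (.leaf (nat_lit 0x10308280e6) (nat_lit 1538))
))) (.node (nat_lit 0x10308288f6) (.node (nat_lit 0x10308284f6) (.leaf (nat_lit 0x10308284d6) (nat_lit 3331))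
 (.node (nat_lit 0x10308288d6) (.leaf (nat_lit 0x10308284f6) (nat_lit 3332))
 (.leaf (nat_lit 0x10308288d6) (nat_lit 2563))
)) (.node (nat_lit 0x1030828cc6) (.leaf (nat_lit 0x10308288f6) (nat_lit 3075))
 (.node (nat_lit 0x1030828ce6) (.leaf (nat_lit 0x1030828cc6) (nat_lit 3586))
 (.leaf (nat_lit 0x1030828ce6) (nat_lit 2820))
)))))))) (.node (nat_lit 0x103145f526) (.node (nat_lit 0x103140ed06) (.node (nat_lit 0x10308598f6) (.node (nat_lit 0x1030848496) (.node (nat_lit 0x10308398b6) (.node (nat_lit 0x1030839496) (.node (nat_lit 0x10308390a6) (.leaf (nat_lit 0x1030839086) (nat_lit 2820))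
 (.leaf (nat_lit 0x10308390a6) (nat_lit 3587))
) (.node (nat_lit 0x10308394b6) (.leaf (nat_lit 0x1030839496) (nat_lit 3585))
 (.node (nat_lit 0x1030839896) (.leaf (nat_lit 0x10308394b6) (nat_lit 2305))
 (.leaf (nat_lit 0x1030839896) (nat_lit 3331))
))) (.node (nat_lit 0x1030839ca6) (.node (nat_lit 0x1030839c86) (.leaf (nat_lit 0x10308398b6) (nat_lit 3074))
 (.leaf (nat_lit 0x1030839c86) (nat_lit 1539))
) (.node (nat_lit 0x1030848086) (.leaf (nat_lit 0x1030839ca6) (nat_lit 2819))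
 (.node (nat_lit 0x10308480a6) (.leaf (nat_lit 0x1030848086) (nat_lit 770))
 (.leaf (nat_lit 0x10308480a6) (nat_lit 2050))
)))) (.node (nat_lit 0x1030848ca6) (.node (nat_lit 0x1030848896) (.node (nat_lit 0x10308484b6) (.leaf (nat_lit 0x1030848496) (nat_lit 2564))
 (.leaf (nat_lit 0x10308484b6) (nat_lit 3329))
) (.node (nat_lit 0x10308488b6) (.leaf (nat_lit 0x1030848896) (nat_lit 3332))
 (.node (nat_lit 0x1030848c86) (.leaf (nat_lit 0x10308488b6) (nat_lit 2819))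
 (.leaf (nat_lit 0x1030848c86) (nat_lit 2052))
))) (.node (nat_lit 0x10308594d6) (.node (nat_lit 0x10308590c6) (.leaf (nat_lit 0x1030848ca6) (nat_lit 2818))
 (.node (nat_lit 0x10308590e6) (.leaf (nat_lit 0x10308590c6) (nat_lit 3076))
 (.leaf (nat_lit 0x10308590e6) (nat_lit 3331))
)) (.node (nat_lit 0x10308594f6) (.leaf (nat_lit 0x10308594d6) (nat_lit 1793))
 (.node (nat_lit 0x10308598d6) (.leaf (nat_lit 0x10308594f6) (nat_lit 2819))
 (.leaf (nat_lit 0x10308598d6) (nat_lit 2818))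
))))) (.node (nat_lit 0x1030868ce6) (.node (nat_lit 0x10308684d6) (.node (nat_lit 0x1030859ce6) (.node (nat_lit 0x1030859cc6) (.leaf (nat_lit 0x10308598f6) (nat_lit 3330))
 (.leaf (nat_lit 0x1030859cc6) (nat_lit 3331))
) (.node (nat_lit 0x10308680c6) (.leaf (nat_lit 0x1030859ce6) (nat_lit 2307))
 (.node (nat_lit 0x10308680e6) (.leaf (nat_lit 0x10308680c6) (nat_lit 2562))
 (.leaf (nat_lit 0x10308680e6) (nat_lit 1282))
))) (.node (nat_lit 0x10308688d6) (.node (nat_lit 0x10308684f6) (.leaf (nat_lit 0x10308684d6) (nat_lit 3587))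
 (.leaf (nat_lit 0x10308684f6) (nat_lit 3076))
) (.node (nat_lit 0x10308688f6) (.leaf (nat_lit 0x10308688d6) (nat_lit 2819))
 (.node (nat_lit 0x1030868cc6) (.leaf (nat_lit 0x10308688f6) (nat_lit 3331))
 (.leaf (nat_lit 0x1030868cc6) (nat_lit 3330))
)))) (.node (nat_lit 0x1030879896) (.node (nat_lit 0x10308790a6) (.node (nat_lit 0x1030879086) (.leaf (nat_lit 0x1030868ce6) (nat_lit 2564))
 (.leaf (nat_lit 0x1030879086) (nat_lit 2564))
) (.node (nat_lit 0x1030879496) (.leaf (nat_lit 0x10308790a6) (nat_lit 3331))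
 (.node (nat_lit 0x10308794b6) (.leaf (nat_lit 0x1030879496) (nat_lit 3841))
 (.leaf (nat_lit 0x10308794b6) (nat_lit 2561))
))) (.node (nat_lit 0x1030879ca6) (.node (nat_lit 0x10308798b6) (.leaf (nat_lit 0x1030879896) (nat_lit 3075))
 (.node (nat_lit 0x1030879c86) (.leaf (nat_lit 0x10308798b6) (nat_lit 3330))
 (.leaf (nat_lit 0x1030879c86) (nat_lit 1283))
)) (.node (nat_lit 0x103140e106) (.leaf (nat_lit 0x1030879ca6) (nat_lit 2563))
 (.node (nat_lit 0x103140e156) (.leaf (nat_lit 0x103140e106) (nat_lit 1025))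
 (.leaf (nat_lit 0x103140e156) (nat_lit 2305))
)))))) (.node (nat_lit 0x103142fd46) (.node (nat_lit 0x103141f526) (.node (nat_lit 0x103140f966) (.node (nat_lit 0x103140f536) (.node (nat_lit 0x103140ed56) (.leaf (nat_lit 0x103140ed06) (nat_lit 2052))
 (.leaf (nat_lit 0x103140ed56) (nat_lit 3074))
) (.node (nat_lit 0x103140f566) (.leaf (nat_lit 0x103140f536) (nat_lit 3330))
 (.node (nat_lit 0x103140f936) (.leaf (nat_lit 0x103140f566) (nat_lit 2820))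
 (.leaf (nat_lit 0x103140f936) (nat_lit 3073))
))) (.node (nat_lit 0x103141e146) (.node (nat_lit 0x103141e116) (.leaf (nat_lit 0x103140f966) (nat_lit 1793))
 (.leaf (nat_lit 0x103141e116) (nat_lit 2306))
) (.node (nat_lit 0x103141ed16) (.leaf (nat_lit 0x103141e146) (nat_lit 3074))
 (.node (nat_lit 0x103141ed46) (.leaf (nat_lit 0x103141ed16) (nat_lit 3332))
 (.leaf (nat_lit 0x103141ed46) (nat_lit 3331))
)))) (.node (nat_lit 0x103142e576) (.node (nat_lit 0x103141f926) (.node (nat_lit 0x103141f576) (.leaf (nat_lit 0x103141f526) (nat_lit 2819))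
 (.leaf (nat_lit 0x103141f576) (nat_lit 3588))
) (.node (nat_lit 0x103141f976) (.leaf (nat_lit 0x103141f926) (nat_lit 3587))
 (.node (nat_lit 0x103142e526) (.leaf (nat_lit 0x103141f976) (nat_lit 3075))
 (.leaf (nat_lit 0x103142e526) (nat_lit 2818))
))) (.node (nat_lit 0x103142f116) (.node (nat_lit 0x103142e926) (.leaf (nat_lit 0x103142e576) (nat_lit 3587))
 (.node (nat_lit 0x103142e976) (.leaf (nat_lit 0x103142e926) (nat_lit 1793))
 (.leaf (nat_lit 0x103142e976) (nat_lit 3073))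
)) (.node (nat_lit 0x103142f146) (.leaf (nat_lit 0x103142f116) (nat_lit 3585))
 (.node (nat_lit 0x103142fd16) (.leaf (nat_lit 0x103142f146) (nat_lit 2305))
 (.leaf (nat_lit 0x103142fd16) (nat_lit 3075))
))))) (.node (nat_lit 0x103144e156) (.node (nat_lit 0x103143f106) (.node (nat_lit 0x103143e566) (.node (nat_lit 0x103143e536) (.leaf (nat_lit 0x103142fd46) (nat_lit 3331))
 (.leaf (nat_lit 0x103143e536) (nat_lit 3587))
) (.node (nat_lit 0x103143e936) (.leaf (nat_lit 0x103143e566) (nat_lit 2819))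
 (.node (nat_lit 0x103143e966) (.leaf (nat_lit 0x103143e936) (nat_lit 3073))
 (.leaf (nat_lit 0x103143e966) (nat_lit 3331))
))) (.node (nat_lit 0x103143fd06) (.node (nat_lit 0x103143f156) (.leaf (nat_lit 0x103143f106) (nat_lit 2819))
 (.leaf (nat_lit 0x103143f156) (nat_lit 3587))
) (.node (nat_lit 0x103143fd56) (.leaf (nat_lit 0x103143fd06) (nat_lit 2051))
 (.node (nat_lit 0x103144e106) (.leaf (nat_lit 0x103143fd56) (nat_lit 3331))
 (.leaf (nat_lit 0x103144e106) (nat_lit 1281))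
)))) (.node (nat_lit 0x103144f936) (.node (nat_lit 0x103144ed56) (.node (nat_lit 0x103144ed06) (.leaf (nat_lit 0x103144e156) (nat_lit 2561))
 (.leaf (nat_lit 0x103144ed06) (nat_lit 2308))
) (.node (nat_lit 0x103144f536) (.leaf (nat_lit 0x103144ed56) (nat_lit 3330))
 (.node (nat_lit 0x103144f566) (.leaf (nat_lit 0x103144f536) (nat_lit 3331))
 (.leaf (nat_lit 0x103144f566) (nat_lit 3076))
))) (.node (nat_lit 0x103145e146) (.node (nat_lit 0x103144f966) (.leaf (nat_lit 0x103144f936) (nat_lit 3329))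
 (.node (nat_lit 0x103145e116) (.leaf (nat_lit 0x103144f966) (nat_lit 2049))
 (.leaf (nat_lit 0x103145e116) (nat_lit 2562))
)) (.node (nat_lit 0x103145ed16) (.leaf (nat_lit 0x103145e146) (nat_lit 3330))
 (.node (nat_lit 0x103145ed46) (.leaf (nat_lit 0x103145ed16) (nat_lit 3588))
 (.leaf (nat_lit 0x103145ed46) (nat_lit 3075))
))))))) (.node (nat_lit 0x103182f896) (.node (nat_lit 0x103180e0e6) (.node (nat_lit 0x103146fd16) (.node (nat_lit 0x103146e576) (.node (nat_lit 0x103145f926) (.node (nat_lit 0x103145f576) (.leaf (nat_lit 0x103145f526) (nat_lit 2563))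
 (.leaf (nat_lit 0x103145f576) (nat_lit 3585))
) (.node (nat_lit 0x103145f976) (.leaf (nat_lit 0x103145f926) (nat_lit 3331))
 (.node (nat_lit 0x103146e526) (.leaf (nat_lit 0x103145f976) (nat_lit 3331))
 (.leaf (nat_lit 0x103146e526) (nat_lit 3074))
))) (.node (nat_lit 0x103146e976) (.node (nat_lit 0x103146e926) (.leaf (nat_lit 0x103146e576) (nat_lit 3331))
 (.leaf (nat_lit 0x103146e926) (nat_lit 2049))
) (.node (nat_lit 0x103146f116) (.leaf (nat_lit 0x103146e976) (nat_lit 3329))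
 (.node (nat_lit 0x103146f146) (.leaf (nat_lit 0x103146f116) (nat_lit 3841))
 (.leaf (nat_lit 0x103146f146) (nat_lit 2561))
)))) (.node (nat_lit 0x103147e966) (.node (nat_lit 0x103147e536) (.node (nat_lit 0x103146fd46) (.leaf (nat_lit 0x103146fd16) (nat_lit 2819))
 (.leaf (nat_lit 0x103146fd46) (nat_lit 3587))
) (.node (nat_lit 0x103147e566) (.leaf (nat_lit 0x103147e536) (nat_lit 3331))
 (.node (nat_lit 0x103147e936) (.leaf (nat_lit 0x103147e566) (nat_lit 2563))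
 (.leaf (nat_lit 0x103147e936) (nat_lit 3329))
))) (.node (nat_lit 0x103147fd06) (.node (nat_lit 0x103147f106) (.leaf (nat_lit 0x103147e966) (nat_lit 3075))
 (.node (nat_lit 0x103147f156) (.leaf (nat_lit 0x103147f106) (nat_lit 2563))
 (.leaf (nat_lit 0x103147f156) (nat_lit 3587))
)) (.node (nat_lit 0x103147fd56) (.leaf (nat_lit 0x103147fd06) (nat_lit 1795))
 (.node (nat_lit 0x103180e086) (.leaf (nat_lit 0x103147fd56) (nat_lit 3075))
 (.leaf (nat_lit 0x103180e086) (nat_lit 1028))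
))))) (.node (nat_lit 0x103181e8f6) (.node (nat_lit 0x103180f8b6) (.node (nat_lit 0x103180ece6) (.node (nat_lit 0x103180ec86) (.leaf (nat_lit 0x103180e0e6) (nat_lit 1796))
 (.leaf (nat_lit 0x103180ec86) (nat_lit 1796))
) (.node (nat_lit 0x103180f4b6) (.leaf (nat_lit 0x103180ece6) (nat_lit 2564))
 (.node (nat_lit 0x103180f4d6) (.leaf (nat_lit 0x103180f4b6) (nat_lit 2817))
 (.leaf (nat_lit 0x103180f4d6) (nat_lit 2049))
))) (.node (nat_lit 0x103181e496) (.node (nat_lit 0x103180f8d6) (.leaf (nat_lit 0x103180f8b6) (nat_lit 3076))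
 (.leaf (nat_lit 0x103180f8d6) (nat_lit 2820))
) (.node (nat_lit 0x103181e4f6) (.leaf (nat_lit 0x103181e496) (nat_lit 2049))
 (.node (nat_lit 0x103181e896) (.leaf (nat_lit 0x103181e4f6) (nat_lit 2817))
 (.leaf (nat_lit 0x103181e896) (nat_lit 3073))
)))) (.node (nat_lit 0x103182e0a6) (.node (nat_lit 0x103181f0c6) (.node (nat_lit 0x103181f0a6) (.leaf (nat_lit 0x103181e8f6) (nat_lit 3587))
 (.leaf (nat_lit 0x103181f0a6) (nat_lit 3587))
) (.node (nat_lit 0x103181fca6) (.leaf (nat_lit 0x103181f0c6) (nat_lit 2817))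
 (.node (nat_lit 0x103181fcc6) (.leaf (nat_lit 0x103181fca6) (nat_lit 2819))
 (.leaf (nat_lit 0x103181fcc6) (nat_lit 3587))
))) (.node (nat_lit 0x103182ecc6) (.node (nat_lit 0x103182e0c6) (.leaf (nat_lit 0x103182e0a6) (nat_lit 1796))
 (.node (nat_lit 0x103182eca6) (.leaf (nat_lit 0x103182e0c6) (nat_lit 2564))
 (.leaf (nat_lit 0x103182eca6) (nat_lit 2564))
)) (.node (nat_lit 0x103182f496) (.leaf (nat_lit 0x103182ecc6) (nat_lit 3332))
 (.node (nat_lit 0x103182f4f6) (.leaf (nat_lit 0x103182f496) (nat_lit 3587))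
 (.leaf (nat_lit 0x103182f4f6) (nat_lit 2820))
)))))) (.node (nat_lit 0x103185e8f6) (.node (nat_lit 0x103184e086) (.node (nat_lit 0x103183e8d6) (.node (nat_lit 0x103183e4b6) (.node (nat_lit 0x103182f8f6) (.leaf (nat_lit 0x103182f896) (nat_lit 3075))
 (.leaf (nat_lit 0x103182f8f6) (nat_lit 3332))
) (.node (nat_lit 0x103183e4d6) (.leaf (nat_lit 0x103183e4b6) (nat_lit 2817))
 (.node (nat_lit 0x103183e8b6) (.leaf (nat_lit 0x103183e4d6) (nat_lit 3585))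
 (.leaf (nat_lit 0x103183e8b6) (nat_lit 3587))
))) (.node (nat_lit 0x103183f0e6) (.node (nat_lit 0x103183f086) (.leaf (nat_lit 0x103183e8d6) (nat_lit 3075))
 (.leaf (nat_lit 0x103183f086) (nat_lit 2820))
) (.node (nat_lit 0x103183fc86) (.leaf (nat_lit 0x103183f0e6) (nat_lit 3587))
 (.node (nat_lit 0x103183fce6) (.leaf (nat_lit 0x103183fc86) (nat_lit 2052))
 (.leaf (nat_lit 0x103183fce6) (nat_lit 2820))
)))) (.node (nat_lit 0x103184f4d6) (.node (nat_lit 0x103184ec86) (.node (nat_lit 0x103184e0e6) (.leaf (nat_lit 0x103184e086) (nat_lit 1284))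
 (.leaf (nat_lit 0x103184e0e6) (nat_lit 2052))
) (.node (nat_lit 0x103184ece6) (.leaf (nat_lit 0x103184ec86) (nat_lit 2052))
 (.node (nat_lit 0x103184f4b6) (.leaf (nat_lit 0x103184ece6) (nat_lit 2820))
 (.leaf (nat_lit 0x103184f4b6) (nat_lit 3073))
))) (.node (nat_lit 0x103185e496) (.node (nat_lit 0x103184f8b6) (.leaf (nat_lit 0x103184f4d6) (nat_lit 2305))
 (.node (nat_lit 0x103184f8d6) (.leaf (nat_lit 0x103184f8b6) (nat_lit 3332))
 (.leaf (nat_lit 0x103184f8d6) (nat_lit 3076))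
)) (.node (nat_lit 0x103185e4f6) (.leaf (nat_lit 0x103185e496) (nat_lit 2305))
 (.node (nat_lit 0x103185e896) (.leaf (nat_lit 0x103185e4f6) (nat_lit 3073))
 (.leaf (nat_lit 0x103185e896) (nat_lit 3329))
))))) (.node (nat_lit 0x103186f4f6) (.node (nat_lit 0x103186e0a6) (.node (nat_lit 0x103185f0c6) (.node (nat_lit 0x103185f0a6) (.leaf (nat_lit 0x103185e8f6) (nat_lit 3331))
 (.leaf (nat_lit 0x103185f0a6) (nat_lit 3331))
) (.node (nat_lit 0x103185fca6) (.leaf (nat_lit 0x103185f0c6) (nat_lit 3073))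
 (.node (nat_lit 0x103185fcc6) (.leaf (nat_lit 0x103185fca6) (nat_lit 2563))
 (.leaf (nat_lit 0x103185fcc6) (nat_lit 3331))
))) (.node (nat_lit 0x103186eca6) (.node (nat_lit 0x103186e0c6) (.leaf (nat_lit 0x103186e0a6) (nat_lit 2052))
 (.leaf (nat_lit 0x103186e0c6) (nat_lit 2820))
) (.node (nat_lit 0x103186ecc6) (.leaf (nat_lit 0x103186eca6) (nat_lit 2820))
 (.node (nat_lit 0x103186f496) (.leaf (nat_lit 0x103186ecc6) (nat_lit 3588))
 (.leaf (nat_lit 0x103186f496) (nat_lit 3843))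
)))) (.node (nat_lit 0x103187e8b6) (.node (nat_lit 0x103186f8f6) (.node (nat_lit 0x103186f896) (.leaf (nat_lit 0x103186f4f6) (nat_lit 3076))
 (.leaf (nat_lit 0x103186f896) (nat_lit 2819))
) (.node (nat_lit 0x103187e4b6) (.leaf (nat_lit 0x103186f8f6) (nat_lit 3329))
 (.node (nat_lit 0x103187e4d6) (.leaf (nat_lit 0x103187e4b6) (nat_lit 3073))
 (.leaf (nat_lit 0x103187e4d6) (nat_lit 3588))
))) (.node (nat_lit 0x103187f0e6) (.node (nat_lit 0x103187e8d6) (.leaf (nat_lit 0x103187e8b6) (nat_lit 3331))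
 (.node (nat_lit 0x103187f086) (.leaf (nat_lit 0x103187e8d6) (nat_lit 2819))
 (.leaf (nat_lit 0x103187f086) (nat_lit 2564))
)) (.node (nat_lit 0x103187fc86) (.leaf (nat_lit 0x103187f0e6) (nat_lit 3331))
 (.node (nat_lit 0x103187fce6) (.leaf (nat_lit 0x103187fc86) (nat_lit 1796))
 (.leaf (nat_lit 0x103187fce6) (nat_lit 2564))
))))))))))))) (.node (nat_lit 0x182140a382) (.node (nat_lit 0x143080828e) (.node (nat_lit 0x107144a106) (.node (nat_lit 0x1060c2e5d2) (.node (nat_lit 0x105185e484) (.node (nat_lit 0x1050c2f1c4) (.node (nat_lit 0x105085acd4) (.node (nat_lit 0x105082b4e4) (.node (nat_lit 0x105081acd4) (.node (nat_lit 0x105080b4a4) (.node (nat_lit 0x105080a8d4) (.node (nat_lit 0x105080a0a4) (.leaf (nat_lit 0x105080a084) (nat_lit 1028))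
 (.leaf (nat_lit 0x105080a0a4) (nat_lit 2050))
) (.node (nat_lit 0x105080a8f4) (.leaf (nat_lit 0x105080a8d4) (nat_lit 3587))
 (.node (nat_lit 0x105080b484) (.leaf (nat_lit 0x105080a8f4) (nat_lit 2564))
 (.leaf (nat_lit 0x105080b484) (nat_lit 1796))
))) (.node (nat_lit 0x105080bcf4) (.node (nat_lit 0x105080bcd4) (.leaf (nat_lit 0x105080b4a4) (nat_lit 2818))
 (.leaf (nat_lit 0x105080bcd4) (nat_lit 3076))
) (.node (nat_lit 0x105081a484) (.leaf (nat_lit 0x105080bcf4) (nat_lit 1796))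
 (.node (nat_lit 0x105081a4a4) (.leaf (nat_lit 0x105081a484) (nat_lit 1795))
 (.leaf (nat_lit 0x105081a4a4) (nat_lit 2819))
)))) (.node (nat_lit 0x105081b8f4) (.node (nat_lit 0x105081b084) (.node (nat_lit 0x105081acf4) (.leaf (nat_lit 0x105081acd4) (nat_lit 2817))
 (.leaf (nat_lit 0x105081acf4) (nat_lit 3331))
) (.node (nat_lit 0x105081b0a4) (.leaf (nat_lit 0x105081b084) (nat_lit 2563))
 (.node (nat_lit 0x105081b8d4) (.leaf (nat_lit 0x105081b0a4) (nat_lit 3585))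
 (.leaf (nat_lit 0x105081b8d4) (nat_lit 3585))
))) (.node (nat_lit 0x105082a894) (.node (nat_lit 0x105082a0c4) (.leaf (nat_lit 0x105081b8f4) (nat_lit 2563))
 (.node (nat_lit 0x105082a0e4) (.leaf (nat_lit 0x105082a0c4) (nat_lit 3074))
 (.leaf (nat_lit 0x105082a0e4) (nat_lit 2052))
)) (.node (nat_lit 0x105082a8b4) (.leaf (nat_lit 0x105082a894) (nat_lit 3331))
 (.node (nat_lit 0x105082b4c4) (.leaf (nat_lit 0x105082a8b4) (nat_lit 2563))
 (.leaf (nat_lit 0x105082b4c4) (nat_lit 3331))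
))))) (.node (nat_lit 0x105083b8b4) (.node (nat_lit 0x105083ac94) (.node (nat_lit 0x105082bcb4) (.node (nat_lit 0x105082bc94) (.leaf (nat_lit 0x105082b4e4) (nat_lit 2564))
 (.leaf (nat_lit 0x105082bc94) (nat_lit 2820))
) (.node (nat_lit 0x105083a4c4) (.leaf (nat_lit 0x105082bcb4) (nat_lit 3587))
 (.node (nat_lit 0x105083a4e4) (.leaf (nat_lit 0x105083a4c4) (nat_lit 3587))
 (.leaf (nat_lit 0x105083a4e4) (nat_lit 2819))
))) (.node (nat_lit 0x105083b0c4) (.node (nat_lit 0x105083acb4) (.leaf (nat_lit 0x105083ac94) (nat_lit 3075))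
 (.leaf (nat_lit 0x105083acb4) (nat_lit 1793))
) (.node (nat_lit 0x105083b0e4) (.leaf (nat_lit 0x105083b0c4) (nat_lit 2561))
 (.node (nat_lit 0x105083b894) (.leaf (nat_lit 0x105083b0e4) (nat_lit 3331))
 (.leaf (nat_lit 0x105083b894) (nat_lit 3331))
)))) (.node (nat_lit 0x105084b484) (.node (nat_lit 0x105084a0a4) (.node (nat_lit 0x105084a084) (.leaf (nat_lit 0x105083b8b4) (nat_lit 3073))
 (.leaf (nat_lit 0x105084a084) (nat_lit 1284))
) (.node (nat_lit 0x105084a8d4) (.leaf (nat_lit 0x105084a0a4) (nat_lit 2306))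
 (.node (nat_lit 0x105084a8f4) (.leaf (nat_lit 0x105084a8d4) (nat_lit 3331))
 (.leaf (nat_lit 0x105084a8f4) (nat_lit 2820))
))) (.node (nat_lit 0x105084bcf4) (.node (nat_lit 0x105084b4a4) (.leaf (nat_lit 0x105084b484) (nat_lit 2052))
 (.node (nat_lit 0x105084bcd4) (.leaf (nat_lit 0x105084b4a4) (nat_lit 3074))
 (.leaf (nat_lit 0x105084bcd4) (nat_lit 3332))
)) (.node (nat_lit 0x105085a484) (.leaf (nat_lit 0x105084bcf4) (nat_lit 2052))
 (.node (nat_lit 0x105085a4a4) (.leaf (nat_lit 0x105085a484) (nat_lit 2051))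
 (.leaf (nat_lit 0x105085a4a4) (nat_lit 3075))
)))))) (.node (nat_lit 0x105087b8b4) (.node (nat_lit 0x105086b4c4) (.node (nat_lit 0x105085b8f4) (.node (nat_lit 0x105085b084) (.node (nat_lit 0x105085acf4) (.leaf (nat_lit 0x105085acd4) (nat_lit 2561))
 (.leaf (nat_lit 0x105085acf4) (nat_lit 3587))
) (.node (nat_lit 0x105085b0a4) (.leaf (nat_lit 0x105085b084) (nat_lit 2819))
 (.node (nat_lit 0x105085b8d4) (.leaf (nat_lit 0x105085b0a4) (nat_lit 3329))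
 (.leaf (nat_lit 0x105085b8d4) (nat_lit 3329))
))) (.node (nat_lit 0x105086a0e4) (.node (nat_lit 0x105086a0c4) (.leaf (nat_lit 0x105085b8f4) (nat_lit 2819))
 (.leaf (nat_lit 0x105086a0c4) (nat_lit 2818))
) (.node (nat_lit 0x105086a894) (.leaf (nat_lit 0x105086a0e4) (nat_lit 1796))
 (.node (nat_lit 0x105086a8b4) (.leaf (nat_lit 0x105086a894) (nat_lit 3332))
 (.leaf (nat_lit 0x105086a8b4) (nat_lit 2819))
)))) (.node (nat_lit 0x105087a4e4) (.node (nat_lit 0x105086bc94) (.node (nat_lit 0x105086b4e4) (.leaf (nat_lit 0x105086b4c4) (nat_lit 3587))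
 (.leaf (nat_lit 0x105086b4e4) (nat_lit 2308))
) (.node (nat_lit 0x105086bcb4) (.leaf (nat_lit 0x105086bc94) (nat_lit 2564))
 (.node (nat_lit 0x105087a4c4) (.leaf (nat_lit 0x105086bcb4) (nat_lit 3588))
 (.leaf (nat_lit 0x105087a4c4) (nat_lit 3587))
))) (.node (nat_lit 0x105087b0c4) (.node (nat_lit 0x105087ac94) (.leaf (nat_lit 0x105087a4e4) (nat_lit 2563))
 (.node (nat_lit 0x105087acb4) (.leaf (nat_lit 0x105087ac94) (nat_lit 3331))
 (.leaf (nat_lit 0x105087acb4) (nat_lit 2049))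
)) (.node (nat_lit 0x105087b0e4) (.leaf (nat_lit 0x105087b0c4) (nat_lit 2817))
 (.node (nat_lit 0x105087b894) (.leaf (nat_lit 0x105087b0e4) (nat_lit 3075))
 (.leaf (nat_lit 0x105087b894) (nat_lit 3075))
))))) (.node (nat_lit 0x1050c1e5b4) (.node (nat_lit 0x1050c0f584) (.node (nat_lit 0x1050c0e1b4) (.node (nat_lit 0x1050c0e184) (.leaf (nat_lit 0x105087b8b4) (nat_lit 3329))
 (.leaf (nat_lit 0x1050c0e184) (nat_lit 772))
) (.node (nat_lit 0x1050c0edd4) (.leaf (nat_lit 0x1050c0e1b4) (nat_lit 2306))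
 (.node (nat_lit 0x1050c0ede4) (.leaf (nat_lit 0x1050c0edd4) (nat_lit 3331))
 (.leaf (nat_lit 0x1050c0ede4) (nat_lit 2308))
))) (.node (nat_lit 0x1050c0f9d4) (.node (nat_lit 0x1050c0f5b4) (.leaf (nat_lit 0x1050c0f584) (nat_lit 1540))
 (.leaf (nat_lit 0x1050c0f5b4) (nat_lit 3074))
) (.node (nat_lit 0x1050c0f9e4) (.leaf (nat_lit 0x1050c0f9d4) (nat_lit 3074))
 (.node (nat_lit 0x1050c1e584) (.leaf (nat_lit 0x1050c0f9e4) (nat_lit 1540))
 (.leaf (nat_lit 0x1050c1e584) (nat_lit 1539))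
)))) (.node (nat_lit 0x1050c1fdd4) (.node (nat_lit 0x1050c1e9e4) (.node (nat_lit 0x1050c1e9d4) (.leaf (nat_lit 0x1050c1e5b4) (nat_lit 3075))
 (.leaf (nat_lit 0x1050c1e9d4) (nat_lit 3073))
) (.node (nat_lit 0x1050c1f184) (.leaf (nat_lit 0x1050c1e9e4) (nat_lit 3075))
 (.node (nat_lit 0x1050c1f1b4) (.leaf (nat_lit 0x1050c1f184) (nat_lit 2307))
 (.leaf (nat_lit 0x1050c1f1b4) (nat_lit 3585))
))) (.node (nat_lit 0x1050c2e5f4) (.node (nat_lit 0x1050c1fde4) (.leaf (nat_lit 0x1050c1fdd4) (nat_lit 3585))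
 (.node (nat_lit 0x1050c2e5c4) (.leaf (nat_lit 0x1050c1fde4) (nat_lit 2307))
 (.leaf (nat_lit 0x1050c2e5c4) (nat_lit 3331))
)) (.node (nat_lit 0x1050c2e994) (.leaf (nat_lit 0x1050c2e5f4) (nat_lit 2819))
 (.node (nat_lit 0x1050c2e9a4) (.leaf (nat_lit 0x1050c2e994) (nat_lit 3074))
 (.leaf (nat_lit 0x1050c2e9a4) (nat_lit 1537))
))))))) (.node (nat_lit 0x1050c7f994) (.node (nat_lit 0x1050c5e5b4) (.node (nat_lit 0x1050c3f994) (.node (nat_lit 0x1050c3e1f4) (.node (nat_lit 0x1050c2fd94) (.node (nat_lit 0x1050c2f1f4) (.leaf (nat_lit 0x1050c2f1c4) (nat_lit 2305))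
 (.leaf (nat_lit 0x1050c2f1f4) (nat_lit 3587))
) (.node (nat_lit 0x1050c2fda4) (.leaf (nat_lit 0x1050c2fd94) (nat_lit 3075))
 (.node (nat_lit 0x1050c3e1c4) (.leaf (nat_lit 0x1050c2fda4) (nat_lit 2817))
 (.leaf (nat_lit 0x1050c3e1c4) (nat_lit 3330))
))) (.node (nat_lit 0x1050c3eda4) (.node (nat_lit 0x1050c3ed94) (.leaf (nat_lit 0x1050c3e1f4) (nat_lit 2308))
 (.leaf (nat_lit 0x1050c3ed94) (nat_lit 3332))
) (.node (nat_lit 0x1050c3f5c4) (.leaf (nat_lit 0x1050c3eda4) (nat_lit 2307))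
 (.node (nat_lit 0x1050c3f5f4) (.leaf (nat_lit 0x1050c3f5c4) (nat_lit 3075))
 (.leaf (nat_lit 0x1050c3f5f4) (nat_lit 2820))
)))) (.node (nat_lit 0x1050c4ede4) (.node (nat_lit 0x1050c4e184) (.node (nat_lit 0x1050c3f9a4) (.leaf (nat_lit 0x1050c3f994) (nat_lit 2819))
 (.leaf (nat_lit 0x1050c3f9a4) (nat_lit 3331))
) (.node (nat_lit 0x1050c4e1b4) (.leaf (nat_lit 0x1050c4e184) (nat_lit 1028))
 (.node (nat_lit 0x1050c4edd4) (.leaf (nat_lit 0x1050c4e1b4) (nat_lit 2562))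
 (.leaf (nat_lit 0x1050c4edd4) (nat_lit 3075))
))) (.node (nat_lit 0x1050c4f9d4) (.node (nat_lit 0x1050c4f584) (.leaf (nat_lit 0x1050c4ede4) (nat_lit 2564))
 (.node (nat_lit 0x1050c4f5b4) (.leaf (nat_lit 0x1050c4f584) (nat_lit 1796))
 (.leaf (nat_lit 0x1050c4f5b4) (nat_lit 3330))
)) (.node (nat_lit 0x1050c4f9e4) (.leaf (nat_lit 0x1050c4f9d4) (nat_lit 3330))
 (.node (nat_lit 0x1050c5e584) (.leaf (nat_lit 0x1050c4f9e4) (nat_lit 1796))
 (.leaf (nat_lit 0x1050c5e584) (nat_lit 1795))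
))))) (.node (nat_lit 0x1050c6e9a4) (.node (nat_lit 0x1050c5fdd4) (.node (nat_lit 0x1050c5e9e4) (.node (nat_lit 0x1050c5e9d4) (.leaf (nat_lit 0x1050c5e5b4) (nat_lit 3331))
 (.leaf (nat_lit 0x1050c5e9d4) (nat_lit 2817))
) (.node (nat_lit 0x1050c5f184) (.leaf (nat_lit 0x1050c5e9e4) (nat_lit 3331))
 (.node (nat_lit 0x1050c5f1b4) (.leaf (nat_lit 0x1050c5f184) (nat_lit 2563))
 (.leaf (nat_lit 0x1050c5f1b4) (nat_lit 3329))
))) (.node (nat_lit 0x1050c6e5c4) (.node (nat_lit 0x1050c5fde4) (.leaf (nat_lit 0x1050c5fdd4) (nat_lit 3329))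
 (.leaf (nat_lit 0x1050c5fde4) (nat_lit 2563))
) (.node (nat_lit 0x1050c6e5f4) (.leaf (nat_lit 0x1050c6e5c4) (nat_lit 3587))
 (.node (nat_lit 0x1050c6e994) (.leaf (nat_lit 0x1050c6e5f4) (nat_lit 2563))
 (.leaf (nat_lit 0x1050c6e994) (nat_lit 3330))
)))) (.node (nat_lit 0x1050c7e1c4) (.node (nat_lit 0x1050c6f1f4) (.node (nat_lit 0x1050c6f1c4) (.leaf (nat_lit 0x1050c6e9a4) (nat_lit 1793))
 (.leaf (nat_lit 0x1050c6f1c4) (nat_lit 2561))
) (.node (nat_lit 0x1050c6fd94) (.leaf (nat_lit 0x1050c6f1f4) (nat_lit 3331))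
 (.node (nat_lit 0x1050c6fda4) (.leaf (nat_lit 0x1050c6fd94) (nat_lit 2819))
 (.leaf (nat_lit 0x1050c6fda4) (nat_lit 3073))
))) (.node (nat_lit 0x1050c7eda4) (.node (nat_lit 0x1050c7e1f4) (.leaf (nat_lit 0x1050c7e1c4) (nat_lit 3074))
 (.node (nat_lit 0x1050c7ed94) (.leaf (nat_lit 0x1050c7e1f4) (nat_lit 2052))
 (.leaf (nat_lit 0x1050c7ed94) (nat_lit 3076))
)) (.node (nat_lit 0x1050c7f5c4) (.leaf (nat_lit 0x1050c7eda4) (nat_lit 2563))
 (.node (nat_lit 0x1050c7f5f4) (.leaf (nat_lit 0x1050c7f5c4) (nat_lit 3331))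
 (.leaf (nat_lit 0x1050c7f5f4) (nat_lit 2564))
)))))) (.node (nat_lit 0x105182ecf4) (.node (nat_lit 0x105181e484) (.node (nat_lit 0x105180ecd4) (.node (nat_lit 0x105180e084) (.node (nat_lit 0x1050c7f9a4) (.leaf (nat_lit 0x1050c7f994) (nat_lit 2563))
 (.leaf (nat_lit 0x1050c7f9a4) (nat_lit 3587))
) (.node (nat_lit 0x105180e0e4) (.leaf (nat_lit 0x105180e084) (nat_lit 1026))
 (.node (nat_lit 0x105180ecb4) (.leaf (nat_lit 0x105180e0e4) (nat_lit 1794))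
 (.leaf (nat_lit 0x105180ecb4) (nat_lit 2052))
))) (.node (nat_lit 0x105180f4e4) (.node (nat_lit 0x105180f484) (.leaf (nat_lit 0x105180ecd4) (nat_lit 2820))
 (.leaf (nat_lit 0x105180f484) (nat_lit 1794))
) (.node (nat_lit 0x105180f8b4) (.leaf (nat_lit 0x105180f4e4) (nat_lit 2562))
 (.node (nat_lit 0x105180f8d4) (.leaf (nat_lit 0x105180f8b4) (nat_lit 2820))
 (.leaf (nat_lit 0x105180f8d4) (nat_lit 3332))
)))) (.node (nat_lit 0x105181f0e4) (.node (nat_lit 0x105181e8b4) (.node (nat_lit 0x105181e4e4) (.leaf (nat_lit 0x105181e484) (nat_lit 1795))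
 (.leaf (nat_lit 0x105181e4e4) (nat_lit 2563))
) (.node (nat_lit 0x105181e8d4) (.leaf (nat_lit 0x105181e8b4) (nat_lit 2819))
 (.node (nat_lit 0x105181f084) (.leaf (nat_lit 0x105181e8d4) (nat_lit 3587))
 (.leaf (nat_lit 0x105181f084) (nat_lit 2563))
))) (.node (nat_lit 0x105182e0a4) (.node (nat_lit 0x105181fcb4) (.leaf (nat_lit 0x105181f0e4) (nat_lit 3331))
 (.node (nat_lit 0x105181fcd4) (.leaf (nat_lit 0x105181fcb4) (nat_lit 3587))
 (.leaf (nat_lit 0x105181fcd4) (nat_lit 3073))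
)) (.node (nat_lit 0x105182e0c4) (.leaf (nat_lit 0x105182e0a4) (nat_lit 1794))
 (.node (nat_lit 0x105182ec94) (.leaf (nat_lit 0x105182e0c4) (nat_lit 2562))
 (.leaf (nat_lit 0x105182ec94) (nat_lit 2820))
))))) (.node (nat_lit 0x105183f0c4) (.node (nat_lit 0x105183e4a4) (.node (nat_lit 0x105182f4c4) (.node (nat_lit 0x105182f4a4) (.leaf (nat_lit 0x105182ecf4) (nat_lit 3588))
 (.leaf (nat_lit 0x105182f4a4) (nat_lit 2564))
) (.node (nat_lit 0x105182f894) (.leaf (nat_lit 0x105182f4c4) (nat_lit 3332))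
 (.node (nat_lit 0x105182f8f4) (.leaf (nat_lit 0x105182f894) (nat_lit 3331))
 (.leaf (nat_lit 0x105182f8f4) (nat_lit 3075))
))) (.node (nat_lit 0x105183e894) (.node (nat_lit 0x105183e4c4) (.leaf (nat_lit 0x105183e4a4) (nat_lit 2563))
 (.leaf (nat_lit 0x105183e4c4) (nat_lit 3331))
) (.node (nat_lit 0x105183e8f4) (.leaf (nat_lit 0x105183e894) (nat_lit 3331))
 (.node (nat_lit 0x105183f0a4) (.leaf (nat_lit 0x105183e8f4) (nat_lit 3074))
 (.leaf (nat_lit 0x105183f0a4) (nat_lit 3331))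
)))) (.node (nat_lit 0x105184ecb4) (.node (nat_lit 0x105183fcf4) (.node (nat_lit 0x105183fc94) (.leaf (nat_lit 0x105183f0c4) (nat_lit 3076))
 (.leaf (nat_lit 0x105183fc94) (nat_lit 3075))
) (.node (nat_lit 0x105184e084) (.leaf (nat_lit 0x105183fcf4) (nat_lit 2308))
 (.node (nat_lit 0x105184e0e4) (.leaf (nat_lit 0x105184e084) (nat_lit 1282))
 (.leaf (nat_lit 0x105184e0e4) (nat_lit 2050))
))) (.node (nat_lit 0x105184f4e4) (.node (nat_lit 0x105184ecd4) (.leaf (nat_lit 0x105184ecb4) (nat_lit 2308))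
 (.node (nat_lit 0x105184f484) (.leaf (nat_lit 0x105184ecd4) (nat_lit 3076))
 (.leaf (nat_lit 0x105184f484) (nat_lit 2050))
)) (.node (nat_lit 0x105184f8b4) (.leaf (nat_lit 0x105184f4e4) (nat_lit 2818))
 (.node (nat_lit 0x105184f8d4) (.leaf (nat_lit 0x105184f8b4) (nat_lit 3076))
 (.leaf (nat_lit 0x105184f8d4) (nat_lit 3331))
)))))))) (.node (nat_lit 0x1051c7b5b4) (.node (nat_lit 0x1051c2ad94) (.node (nat_lit 0x105187f0c4) (.node (nat_lit 0x105186ec94) (.node (nat_lit 0x105185f0e4) (.node (nat_lit 0x105185e8b4) (.node (nat_lit 0x105185e4e4) (.leaf (nat_lit 0x105185e484) (nat_lit 2051))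
 (.leaf (nat_lit 0x105185e4e4) (nat_lit 2819))
) (.node (nat_lit 0x105185e8d4) (.leaf (nat_lit 0x105185e8b4) (nat_lit 3075))
 (.node (nat_lit 0x105185f084) (.leaf (nat_lit 0x105185e8d4) (nat_lit 3588))
 (.leaf (nat_lit 0x105185f084) (nat_lit 2819))
))) (.node (nat_lit 0x105185fcd4) (.node (nat_lit 0x105185fcb4) (.leaf (nat_lit 0x105185f0e4) (nat_lit 3587))
 (.leaf (nat_lit 0x105185fcb4) (nat_lit 3586))
) (.node (nat_lit 0x105186e0a4) (.leaf (nat_lit 0x105185fcd4) (nat_lit 2817))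
 (.node (nat_lit 0x105186e0c4) (.leaf (nat_lit 0x105186e0a4) (nat_lit 2050))
 (.leaf (nat_lit 0x105186e0c4) (nat_lit 2818))
)))) (.node (nat_lit 0x105186f8f4) (.node (nat_lit 0x105186f4a4) (.node (nat_lit 0x105186ecf4) (.leaf (nat_lit 0x105186ec94) (nat_lit 3076))
 (.leaf (nat_lit 0x105186ecf4) (nat_lit 3587))
) (.node (nat_lit 0x105186f4c4) (.leaf (nat_lit 0x105186f4a4) (nat_lit 2820))
 (.node (nat_lit 0x105186f894) (.leaf (nat_lit 0x105186f4c4) (nat_lit 3588))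
 (.leaf (nat_lit 0x105186f894) (nat_lit 3075))
))) (.node (nat_lit 0x105187e894) (.node (nat_lit 0x105187e4a4) (.leaf (nat_lit 0x105186f8f4) (nat_lit 2819))
 (.node (nat_lit 0x105187e4c4) (.leaf (nat_lit 0x105187e4a4) (nat_lit 2819))
 (.leaf (nat_lit 0x105187e4c4) (nat_lit 3587))
)) (.node (nat_lit 0x105187e8f4) (.leaf (nat_lit 0x105187e894) (nat_lit 3330))
 (.node (nat_lit 0x105187f0a4) (.leaf (nat_lit 0x105187e8f4) (nat_lit 2818))
 (.leaf (nat_lit 0x105187f0a4) (nat_lit 3587))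
))))) (.node (nat_lit 0x1051c0bdd4) (.node (nat_lit 0x1051c0a9a4) (.node (nat_lit 0x105187fcf4) (.node (nat_lit 0x105187fc94) (.leaf (nat_lit 0x105187f0c4) (nat_lit 2820))
 (.leaf (nat_lit 0x105187fc94) (nat_lit 2819))
) (.node (nat_lit 0x1051c0a184) (.leaf (nat_lit 0x105187fcf4) (nat_lit 2052))
 (.node (nat_lit 0x1051c0a1f4) (.leaf (nat_lit 0x1051c0a184) (nat_lit 1028))
 (.leaf (nat_lit 0x1051c0a1f4) (nat_lit 2050))
))) (.node (nat_lit 0x1051c0b584) (.node (nat_lit 0x1051c0a9d4) (.leaf (nat_lit 0x1051c0a9a4) (nat_lit 1796))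
 (.leaf (nat_lit 0x1051c0a9d4) (nat_lit 3076))
) (.node (nat_lit 0x1051c0b5f4) (.leaf (nat_lit 0x1051c0b584) (nat_lit 1796))
 (.node (nat_lit 0x1051c0bda4) (.leaf (nat_lit 0x1051c0b5f4) (nat_lit 2818))
 (.leaf (nat_lit 0x1051c0bda4) (nat_lit 2564))
)))) (.node (nat_lit 0x1051c1b184) (.node (nat_lit 0x1051c1a5f4) (.node (nat_lit 0x1051c1a584) (.leaf (nat_lit 0x1051c0bdd4) (nat_lit 3587))
 (.leaf (nat_lit 0x1051c1a584) (nat_lit 1795))
) (.node (nat_lit 0x1051c1ada4) (.leaf (nat_lit 0x1051c1a5f4) (nat_lit 2819))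
 (.node (nat_lit 0x1051c1add4) (.leaf (nat_lit 0x1051c1ada4) (nat_lit 2563))
 (.leaf (nat_lit 0x1051c1add4) (nat_lit 3588))
))) (.node (nat_lit 0x1051c1b9d4) (.node (nat_lit 0x1051c1b1f4) (.leaf (nat_lit 0x1051c1b184) (nat_lit 2563))
 (.node (nat_lit 0x1051c1b9a4) (.leaf (nat_lit 0x1051c1b1f4) (nat_lit 3587))
 (.leaf (nat_lit 0x1051c1b9a4) (nat_lit 3331))
)) (.node (nat_lit 0x1051c2a5b4) (.leaf (nat_lit 0x1051c1b9d4) (nat_lit 3074))
 (.node (nat_lit 0x1051c2a5c4) (.leaf (nat_lit 0x1051c2a5b4) (nat_lit 2819))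
 (.leaf (nat_lit 0x1051c2a5c4) (nat_lit 3588))
)))))) (.node (nat_lit 0x1051c4bdd4) (.node (nat_lit 0x1051c3b5b4) (.node (nat_lit 0x1051c2b9e4) (.node (nat_lit 0x1051c2b1b4) (.node (nat_lit 0x1051c2ade4) (.leaf (nat_lit 0x1051c2ad94) (nat_lit 3075))
 (.leaf (nat_lit 0x1051c2ade4) (nat_lit 2818))
) (.node (nat_lit 0x1051c2b1c4) (.leaf (nat_lit 0x1051c2b1b4) (nat_lit 3587))
 (.node (nat_lit 0x1051c2b994) (.leaf (nat_lit 0x1051c2b1c4) (nat_lit 2820))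
 (.leaf (nat_lit 0x1051c2b994) (nat_lit 3074))
))) (.node (nat_lit 0x1051c3a1c4) (.node (nat_lit 0x1051c3a1b4) (.leaf (nat_lit 0x1051c2b9e4) (nat_lit 2052))
 (.leaf (nat_lit 0x1051c3a1b4) (nat_lit 2050))
) (.node (nat_lit 0x1051c3a994) (.leaf (nat_lit 0x1051c3a1c4) (nat_lit 2818))
 (.node (nat_lit 0x1051c3a9e4) (.leaf (nat_lit 0x1051c3a994) (nat_lit 2819))
 (.leaf (nat_lit 0x1051c3a9e4) (nat_lit 3587))
)))) (.node (nat_lit 0x1051c4a1f4) (.node (nat_lit 0x1051c3bd94) (.node (nat_lit 0x1051c3b5c4) (.leaf (nat_lit 0x1051c3b5b4) (nat_lit 2820))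
 (.leaf (nat_lit 0x1051c3b5c4) (nat_lit 3587))
) (.node (nat_lit 0x1051c3bde4) (.leaf (nat_lit 0x1051c3bd94) (nat_lit 3332))
 (.node (nat_lit 0x1051c4a184) (.leaf (nat_lit 0x1051c3bde4) (nat_lit 2819))
 (.leaf (nat_lit 0x1051c4a184) (nat_lit 1284))
))) (.node (nat_lit 0x1051c4b584) (.node (nat_lit 0x1051c4a9a4) (.leaf (nat_lit 0x1051c4a1f4) (nat_lit 2306))
 (.node (nat_lit 0x1051c4a9d4) (.leaf (nat_lit 0x1051c4a9a4) (nat_lit 2052))
 (.leaf (nat_lit 0x1051c4a9d4) (nat_lit 3332))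
)) (.node (nat_lit 0x1051c4b5f4) (.leaf (nat_lit 0x1051c4b584) (nat_lit 2052))
 (.node (nat_lit 0x1051c4bda4) (.leaf (nat_lit 0x1051c4b5f4) (nat_lit 3074))
 (.leaf (nat_lit 0x1051c4bda4) (nat_lit 2820))
))))) (.node (nat_lit 0x1051c6a5c4) (.node (nat_lit 0x1051c5b184) (.node (nat_lit 0x1051c5a5f4) (.node (nat_lit 0x1051c5a584) (.leaf (nat_lit 0x1051c4bdd4) (nat_lit 3331))
 (.leaf (nat_lit 0x1051c5a584) (nat_lit 2051))
) (.node (nat_lit 0x1051c5ada4) (.leaf (nat_lit 0x1051c5a5f4) (nat_lit 3075))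
 (.node (nat_lit 0x1051c5add4) (.leaf (nat_lit 0x1051c5ada4) (nat_lit 2819))
 (.leaf (nat_lit 0x1051c5add4) (nat_lit 3332))
))) (.node (nat_lit 0x1051c5b9a4) (.node (nat_lit 0x1051c5b1f4) (.leaf (nat_lit 0x1051c5b184) (nat_lit 2819))
 (.leaf (nat_lit 0x1051c5b1f4) (nat_lit 3587))
) (.node (nat_lit 0x1051c5b9d4) (.leaf (nat_lit 0x1051c5b9a4) (nat_lit 3587))
 (.node (nat_lit 0x1051c6a5b4) (.leaf (nat_lit 0x1051c5b9d4) (nat_lit 2818))
 (.leaf (nat_lit 0x1051c6a5b4) (nat_lit 3075))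
)))) (.node (nat_lit 0x1051c6b994) (.node (nat_lit 0x1051c6ade4) (.node (nat_lit 0x1051c6ad94) (.leaf (nat_lit 0x1051c6a5c4) (nat_lit 3332))
 (.leaf (nat_lit 0x1051c6ad94) (nat_lit 3331))
) (.node (nat_lit 0x1051c6b1b4) (.leaf (nat_lit 0x1051c6ade4) (nat_lit 2562))
 (.node (nat_lit 0x1051c6b1c4) (.leaf (nat_lit 0x1051c6b1b4) (nat_lit 3843))
 (.leaf (nat_lit 0x1051c6b1c4) (nat_lit 2564))
))) (.node (nat_lit 0x1051c7a1c4) (.node (nat_lit 0x1051c6b9e4) (.leaf (nat_lit 0x1051c6b994) (nat_lit 2818))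
 (.node (nat_lit 0x1051c7a1b4) (.leaf (nat_lit 0x1051c6b9e4) (nat_lit 1796))
 (.leaf (nat_lit 0x1051c7a1b4) (nat_lit 2306))
)) (.node (nat_lit 0x1051c7a994) (.leaf (nat_lit 0x1051c7a1c4) (nat_lit 3074))
 (.node (nat_lit 0x1051c7a9e4) (.leaf (nat_lit 0x1051c7a994) (nat_lit 3075))
 (.leaf (nat_lit 0x1051c7a9e4) (nat_lit 3331))
))))))) (.node (nat_lit 0x106044dd62) (.node (nat_lit 0x106042c912) (.node (nat_lit 0x106040dd62) (.node (nat_lit 0x106040c112) (.node (nat_lit 0x1051c7bd94) (.node (nat_lit 0x1051c7b5c4) (.leaf (nat_lit 0x1051c7b5b4) (nat_lit 3076))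
 (.leaf (nat_lit 0x1051c7b5c4) (nat_lit 3331))
) (.node (nat_lit 0x1051c7bde4) (.leaf (nat_lit 0x1051c7bd94) (nat_lit 3331))
 (.node (nat_lit 0x106040c102) (.leaf (nat_lit 0x1051c7bde4) (nat_lit 2563))
 (.leaf (nat_lit 0x106040c102) (nat_lit 260))
))) (.node (nat_lit 0x106040c572) (.node (nat_lit 0x106040c562) (.leaf (nat_lit 0x106040c112) (nat_lit 2564))
 (.leaf (nat_lit 0x106040c562) (nat_lit 3331))
) (.node (nat_lit 0x106040d902) (.leaf (nat_lit 0x106040c572) (nat_lit 2308))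
 (.node (nat_lit 0x106040d912) (.leaf (nat_lit 0x106040d902) (nat_lit 1028))
 (.leaf (nat_lit 0x106040d912) (nat_lit 3332))
)))) (.node (nat_lit 0x106041c532) (.node (nat_lit 0x106041c142) (.node (nat_lit 0x106040dd72) (.leaf (nat_lit 0x106040dd62) (nat_lit 3586))
 (.leaf (nat_lit 0x106040dd72) (nat_lit 1540))
) (.node (nat_lit 0x106041c152) (.leaf (nat_lit 0x106041c142) (nat_lit 3588))
 (.node (nat_lit 0x106041c522) (.leaf (nat_lit 0x106041c152) (nat_lit 2308))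
 (.leaf (nat_lit 0x106041c522) (nat_lit 3332))
))) (.node (nat_lit 0x106041dd22) (.node (nat_lit 0x106041d942) (.leaf (nat_lit 0x106041c532) (nat_lit 2307))
 (.node (nat_lit 0x106041d952) (.leaf (nat_lit 0x106041d942) (nat_lit 3075))
 (.leaf (nat_lit 0x106041d952) (nat_lit 2564))
)) (.node (nat_lit 0x106041dd32) (.leaf (nat_lit 0x106041dd22) (nat_lit 2819))
 (.node (nat_lit 0x106042c902) (.leaf (nat_lit 0x106041dd32) (nat_lit 3075))
 (.leaf (nat_lit 0x106042c902) (nat_lit 1027))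
))))) (.node (nat_lit 0x106043cd32) (.node (nat_lit 0x106042d562) (.node (nat_lit 0x106042cd72) (.node (nat_lit 0x106042cd62) (.leaf (nat_lit 0x106042c912) (nat_lit 3332))
 (.leaf (nat_lit 0x106042cd62) (nat_lit 2817))
) (.node (nat_lit 0x106042d102) (.leaf (nat_lit 0x106042cd72) (nat_lit 3075))
 (.node (nat_lit 0x106042d112) (.leaf (nat_lit 0x106042d102) (nat_lit 1795))
 (.leaf (nat_lit 0x106042d112) (nat_lit 3585))
))) (.node (nat_lit 0x106043c942) (.node (nat_lit 0x106042d572) (.leaf (nat_lit 0x106042d562) (nat_lit 3073))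
 (.leaf (nat_lit 0x106042d572) (nat_lit 2307))
) (.node (nat_lit 0x106043c952) (.leaf (nat_lit 0x106043c942) (nat_lit 3073))
 (.node (nat_lit 0x106043cd22) (.leaf (nat_lit 0x106043c952) (nat_lit 2563))
 (.leaf (nat_lit 0x106043cd22) (nat_lit 3586))
)))) (.node (nat_lit 0x106044c102) (.node (nat_lit 0x106043d152) (.node (nat_lit 0x106043d142) (.leaf (nat_lit 0x106043cd32) (nat_lit 1537))
 (.leaf (nat_lit 0x106043d142) (nat_lit 2305))
) (.node (nat_lit 0x106043d522) (.leaf (nat_lit 0x106043d152) (nat_lit 3075))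
 (.node (nat_lit 0x106043d532) (.leaf (nat_lit 0x106043d522) (nat_lit 3075))
 (.leaf (nat_lit 0x106043d532) (nat_lit 2305))
))) (.node (nat_lit 0x106044c572) (.node (nat_lit 0x106044c112) (.leaf (nat_lit 0x106044c102) (nat_lit 516))
 (.node (nat_lit 0x106044c562) (.leaf (nat_lit 0x106044c112) (nat_lit 2820))
 (.leaf (nat_lit 0x106044c562) (nat_lit 3075))
)) (.node (nat_lit 0x106044d902) (.leaf (nat_lit 0x106044c572) (nat_lit 2564))
 (.node (nat_lit 0x106044d912) (.leaf (nat_lit 0x106044d902) (nat_lit 1284))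
 (.leaf (nat_lit 0x106044d912) (nat_lit 3588))
)))))) (.node (nat_lit 0x106047cd32) (.node (nat_lit 0x106046c902) (.node (nat_lit 0x106045c532) (.node (nat_lit 0x106045c142) (.node (nat_lit 0x106044dd72) (.leaf (nat_lit 0x106044dd62) (nat_lit 3587))
 (.leaf (nat_lit 0x106044dd72) (nat_lit 1796))
) (.node (nat_lit 0x106045c152) (.leaf (nat_lit 0x106045c142) (nat_lit 3332))
 (.node (nat_lit 0x106045c522) (.leaf (nat_lit 0x106045c152) (nat_lit 2052))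
 (.leaf (nat_lit 0x106045c522) (nat_lit 3076))
))) (.node (nat_lit 0x106045d952) (.node (nat_lit 0x106045d942) (.leaf (nat_lit 0x106045c532) (nat_lit 2563))
 (.leaf (nat_lit 0x106045d942) (nat_lit 3331))
) (.node (nat_lit 0x106045dd22) (.leaf (nat_lit 0x106045d952) (nat_lit 2308))
 (.node (nat_lit 0x106045dd32) (.leaf (nat_lit 0x106045dd22) (nat_lit 2563))
 (.leaf (nat_lit 0x106045dd32) (nat_lit 3331))
)))) (.node (nat_lit 0x106046d112) (.node (nat_lit 0x106046cd62) (.node (nat_lit 0x106046c912) (.leaf (nat_lit 0x106046c902) (nat_lit 1283))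
 (.leaf (nat_lit 0x106046c912) (nat_lit 3588))
) (.node (nat_lit 0x106046cd72) (.leaf (nat_lit 0x106046cd62) (nat_lit 2561))
 (.node (nat_lit 0x106046d102) (.leaf (nat_lit 0x106046cd72) (nat_lit 3331))
 (.leaf (nat_lit 0x106046d102) (nat_lit 2051))
))) (.node (nat_lit 0x106047c942) (.node (nat_lit 0x106046d562) (.leaf (nat_lit 0x106046d112) (nat_lit 3329))
 (.node (nat_lit 0x106046d572) (.leaf (nat_lit 0x106046d562) (nat_lit 2817))
 (.leaf (nat_lit 0x106046d572) (nat_lit 2563))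
)) (.node (nat_lit 0x106047c952) (.leaf (nat_lit 0x106047c942) (nat_lit 3329))
 (.node (nat_lit 0x106047cd22) (.leaf (nat_lit 0x106047c952) (nat_lit 2307))
 (.leaf (nat_lit 0x106047cd22) (nat_lit 3587))
))))) (.node (nat_lit 0x1060c0f5e2) (.node (nat_lit 0x1060c0e182) (.node (nat_lit 0x106047d152) (.node (nat_lit 0x106047d142) (.leaf (nat_lit 0x106047cd32) (nat_lit 1793))
 (.leaf (nat_lit 0x106047d142) (nat_lit 2561))
) (.node (nat_lit 0x106047d522) (.leaf (nat_lit 0x106047d152) (nat_lit 2819))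
 (.node (nat_lit 0x106047d532) (.leaf (nat_lit 0x106047d522) (nat_lit 2819))
 (.leaf (nat_lit 0x106047d532) (nat_lit 2561))
))) (.node (nat_lit 0x1060c0edd2) (.node (nat_lit 0x1060c0e1b2) (.leaf (nat_lit 0x1060c0e182) (nat_lit 516))
 (.leaf (nat_lit 0x1060c0e1b2) (nat_lit 2308))
) (.node (nat_lit 0x1060c0ede2) (.leaf (nat_lit 0x1060c0edd2) (nat_lit 2564))
 (.node (nat_lit 0x1060c0f5d2) (.leaf (nat_lit 0x1060c0ede2) (nat_lit 3587))
 (.leaf (nat_lit 0x1060c0f5d2) (nat_lit 1796))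
)))) (.node (nat_lit 0x1060c1e9c2) (.node (nat_lit 0x1060c0f9b2) (.node (nat_lit 0x1060c0f982) (.leaf (nat_lit 0x1060c0f5e2) (nat_lit 3329))
 (.leaf (nat_lit 0x1060c0f982) (nat_lit 1284))
) (.node (nat_lit 0x1060c1e592) (.leaf (nat_lit 0x1060c0f9b2) (nat_lit 3076))
 (.node (nat_lit 0x1060c1e5a2) (.leaf (nat_lit 0x1060c1e592) (nat_lit 1793))
 (.leaf (nat_lit 0x1060c1e5a2) (nat_lit 3329))
))) (.node (nat_lit 0x1060c1f1f2) (.node (nat_lit 0x1060c1e9f2) (.leaf (nat_lit 0x1060c1e9c2) (nat_lit 3329))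
 (.node (nat_lit 0x1060c1f1c2) (.leaf (nat_lit 0x1060c1e9f2) (nat_lit 2819))
 (.leaf (nat_lit 0x1060c1f1c2) (nat_lit 2561))
)) (.node (nat_lit 0x1060c1fd92) (.leaf (nat_lit 0x1060c1f1f2) (nat_lit 3331))
 (.node (nat_lit 0x1060c1fda2) (.leaf (nat_lit 0x1060c1fd92) (nat_lit 2561))
 (.leaf (nat_lit 0x1060c1fda2) (nat_lit 3331))
))))))))) (.node (nat_lit 0x1061c7c1b2) (.node (nat_lit 0x106144f532) (.node (nat_lit 0x1060c7ed92) (.node (nat_lit 0x1060c4f5e2) (.node (nat_lit 0x1060c3ed92) (.node (nat_lit 0x1060c2f1b2) (.node (nat_lit 0x1060c2e982) (.node (nat_lit 0x1060c2e5e2) (.leaf (nat_lit 0x1060c2e5d2) (nat_lit 3331))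
 (.leaf (nat_lit 0x1060c2e5e2) (nat_lit 3073))
) (.node (nat_lit 0x1060c2e9b2) (.leaf (nat_lit 0x1060c2e982) (nat_lit 1283))
 (.node (nat_lit 0x1060c2f182) (.leaf (nat_lit 0x1060c2e9b2) (nat_lit 3076))
 (.leaf (nat_lit 0x1060c2f182) (nat_lit 2051))
))) (.node (nat_lit 0x1060c2fde2) (.node (nat_lit 0x1060c2fdd2) (.leaf (nat_lit 0x1060c2f1b2) (nat_lit 3587))
 (.leaf (nat_lit 0x1060c2fdd2) (nat_lit 2563))
) (.node (nat_lit 0x1060c3e1c2) (.leaf (nat_lit 0x1060c2fde2) (nat_lit 3329))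
 (.node (nat_lit 0x1060c3e1f2) (.leaf (nat_lit 0x1060c3e1c2) (nat_lit 3332))
 (.leaf (nat_lit 0x1060c3e1f2) (nat_lit 2052))
)))) (.node (nat_lit 0x1060c3f9f2) (.node (nat_lit 0x1060c3f592) (.node (nat_lit 0x1060c3eda2) (.leaf (nat_lit 0x1060c3ed92) (nat_lit 2563))
 (.leaf (nat_lit 0x1060c3eda2) (nat_lit 3588))
) (.node (nat_lit 0x1060c3f5a2) (.leaf (nat_lit 0x1060c3f592) (nat_lit 3331))
 (.node (nat_lit 0x1060c3f9c2) (.leaf (nat_lit 0x1060c3f5a2) (nat_lit 3076))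
 (.leaf (nat_lit 0x1060c3f9c2) (nat_lit 3331))
))) (.node (nat_lit 0x1060c4edd2) (.node (nat_lit 0x1060c4e182) (.leaf (nat_lit 0x1060c3f9f2) (nat_lit 2820))
 (.node (nat_lit 0x1060c4e1b2) (.leaf (nat_lit 0x1060c4e182) (nat_lit 772))
 (.leaf (nat_lit 0x1060c4e1b2) (nat_lit 2564))
)) (.node (nat_lit 0x1060c4ede2) (.leaf (nat_lit 0x1060c4edd2) (nat_lit 2820))
 (.node (nat_lit 0x1060c4f5d2) (.leaf (nat_lit 0x1060c4ede2) (nat_lit 3331))
 (.leaf (nat_lit 0x1060c4f5d2) (nat_lit 2052))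
))))) (.node (nat_lit 0x1060c5fda2) (.node (nat_lit 0x1060c5e9c2) (.node (nat_lit 0x1060c4f9b2) (.node (nat_lit 0x1060c4f982) (.leaf (nat_lit 0x1060c4f5e2) (nat_lit 3585))
 (.leaf (nat_lit 0x1060c4f982) (nat_lit 1540))
) (.node (nat_lit 0x1060c5e592) (.leaf (nat_lit 0x1060c4f9b2) (nat_lit 3332))
 (.node (nat_lit 0x1060c5e5a2) (.leaf (nat_lit 0x1060c5e592) (nat_lit 2049))
 (.leaf (nat_lit 0x1060c5e5a2) (nat_lit 3585))
))) (.node (nat_lit 0x1060c5f1c2) (.node (nat_lit 0x1060c5e9f2) (.leaf (nat_lit 0x1060c5e9c2) (nat_lit 3585))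
 (.leaf (nat_lit 0x1060c5e9f2) (nat_lit 2563))
) (.node (nat_lit 0x1060c5f1f2) (.leaf (nat_lit 0x1060c5f1c2) (nat_lit 2817))
 (.node (nat_lit 0x1060c5fd92) (.leaf (nat_lit 0x1060c5f1f2) (nat_lit 3075))
 (.leaf (nat_lit 0x1060c5fd92) (nat_lit 2817))
)))) (.node (nat_lit 0x1060c6f182) (.node (nat_lit 0x1060c6e5e2) (.node (nat_lit 0x1060c6e5d2) (.leaf (nat_lit 0x1060c5fda2) (nat_lit 3075))
 (.leaf (nat_lit 0x1060c6e5d2) (nat_lit 3587))
) (.node (nat_lit 0x1060c6e982) (.leaf (nat_lit 0x1060c6e5e2) (nat_lit 2817))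
 (.node (nat_lit 0x1060c6e9b2) (.leaf (nat_lit 0x1060c6e982) (nat_lit 1539))
 (.leaf (nat_lit 0x1060c6e9b2) (nat_lit 3332))
))) (.node (nat_lit 0x1060c6fde2) (.node (nat_lit 0x1060c6f1b2) (.leaf (nat_lit 0x1060c6f182) (nat_lit 2307))
 (.node (nat_lit 0x1060c6fdd2) (.leaf (nat_lit 0x1060c6f1b2) (nat_lit 3585))
 (.leaf (nat_lit 0x1060c6fdd2) (nat_lit 2819))
)) (.node (nat_lit 0x1060c7e1c2) (.leaf (nat_lit 0x1060c6fde2) (nat_lit 3073))
 (.node (nat_lit 0x1060c7e1f2) (.leaf (nat_lit 0x1060c7e1c2) (nat_lit 3076))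
 (.leaf (nat_lit 0x1060c7e1f2) (nat_lit 1796))
)))))) (.node (nat_lit 0x106141f942) (.node (nat_lit 0x106140f532) (.node (nat_lit 0x1060c7f9f2) (.node (nat_lit 0x1060c7f592) (.node (nat_lit 0x1060c7eda2) (.leaf (nat_lit 0x1060c7ed92) (nat_lit 2819))
 (.leaf (nat_lit 0x1060c7eda2) (nat_lit 3332))
) (.node (nat_lit 0x1060c7f5a2) (.leaf (nat_lit 0x1060c7f592) (nat_lit 3587))
 (.node (nat_lit 0x1060c7f9c2) (.leaf (nat_lit 0x1060c7f5a2) (nat_lit 2820))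
 (.leaf (nat_lit 0x1060c7f9c2) (nat_lit 3587))
))) (.node (nat_lit 0x106140e152) (.node (nat_lit 0x106140e102) (.leaf (nat_lit 0x1060c7f9f2) (nat_lit 2564))
 (.leaf (nat_lit 0x106140e102) (nat_lit 770))
) (.node (nat_lit 0x106140ed32) (.leaf (nat_lit 0x106140e152) (nat_lit 2050))
 (.node (nat_lit 0x106140ed62) (.leaf (nat_lit 0x106140ed32) (nat_lit 2308))
 (.leaf (nat_lit 0x106140ed62) (nat_lit 3329))
)))) (.node (nat_lit 0x106141e142) (.node (nat_lit 0x106140f902) (.node (nat_lit 0x106140f562) (.leaf (nat_lit 0x106140f532) (nat_lit 3076))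
 (.leaf (nat_lit 0x106140f562) (nat_lit 3585))
) (.node (nat_lit 0x106140f952) (.leaf (nat_lit 0x106140f902) (nat_lit 1538))
 (.node (nat_lit 0x106141e112) (.leaf (nat_lit 0x106140f952) (nat_lit 2818))
 (.leaf (nat_lit 0x106141e112) (nat_lit 2050))
))) (.node (nat_lit 0x106141f522) (.node (nat_lit 0x106141ed22) (.leaf (nat_lit 0x106141e142) (nat_lit 2818))
 (.node (nat_lit 0x106141ed72) (.leaf (nat_lit 0x106141ed22) (nat_lit 3331))
 (.leaf (nat_lit 0x106141ed72) (nat_lit 3587))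
)) (.node (nat_lit 0x106141f572) (.leaf (nat_lit 0x106141f522) (nat_lit 3587))
 (.node (nat_lit 0x106141f912) (.leaf (nat_lit 0x106141f572) (nat_lit 3075))
 (.leaf (nat_lit 0x106141f912) (nat_lit 2818))
))))) (.node (nat_lit 0x106143e572) (.node (nat_lit 0x106142f102) (.node (nat_lit 0x106142e562) (.node (nat_lit 0x106142e532) (.leaf (nat_lit 0x106141f942) (nat_lit 3587))
 (.leaf (nat_lit 0x106142e532) (nat_lit 3075))
) (.node (nat_lit 0x106142e902) (.leaf (nat_lit 0x106142e562) (nat_lit 3586))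
 (.node (nat_lit 0x106142e952) (.leaf (nat_lit 0x106142e902) (nat_lit 1539))
 (.leaf (nat_lit 0x106142e952) (nat_lit 2819))
))) (.node (nat_lit 0x106142fd32) (.node (nat_lit 0x106142f152) (.leaf (nat_lit 0x106142f102) (nat_lit 2051))
 (.leaf (nat_lit 0x106142f152) (nat_lit 3331))
) (.node (nat_lit 0x106142fd62) (.leaf (nat_lit 0x106142fd32) (nat_lit 3331))
 (.node (nat_lit 0x106143e522) (.leaf (nat_lit 0x106142fd62) (nat_lit 3329))
 (.leaf (nat_lit 0x106143e522) (nat_lit 3587))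
)))) (.node (nat_lit 0x106143fd22) (.node (nat_lit 0x106143e942) (.node (nat_lit 0x106143e912) (.leaf (nat_lit 0x106143e572) (nat_lit 3074))
 (.leaf (nat_lit 0x106143e912) (nat_lit 2819))
) (.node (nat_lit 0x106143f112) (.leaf (nat_lit 0x106143e942) (nat_lit 3585))
 (.node (nat_lit 0x106143f142) (.leaf (nat_lit 0x106143f112) (nat_lit 3331))
 (.leaf (nat_lit 0x106143f142) (nat_lit 3073))
))) (.node (nat_lit 0x106144e152) (.node (nat_lit 0x106143fd72) (.leaf (nat_lit 0x106143fd22) (nat_lit 3330))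
 (.node (nat_lit 0x106144e102) (.leaf (nat_lit 0x106143fd72) (nat_lit 2306))
 (.leaf (nat_lit 0x106144e102) (nat_lit 1026))
)) (.node (nat_lit 0x106144ed32) (.leaf (nat_lit 0x106144e152) (nat_lit 2306))
 (.node (nat_lit 0x106144ed62) (.leaf (nat_lit 0x106144ed32) (nat_lit 2564))
 (.leaf (nat_lit 0x106144ed62) (nat_lit 3585))
))))))) (.node (nat_lit 0x1061c1d5a2) (.node (nat_lit 0x106147e572) (.node (nat_lit 0x106145f912) (.node (nat_lit 0x106145e142) (.node (nat_lit 0x106144f902) (.node (nat_lit 0x106144f562) (.leaf (nat_lit 0x106144f532) (nat_lit 3332))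
 (.leaf (nat_lit 0x106144f562) (nat_lit 3587))
) (.node (nat_lit 0x106144f952) (.leaf (nat_lit 0x106144f902) (nat_lit 1794))
 (.node (nat_lit 0x106145e112) (.leaf (nat_lit 0x106144f952) (nat_lit 3074))
 (.leaf (nat_lit 0x106145e112) (nat_lit 2306))
))) (.node (nat_lit 0x106145ed72) (.node (nat_lit 0x106145ed22) (.leaf (nat_lit 0x106145e142) (nat_lit 3074))
 (.leaf (nat_lit 0x106145ed22) (nat_lit 3587))
) (.node (nat_lit 0x106145f522) (.leaf (nat_lit 0x106145ed72) (nat_lit 3331))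
 (.node (nat_lit 0x106145f572) (.leaf (nat_lit 0x106145f522) (nat_lit 3331))
 (.leaf (nat_lit 0x106145f572) (nat_lit 2819))
)))) (.node (nat_lit 0x106146e952) (.node (nat_lit 0x106146e532) (.node (nat_lit 0x106145f942) (.leaf (nat_lit 0x106145f912) (nat_lit 3074))
 (.leaf (nat_lit 0x106145f942) (nat_lit 3331))
) (.node (nat_lit 0x106146e562) (.leaf (nat_lit 0x106146e532) (nat_lit 3331))
 (.node (nat_lit 0x106146e902) (.leaf (nat_lit 0x106146e562) (nat_lit 3330))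
 (.leaf (nat_lit 0x106146e902) (nat_lit 1795))
))) (.node (nat_lit 0x106146fd32) (.node (nat_lit 0x106146f102) (.leaf (nat_lit 0x106146e952) (nat_lit 3075))
 (.node (nat_lit 0x106146f152) (.leaf (nat_lit 0x106146f102) (nat_lit 2307))
 (.leaf (nat_lit 0x106146f152) (nat_lit 3587))
)) (.node (nat_lit 0x106146fd62) (.leaf (nat_lit 0x106146fd32) (nat_lit 3587))
 (.node (nat_lit 0x106147e522) (.leaf (nat_lit 0x106146fd62) (nat_lit 3073))
 (.leaf (nat_lit 0x106147e522) (nat_lit 3586))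
))))) (.node (nat_lit 0x1061c0c5e2) (.node (nat_lit 0x106147fd22) (.node (nat_lit 0x106147e942) (.node (nat_lit 0x106147e912) (.leaf (nat_lit 0x106147e572) (nat_lit 2818))
 (.leaf (nat_lit 0x106147e912) (nat_lit 3075))
) (.node (nat_lit 0x106147f112) (.leaf (nat_lit 0x106147e942) (nat_lit 3329))
 (.node (nat_lit 0x106147f142) (.leaf (nat_lit 0x106147f112) (nat_lit 3587))
 (.leaf (nat_lit 0x106147f142) (nat_lit 2817))
))) (.node (nat_lit 0x1061c0c182) (.node (nat_lit 0x106147fd72) (.leaf (nat_lit 0x106147fd22) (nat_lit 3074))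
 (.leaf (nat_lit 0x106147fd72) (nat_lit 2050))
) (.node (nat_lit 0x1061c0c1f2) (.leaf (nat_lit 0x1061c0c182) (nat_lit 514))
 (.node (nat_lit 0x1061c0c592) (.leaf (nat_lit 0x1061c0c1f2) (nat_lit 1794))
 (.leaf (nat_lit 0x1061c0c592) (nat_lit 2308))
)))) (.node (nat_lit 0x1061c1c9b2) (.node (nat_lit 0x1061c0d9f2) (.node (nat_lit 0x1061c0d982) (.leaf (nat_lit 0x1061c0c5e2) (nat_lit 3332))
 (.leaf (nat_lit 0x1061c0d982) (nat_lit 1282))
) (.node (nat_lit 0x1061c0dd92) (.leaf (nat_lit 0x1061c0d9f2) (nat_lit 2562))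
 (.node (nat_lit 0x1061c0dde2) (.leaf (nat_lit 0x1061c0dd92) (nat_lit 3076))
 (.leaf (nat_lit 0x1061c0dde2) (nat_lit 3587))
))) (.node (nat_lit 0x1061c1cdd2) (.node (nat_lit 0x1061c1c9c2) (.leaf (nat_lit 0x1061c1c9b2) (nat_lit 2563))
 (.node (nat_lit 0x1061c1cda2) (.leaf (nat_lit 0x1061c1c9c2) (nat_lit 3331))
 (.leaf (nat_lit 0x1061c1cda2) (nat_lit 3586))
)) (.node (nat_lit 0x1061c1d1b2) (.leaf (nat_lit 0x1061c1cdd2) (nat_lit 2818))
 (.node (nat_lit 0x1061c1d1c2) (.leaf (nat_lit 0x1061c1d1b2) (nat_lit 3331))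
 (.leaf (nat_lit 0x1061c1d1c2) (nat_lit 3329))
)))))) (.node (nat_lit 0x1061c4c5e2) (.node (nat_lit 0x1061c3c1b2) (.node (nat_lit 0x1061c2cde2) (.node (nat_lit 0x1061c2c982) (.node (nat_lit 0x1061c1d5d2) (.leaf (nat_lit 0x1061c1d5a2) (nat_lit 3075))
 (.leaf (nat_lit 0x1061c1d5d2) (nat_lit 2049))
) (.node (nat_lit 0x1061c2c9f2) (.leaf (nat_lit 0x1061c2c982) (nat_lit 1283))
 (.node (nat_lit 0x1061c2cd92) (.leaf (nat_lit 0x1061c2c9f2) (nat_lit 2563))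
 (.leaf (nat_lit 0x1061c2cd92) (nat_lit 3075))
))) (.node (nat_lit 0x1061c2d1f2) (.node (nat_lit 0x1061c2d182) (.leaf (nat_lit 0x1061c2cde2) (nat_lit 3330))
 (.leaf (nat_lit 0x1061c2d182) (nat_lit 2051))
) (.node (nat_lit 0x1061c2d592) (.leaf (nat_lit 0x1061c2d1f2) (nat_lit 3331))
 (.node (nat_lit 0x1061c2d5e2) (.leaf (nat_lit 0x1061c2d592) (nat_lit 3587))
 (.leaf (nat_lit 0x1061c2d5e2) (nat_lit 3073))
)))) (.node (nat_lit 0x1061c3d9c2) (.node (nat_lit 0x1061c3c5a2) (.node (nat_lit 0x1061c3c1c2) (.leaf (nat_lit 0x1061c3c1b2) (nat_lit 1794))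
 (.leaf (nat_lit 0x1061c3c1c2) (nat_lit 2562))
) (.node (nat_lit 0x1061c3c5d2) (.leaf (nat_lit 0x1061c3c5a2) (nat_lit 3332))
 (.node (nat_lit 0x1061c3d9b2) (.leaf (nat_lit 0x1061c3c5d2) (nat_lit 3331))
 (.leaf (nat_lit 0x1061c3d9b2) (nat_lit 2562))
))) (.node (nat_lit 0x1061c4c182) (.node (nat_lit 0x1061c3dda2) (.leaf (nat_lit 0x1061c3d9c2) (nat_lit 3330))
 (.node (nat_lit 0x1061c3ddd2) (.leaf (nat_lit 0x1061c3dda2) (nat_lit 3331))
 (.leaf (nat_lit 0x1061c3ddd2) (nat_lit 2819))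
)) (.node (nat_lit 0x1061c4c1f2) (.leaf (nat_lit 0x1061c4c182) (nat_lit 770))
 (.node (nat_lit 0x1061c4c592) (.leaf (nat_lit 0x1061c4c1f2) (nat_lit 2050))
 (.leaf (nat_lit 0x1061c4c592) (nat_lit 2564))
))))) (.node (nat_lit 0x1061c5d1c2) (.node (nat_lit 0x1061c5c9b2) (.node (nat_lit 0x1061c4d9f2) (.node (nat_lit 0x1061c4d982) (.leaf (nat_lit 0x1061c4c5e2) (nat_lit 3588))
 (.leaf (nat_lit 0x1061c4d982) (nat_lit 1538))
) (.node (nat_lit 0x1061c4dd92) (.leaf (nat_lit 0x1061c4d9f2) (nat_lit 2818))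
 (.node (nat_lit 0x1061c4dde2) (.leaf (nat_lit 0x1061c4dd92) (nat_lit 3332))
 (.leaf (nat_lit 0x1061c4dde2) (nat_lit 3331))
))) (.node (nat_lit 0x1061c5cda2) (.node (nat_lit 0x1061c5c9c2) (.leaf (nat_lit 0x1061c5c9b2) (nat_lit 2819))
 (.leaf (nat_lit 0x1061c5c9c2) (nat_lit 3587))
) (.node (nat_lit 0x1061c5cdd2) (.leaf (nat_lit 0x1061c5cda2) (nat_lit 3330))
 (.node (nat_lit 0x1061c5d1b2) (.leaf (nat_lit 0x1061c5cdd2) (nat_lit 2562))
 (.leaf (nat_lit 0x1061c5d1b2) (nat_lit 3587))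
)))) (.node (nat_lit 0x1061c6cd92) (.node (nat_lit 0x1061c5d5d2) (.node (nat_lit 0x1061c5d5a2) (.leaf (nat_lit 0x1061c5d1c2) (nat_lit 3073))
 (.leaf (nat_lit 0x1061c5d5a2) (nat_lit 2819))
) (.node (nat_lit 0x1061c6c982) (.leaf (nat_lit 0x1061c5d5d2) (nat_lit 1793))
 (.node (nat_lit 0x1061c6c9f2) (.leaf (nat_lit 0x1061c6c982) (nat_lit 1539))
 (.leaf (nat_lit 0x1061c6c9f2) (nat_lit 2819))
))) (.node (nat_lit 0x1061c6d1f2) (.node (nat_lit 0x1061c6cde2) (.leaf (nat_lit 0x1061c6cd92) (nat_lit 3331))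
 (.node (nat_lit 0x1061c6d182) (.leaf (nat_lit 0x1061c6cde2) (nat_lit 3074))
 (.leaf (nat_lit 0x1061c6d182) (nat_lit 2307))
)) (.node (nat_lit 0x1061c6d592) (.leaf (nat_lit 0x1061c6d1f2) (nat_lit 3587))
 (.node (nat_lit 0x1061c6d5e2) (.leaf (nat_lit 0x1061c6d592) (nat_lit 3586))
 (.leaf (nat_lit 0x1061c6d5e2) (nat_lit 2817))
)))))))) (.node (nat_lit 0x107081b0c6) (.node (nat_lit 0x107044c566) (.node (nat_lit 0x107041d936) (.node (nat_lit 0x107040c566) (.node (nat_lit 0x1061c7d9c2) (.node (nat_lit 0x1061c7c5a2) (.node (nat_lit 0x1061c7c1c2) (.leaf (nat_lit 0x1061c7c1b2) (nat_lit 2050))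
 (.leaf (nat_lit 0x1061c7c1c2) (nat_lit 2818))
) (.node (nat_lit 0x1061c7c5d2) (.leaf (nat_lit 0x1061c7c5a2) (nat_lit 3588))
 (.node (nat_lit 0x1061c7d9b2) (.leaf (nat_lit 0x1061c7c5d2) (nat_lit 3075))
 (.leaf (nat_lit 0x1061c7d9b2) (nat_lit 2818))
))) (.node (nat_lit 0x1061c7ddd2) (.node (nat_lit 0x1061c7dda2) (.leaf (nat_lit 0x1061c7d9c2) (nat_lit 3586))
 (.leaf (nat_lit 0x1061c7dda2) (nat_lit 3075))
) (.node (nat_lit 0x107040c106) (.leaf (nat_lit 0x1061c7ddd2) (nat_lit 2563))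
 (.node (nat_lit 0x107040c116) (.leaf (nat_lit 0x107040c106) (nat_lit 516))
 (.leaf (nat_lit 0x107040c116) (nat_lit 2562))
)))) (.node (nat_lit 0x107040dd16) (.node (nat_lit 0x107040d966) (.node (nat_lit 0x107040c576) (.leaf (nat_lit 0x107040c566) (nat_lit 2052))
 (.leaf (nat_lit 0x107040c576) (nat_lit 3075))
) (.node (nat_lit 0x107040d976) (.leaf (nat_lit 0x107040d966) (nat_lit 1284))
 (.node (nat_lit 0x107040dd06) (.leaf (nat_lit 0x107040d976) (nat_lit 3330))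
 (.leaf (nat_lit 0x107040dd06) (nat_lit 1284))
))) (.node (nat_lit 0x107041c526) (.node (nat_lit 0x107041c146) (.leaf (nat_lit 0x107040dd16) (nat_lit 3330))
 (.node (nat_lit 0x107041c156) (.leaf (nat_lit 0x107041c146) (nat_lit 3331))
 (.leaf (nat_lit 0x107041c156) (nat_lit 2307))
)) (.node (nat_lit 0x107041c536) (.leaf (nat_lit 0x107041c526) (nat_lit 2051))
 (.node (nat_lit 0x107041d926) (.leaf (nat_lit 0x107041c536) (nat_lit 3076))
 (.leaf (nat_lit 0x107041d926) (nat_lit 3075))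
))))) (.node (nat_lit 0x107042d536) (.node (nat_lit 0x107042cd46) (.node (nat_lit 0x107041dd56) (.node (nat_lit 0x107041dd46) (.leaf (nat_lit 0x107041d936) (nat_lit 2563))
 (.leaf (nat_lit 0x107041dd46) (nat_lit 2819))
) (.node (nat_lit 0x107042c926) (.leaf (nat_lit 0x107041dd56) (nat_lit 2820))
 (.node (nat_lit 0x107042c936) (.leaf (nat_lit 0x107042c926) (nat_lit 1281))
 (.leaf (nat_lit 0x107042c936) (nat_lit 3330))
))) (.node (nat_lit 0x107042d146) (.node (nat_lit 0x107042cd56) (.leaf (nat_lit 0x107042cd46) (nat_lit 3075))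
 (.leaf (nat_lit 0x107042cd56) (nat_lit 2563))
) (.node (nat_lit 0x107042d156) (.leaf (nat_lit 0x107042d146) (nat_lit 2049))
 (.node (nat_lit 0x107042d526) (.leaf (nat_lit 0x107042d156) (nat_lit 3331))
 (.leaf (nat_lit 0x107042d526) (nat_lit 2561))
)))) (.node (nat_lit 0x107043d106) (.node (nat_lit 0x107043c976) (.node (nat_lit 0x107043c966) (.leaf (nat_lit 0x107042d536) (nat_lit 2819))
 (.leaf (nat_lit 0x107043c966) (nat_lit 2819))
) (.node (nat_lit 0x107043cd06) (.leaf (nat_lit 0x107043c976) (nat_lit 2819))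
 (.node (nat_lit 0x107043cd16) (.leaf (nat_lit 0x107043cd06) (nat_lit 1283))
 (.leaf (nat_lit 0x107043cd16) (nat_lit 3331))
))) (.node (nat_lit 0x107043d576) (.node (nat_lit 0x107043d116) (.leaf (nat_lit 0x107043d106) (nat_lit 2051))
 (.node (nat_lit 0x107043d566) (.leaf (nat_lit 0x107043d116) (nat_lit 3329))
 (.leaf (nat_lit 0x107043d566) (nat_lit 2051))
)) (.node (nat_lit 0x107044c106) (.leaf (nat_lit 0x107043d576) (nat_lit 3329))
 (.node (nat_lit 0x107044c116) (.leaf (nat_lit 0x107044c106) (nat_lit 772))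
 (.leaf (nat_lit 0x107044c116) (nat_lit 2818))
)))))) (.node (nat_lit 0x107046d536) (.node (nat_lit 0x107045d926) (.node (nat_lit 0x107044dd16) (.node (nat_lit 0x107044d966) (.node (nat_lit 0x107044c576) (.leaf (nat_lit 0x107044c566) (nat_lit 2308))
 (.leaf (nat_lit 0x107044c576) (nat_lit 2819))
) (.node (nat_lit 0x107044d976) (.leaf (nat_lit 0x107044d966) (nat_lit 1540))
 (.node (nat_lit 0x107044dd06) (.leaf (nat_lit 0x107044d976) (nat_lit 3586))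
 (.leaf (nat_lit 0x107044dd06) (nat_lit 1540))
))) (.node (nat_lit 0x107045c156) (.node (nat_lit 0x107045c146) (.leaf (nat_lit 0x107044dd16) (nat_lit 3586))
 (.leaf (nat_lit 0x107045c146) (nat_lit 3330))
) (.node (nat_lit 0x107045c526) (.leaf (nat_lit 0x107045c156) (nat_lit 2051))
 (.node (nat_lit 0x107045c536) (.leaf (nat_lit 0x107045c526) (nat_lit 2307))
 (.leaf (nat_lit 0x107045c536) (nat_lit 2820))
)))) (.node (nat_lit 0x107046c936) (.node (nat_lit 0x107045dd46) (.node (nat_lit 0x107045d936) (.leaf (nat_lit 0x107045d926) (nat_lit 3331))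
 (.leaf (nat_lit 0x107045d936) (nat_lit 2307))
) (.node (nat_lit 0x107045dd56) (.leaf (nat_lit 0x107045dd46) (nat_lit 3075))
 (.node (nat_lit 0x107046c926) (.leaf (nat_lit 0x107045dd56) (nat_lit 2564))
 (.leaf (nat_lit 0x107046c926) (nat_lit 1537))
))) (.node (nat_lit 0x107046d146) (.node (nat_lit 0x107046cd46) (.leaf (nat_lit 0x107046c936) (nat_lit 3586))
 (.node (nat_lit 0x107046cd56) (.leaf (nat_lit 0x107046cd46) (nat_lit 3331))
 (.leaf (nat_lit 0x107046cd56) (nat_lit 2307))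
)) (.node (nat_lit 0x107046d156) (.leaf (nat_lit 0x107046d146) (nat_lit 2305))
 (.node (nat_lit 0x107046d526) (.leaf (nat_lit 0x107046d156) (nat_lit 3075))
 (.leaf (nat_lit 0x107046d526) (nat_lit 2817))
))))) (.node (nat_lit 0x107080a0a6) (.node (nat_lit 0x107047d106) (.node (nat_lit 0x107047c976) (.node (nat_lit 0x107047c966) (.leaf (nat_lit 0x107046d536) (nat_lit 2563))
 (.leaf (nat_lit 0x107047c966) (nat_lit 3075))
) (.node (nat_lit 0x107047cd06) (.leaf (nat_lit 0x107047c976) (nat_lit 2563))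
 (.node (nat_lit 0x107047cd16) (.leaf (nat_lit 0x107047cd06) (nat_lit 1539))
 (.leaf (nat_lit 0x107047cd16) (nat_lit 3587))
))) (.node (nat_lit 0x107047d566) (.node (nat_lit 0x107047d116) (.leaf (nat_lit 0x107047d106) (nat_lit 2307))
 (.leaf (nat_lit 0x107047d116) (nat_lit 3073))
) (.node (nat_lit 0x107047d576) (.leaf (nat_lit 0x107047d566) (nat_lit 2307))
 (.node (nat_lit 0x107080a086) (.leaf (nat_lit 0x107047d576) (nat_lit 3073))
 (.leaf (nat_lit 0x107080a086) (nat_lit 772))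
)))) (.node (nat_lit 0x107080bc86) (.node (nat_lit 0x107080a8f6) (.node (nat_lit 0x107080a8d6) (.leaf (nat_lit 0x107080a0a6) (nat_lit 2052))
 (.leaf (nat_lit 0x107080a8d6) (nat_lit 2820))
) (.node (nat_lit 0x107080b4d6) (.leaf (nat_lit 0x107080a8f6) (nat_lit 3332))
 (.node (nat_lit 0x107080b4f6) (.leaf (nat_lit 0x107080b4d6) (nat_lit 2052))
 (.leaf (nat_lit 0x107080b4f6) (nat_lit 3073))
))) (.node (nat_lit 0x107081a4b6) (.node (nat_lit 0x107080bca6) (.leaf (nat_lit 0x107080bc86) (nat_lit 1540))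
 (.node (nat_lit 0x107081a496) (.leaf (nat_lit 0x107080bca6) (nat_lit 2820))
 (.leaf (nat_lit 0x107081a496) (nat_lit 2049))
)) (.node (nat_lit 0x107081acc6) (.leaf (nat_lit 0x107081a4b6) (nat_lit 3073))
 (.node (nat_lit 0x107081ace6) (.leaf (nat_lit 0x107081acc6) (nat_lit 3587))
 (.leaf (nat_lit 0x107081ace6) (nat_lit 2563))
))))))) (.node (nat_lit 0x107086bcc6) (.node (nat_lit 0x107084a0a6) (.node (nat_lit 0x107082bcc6) (.node (nat_lit 0x107082a0e6) (.node (nat_lit 0x107081b896) (.node (nat_lit 0x107081b0e6) (.leaf (nat_lit 0x107081b0c6) (nat_lit 2817))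
 (.leaf (nat_lit 0x107081b0e6) (nat_lit 3331))
) (.node (nat_lit 0x107081b8b6) (.leaf (nat_lit 0x107081b896) (nat_lit 2817))
 (.node (nat_lit 0x107082a0c6) (.leaf (nat_lit 0x107081b8b6) (nat_lit 3331))
 (.leaf (nat_lit 0x107082a0c6) (nat_lit 3076))
))) (.node (nat_lit 0x107082a8b6) (.node (nat_lit 0x107082a896) (.leaf (nat_lit 0x107082a0e6) (nat_lit 1796))
 (.leaf (nat_lit 0x107082a896) (nat_lit 2819))
) (.node (nat_lit 0x107082b496) (.leaf (nat_lit 0x107082a8b6) (nat_lit 3332))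
 (.node (nat_lit 0x107082b4b6) (.leaf (nat_lit 0x107082b496) (nat_lit 3587))
 (.leaf (nat_lit 0x107082b4b6) (nat_lit 2820))
)))) (.node (nat_lit 0x107083aca6) (.node (nat_lit 0x107083a4d6) (.node (nat_lit 0x107082bce6) (.leaf (nat_lit 0x107082bcc6) (nat_lit 3588))
 (.leaf (nat_lit 0x107082bce6) (nat_lit 2564))
) (.node (nat_lit 0x107083a4f6) (.leaf (nat_lit 0x107083a4d6) (nat_lit 3587))
 (.node (nat_lit 0x107083ac86) (.leaf (nat_lit 0x107083a4f6) (nat_lit 3073))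
 (.leaf (nat_lit 0x107083ac86) (nat_lit 1539))
))) (.node (nat_lit 0x107083b8d6) (.node (nat_lit 0x107083b086) (.leaf (nat_lit 0x107083aca6) (nat_lit 2820))
 (.node (nat_lit 0x107083b0a6) (.leaf (nat_lit 0x107083b086) (nat_lit 2307))
 (.leaf (nat_lit 0x107083b0a6) (nat_lit 3585))
)) (.node (nat_lit 0x107083b8f6) (.leaf (nat_lit 0x107083b8d6) (nat_lit 2819))
 (.node (nat_lit 0x107084a086) (.leaf (nat_lit 0x107083b8f6) (nat_lit 3585))
 (.leaf (nat_lit 0x107084a086) (nat_lit 1028))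
))))) (.node (nat_lit 0x107085ace6) (.node (nat_lit 0x107084bc86) (.node (nat_lit 0x107084a8f6) (.node (nat_lit 0x107084a8d6) (.leaf (nat_lit 0x107084a0a6) (nat_lit 2308))
 (.leaf (nat_lit 0x107084a8d6) (nat_lit 3076))
) (.node (nat_lit 0x107084b4d6) (.leaf (nat_lit 0x107084a8f6) (nat_lit 3588))
 (.node (nat_lit 0x107084b4f6) (.leaf (nat_lit 0x107084b4d6) (nat_lit 2308))
 (.leaf (nat_lit 0x107084b4f6) (nat_lit 3329))
))) (.node (nat_lit 0x107085a496) (.node (nat_lit 0x107084bca6) (.leaf (nat_lit 0x107084bc86) (nat_lit 1796))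
 (.leaf (nat_lit 0x107084bca6) (nat_lit 3076))
) (.node (nat_lit 0x107085a4b6) (.leaf (nat_lit 0x107085a496) (nat_lit 2305))
 (.node (nat_lit 0x107085acc6) (.leaf (nat_lit 0x107085a4b6) (nat_lit 3329))
 (.leaf (nat_lit 0x107085acc6) (nat_lit 3331))
)))) (.node (nat_lit 0x107086a0c6) (.node (nat_lit 0x107085b0e6) (.node (nat_lit 0x107085b0c6) (.leaf (nat_lit 0x107085ace6) (nat_lit 2307))
 (.leaf (nat_lit 0x107085b0c6) (nat_lit 3073))
) (.node (nat_lit 0x107085b896) (.leaf (nat_lit 0x107085b0e6) (nat_lit 3075))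
 (.node (nat_lit 0x107085b8b6) (.leaf (nat_lit 0x107085b896) (nat_lit 3073))
 (.leaf (nat_lit 0x107085b8b6) (nat_lit 3075))
))) (.node (nat_lit 0x107086a8b6) (.node (nat_lit 0x107086a0e6) (.leaf (nat_lit 0x107086a0c6) (nat_lit 2820))
 (.node (nat_lit 0x107086a896) (.leaf (nat_lit 0x107086a0e6) (nat_lit 1540))
 (.leaf (nat_lit 0x107086a896) (nat_lit 3075))
)) (.node (nat_lit 0x107086b496) (.leaf (nat_lit 0x107086a8b6) (nat_lit 3076))
 (.node (nat_lit 0x107086b4b6) (.leaf (nat_lit 0x107086b496) (nat_lit 3843))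
 (.leaf (nat_lit 0x107086b4b6) (nat_lit 2564))
)))))) (.node (nat_lit 0x107141a966) (.node (nat_lit 0x107140a106) (.node (nat_lit 0x107087aca6) (.node (nat_lit 0x107087a4d6) (.node (nat_lit 0x107086bce6) (.leaf (nat_lit 0x107086bcc6) (nat_lit 3332))
 (.leaf (nat_lit 0x107086bce6) (nat_lit 2308))
) (.node (nat_lit 0x107087a4f6) (.leaf (nat_lit 0x107087a4d6) (nat_lit 3843))
 (.node (nat_lit 0x107087ac86) (.leaf (nat_lit 0x107087a4f6) (nat_lit 2817))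
 (.leaf (nat_lit 0x107087ac86) (nat_lit 1795))
))) (.node (nat_lit 0x107087b0a6) (.node (nat_lit 0x107087b086) (.leaf (nat_lit 0x107087aca6) (nat_lit 3076))
 (.leaf (nat_lit 0x107087b086) (nat_lit 2563))
) (.node (nat_lit 0x107087b8d6) (.leaf (nat_lit 0x107087b0a6) (nat_lit 3329))
 (.node (nat_lit 0x107087b8f6) (.leaf (nat_lit 0x107087b8d6) (nat_lit 3075))
 (.leaf (nat_lit 0x107087b8f6) (nat_lit 3329))
)))) (.node (nat_lit 0x107140b576) (.node (nat_lit 0x107140a926) (.node (nat_lit 0x107140a156) (.leaf (nat_lit 0x107140a106) (nat_lit 1026))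
 (.leaf (nat_lit 0x107140a156) (nat_lit 2306))
) (.node (nat_lit 0x107140a976) (.leaf (nat_lit 0x107140a926) (nat_lit 2052))
 (.node (nat_lit 0x107140b526) (.leaf (nat_lit 0x107140a976) (nat_lit 3332))
 (.leaf (nat_lit 0x107140b526) (nat_lit 2820))
))) (.node (nat_lit 0x107141a116) (.node (nat_lit 0x107140bd06) (.leaf (nat_lit 0x107140b576) (nat_lit 3587))
 (.node (nat_lit 0x107140bd56) (.leaf (nat_lit 0x107140bd06) (nat_lit 1794))
 (.leaf (nat_lit 0x107140bd56) (nat_lit 3074))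
)) (.node (nat_lit 0x107141a146) (.leaf (nat_lit 0x107141a116) (nat_lit 2306))
 (.node (nat_lit 0x107141a936) (.leaf (nat_lit 0x107141a146) (nat_lit 3074))
 (.leaf (nat_lit 0x107141a936) (nat_lit 3075))
))))) (.node (nat_lit 0x107142b146) (.node (nat_lit 0x107142a536) (.node (nat_lit 0x107141b566) (.node (nat_lit 0x107141b536) (.leaf (nat_lit 0x107141a966) (nat_lit 3331))
 (.leaf (nat_lit 0x107141b536) (nat_lit 3587))
) (.node (nat_lit 0x107141bd16) (.leaf (nat_lit 0x107141b566) (nat_lit 2819))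
 (.node (nat_lit 0x107141bd46) (.leaf (nat_lit 0x107141bd16) (nat_lit 3074))
 (.leaf (nat_lit 0x107141bd46) (nat_lit 3331))
))) (.node (nat_lit 0x107142ad16) (.node (nat_lit 0x107142a566) (.leaf (nat_lit 0x107142a536) (nat_lit 3331))
 (.leaf (nat_lit 0x107142a566) (nat_lit 2818))
) (.node (nat_lit 0x107142ad46) (.leaf (nat_lit 0x107142ad16) (nat_lit 3075))
 (.node (nat_lit 0x107142b116) (.leaf (nat_lit 0x107142ad46) (nat_lit 3588))
 (.leaf (nat_lit 0x107142b116) (nat_lit 3587))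
)))) (.node (nat_lit 0x107143ad06) (.node (nat_lit 0x107142b966) (.node (nat_lit 0x107142b936) (.leaf (nat_lit 0x107142b146) (nat_lit 2817))
 (.leaf (nat_lit 0x107142b936) (nat_lit 3074))
) (.node (nat_lit 0x107143a526) (.leaf (nat_lit 0x107142b966) (nat_lit 2050))
 (.node (nat_lit 0x107143a576) (.leaf (nat_lit 0x107143a526) (nat_lit 2819))
 (.leaf (nat_lit 0x107143a576) (nat_lit 3587))
))) (.node (nat_lit 0x107143b156) (.node (nat_lit 0x107143ad56) (.leaf (nat_lit 0x107143ad06) (nat_lit 1795))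
 (.node (nat_lit 0x107143b106) (.leaf (nat_lit 0x107143ad56) (nat_lit 3075))
 (.leaf (nat_lit 0x107143b106) (nat_lit 2307))
)) (.node (nat_lit 0x107143b926) (.leaf (nat_lit 0x107143b156) (nat_lit 3587))
 (.node (nat_lit 0x107143b976) (.leaf (nat_lit 0x107143b926) (nat_lit 3331))
 (.leaf (nat_lit 0x107143b976) (nat_lit 3330))
)))))))))) (.node (nat_lit 0x1411c6cab4) (.node (nat_lit 0x1410c19384) (.node (nat_lit 0x107186d8b6) (.node (nat_lit 0x107181cca6) (.node (nat_lit 0x107146b146) (.node (nat_lit 0x107145a936) (.node (nat_lit 0x107144b576) (.node (nat_lit 0x107144a926) (.node (nat_lit 0x107144a156) (.leaf (nat_lit 0x107144a106) (nat_lit 1282))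
 (.leaf (nat_lit 0x107144a156) (nat_lit 2562))
) (.node (nat_lit 0x107144a976) (.leaf (nat_lit 0x107144a926) (nat_lit 2308))
 (.node (nat_lit 0x107144b526) (.leaf (nat_lit 0x107144a976) (nat_lit 3588))
 (.leaf (nat_lit 0x107144b526) (nat_lit 3076))
))) (.node (nat_lit 0x107144bd56) (.node (nat_lit 0x107144bd06) (.leaf (nat_lit 0x107144b576) (nat_lit 3331))
 (.leaf (nat_lit 0x107144bd06) (nat_lit 2050))
) (.node (nat_lit 0x107145a116) (.leaf (nat_lit 0x107144bd56) (nat_lit 3330))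
 (.node (nat_lit 0x107145a146) (.leaf (nat_lit 0x107145a116) (nat_lit 2562))
 (.leaf (nat_lit 0x107145a146) (nat_lit 3330))
)))) (.node (nat_lit 0x107145bd46) (.node (nat_lit 0x107145b536) (.node (nat_lit 0x107145a966) (.leaf (nat_lit 0x107145a936) (nat_lit 3331))
 (.leaf (nat_lit 0x107145a966) (nat_lit 3075))
) (.node (nat_lit 0x107145b566) (.leaf (nat_lit 0x107145b536) (nat_lit 3331))
 (.node (nat_lit 0x107145bd16) (.leaf (nat_lit 0x107145b566) (nat_lit 2563))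
 (.leaf (nat_lit 0x107145bd16) (nat_lit 3330))
))) (.node (nat_lit 0x107146ad16) (.node (nat_lit 0x107146a536) (.leaf (nat_lit 0x107145bd46) (nat_lit 3075))
 (.node (nat_lit 0x107146a566) (.leaf (nat_lit 0x107146a536) (nat_lit 3330))
 (.leaf (nat_lit 0x107146a566) (nat_lit 2562))
)) (.node (nat_lit 0x107146ad46) (.leaf (nat_lit 0x107146ad16) (nat_lit 3331))
 (.node (nat_lit 0x107146b116) (.leaf (nat_lit 0x107146ad46) (nat_lit 3332))
 (.leaf (nat_lit 0x107146b116) (nat_lit 3843))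
))))) (.node (nat_lit 0x107147b976) (.node (nat_lit 0x107147ad06) (.node (nat_lit 0x107146b966) (.node (nat_lit 0x107146b936) (.leaf (nat_lit 0x107146b146) (nat_lit 2561))
 (.leaf (nat_lit 0x107146b936) (nat_lit 2818))
) (.node (nat_lit 0x107147a526) (.leaf (nat_lit 0x107146b966) (nat_lit 1794))
 (.node (nat_lit 0x107147a576) (.leaf (nat_lit 0x107147a526) (nat_lit 3075))
 (.leaf (nat_lit 0x107147a576) (nat_lit 3586))
))) (.node (nat_lit 0x107147b106) (.node (nat_lit 0x107147ad56) (.leaf (nat_lit 0x107147ad06) (nat_lit 2051))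
 (.leaf (nat_lit 0x107147ad56) (nat_lit 3331))
) (.node (nat_lit 0x107147b156) (.leaf (nat_lit 0x107147b106) (nat_lit 2563))
 (.node (nat_lit 0x107147b926) (.leaf (nat_lit 0x107147b156) (nat_lit 3587))
 (.leaf (nat_lit 0x107147b926) (nat_lit 3587))
)))) (.node (nat_lit 0x107180d896) (.node (nat_lit 0x107180c0e6) (.node (nat_lit 0x107180c086) (.leaf (nat_lit 0x107147b976) (nat_lit 3074))
 (.leaf (nat_lit 0x107180c086) (nat_lit 770))
) (.node (nat_lit 0x107180c496) (.leaf (nat_lit 0x107180c0e6) (nat_lit 1538))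
 (.node (nat_lit 0x107180c4f6) (.leaf (nat_lit 0x107180c496) (nat_lit 2308))
 (.leaf (nat_lit 0x107180c4f6) (nat_lit 3076))
))) (.node (nat_lit 0x107180dce6) (.node (nat_lit 0x107180d8f6) (.leaf (nat_lit 0x107180d896) (nat_lit 3076))
 (.node (nat_lit 0x107180dc86) (.leaf (nat_lit 0x107180d8f6) (nat_lit 3331))
 (.leaf (nat_lit 0x107180dc86) (nat_lit 1538))
)) (.node (nat_lit 0x107181c8b6) (.leaf (nat_lit 0x107180dce6) (nat_lit 2306))
 (.node (nat_lit 0x107181c8d6) (.leaf (nat_lit 0x107181c8b6) (nat_lit 3330))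
 (.leaf (nat_lit 0x107181c8d6) (nat_lit 3074))
)))))) (.node (nat_lit 0x107183d4f6) (.node (nat_lit 0x107182d8b6) (.node (nat_lit 0x107181d4d6) (.node (nat_lit 0x107181d0a6) (.node (nat_lit 0x107181ccc6) (.leaf (nat_lit 0x107181cca6) (nat_lit 2307))
 (.leaf (nat_lit 0x107181ccc6) (nat_lit 3075))
) (.node (nat_lit 0x107181d0c6) (.leaf (nat_lit 0x107181d0a6) (nat_lit 3331))
 (.node (nat_lit 0x107181d4b6) (.leaf (nat_lit 0x107181d0c6) (nat_lit 3332))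
 (.leaf (nat_lit 0x107181d4b6) (nat_lit 2819))
))) (.node (nat_lit 0x107182c0c6) (.node (nat_lit 0x107182c0a6) (.leaf (nat_lit 0x107181d4d6) (nat_lit 2305))
 (.leaf (nat_lit 0x107182c0a6) (nat_lit 1538))
) (.node (nat_lit 0x107182c4b6) (.leaf (nat_lit 0x107182c0c6) (nat_lit 2306))
 (.node (nat_lit 0x107182c4d6) (.leaf (nat_lit 0x107182c4b6) (nat_lit 3076))
 (.leaf (nat_lit 0x107182c4d6) (nat_lit 3587))
)))) (.node (nat_lit 0x107183c8f6) (.node (nat_lit 0x107182dca6) (.node (nat_lit 0x107182d8d6) (.leaf (nat_lit 0x107182d8b6) (nat_lit 3075))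
 (.leaf (nat_lit 0x107182d8d6) (nat_lit 2819))
) (.node (nat_lit 0x107182dcc6) (.leaf (nat_lit 0x107182dca6) (nat_lit 2818))
 (.node (nat_lit 0x107183c896) (.leaf (nat_lit 0x107182dcc6) (nat_lit 3331))
 (.leaf (nat_lit 0x107183c896) (nat_lit 3075))
))) (.node (nat_lit 0x107183d086) (.node (nat_lit 0x107183cc86) (.leaf (nat_lit 0x107183c8f6) (nat_lit 3586))
 (.node (nat_lit 0x107183cce6) (.leaf (nat_lit 0x107183cc86) (nat_lit 1539))
 (.leaf (nat_lit 0x107183cce6) (nat_lit 2307))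
)) (.node (nat_lit 0x107183d0e6) (.leaf (nat_lit 0x107183d086) (nat_lit 2307))
 (.node (nat_lit 0x107183d496) (.leaf (nat_lit 0x107183d0e6) (nat_lit 3075))
 (.leaf (nat_lit 0x107183d496) (nat_lit 3586))
))))) (.node (nat_lit 0x107185c8d6) (.node (nat_lit 0x107184d896) (.node (nat_lit 0x107184c0e6) (.node (nat_lit 0x107184c086) (.leaf (nat_lit 0x107183d4f6) (nat_lit 2817))
 (.leaf (nat_lit 0x107184c086) (nat_lit 1026))
) (.node (nat_lit 0x107184c496) (.leaf (nat_lit 0x107184c0e6) (nat_lit 1794))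
 (.node (nat_lit 0x107184c4f6) (.leaf (nat_lit 0x107184c496) (nat_lit 2564))
 (.leaf (nat_lit 0x107184c4f6) (nat_lit 3332))
))) (.node (nat_lit 0x107184dc86) (.node (nat_lit 0x107184d8f6) (.leaf (nat_lit 0x107184d896) (nat_lit 3332))
 (.leaf (nat_lit 0x107184d8f6) (nat_lit 3075))
) (.node (nat_lit 0x107184dce6) (.leaf (nat_lit 0x107184dc86) (nat_lit 1794))
 (.node (nat_lit 0x107185c8b6) (.leaf (nat_lit 0x107184dce6) (nat_lit 2562))
 (.leaf (nat_lit 0x107185c8b6) (nat_lit 3074))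
)))) (.node (nat_lit 0x107185d4b6) (.node (nat_lit 0x107185ccc6) (.node (nat_lit 0x107185cca6) (.leaf (nat_lit 0x107185c8d6) (nat_lit 2818))
 (.leaf (nat_lit 0x107185cca6) (nat_lit 2563))
) (.node (nat_lit 0x107185d0a6) (.leaf (nat_lit 0x107185ccc6) (nat_lit 3331))
 (.node (nat_lit 0x107185d0c6) (.leaf (nat_lit 0x107185d0a6) (nat_lit 3587))
 (.leaf (nat_lit 0x107185d0c6) (nat_lit 3076))
))) (.node (nat_lit 0x107186c0c6) (.node (nat_lit 0x107185d4d6) (.leaf (nat_lit 0x107185d4b6) (nat_lit 2563))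
 (.node (nat_lit 0x107186c0a6) (.leaf (nat_lit 0x107185d4d6) (nat_lit 2049))
 (.leaf (nat_lit 0x107186c0a6) (nat_lit 1794))
)) (.node (nat_lit 0x107186c4b6) (.leaf (nat_lit 0x107186c0c6) (nat_lit 2562))
 (.node (nat_lit 0x107186c4d6) (.leaf (nat_lit 0x107186c4b6) (nat_lit 3332))
 (.leaf (nat_lit 0x107186c4d6) (nat_lit 3331))
))))))) (.node (nat_lit 0x1410839ec4) (.node (nat_lit 0x14108192a4) (.node (nat_lit 0x107187d496) (.node (nat_lit 0x107187c8f6) (.node (nat_lit 0x107186dca6) (.node (nat_lit 0x107186d8d6) (.leaf (nat_lit 0x107186d8b6) (nat_lit 2819))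
 (.leaf (nat_lit 0x107186d8d6) (nat_lit 2563))
) (.node (nat_lit 0x107186dcc6) (.leaf (nat_lit 0x107186dca6) (nat_lit 3074))
 (.node (nat_lit 0x107187c896) (.leaf (nat_lit 0x107186dcc6) (nat_lit 3587))
 (.leaf (nat_lit 0x107187c896) (nat_lit 3331))
))) (.node (nat_lit 0x107187cce6) (.node (nat_lit 0x107187cc86) (.leaf (nat_lit 0x107187c8f6) (nat_lit 3330))
 (.leaf (nat_lit 0x107187cc86) (nat_lit 1795))
) (.node (nat_lit 0x107187d086) (.leaf (nat_lit 0x107187cce6) (nat_lit 2563))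
 (.node (nat_lit 0x107187d0e6) (.leaf (nat_lit 0x107187d086) (nat_lit 2563))
 (.leaf (nat_lit 0x107187d0e6) (nat_lit 3331))
)))) (.node (nat_lit 0x14108086a4) (.node (nat_lit 0x1410808284) (.node (nat_lit 0x107187d4f6) (.leaf (nat_lit 0x107187d496) (nat_lit 3330))
 (.leaf (nat_lit 0x107187d4f6) (nat_lit 2561))
) (.node (nat_lit 0x14108082a4) (.leaf (nat_lit 0x1410808284) (nat_lit 1027))
 (.node (nat_lit 0x1410808684) (.leaf (nat_lit 0x14108082a4) (nat_lit 2307))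
 (.leaf (nat_lit 0x1410808684) (nat_lit 2308))
))) (.node (nat_lit 0x1410808e94) (.node (nat_lit 0x1410808a94) (.leaf (nat_lit 0x14108086a4) (nat_lit 3075))
 (.node (nat_lit 0x1410808ab4) (.leaf (nat_lit 0x1410808a94) (nat_lit 3073))
 (.leaf (nat_lit 0x1410808ab4) (nat_lit 3075))
)) (.node (nat_lit 0x1410808eb4) (.leaf (nat_lit 0x1410808e94) (nat_lit 3073))
 (.node (nat_lit 0x1410819284) (.leaf (nat_lit 0x1410808eb4) (nat_lit 2307))
 (.leaf (nat_lit 0x1410819284) (nat_lit 1536))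
))))) (.node (nat_lit 0x14108286f4) (.node (nat_lit 0x1410819e94) (.node (nat_lit 0x14108196a4) (.node (nat_lit 0x1410819684) (.leaf (nat_lit 0x14108192a4) (nat_lit 2816))
 (.leaf (nat_lit 0x1410819684) (nat_lit 2820))
) (.node (nat_lit 0x1410819a94) (.leaf (nat_lit 0x14108196a4) (nat_lit 3329))
 (.node (nat_lit 0x1410819ab4) (.leaf (nat_lit 0x1410819a94) (nat_lit 2561))
 (.leaf (nat_lit 0x1410819ab4) (nat_lit 3330))
))) (.node (nat_lit 0x14108282d4) (.node (nat_lit 0x1410819eb4) (.leaf (nat_lit 0x1410819e94) (nat_lit 3332))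
 (.leaf (nat_lit 0x1410819eb4) (nat_lit 2816))
) (.node (nat_lit 0x14108282f4) (.leaf (nat_lit 0x14108282d4) (nat_lit 3074))
 (.node (nat_lit 0x14108286d4) (.leaf (nat_lit 0x14108282f4) (nat_lit 2048))
 (.leaf (nat_lit 0x14108286d4) (nat_lit 3073))
)))) (.node (nat_lit 0x14108392d4) (.node (nat_lit 0x1410828ae4) (.node (nat_lit 0x1410828ac4) (.leaf (nat_lit 0x14108286f4) (nat_lit 3076))
 (.leaf (nat_lit 0x1410828ac4) (nat_lit 3074))
) (.node (nat_lit 0x1410828ec4) (.leaf (nat_lit 0x1410828ae4) (nat_lit 1793))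
 (.node (nat_lit 0x1410828ee4) (.leaf (nat_lit 0x1410828ec4) (nat_lit 3076))
 (.leaf (nat_lit 0x1410828ee4) (nat_lit 3074))
))) (.node (nat_lit 0x14108396f4) (.node (nat_lit 0x14108392f4) (.leaf (nat_lit 0x14108392d4) (nat_lit 3074))
 (.node (nat_lit 0x14108396d4) (.leaf (nat_lit 0x14108392f4) (nat_lit 2051))
 (.leaf (nat_lit 0x14108396d4) (nat_lit 3073))
)) (.node (nat_lit 0x1410839ac4) (.leaf (nat_lit 0x14108396f4) (nat_lit 3076))
 (.node (nat_lit 0x1410839ae4) (.leaf (nat_lit 0x1410839ac4) (nat_lit 3074))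
 (.leaf (nat_lit 0x1410839ae4) (nat_lit 1793))
)))))) (.node (nat_lit 0x14108696f4) (.node (nat_lit 0x1410858284) (.node (nat_lit 0x14108496a4) (.node (nat_lit 0x1410849284) (.node (nat_lit 0x1410839ee4) (.leaf (nat_lit 0x1410839ec4) (nat_lit 3076))
 (.leaf (nat_lit 0x1410839ee4) (nat_lit 3074))
) (.node (nat_lit 0x14108492a4) (.leaf (nat_lit 0x1410849284) (nat_lit 1283))
 (.node (nat_lit 0x1410849684) (.leaf (nat_lit 0x14108492a4) (nat_lit 2563))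
 (.leaf (nat_lit 0x1410849684) (nat_lit 2564))
))) (.node (nat_lit 0x1410849ab4) (.node (nat_lit 0x1410849a94) (.leaf (nat_lit 0x14108496a4) (nat_lit 3331))
 (.leaf (nat_lit 0x1410849a94) (nat_lit 2817))
) (.node (nat_lit 0x1410849e94) (.leaf (nat_lit 0x1410849ab4) (nat_lit 3331))
 (.node (nat_lit 0x1410849eb4) (.leaf (nat_lit 0x1410849e94) (nat_lit 3329))
 (.leaf (nat_lit 0x1410849eb4) (nat_lit 2563))
)))) (.node (nat_lit 0x1410858ab4) (.node (nat_lit 0x1410858684) (.node (nat_lit 0x14108582a4) (.leaf (nat_lit 0x1410858284) (nat_lit 1280))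
 (.leaf (nat_lit 0x14108582a4) (nat_lit 2560))
) (.node (nat_lit 0x14108586a4) (.leaf (nat_lit 0x1410858684) (nat_lit 2564))
 (.node (nat_lit 0x1410858a94) (.leaf (nat_lit 0x14108586a4) (nat_lit 3328))
 (.leaf (nat_lit 0x1410858a94) (nat_lit 2817))
))) (.node (nat_lit 0x14108692d4) (.node (nat_lit 0x1410858e94) (.leaf (nat_lit 0x1410858ab4) (nat_lit 3328))
 (.node (nat_lit 0x1410858eb4) (.leaf (nat_lit 0x1410858e94) (nat_lit 3329))
 (.leaf (nat_lit 0x1410858eb4) (nat_lit 2560))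
)) (.node (nat_lit 0x14108692f4) (.leaf (nat_lit 0x14108692d4) (nat_lit 3330))
 (.node (nat_lit 0x14108696d4) (.leaf (nat_lit 0x14108692f4) (nat_lit 2304))
 (.leaf (nat_lit 0x14108696d4) (nat_lit 2817))
))))) (.node (nat_lit 0x1410878ae4) (.node (nat_lit 0x14108782d4) (.node (nat_lit 0x1410869ae4) (.node (nat_lit 0x1410869ac4) (.leaf (nat_lit 0x14108696f4) (nat_lit 3332))
 (.leaf (nat_lit 0x1410869ac4) (nat_lit 2818))
) (.node (nat_lit 0x1410869ec4) (.leaf (nat_lit 0x1410869ae4) (nat_lit 1537))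
 (.node (nat_lit 0x1410869ee4) (.leaf (nat_lit 0x1410869ec4) (nat_lit 3332))
 (.leaf (nat_lit 0x1410869ee4) (nat_lit 2818))
))) (.node (nat_lit 0x14108786d4) (.node (nat_lit 0x14108782f4) (.leaf (nat_lit 0x14108782d4) (nat_lit 2818))
 (.leaf (nat_lit 0x14108782f4) (nat_lit 1795))
) (.node (nat_lit 0x14108786f4) (.leaf (nat_lit 0x14108786d4) (nat_lit 3329))
 (.node (nat_lit 0x1410878ac4) (.leaf (nat_lit 0x14108786f4) (nat_lit 2820))
 (.leaf (nat_lit 0x1410878ac4) (nat_lit 3330))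
)))) (.node (nat_lit 0x1410c08784) (.node (nat_lit 0x1410878ee4) (.node (nat_lit 0x1410878ec4) (.leaf (nat_lit 0x1410878ae4) (nat_lit 2049))
 (.leaf (nat_lit 0x1410878ec4) (nat_lit 2820))
) (.node (nat_lit 0x1410c08384) (.leaf (nat_lit 0x1410878ee4) (nat_lit 3330))
 (.node (nat_lit 0x1410c083b4) (.leaf (nat_lit 0x1410c08384) (nat_lit 771))
 (.leaf (nat_lit 0x1410c083b4) (nat_lit 2563))
))) (.node (nat_lit 0x1410c08ba4) (.node (nat_lit 0x1410c087b4) (.leaf (nat_lit 0x1410c08784) (nat_lit 2052))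
 (.node (nat_lit 0x1410c08b94) (.leaf (nat_lit 0x1410c087b4) (nat_lit 3331))
 (.leaf (nat_lit 0x1410c08b94) (nat_lit 3329))
)) (.node (nat_lit 0x1410c08f94) (.leaf (nat_lit 0x1410c08ba4) (nat_lit 2051))
 (.node (nat_lit 0x1410c08fa4) (.leaf (nat_lit 0x1410c08f94) (nat_lit 2817))
 (.leaf (nat_lit 0x1410c08fa4) (nat_lit 2819))
)))))))) (.node (nat_lit 0x141183dba4) (.node (nat_lit 0x1410c687d4) (.node (nat_lit 0x1410c38bf4) (.node (nat_lit 0x1410c297d4) (.node (nat_lit 0x1410c19ba4) (.node (nat_lit 0x1410c19784) (.node (nat_lit 0x1410c193b4) (.leaf (nat_lit 0x1410c19384) (nat_lit 1280))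
 (.leaf (nat_lit 0x1410c193b4) (nat_lit 3072))
) (.node (nat_lit 0x1410c197b4) (.leaf (nat_lit 0x1410c19784) (nat_lit 2564))
 (.node (nat_lit 0x1410c19b94) (.leaf (nat_lit 0x1410c197b4) (nat_lit 3073))
 (.leaf (nat_lit 0x1410c19b94) (nat_lit 3332))
))) (.node (nat_lit 0x1410c19fa4) (.node (nat_lit 0x1410c19f94) (.leaf (nat_lit 0x1410c19ba4) (nat_lit 2560))
 (.leaf (nat_lit 0x1410c19f94) (nat_lit 2305))
) (.node (nat_lit 0x1410c293d4) (.leaf (nat_lit 0x1410c19fa4) (nat_lit 3328))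
 (.node (nat_lit 0x1410c293e4) (.leaf (nat_lit 0x1410c293d4) (nat_lit 3330))
 (.leaf (nat_lit 0x1410c293e4) (nat_lit 1795))
)))) (.node (nat_lit 0x1410c29ff4) (.node (nat_lit 0x1410c29bc4) (.node (nat_lit 0x1410c297e4) (.leaf (nat_lit 0x1410c297d4) (nat_lit 2817))
 (.leaf (nat_lit 0x1410c297e4) (nat_lit 2820))
) (.node (nat_lit 0x1410c29bf4) (.leaf (nat_lit 0x1410c29bc4) (nat_lit 2820))
 (.node (nat_lit 0x1410c29fc4) (.leaf (nat_lit 0x1410c29bf4) (nat_lit 3330))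
 (.leaf (nat_lit 0x1410c29fc4) (nat_lit 3330))
))) (.node (nat_lit 0x1410c387d4) (.node (nat_lit 0x1410c383d4) (.leaf (nat_lit 0x1410c29ff4) (nat_lit 2049))
 (.node (nat_lit 0x1410c383e4) (.leaf (nat_lit 0x1410c383d4) (nat_lit 3330))
 (.leaf (nat_lit 0x1410c383e4) (nat_lit 1792))
)) (.node (nat_lit 0x1410c387e4) (.leaf (nat_lit 0x1410c387d4) (nat_lit 2817))
 (.node (nat_lit 0x1410c38bc4) (.leaf (nat_lit 0x1410c387e4) (nat_lit 2820))
 (.leaf (nat_lit 0x1410c38bc4) (nat_lit 2820))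
))))) (.node (nat_lit 0x1410c49fa4) (.node (nat_lit 0x1410c49784) (.node (nat_lit 0x1410c38ff4) (.node (nat_lit 0x1410c38fc4) (.leaf (nat_lit 0x1410c38bf4) (nat_lit 3330))
 (.leaf (nat_lit 0x1410c38fc4) (nat_lit 3330))
) (.node (nat_lit 0x1410c49384) (.leaf (nat_lit 0x1410c38ff4) (nat_lit 2049))
 (.node (nat_lit 0x1410c493b4) (.leaf (nat_lit 0x1410c49384) (nat_lit 1027))
 (.leaf (nat_lit 0x1410c493b4) (nat_lit 2819))
))) (.node (nat_lit 0x1410c49b94) (.node (nat_lit 0x1410c497b4) (.leaf (nat_lit 0x1410c49784) (nat_lit 2308))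
 (.leaf (nat_lit 0x1410c497b4) (nat_lit 3329))
) (.node (nat_lit 0x1410c49ba4) (.leaf (nat_lit 0x1410c49b94) (nat_lit 3585))
 (.node (nat_lit 0x1410c49f94) (.leaf (nat_lit 0x1410c49ba4) (nat_lit 2307))
 (.leaf (nat_lit 0x1410c49f94) (nat_lit 2561))
)))) (.node (nat_lit 0x1410c58b94) (.node (nat_lit 0x1410c583b4) (.node (nat_lit 0x1410c58384) (.leaf (nat_lit 0x1410c49fa4) (nat_lit 3075))
 (.leaf (nat_lit 0x1410c58384) (nat_lit 1024))
) (.node (nat_lit 0x1410c58784) (.leaf (nat_lit 0x1410c583b4) (nat_lit 2816))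
 (.node (nat_lit 0x1410c587b4) (.leaf (nat_lit 0x1410c58784) (nat_lit 2308))
 (.leaf (nat_lit 0x1410c587b4) (nat_lit 3329))
))) (.node (nat_lit 0x1410c58fa4) (.node (nat_lit 0x1410c58ba4) (.leaf (nat_lit 0x1410c58b94) (nat_lit 3588))
 (.node (nat_lit 0x1410c58f94) (.leaf (nat_lit 0x1410c58ba4) (nat_lit 2304))
 (.leaf (nat_lit 0x1410c58f94) (nat_lit 2561))
)) (.node (nat_lit 0x1410c683d4) (.leaf (nat_lit 0x1410c58fa4) (nat_lit 3072))
 (.node (nat_lit 0x1410c683e4) (.leaf (nat_lit 0x1410c683d4) (nat_lit 3074))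
 (.leaf (nat_lit 0x1410c683e4) (nat_lit 1539))
)))))) (.node (nat_lit 0x141180dff4) (.node (nat_lit 0x1410c79bc4) (.node (nat_lit 0x1410c68ff4) (.node (nat_lit 0x1410c68bc4) (.node (nat_lit 0x1410c687e4) (.leaf (nat_lit 0x1410c687d4) (nat_lit 3073))
 (.leaf (nat_lit 0x1410c687e4) (nat_lit 2564))
) (.node (nat_lit 0x1410c68bf4) (.leaf (nat_lit 0x1410c68bc4) (nat_lit 2564))
 (.node (nat_lit 0x1410c68fc4) (.leaf (nat_lit 0x1410c68bf4) (nat_lit 3586))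
 (.leaf (nat_lit 0x1410c68fc4) (nat_lit 3332))
))) (.node (nat_lit 0x1410c793e4) (.node (nat_lit 0x1410c793d4) (.leaf (nat_lit 0x1410c68ff4) (nat_lit 2305))
 (.leaf (nat_lit 0x1410c793d4) (nat_lit 3586))
) (.node (nat_lit 0x1410c797d4) (.leaf (nat_lit 0x1410c793e4) (nat_lit 2048))
 (.node (nat_lit 0x1410c797e4) (.leaf (nat_lit 0x1410c797d4) (nat_lit 2561))
 (.leaf (nat_lit 0x1410c797e4) (nat_lit 3076))
)))) (.node (nat_lit 0x141180c3e4) (.node (nat_lit 0x1410c79fc4) (.node (nat_lit 0x1410c79bf4) (.leaf (nat_lit 0x1410c79bc4) (nat_lit 3076))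
 (.leaf (nat_lit 0x1410c79bf4) (nat_lit 3074))
) (.node (nat_lit 0x1410c79ff4) (.leaf (nat_lit 0x1410c79fc4) (nat_lit 3074))
 (.node (nat_lit 0x141180c384) (.leaf (nat_lit 0x1410c79ff4) (nat_lit 1793))
 (.leaf (nat_lit 0x141180c384) (nat_lit 1283))
))) (.node (nat_lit 0x141180db94) (.node (nat_lit 0x141180c784) (.leaf (nat_lit 0x141180c3e4) (nat_lit 2049))
 (.node (nat_lit 0x141180c7e4) (.leaf (nat_lit 0x141180c784) (nat_lit 2307))
 (.leaf (nat_lit 0x141180c7e4) (nat_lit 3074))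
)) (.node (nat_lit 0x141180dbf4) (.leaf (nat_lit 0x141180db94) (nat_lit 3329))
 (.node (nat_lit 0x141180df94) (.leaf (nat_lit 0x141180dbf4) (nat_lit 3076))
 (.leaf (nat_lit 0x141180df94) (nat_lit 2817))
))))) (.node (nat_lit 0x141182cbc4) (.node (nat_lit 0x141181d384) (.node (nat_lit 0x141181cbf4) (.node (nat_lit 0x141181cb94) (.leaf (nat_lit 0x141180dff4) (nat_lit 2049))
 (.leaf (nat_lit 0x141181cb94) (nat_lit 2817))
) (.node (nat_lit 0x141181cf94) (.leaf (nat_lit 0x141181cbf4) (nat_lit 3588))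
 (.node (nat_lit 0x141181cff4) (.leaf (nat_lit 0x141181cf94) (nat_lit 3329))
 (.leaf (nat_lit 0x141181cff4) (nat_lit 2561))
))) (.node (nat_lit 0x141181d784) (.node (nat_lit 0x141181d3e4) (.leaf (nat_lit 0x141181d384) (nat_lit 1792))
 (.leaf (nat_lit 0x141181d3e4) (nat_lit 2561))
) (.node (nat_lit 0x141181d7e4) (.leaf (nat_lit 0x141181d784) (nat_lit 2816))
 (.node (nat_lit 0x141182cba4) (.leaf (nat_lit 0x141181d7e4) (nat_lit 3586))
 (.leaf (nat_lit 0x141182cba4) (nat_lit 1793))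
)))) (.node (nat_lit 0x141182d7b4) (.node (nat_lit 0x141182cfc4) (.node (nat_lit 0x141182cfa4) (.leaf (nat_lit 0x141182cbc4) (nat_lit 2561))
 (.leaf (nat_lit 0x141182cfa4) (nat_lit 3075))
) (.node (nat_lit 0x141182d3b4) (.leaf (nat_lit 0x141182cfc4) (nat_lit 3328))
 (.node (nat_lit 0x141182d3d4) (.leaf (nat_lit 0x141182d3b4) (nat_lit 2560))
 (.leaf (nat_lit 0x141182d3d4) (nat_lit 3330))
))) (.node (nat_lit 0x141183c3d4) (.node (nat_lit 0x141182d7d4) (.leaf (nat_lit 0x141182d7b4) (nat_lit 3329))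
 (.node (nat_lit 0x141183c3b4) (.leaf (nat_lit 0x141182d7d4) (nat_lit 2817))
 (.leaf (nat_lit 0x141183c3b4) (nat_lit 2051))
)) (.node (nat_lit 0x141183c7b4) (.leaf (nat_lit 0x141183c3d4) (nat_lit 2818))
 (.node (nat_lit 0x141183c7d4) (.leaf (nat_lit 0x141183c7b4) (nat_lit 3076))
 (.leaf (nat_lit 0x141183c7d4) (nat_lit 3329))
))))))) (.node (nat_lit 0x1411c0de94) (.node (nat_lit 0x141186c3d4) (.node (nat_lit 0x141184d784) (.node (nat_lit 0x141184cbf4) (.node (nat_lit 0x141183dfa4) (.node (nat_lit 0x141183dbc4) (.leaf (nat_lit 0x141183dba4) (nat_lit 2305))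
 (.leaf (nat_lit 0x141183dbc4) (nat_lit 3073))
) (.node (nat_lit 0x141183dfc4) (.leaf (nat_lit 0x141183dfa4) (nat_lit 3584))
 (.node (nat_lit 0x141184cb94) (.leaf (nat_lit 0x141183dfc4) (nat_lit 2819))
 (.leaf (nat_lit 0x141184cb94) (nat_lit 3073))
))) (.node (nat_lit 0x141184cff4) (.node (nat_lit 0x141184cf94) (.leaf (nat_lit 0x141184cbf4) (nat_lit 3332))
 (.leaf (nat_lit 0x141184cf94) (nat_lit 3073))
) (.node (nat_lit 0x141184d384) (.leaf (nat_lit 0x141184cff4) (nat_lit 2305))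
 (.node (nat_lit 0x141184d3e4) (.leaf (nat_lit 0x141184d384) (nat_lit 1539))
 (.leaf (nat_lit 0x141184d3e4) (nat_lit 2305))
)))) (.node (nat_lit 0x141185c7e4) (.node (nat_lit 0x141185c384) (.node (nat_lit 0x141184d7e4) (.leaf (nat_lit 0x141184d784) (nat_lit 2563))
 (.leaf (nat_lit 0x141184d7e4) (nat_lit 3330))
) (.node (nat_lit 0x141185c3e4) (.leaf (nat_lit 0x141185c384) (nat_lit 1536))
 (.node (nat_lit 0x141185c784) (.leaf (nat_lit 0x141185c3e4) (nat_lit 2305))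
 (.leaf (nat_lit 0x141185c784) (nat_lit 2560))
))) (.node (nat_lit 0x141185df94) (.node (nat_lit 0x141185db94) (.leaf (nat_lit 0x141185c7e4) (nat_lit 3330))
 (.node (nat_lit 0x141185dbf4) (.leaf (nat_lit 0x141185db94) (nat_lit 3073))
 (.leaf (nat_lit 0x141185dbf4) (nat_lit 3332))
)) (.node (nat_lit 0x141185dff4) (.leaf (nat_lit 0x141185df94) (nat_lit 3073))
 (.node (nat_lit 0x141186c3b4) (.leaf (nat_lit 0x141185dff4) (nat_lit 2305))
 (.leaf (nat_lit 0x141186c3b4) (nat_lit 2304))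
))))) (.node (nat_lit 0x141187cfc4) (.node (nat_lit 0x141186dfa4) (.node (nat_lit 0x141186c7d4) (.node (nat_lit 0x141186c7b4) (.leaf (nat_lit 0x141186c3d4) (nat_lit 3074))
 (.leaf (nat_lit 0x141186c7b4) (nat_lit 3332))
) (.node (nat_lit 0x141186dba4) (.leaf (nat_lit 0x141186c7d4) (nat_lit 3073))
 (.node (nat_lit 0x141186dbc4) (.leaf (nat_lit 0x141186dba4) (nat_lit 2049))
 (.leaf (nat_lit 0x141186dbc4) (nat_lit 2817))
))) (.node (nat_lit 0x141187cba4) (.node (nat_lit 0x141186dfc4) (.leaf (nat_lit 0x141186dfa4) (nat_lit 3331))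
 (.leaf (nat_lit 0x141186dfc4) (nat_lit 3072))
) (.node (nat_lit 0x141187cbc4) (.leaf (nat_lit 0x141187cba4) (nat_lit 2049))
 (.node (nat_lit 0x141187cfa4) (.leaf (nat_lit 0x141187cbc4) (nat_lit 2817))
 (.leaf (nat_lit 0x141187cfa4) (nat_lit 3328))
)))) (.node (nat_lit 0x1411c0c284) (.node (nat_lit 0x141187d3d4) (.node (nat_lit 0x141187d3b4) (.leaf (nat_lit 0x141187cfc4) (nat_lit 3075))
 (.leaf (nat_lit 0x141187d3b4) (nat_lit 2307))
) (.node (nat_lit 0x141187d7b4) (.leaf (nat_lit 0x141187d3d4) (nat_lit 3074))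
 (.node (nat_lit 0x141187d7d4) (.leaf (nat_lit 0x141187d7b4) (nat_lit 3332))
 (.leaf (nat_lit 0x141187d7d4) (nat_lit 3073))
))) (.node (nat_lit 0x1411c0c6f4) (.node (nat_lit 0x1411c0c2f4) (.leaf (nat_lit 0x1411c0c284) (nat_lit 1027))
 (.node (nat_lit 0x1411c0c684) (.leaf (nat_lit 0x1411c0c2f4) (nat_lit 2305))
 (.leaf (nat_lit 0x1411c0c684) (nat_lit 2308))
)) (.node (nat_lit 0x1411c0da94) (.leaf (nat_lit 0x1411c0c6f4) (nat_lit 3330))
 (.node (nat_lit 0x1411c0dae4) (.leaf (nat_lit 0x1411c0da94) (nat_lit 3073))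
 (.leaf (nat_lit 0x1411c0dae4) (nat_lit 1793))
)))))) (.node (nat_lit 0x1411c3cec4) (.node (nat_lit 0x1411c2c2a4) (.node (nat_lit 0x1411c1cee4) (.node (nat_lit 0x1411c1ca94) (.node (nat_lit 0x1411c0dee4) (.leaf (nat_lit 0x1411c0de94) (nat_lit 3073))
 (.leaf (nat_lit 0x1411c0dee4) (nat_lit 2820))
) (.node (nat_lit 0x1411c1cae4) (.leaf (nat_lit 0x1411c1ca94) (nat_lit 3585))
 (.node (nat_lit 0x1411c1ce94) (.leaf (nat_lit 0x1411c1cae4) (nat_lit 2305))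
 (.leaf (nat_lit 0x1411c1ce94) (nat_lit 2561))
))) (.node (nat_lit 0x1411c1d2f4) (.node (nat_lit 0x1411c1d284) (.leaf (nat_lit 0x1411c1cee4) (nat_lit 3332))
 (.leaf (nat_lit 0x1411c1d284) (nat_lit 1536))
) (.node (nat_lit 0x1411c1d684) (.leaf (nat_lit 0x1411c1d2f4) (nat_lit 2817))
 (.node (nat_lit 0x1411c1d6f4) (.leaf (nat_lit 0x1411c1d684) (nat_lit 2820))
 (.leaf (nat_lit 0x1411c1d6f4) (nat_lit 3329))
)))) (.node (nat_lit 0x1411c2dac4) (.node (nat_lit 0x1411c2c6a4) (.node (nat_lit 0x1411c2c2d4) (.leaf (nat_lit 0x1411c2c2a4) (nat_lit 1795))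
 (.leaf (nat_lit 0x1411c2c2d4) (nat_lit 3074))
) (.node (nat_lit 0x1411c2c6d4) (.leaf (nat_lit 0x1411c2c6a4) (nat_lit 2820))
 (.node (nat_lit 0x1411c2dab4) (.leaf (nat_lit 0x1411c2c6d4) (nat_lit 3073))
 (.leaf (nat_lit 0x1411c2dab4) (nat_lit 3586))
))) (.node (nat_lit 0x1411c3cab4) (.node (nat_lit 0x1411c2deb4) (.leaf (nat_lit 0x1411c2dac4) (nat_lit 2563))
 (.node (nat_lit 0x1411c2dec4) (.leaf (nat_lit 0x1411c2deb4) (nat_lit 2561))
 (.leaf (nat_lit 0x1411c2dec4) (nat_lit 3329))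
)) (.node (nat_lit 0x1411c3cac4) (.leaf (nat_lit 0x1411c3cab4) (nat_lit 3331))
 (.node (nat_lit 0x1411c3ceb4) (.leaf (nat_lit 0x1411c3cac4) (nat_lit 3072))
 (.leaf (nat_lit 0x1411c3ceb4) (nat_lit 2049))
))))) (.node (nat_lit 0x1411c4d2f4) (.node (nat_lit 0x1411c4ca94) (.node (nat_lit 0x1411c3d2d4) (.node (nat_lit 0x1411c3d2a4) (.leaf (nat_lit 0x1411c3cec4) (nat_lit 2817))
 (.leaf (nat_lit 0x1411c3d2a4) (nat_lit 2304))
) (.node (nat_lit 0x1411c3d6a4) (.leaf (nat_lit 0x1411c3d2d4) (nat_lit 3586))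
 (.node (nat_lit 0x1411c3d6d4) (.leaf (nat_lit 0x1411c3d6a4) (nat_lit 3332))
 (.leaf (nat_lit 0x1411c3d6d4) (nat_lit 2561))
))) (.node (nat_lit 0x1411c4ce94) (.node (nat_lit 0x1411c4cae4) (.leaf (nat_lit 0x1411c4ca94) (nat_lit 3329))
 (.leaf (nat_lit 0x1411c4cae4) (nat_lit 2049))
) (.node (nat_lit 0x1411c4cee4) (.leaf (nat_lit 0x1411c4ce94) (nat_lit 2817))
 (.node (nat_lit 0x1411c4d284) (.leaf (nat_lit 0x1411c4cee4) (nat_lit 3076))
 (.leaf (nat_lit 0x1411c4d284) (nat_lit 1283))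
)))) (.node (nat_lit 0x1411c5c684) (.node (nat_lit 0x1411c4d6f4) (.node (nat_lit 0x1411c4d684) (.leaf (nat_lit 0x1411c4d2f4) (nat_lit 2561))
 (.leaf (nat_lit 0x1411c4d684) (nat_lit 2564))
) (.node (nat_lit 0x1411c5c284) (.leaf (nat_lit 0x1411c4d6f4) (nat_lit 3586))
 (.node (nat_lit 0x1411c5c2f4) (.leaf (nat_lit 0x1411c5c284) (nat_lit 1280))
 (.leaf (nat_lit 0x1411c5c2f4) (nat_lit 2561))
))) (.node (nat_lit 0x1411c5dae4) (.node (nat_lit 0x1411c5c6f4) (.leaf (nat_lit 0x1411c5c684) (nat_lit 2564))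
 (.node (nat_lit 0x1411c5da94) (.leaf (nat_lit 0x1411c5c6f4) (nat_lit 3585))
 (.leaf (nat_lit 0x1411c5da94) (nat_lit 3329))
)) (.node (nat_lit 0x1411c5de94) (.leaf (nat_lit 0x1411c5dae4) (nat_lit 2049))
 (.node (nat_lit 0x1411c5dee4) (.leaf (nat_lit 0x1411c5de94) (nat_lit 2817))
 (.leaf (nat_lit 0x1411c5dee4) (nat_lit 3076))
))))))))) (.node (nat_lit 0x142103253a) (.node (nat_lit 0x1420c08b8a) (.node (nat_lit 0x142043954a) (.node (nat_lit 0x142040891a) (.node (nat_lit 0x1411c7c6a4) (.node (nat_lit 0x1411c6d2d4) (.node (nat_lit 0x1411c6ceb4) (.node (nat_lit 0x1411c6cac4) (.leaf (nat_lit 0x1411c6cab4) (nat_lit 3584))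
 (.leaf (nat_lit 0x1411c6cac4) (nat_lit 2819))
) (.node (nat_lit 0x1411c6cec4) (.leaf (nat_lit 0x1411c6ceb4) (nat_lit 2305))
 (.node (nat_lit 0x1411c6d2a4) (.leaf (nat_lit 0x1411c6cec4) (nat_lit 3073))
 (.leaf (nat_lit 0x1411c6d2a4) (nat_lit 2051))
))) (.node (nat_lit 0x1411c6d6d4) (.node (nat_lit 0x1411c6d6a4) (.leaf (nat_lit 0x1411c6d2d4) (nat_lit 3330))
 (.leaf (nat_lit 0x1411c6d6a4) (nat_lit 3076))
) (.node (nat_lit 0x1411c7c2a4) (.leaf (nat_lit 0x1411c6d6d4) (nat_lit 2817))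
 (.node (nat_lit 0x1411c7c2d4) (.leaf (nat_lit 0x1411c7c2a4) (nat_lit 2048))
 (.leaf (nat_lit 0x1411c7c2d4) (nat_lit 3330))
)))) (.node (nat_lit 0x1411c7dec4) (.node (nat_lit 0x1411c7dab4) (.node (nat_lit 0x1411c7c6d4) (.leaf (nat_lit 0x1411c7c6a4) (nat_lit 3076))
 (.leaf (nat_lit 0x1411c7c6d4) (nat_lit 2817))
) (.node (nat_lit 0x1411c7dac4) (.leaf (nat_lit 0x1411c7dab4) (nat_lit 3587))
 (.node (nat_lit 0x1411c7deb4) (.leaf (nat_lit 0x1411c7dac4) (nat_lit 2816))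
 (.leaf (nat_lit 0x1411c7deb4) (nat_lit 2305))
))) (.node (nat_lit 0x142040852a) (.node (nat_lit 0x142040810a) (.leaf (nat_lit 0x1411c7dec4) (nat_lit 3073))
 (.node (nat_lit 0x142040811a) (.leaf (nat_lit 0x142040810a) (nat_lit 1027))
 (.leaf (nat_lit 0x142040811a) (nat_lit 2562))
)) (.node (nat_lit 0x142040853a) (.leaf (nat_lit 0x142040852a) (nat_lit 2563))
 (.node (nat_lit 0x142040890a) (.leaf (nat_lit 0x142040853a) (nat_lit 2820))
 (.leaf (nat_lit 0x142040890a) (nat_lit 1540))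
))))) (.node (nat_lit 0x1420418d7a) (.node (nat_lit 0x142041856a) (.node (nat_lit 0x1420408d3a) (.node (nat_lit 0x1420408d2a) (.leaf (nat_lit 0x142040891a) (nat_lit 3330))
 (.leaf (nat_lit 0x1420408d2a) (nat_lit 3072))
) (.node (nat_lit 0x142041814a) (.leaf (nat_lit 0x1420408d3a) (nat_lit 2052))
 (.node (nat_lit 0x142041815a) (.leaf (nat_lit 0x142041814a) (nat_lit 1536))
 (.leaf (nat_lit 0x142041815a) (nat_lit 3074))
))) (.node (nat_lit 0x142041894a) (.node (nat_lit 0x142041857a) (.leaf (nat_lit 0x142041856a) (nat_lit 2051))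
 (.leaf (nat_lit 0x142041857a) (nat_lit 3332))
) (.node (nat_lit 0x142041895a) (.leaf (nat_lit 0x142041894a) (nat_lit 2052))
 (.node (nat_lit 0x1420418d6a) (.leaf (nat_lit 0x142041895a) (nat_lit 3073))
 (.leaf (nat_lit 0x1420418d6a) (nat_lit 2563))
)))) (.node (nat_lit 0x142042992a) (.node (nat_lit 0x142042913a) (.node (nat_lit 0x142042912a) (.leaf (nat_lit 0x1420418d7a) (nat_lit 2564))
 (.leaf (nat_lit 0x142042912a) (nat_lit 2564))
) (.node (nat_lit 0x142042950a) (.leaf (nat_lit 0x142042913a) (nat_lit 2816))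
 (.node (nat_lit 0x142042951a) (.leaf (nat_lit 0x142042950a) (nat_lit 2560))
 (.leaf (nat_lit 0x142042951a) (nat_lit 2820))
))) (.node (nat_lit 0x1420429d1a) (.node (nat_lit 0x142042993a) (.leaf (nat_lit 0x142042992a) (nat_lit 1537))
 (.node (nat_lit 0x1420429d0a) (.leaf (nat_lit 0x142042993a) (nat_lit 3330))
 (.leaf (nat_lit 0x1420429d0a) (nat_lit 1536))
)) (.node (nat_lit 0x142043916a) (.leaf (nat_lit 0x1420429d1a) (nat_lit 3328))
 (.node (nat_lit 0x142043917a) (.leaf (nat_lit 0x142043916a) (nat_lit 2564))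
 (.leaf (nat_lit 0x142043917a) (nat_lit 2819))
)))))) (.node (nat_lit 0x1420458d3a) (.node (nat_lit 0x142044894a) (.node (nat_lit 0x1420439d5a) (.node (nat_lit 0x142043996a) (.node (nat_lit 0x142043955a) (.leaf (nat_lit 0x142043954a) (nat_lit 2563))
 (.leaf (nat_lit 0x142043955a) (nat_lit 2820))
) (.node (nat_lit 0x142043997a) (.leaf (nat_lit 0x142043996a) (nat_lit 1537))
 (.node (nat_lit 0x1420439d4a) (.leaf (nat_lit 0x142043997a) (nat_lit 3330))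
 (.leaf (nat_lit 0x1420439d4a) (nat_lit 1539))
))) (.node (nat_lit 0x142044815a) (.node (nat_lit 0x142044814a) (.leaf (nat_lit 0x1420439d5a) (nat_lit 3331))
 (.leaf (nat_lit 0x142044814a) (nat_lit 1283))
) (.node (nat_lit 0x142044856a) (.leaf (nat_lit 0x142044815a) (nat_lit 2818))
 (.node (nat_lit 0x142044857a) (.leaf (nat_lit 0x142044856a) (nat_lit 2307))
 (.leaf (nat_lit 0x142044857a) (nat_lit 3076))
)))) (.node (nat_lit 0x142045811a) (.node (nat_lit 0x1420448d6a) (.node (nat_lit 0x142044895a) (.leaf (nat_lit 0x142044894a) (nat_lit 1796))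
 (.leaf (nat_lit 0x142044895a) (nat_lit 3329))
) (.node (nat_lit 0x1420448d7a) (.leaf (nat_lit 0x1420448d6a) (nat_lit 2816))
 (.node (nat_lit 0x142045810a) (.leaf (nat_lit 0x1420448d7a) (nat_lit 2308))
 (.leaf (nat_lit 0x142045810a) (nat_lit 1280))
))) (.node (nat_lit 0x142045890a) (.node (nat_lit 0x142045852a) (.leaf (nat_lit 0x142045811a) (nat_lit 2818))
 (.node (nat_lit 0x142045853a) (.leaf (nat_lit 0x142045852a) (nat_lit 2307))
 (.leaf (nat_lit 0x142045853a) (nat_lit 3076))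
)) (.node (nat_lit 0x142045891a) (.leaf (nat_lit 0x142045890a) (nat_lit 1796))
 (.node (nat_lit 0x1420458d2a) (.leaf (nat_lit 0x142045891a) (nat_lit 3329))
 (.leaf (nat_lit 0x1420458d2a) (nat_lit 2819))
))))) (.node (nat_lit 0x142047913a) (.node (nat_lit 0x142046996a) (.node (nat_lit 0x142046917a) (.node (nat_lit 0x142046916a) (.leaf (nat_lit 0x1420458d3a) (nat_lit 2308))
 (.leaf (nat_lit 0x142046916a) (nat_lit 2308))
) (.node (nat_lit 0x142046954a) (.leaf (nat_lit 0x142046917a) (nat_lit 3072))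
 (.node (nat_lit 0x142046955a) (.leaf (nat_lit 0x142046954a) (nat_lit 2816))
 (.leaf (nat_lit 0x142046955a) (nat_lit 2564))
))) (.node (nat_lit 0x1420469d4a) (.node (nat_lit 0x142046997a) (.leaf (nat_lit 0x142046996a) (nat_lit 1281))
 (.leaf (nat_lit 0x142046997a) (nat_lit 3074))
) (.node (nat_lit 0x1420469d5a) (.leaf (nat_lit 0x1420469d4a) (nat_lit 1792))
 (.node (nat_lit 0x142047912a) (.leaf (nat_lit 0x1420469d5a) (nat_lit 3332))
 (.leaf (nat_lit 0x142047912a) (nat_lit 2820))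
)))) (.node (nat_lit 0x1420479d0a) (.node (nat_lit 0x142047951a) (.node (nat_lit 0x142047950a) (.leaf (nat_lit 0x142047913a) (nat_lit 2563))
 (.leaf (nat_lit 0x142047950a) (nat_lit 2307))
) (.node (nat_lit 0x142047992a) (.leaf (nat_lit 0x142047951a) (nat_lit 3076))
 (.node (nat_lit 0x142047993a) (.leaf (nat_lit 0x142047992a) (nat_lit 1793))
 (.leaf (nat_lit 0x142047993a) (nat_lit 3331))
))) (.node (nat_lit 0x1420c083ba) (.node (nat_lit 0x1420479d1a) (.leaf (nat_lit 0x1420479d0a) (nat_lit 1283))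
 (.node (nat_lit 0x1420c0838a) (.leaf (nat_lit 0x1420479d1a) (nat_lit 3075))
 (.leaf (nat_lit 0x1420c0838a) (nat_lit 1025))
)) (.node (nat_lit 0x1420c0879a) (.leaf (nat_lit 0x1420c083ba) (nat_lit 2306))
 (.node (nat_lit 0x1420c087aa) (.leaf (nat_lit 0x1420c0879a) (nat_lit 2308))
 (.leaf (nat_lit 0x1420c087aa) (nat_lit 3328))
))))))) (.node (nat_lit 0x1420c58f9a) (.node (nat_lit 0x1420c383ea) (.node (nat_lit 0x1420c19fda) (.node (nat_lit 0x1420c193fa) (.node (nat_lit 0x1420c08f9a) (.node (nat_lit 0x1420c08bba) (.leaf (nat_lit 0x1420c08b8a) (nat_lit 1794))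
 (.leaf (nat_lit 0x1420c08bba) (nat_lit 3074))
) (.node (nat_lit 0x1420c08faa) (.leaf (nat_lit 0x1420c08f9a) (nat_lit 3076))
 (.node (nat_lit 0x1420c193ca) (.leaf (nat_lit 0x1420c08faa) (nat_lit 2560))
 (.leaf (nat_lit 0x1420c193ca) (nat_lit 1537))
))) (.node (nat_lit 0x1420c197ea) (.node (nat_lit 0x1420c197da) (.leaf (nat_lit 0x1420c193fa) (nat_lit 2818))
 (.leaf (nat_lit 0x1420c197da) (nat_lit 2820))
) (.node (nat_lit 0x1420c19bca) (.leaf (nat_lit 0x1420c197ea) (nat_lit 2819))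
 (.node (nat_lit 0x1420c19bfa) (.leaf (nat_lit 0x1420c19bca) (nat_lit 2306))
 (.leaf (nat_lit 0x1420c19bfa) (nat_lit 3331))
)))) (.node (nat_lit 0x1420c297ba) (.node (nat_lit 0x1420c2939a) (.node (nat_lit 0x1420c19fea) (.leaf (nat_lit 0x1420c19fda) (nat_lit 3330))
 (.leaf (nat_lit 0x1420c19fea) (nat_lit 2051))
) (.node (nat_lit 0x1420c293aa) (.leaf (nat_lit 0x1420c2939a) (nat_lit 3074))
 (.node (nat_lit 0x1420c2978a) (.leaf (nat_lit 0x1420c293aa) (nat_lit 1794))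
 (.leaf (nat_lit 0x1420c2978a) (nat_lit 2560))
))) (.node (nat_lit 0x1420c29f8a) (.node (nat_lit 0x1420c29b9a) (.leaf (nat_lit 0x1420c297ba) (nat_lit 3076))
 (.node (nat_lit 0x1420c29baa) (.leaf (nat_lit 0x1420c29b9a) (nat_lit 3072))
 (.leaf (nat_lit 0x1420c29baa) (nat_lit 2564))
)) (.node (nat_lit 0x1420c29fba) (.leaf (nat_lit 0x1420c29f8a) (nat_lit 1792))
 (.node (nat_lit 0x1420c383da) (.leaf (nat_lit 0x1420c29fba) (nat_lit 3072))
 (.leaf (nat_lit 0x1420c383da) (nat_lit 3074))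
))))) (.node (nat_lit 0x1420c497ea) (.node (nat_lit 0x1420c38fca) (.node (nat_lit 0x1420c387fa) (.node (nat_lit 0x1420c387ca) (.leaf (nat_lit 0x1420c383ea) (nat_lit 1794))
 (.leaf (nat_lit 0x1420c387ca) (nat_lit 2563))
) (.node (nat_lit 0x1420c38bda) (.leaf (nat_lit 0x1420c387fa) (nat_lit 3076))
 (.node (nat_lit 0x1420c38bea) (.leaf (nat_lit 0x1420c38bda) (nat_lit 3075))
 (.leaf (nat_lit 0x1420c38bea) (nat_lit 2564))
))) (.node (nat_lit 0x1420c493ca) (.node (nat_lit 0x1420c38ffa) (.leaf (nat_lit 0x1420c38fca) (nat_lit 1795))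
 (.leaf (nat_lit 0x1420c38ffa) (nat_lit 3075))
) (.node (nat_lit 0x1420c493fa) (.leaf (nat_lit 0x1420c493ca) (nat_lit 1281))
 (.node (nat_lit 0x1420c497da) (.leaf (nat_lit 0x1420c493fa) (nat_lit 2562))
 (.leaf (nat_lit 0x1420c497da) (nat_lit 2564))
)))) (.node (nat_lit 0x1420c5838a) (.node (nat_lit 0x1420c49bfa) (.node (nat_lit 0x1420c49bca) (.leaf (nat_lit 0x1420c497ea) (nat_lit 3072))
 (.leaf (nat_lit 0x1420c49bca) (nat_lit 2050))
) (.node (nat_lit 0x1420c49fda) (.leaf (nat_lit 0x1420c49bfa) (nat_lit 3330))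
 (.node (nat_lit 0x1420c49fea) (.leaf (nat_lit 0x1420c49fda) (nat_lit 3332))
 (.leaf (nat_lit 0x1420c49fea) (nat_lit 2304))
))) (.node (nat_lit 0x1420c587aa) (.node (nat_lit 0x1420c583ba) (.leaf (nat_lit 0x1420c5838a) (nat_lit 1281))
 (.node (nat_lit 0x1420c5879a) (.leaf (nat_lit 0x1420c583ba) (nat_lit 2562))
 (.leaf (nat_lit 0x1420c5879a) (nat_lit 2564))
)) (.node (nat_lit 0x1420c58b8a) (.leaf (nat_lit 0x1420c587aa) (nat_lit 3075))
 (.node (nat_lit 0x1420c58bba) (.leaf (nat_lit 0x1420c58b8a) (nat_lit 2050))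
 (.leaf (nat_lit 0x1420c58bba) (nat_lit 3330))
)))))) (.node (nat_lit 0x142100294a) (.node (nat_lit 0x1420c7939a) (.node (nat_lit 0x1420c687fa) (.node (nat_lit 0x1420c683da) (.node (nat_lit 0x1420c58faa) (.leaf (nat_lit 0x1420c58f9a) (nat_lit 3332))
 (.leaf (nat_lit 0x1420c58faa) (nat_lit 2307))
) (.node (nat_lit 0x1420c683ea) (.leaf (nat_lit 0x1420c683da) (nat_lit 2818))
 (.node (nat_lit 0x1420c687ca) (.leaf (nat_lit 0x1420c683ea) (nat_lit 1538))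
 (.leaf (nat_lit 0x1420c687ca) (nat_lit 2816))
))) (.node (nat_lit 0x1420c68bea) (.node (nat_lit 0x1420c68bda) (.leaf (nat_lit 0x1420c687fa) (nat_lit 2820))
 (.leaf (nat_lit 0x1420c68bda) (nat_lit 3328))
) (.node (nat_lit 0x1420c68fca) (.leaf (nat_lit 0x1420c68bea) (nat_lit 2308))
 (.node (nat_lit 0x1420c68ffa) (.leaf (nat_lit 0x1420c68fca) (nat_lit 2048))
 (.leaf (nat_lit 0x1420c68ffa) (nat_lit 3328))
)))) (.node (nat_lit 0x1420c79baa) (.node (nat_lit 0x1420c7978a) (.node (nat_lit 0x1420c793aa) (.leaf (nat_lit 0x1420c7939a) (nat_lit 3330))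
 (.leaf (nat_lit 0x1420c793aa) (nat_lit 2050))
) (.node (nat_lit 0x1420c797ba) (.leaf (nat_lit 0x1420c7978a) (nat_lit 2307))
 (.node (nat_lit 0x1420c79b9a) (.leaf (nat_lit 0x1420c797ba) (nat_lit 3332))
 (.leaf (nat_lit 0x1420c79b9a) (nat_lit 2819))
))) (.node (nat_lit 0x142100210a) (.node (nat_lit 0x1420c79f8a) (.leaf (nat_lit 0x1420c79baa) (nat_lit 2820))
 (.node (nat_lit 0x1420c79fba) (.leaf (nat_lit 0x1420c79f8a) (nat_lit 1539))
 (.leaf (nat_lit 0x1420c79fba) (nat_lit 2819))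
)) (.node (nat_lit 0x142100214a) (.leaf (nat_lit 0x142100210a) (nat_lit 1795))
 (.node (nat_lit 0x142100290a) (.leaf (nat_lit 0x142100214a) (nat_lit 2051))
 (.leaf (nat_lit 0x142100290a) (nat_lit 2050))
))))) (.node (nat_lit 0x142101317a) (.node (nat_lit 0x142101211a) (.node (nat_lit 0x142100316a) (.node (nat_lit 0x142100312a) (.leaf (nat_lit 0x142100294a) (nat_lit 2306))
 (.leaf (nat_lit 0x142100312a) (nat_lit 2820))
) (.node (nat_lit 0x142100392a) (.leaf (nat_lit 0x142100316a) (nat_lit 2564))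
 (.node (nat_lit 0x142100396a) (.leaf (nat_lit 0x142100392a) (nat_lit 2305))
 (.leaf (nat_lit 0x142100396a) (nat_lit 2049))
))) (.node (nat_lit 0x142101291a) (.node (nat_lit 0x142101215a) (.leaf (nat_lit 0x142101211a) (nat_lit 2564))
 (.leaf (nat_lit 0x142101215a) (nat_lit 2820))
) (.node (nat_lit 0x142101295a) (.leaf (nat_lit 0x142101291a) (nat_lit 3332))
 (.node (nat_lit 0x142101313a) (.leaf (nat_lit 0x142101295a) (nat_lit 3588))
 (.leaf (nat_lit 0x142101313a) (nat_lit 3073))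
)))) (.node (nat_lit 0x1421022d2a) (.node (nat_lit 0x142101397a) (.node (nat_lit 0x142101393a) (.leaf (nat_lit 0x142101317a) (nat_lit 3329))
 (.leaf (nat_lit 0x142101393a) (nat_lit 3331))
) (.node (nat_lit 0x142102252a) (.leaf (nat_lit 0x142101397a) (nat_lit 3075))
 (.node (nat_lit 0x142102256a) (.leaf (nat_lit 0x142102252a) (nat_lit 3072))
 (.leaf (nat_lit 0x142102256a) (nat_lit 2816))
))) (.node (nat_lit 0x142102354a) (.node (nat_lit 0x1421022d6a) (.leaf (nat_lit 0x1421022d2a) (nat_lit 3328))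
 (.node (nat_lit 0x142102350a) (.leaf (nat_lit 0x1421022d6a) (nat_lit 3072))
 (.leaf (nat_lit 0x142102350a) (nat_lit 2816))
)) (.node (nat_lit 0x1421023d0a) (.leaf (nat_lit 0x142102354a) (nat_lit 3072))
 (.node (nat_lit 0x1421023d4a) (.leaf (nat_lit 0x1421023d0a) (nat_lit 2304))
 (.leaf (nat_lit 0x1421023d4a) (nat_lit 2560))
)))))))) (.node (nat_lit 0x14218533aa) (.node (nat_lit 0x1421802b8a) (.node (nat_lit 0x142105316a) (.node (nat_lit 0x142104291a) (.node (nat_lit 0x142103355a) (.node (nat_lit 0x1421032d3a) (.node (nat_lit 0x142103257a) (.leaf (nat_lit 0x142103253a) (nat_lit 3074))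
 (.leaf (nat_lit 0x142103257a) (nat_lit 3330))
) (.node (nat_lit 0x1421032d7a) (.leaf (nat_lit 0x1421032d3a) (nat_lit 2305))
 (.node (nat_lit 0x142103351a) (.leaf (nat_lit 0x1421032d7a) (nat_lit 2561))
 (.leaf (nat_lit 0x142103351a) (nat_lit 2817))
))) (.node (nat_lit 0x1421033d5a) (.node (nat_lit 0x1421033d1a) (.leaf (nat_lit 0x142103355a) (nat_lit 2561))
 (.leaf (nat_lit 0x1421033d1a) (nat_lit 3328))
) (.node (nat_lit 0x142104211a) (.leaf (nat_lit 0x1421033d5a) (nat_lit 3329))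
 (.node (nat_lit 0x142104215a) (.leaf (nat_lit 0x142104211a) (nat_lit 2820))
 (.leaf (nat_lit 0x142104215a) (nat_lit 3076))
)))) (.node (nat_lit 0x142104397a) (.node (nat_lit 0x142104313a) (.node (nat_lit 0x142104295a) (.leaf (nat_lit 0x142104291a) (nat_lit 3587))
 (.leaf (nat_lit 0x142104295a) (nat_lit 3331))
) (.node (nat_lit 0x142104317a) (.leaf (nat_lit 0x142104313a) (nat_lit 2817))
 (.node (nat_lit 0x142104393a) (.leaf (nat_lit 0x142104317a) (nat_lit 3073))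
 (.leaf (nat_lit 0x142104393a) (nat_lit 3584))
))) (.node (nat_lit 0x142105290a) (.node (nat_lit 0x142105210a) (.leaf (nat_lit 0x142104397a) (nat_lit 3328))
 (.node (nat_lit 0x142105214a) (.leaf (nat_lit 0x142105210a) (nat_lit 2048))
 (.leaf (nat_lit 0x142105214a) (nat_lit 2304))
)) (.node (nat_lit 0x142105294a) (.leaf (nat_lit 0x142105290a) (nat_lit 2306))
 (.node (nat_lit 0x142105312a) (.leaf (nat_lit 0x142105294a) (nat_lit 2562))
 (.leaf (nat_lit 0x142105312a) (nat_lit 3076))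
))))) (.node (nat_lit 0x1421063d5a) (.node (nat_lit 0x1421062d3a) (.node (nat_lit 0x142105396a) (.node (nat_lit 0x142105392a) (.leaf (nat_lit 0x142105316a) (nat_lit 2820))
 (.leaf (nat_lit 0x142105392a) (nat_lit 2561))
) (.node (nat_lit 0x142106253a) (.leaf (nat_lit 0x142105396a) (nat_lit 2305))
 (.node (nat_lit 0x142106257a) (.leaf (nat_lit 0x142106253a) (nat_lit 3330))
 (.leaf (nat_lit 0x142106257a) (nat_lit 3331))
))) (.node (nat_lit 0x142106351a) (.node (nat_lit 0x1421062d7a) (.leaf (nat_lit 0x1421062d3a) (nat_lit 2561))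
 (.leaf (nat_lit 0x1421062d7a) (nat_lit 2817))
) (.node (nat_lit 0x142106355a) (.leaf (nat_lit 0x142106351a) (nat_lit 3073))
 (.node (nat_lit 0x1421063d1a) (.leaf (nat_lit 0x142106355a) (nat_lit 2817))
 (.leaf (nat_lit 0x1421063d1a) (nat_lit 3075))
)))) (.node (nat_lit 0x142107350a) (.node (nat_lit 0x142107256a) (.node (nat_lit 0x142107252a) (.leaf (nat_lit 0x1421063d5a) (nat_lit 3331))
 (.leaf (nat_lit 0x142107252a) (nat_lit 2819))
) (.node (nat_lit 0x1421072d2a) (.leaf (nat_lit 0x142107256a) (nat_lit 2563))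
 (.node (nat_lit 0x1421072d6a) (.leaf (nat_lit 0x1421072d2a) (nat_lit 3075))
 (.leaf (nat_lit 0x1421072d6a) (nat_lit 2819))
))) (.node (nat_lit 0x1421073d4a) (.node (nat_lit 0x142107354a) (.leaf (nat_lit 0x142107350a) (nat_lit 2563))
 (.node (nat_lit 0x1421073d0a) (.leaf (nat_lit 0x142107354a) (nat_lit 2819))
 (.leaf (nat_lit 0x1421073d0a) (nat_lit 2051))
)) (.node (nat_lit 0x142180238a) (.leaf (nat_lit 0x1421073d4a) (nat_lit 2307))
 (.node (nat_lit 0x14218023ea) (.leaf (nat_lit 0x142180238a) (nat_lit 1540))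
 (.leaf (nat_lit 0x14218023ea) (nat_lit 2052))
)))))) (.node (nat_lit 0x1421823fea) (.node (nat_lit 0x14218137ba) (.node (nat_lit 0x1421803bca) (.node (nat_lit 0x14218033aa) (.node (nat_lit 0x1421802bea) (.leaf (nat_lit 0x1421802b8a) (nat_lit 1796))
 (.leaf (nat_lit 0x1421802bea) (nat_lit 2564))
) (.node (nat_lit 0x14218033ca) (.leaf (nat_lit 0x14218033aa) (nat_lit 2308))
 (.node (nat_lit 0x1421803baa) (.leaf (nat_lit 0x14218033ca) (nat_lit 1796))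
 (.leaf (nat_lit 0x1421803baa) (nat_lit 2820))
))) (.node (nat_lit 0x14218127fa) (.node (nat_lit 0x142181279a) (.leaf (nat_lit 0x1421803bca) (nat_lit 2052))
 (.leaf (nat_lit 0x142181279a) (nat_lit 2305))
) (.node (nat_lit 0x1421812f9a) (.leaf (nat_lit 0x14218127fa) (nat_lit 3073))
 (.node (nat_lit 0x1421812ffa) (.leaf (nat_lit 0x1421812f9a) (nat_lit 3073))
 (.leaf (nat_lit 0x1421812ffa) (nat_lit 3072))
)))) (.node (nat_lit 0x14218227ca) (.node (nat_lit 0x1421813fba) (.node (nat_lit 0x14218137da) (.leaf (nat_lit 0x14218137ba) (nat_lit 3329))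
 (.leaf (nat_lit 0x14218137da) (nat_lit 2561))
) (.node (nat_lit 0x1421813fda) (.leaf (nat_lit 0x1421813fba) (nat_lit 2816))
 (.node (nat_lit 0x14218227aa) (.leaf (nat_lit 0x1421813fda) (nat_lit 3329))
 (.leaf (nat_lit 0x14218227aa) (nat_lit 3073))
))) (.node (nat_lit 0x142182378a) (.node (nat_lit 0x1421822faa) (.leaf (nat_lit 0x14218227ca) (nat_lit 3072))
 (.node (nat_lit 0x1421822fca) (.leaf (nat_lit 0x1421822faa) (nat_lit 3328))
 (.leaf (nat_lit 0x1421822fca) (nat_lit 2560))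
)) (.node (nat_lit 0x14218237ea) (.leaf (nat_lit 0x142182378a) (nat_lit 2816))
 (.node (nat_lit 0x1421823f8a) (.leaf (nat_lit 0x14218237ea) (nat_lit 3329))
 (.leaf (nat_lit 0x1421823f8a) (nat_lit 2304))
))))) (.node (nat_lit 0x14218427fa) (.node (nat_lit 0x142183339a) (.node (nat_lit 0x14218323da) (.node (nat_lit 0x14218323ba) (.leaf (nat_lit 0x1421823fea) (nat_lit 3072))
 (.leaf (nat_lit 0x14218323ba) (nat_lit 2307))
) (.node (nat_lit 0x1421832bba) (.leaf (nat_lit 0x14218323da) (nat_lit 2820))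
 (.node (nat_lit 0x1421832bda) (.leaf (nat_lit 0x1421832bba) (nat_lit 2820))
 (.leaf (nat_lit 0x1421832bda) (nat_lit 3585))
))) (.node (nat_lit 0x1421833b9a) (.node (nat_lit 0x14218333fa) (.leaf (nat_lit 0x142183339a) (nat_lit 3076))
 (.leaf (nat_lit 0x14218333fa) (nat_lit 2563))
) (.node (nat_lit 0x1421833bfa) (.leaf (nat_lit 0x1421833b9a) (nat_lit 3329))
 (.node (nat_lit 0x142184279a) (.leaf (nat_lit 0x1421833bfa) (nat_lit 3076))
 (.leaf (nat_lit 0x142184279a) (nat_lit 2561))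
)))) (.node (nat_lit 0x1421843fba) (.node (nat_lit 0x1421842ffa) (.node (nat_lit 0x1421842f9a) (.leaf (nat_lit 0x14218427fa) (nat_lit 3329))
 (.leaf (nat_lit 0x1421842f9a) (nat_lit 3329))
) (.node (nat_lit 0x14218437ba) (.leaf (nat_lit 0x1421842ffa) (nat_lit 2819))
 (.node (nat_lit 0x14218437da) (.leaf (nat_lit 0x14218437ba) (nat_lit 3331))
 (.leaf (nat_lit 0x14218437da) (nat_lit 2817))
))) (.node (nat_lit 0x14218523ea) (.node (nat_lit 0x1421843fda) (.leaf (nat_lit 0x1421843fba) (nat_lit 2563))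
 (.node (nat_lit 0x142185238a) (.leaf (nat_lit 0x1421843fda) (nat_lit 3331))
 (.leaf (nat_lit 0x142185238a) (nat_lit 1796))
)) (.node (nat_lit 0x1421852b8a) (.leaf (nat_lit 0x14218523ea) (nat_lit 2308))
 (.node (nat_lit 0x1421852bea) (.leaf (nat_lit 0x1421852b8a) (nat_lit 2052))
 (.leaf (nat_lit 0x1421852bea) (nat_lit 2820))
))))))) (.node (nat_lit 0x1430429d6e) (.node (nat_lit 0x143040811e) (.node (nat_lit 0x1421863b9a) (.node (nat_lit 0x14218623da) (.node (nat_lit 0x1421853baa) (.node (nat_lit 0x14218533ca) (.leaf (nat_lit 0x14218533aa) (nat_lit 2564))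
 (.leaf (nat_lit 0x14218533ca) (nat_lit 2052))
) (.node (nat_lit 0x1421853bca) (.leaf (nat_lit 0x1421853baa) (nat_lit 3076))
 (.node (nat_lit 0x14218623ba) (.leaf (nat_lit 0x1421853bca) (nat_lit 2308))
 (.leaf (nat_lit 0x14218623ba) (nat_lit 2560))
))) (.node (nat_lit 0x1421862bda) (.node (nat_lit 0x1421862bba) (.leaf (nat_lit 0x14218623da) (nat_lit 3076))
 (.leaf (nat_lit 0x1421862bba) (nat_lit 3076))
) (.node (nat_lit 0x142186339a) (.leaf (nat_lit 0x1421862bda) (nat_lit 3329))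
 (.node (nat_lit 0x14218633fa) (.leaf (nat_lit 0x142186339a) (nat_lit 3332))
 (.leaf (nat_lit 0x14218633fa) (nat_lit 2816))
)))) (.node (nat_lit 0x1421872fca) (.node (nat_lit 0x14218727aa) (.node (nat_lit 0x1421863bfa) (.leaf (nat_lit 0x1421863b9a) (nat_lit 3073))
 (.leaf (nat_lit 0x1421863bfa) (nat_lit 3332))
) (.node (nat_lit 0x14218727ca) (.leaf (nat_lit 0x14218727aa) (nat_lit 3331))
 (.node (nat_lit 0x1421872faa) (.leaf (nat_lit 0x14218727ca) (nat_lit 2819))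
 (.leaf (nat_lit 0x1421872faa) (nat_lit 3075))
))) (.node (nat_lit 0x1421873f8a) (.node (nat_lit 0x142187378a) (.leaf (nat_lit 0x1421872fca) (nat_lit 2307))
 (.node (nat_lit 0x14218737ea) (.leaf (nat_lit 0x142187378a) (nat_lit 2563))
 (.leaf (nat_lit 0x14218737ea) (nat_lit 3075))
)) (.node (nat_lit 0x1421873fea) (.leaf (nat_lit 0x1421873f8a) (nat_lit 2051))
 (.node (nat_lit 0x143040810e) (.leaf (nat_lit 0x1421873fea) (nat_lit 2819))
 (.leaf (nat_lit 0x143040810e) (nat_lit 771))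
))))) (.node (nat_lit 0x143041857e) (.node (nat_lit 0x1430408d0e) (.node (nat_lit 0x143040853e) (.node (nat_lit 0x143040852e) (.leaf (nat_lit 0x143040811e) (nat_lit 2818))
 (.leaf (nat_lit 0x143040852e) (nat_lit 2564))
) (.node (nat_lit 0x143040892e) (.leaf (nat_lit 0x143040853e) (nat_lit 2819))
 (.node (nat_lit 0x143040893e) (.leaf (nat_lit 0x143040892e) (nat_lit 1796))
 (.leaf (nat_lit 0x143040893e) (nat_lit 3328))
))) (.node (nat_lit 0x143041814e) (.node (nat_lit 0x1430408d1e) (.leaf (nat_lit 0x1430408d0e) (nat_lit 1796))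
 (.leaf (nat_lit 0x1430408d1e) (nat_lit 3329))
) (.node (nat_lit 0x143041815e) (.leaf (nat_lit 0x143041814e) (nat_lit 1280))
 (.node (nat_lit 0x143041856e) (.leaf (nat_lit 0x143041815e) (nat_lit 3330))
 (.leaf (nat_lit 0x143041856e) (nat_lit 3076))
)))) (.node (nat_lit 0x143042916e) (.node (nat_lit 0x143041897e) (.node (nat_lit 0x143041896e) (.leaf (nat_lit 0x143041857e) (nat_lit 2307))
 (.leaf (nat_lit 0x143041896e) (nat_lit 2308))
) (.node (nat_lit 0x1430418d4e) (.leaf (nat_lit 0x143041897e) (nat_lit 2819))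
 (.node (nat_lit 0x1430418d5e) (.leaf (nat_lit 0x1430418d4e) (nat_lit 2308))
 (.leaf (nat_lit 0x1430418d5e) (nat_lit 2817))
))) (.node (nat_lit 0x143042955e) (.node (nat_lit 0x143042917e) (.leaf (nat_lit 0x143042916e) (nat_lit 2563))
 (.node (nat_lit 0x143042954e) (.leaf (nat_lit 0x143042917e) (nat_lit 2820))
 (.leaf (nat_lit 0x143042954e) (nat_lit 2564))
)) (.node (nat_lit 0x143042994e) (.leaf (nat_lit 0x143042955e) (nat_lit 2817))
 (.node (nat_lit 0x143042995e) (.leaf (nat_lit 0x143042994e) (nat_lit 1283))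
 (.leaf (nat_lit 0x143042995e) (nat_lit 3587))
)))))) (.node (nat_lit 0x143045853e) (.node (nat_lit 0x143044814e) (.node (nat_lit 0x143043951e) (.node (nat_lit 0x143043912e) (.node (nat_lit 0x1430429d7e) (.leaf (nat_lit 0x1430429d6e) (nat_lit 3331))
 (.leaf (nat_lit 0x1430429d7e) (nat_lit 1793))
) (.node (nat_lit 0x143043913e) (.leaf (nat_lit 0x143043912e) (nat_lit 2560))
 (.node (nat_lit 0x143043950e) (.leaf (nat_lit 0x143043913e) (nat_lit 2820))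
 (.leaf (nat_lit 0x143043950e) (nat_lit 2564))
))) (.node (nat_lit 0x143043991e) (.node (nat_lit 0x143043990e) (.leaf (nat_lit 0x143043951e) (nat_lit 2817))
 (.leaf (nat_lit 0x143043990e) (nat_lit 1280))
) (.node (nat_lit 0x1430439d2e) (.leaf (nat_lit 0x143043991e) (nat_lit 3584))
 (.node (nat_lit 0x1430439d3e) (.leaf (nat_lit 0x1430439d2e) (nat_lit 3328))
 (.leaf (nat_lit 0x1430439d3e) (nat_lit 1793))
)))) (.node (nat_lit 0x143044897e) (.node (nat_lit 0x143044856e) (.node (nat_lit 0x143044815e) (.leaf (nat_lit 0x143044814e) (nat_lit 1027))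
 (.leaf (nat_lit 0x143044815e) (nat_lit 3074))
) (.node (nat_lit 0x143044857e) (.leaf (nat_lit 0x143044856e) (nat_lit 2820))
 (.node (nat_lit 0x143044896e) (.leaf (nat_lit 0x143044857e) (nat_lit 2563))
 (.leaf (nat_lit 0x143044896e) (nat_lit 2052))
))) (.node (nat_lit 0x143045810e) (.node (nat_lit 0x1430448d4e) (.leaf (nat_lit 0x143044897e) (nat_lit 3072))
 (.node (nat_lit 0x1430448d5e) (.leaf (nat_lit 0x1430448d4e) (nat_lit 2052))
 (.leaf (nat_lit 0x1430448d5e) (nat_lit 3073))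
)) (.node (nat_lit 0x143045811e) (.leaf (nat_lit 0x143045810e) (nat_lit 1024))
 (.node (nat_lit 0x143045852e) (.leaf (nat_lit 0x143045811e) (nat_lit 3074))
 (.leaf (nat_lit 0x143045852e) (nat_lit 2820))
))))) (.node (nat_lit 0x143046991e) (.node (nat_lit 0x143046912e) (.node (nat_lit 0x143045893e) (.node (nat_lit 0x143045892e) (.leaf (nat_lit 0x143045853e) (nat_lit 2563))
 (.leaf (nat_lit 0x143045892e) (nat_lit 2052))
) (.node (nat_lit 0x1430458d0e) (.leaf (nat_lit 0x143045893e) (nat_lit 3075))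
 (.node (nat_lit 0x1430458d1e) (.leaf (nat_lit 0x1430458d0e) (nat_lit 2052))
 (.leaf (nat_lit 0x1430458d1e) (nat_lit 3073))
))) (.node (nat_lit 0x143046950e) (.node (nat_lit 0x143046913e) (.leaf (nat_lit 0x143046912e) (nat_lit 2307))
 (.leaf (nat_lit 0x143046913e) (nat_lit 3076))
) (.node (nat_lit 0x143046951e) (.leaf (nat_lit 0x143046950e) (nat_lit 2308))
 (.node (nat_lit 0x143046990e) (.leaf (nat_lit 0x143046951e) (nat_lit 3073))
 (.leaf (nat_lit 0x143046990e) (nat_lit 1027))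
)))) (.node (nat_lit 0x143047954e) (.node (nat_lit 0x1430469d3e) (.node (nat_lit 0x1430469d2e) (.leaf (nat_lit 0x143046991e) (nat_lit 3331))
 (.leaf (nat_lit 0x1430469d2e) (nat_lit 3075))
) (.node (nat_lit 0x143047916e) (.leaf (nat_lit 0x1430469d3e) (nat_lit 2049))
 (.node (nat_lit 0x143047917e) (.leaf (nat_lit 0x143047916e) (nat_lit 2816))
 (.leaf (nat_lit 0x143047917e) (nat_lit 2564))
))) (.node (nat_lit 0x143047995e) (.node (nat_lit 0x143047955e) (.leaf (nat_lit 0x143047954e) (nat_lit 2820))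
 (.node (nat_lit 0x143047994e) (.leaf (nat_lit 0x143047955e) (nat_lit 2561))
 (.leaf (nat_lit 0x143047994e) (nat_lit 1536))
)) (.node (nat_lit 0x1430479d6e) (.leaf (nat_lit 0x143047995e) (nat_lit 3588))
 (.node (nat_lit 0x1430479d7e) (.leaf (nat_lit 0x1430479d6e) (nat_lit 3330))
 (.leaf (nat_lit 0x1430479d7e) (nat_lit 1537))
))))))))))) (.node (nat_lit 0x1461c4cabe) (.node (nat_lit 0x14418227b4) (.node (nat_lit 0x1431c5628e) (.node (nat_lit 0x143102751e) (.node (nat_lit 0x143085869e) (.node (nat_lit 0x1430828aee) (.node (nat_lit 0x14308196de) (.node (nat_lit 0x1430808abe) (.node (nat_lit 0x143080869e) (.node (nat_lit 0x14308082ae) (.leaf (nat_lit 0x143080828e) (nat_lit 1027))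
 (.leaf (nat_lit 0x14308082ae) (nat_lit 2050))
) (.node (nat_lit 0x14308086be) (.leaf (nat_lit 0x143080869e) (nat_lit 2564))
 (.node (nat_lit 0x1430808a9e) (.leaf (nat_lit 0x14308086be) (nat_lit 3329))
 (.leaf (nat_lit 0x1430808a9e) (nat_lit 3332))
))) (.node (nat_lit 0x1430808eae) (.node (nat_lit 0x1430808e8e) (.leaf (nat_lit 0x1430808abe) (nat_lit 2816))
 (.leaf (nat_lit 0x1430808e8e) (nat_lit 2050))
) (.node (nat_lit 0x14308192ce) (.leaf (nat_lit 0x1430808eae) (nat_lit 2818))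
 (.node (nat_lit 0x14308192ee) (.leaf (nat_lit 0x14308192ce) (nat_lit 1536))
 (.leaf (nat_lit 0x14308192ee) (nat_lit 2562))
)))) (.node (nat_lit 0x1430819eee) (.node (nat_lit 0x1430819ade) (.node (nat_lit 0x14308196fe) (.leaf (nat_lit 0x14308196de) (nat_lit 3076))
 (.leaf (nat_lit 0x14308196fe) (nat_lit 3075))
) (.node (nat_lit 0x1430819afe) (.leaf (nat_lit 0x1430819ade) (nat_lit 3074))
 (.node (nat_lit 0x1430819ece) (.leaf (nat_lit 0x1430819afe) (nat_lit 2307))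
 (.leaf (nat_lit 0x1430819ece) (nat_lit 2562))
))) (.node (nat_lit 0x14308286ce) (.node (nat_lit 0x14308282de) (.leaf (nat_lit 0x1430819eee) (nat_lit 3330))
 (.node (nat_lit 0x14308282fe) (.leaf (nat_lit 0x14308282de) (nat_lit 3074))
 (.leaf (nat_lit 0x14308282fe) (nat_lit 2050))
)) (.node (nat_lit 0x14308286ee) (.leaf (nat_lit 0x14308286ce) (nat_lit 2819))
 (.node (nat_lit 0x1430828ace) (.leaf (nat_lit 0x14308286ee) (nat_lit 3332))
 (.leaf (nat_lit 0x1430828ace) (nat_lit 1539))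
))))) (.node (nat_lit 0x1430839ebe) (.node (nat_lit 0x143083968e) (.node (nat_lit 0x1430828efe) (.node (nat_lit 0x1430828ede) (.leaf (nat_lit 0x1430828aee) (nat_lit 2819))
 (.leaf (nat_lit 0x1430828ede) (nat_lit 3331))
) (.node (nat_lit 0x143083929e) (.leaf (nat_lit 0x1430828efe) (nat_lit 2820))
 (.node (nat_lit 0x14308392be) (.leaf (nat_lit 0x143083929e) (nat_lit 3074))
 (.leaf (nat_lit 0x14308392be) (nat_lit 2050))
))) (.node (nat_lit 0x1430839a8e) (.node (nat_lit 0x14308396ae) (.leaf (nat_lit 0x143083968e) (nat_lit 2816))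
 (.leaf (nat_lit 0x14308396ae) (nat_lit 3332))
) (.node (nat_lit 0x1430839aae) (.leaf (nat_lit 0x1430839a8e) (nat_lit 1536))
 (.node (nat_lit 0x1430839e9e) (.leaf (nat_lit 0x1430839aae) (nat_lit 2816))
 (.leaf (nat_lit 0x1430839e9e) (nat_lit 3328))
)))) (.node (nat_lit 0x1430849ade) (.node (nat_lit 0x14308492ee) (.node (nat_lit 0x14308492ce) (.leaf (nat_lit 0x1430839ebe) (nat_lit 2820))
 (.leaf (nat_lit 0x14308492ce) (nat_lit 1283))
) (.node (nat_lit 0x14308496de) (.leaf (nat_lit 0x14308492ee) (nat_lit 2306))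
 (.node (nat_lit 0x14308496fe) (.leaf (nat_lit 0x14308496de) (nat_lit 2820))
 (.leaf (nat_lit 0x14308496fe) (nat_lit 3328))
))) (.node (nat_lit 0x1430849eee) (.node (nat_lit 0x1430849afe) (.leaf (nat_lit 0x1430849ade) (nat_lit 3330))
 (.node (nat_lit 0x1430849ece) (.leaf (nat_lit 0x1430849afe) (nat_lit 2560))
 (.leaf (nat_lit 0x1430849ece) (nat_lit 2306))
)) (.node (nat_lit 0x143085828e) (.leaf (nat_lit 0x1430849eee) (nat_lit 3074))
 (.node (nat_lit 0x14308582ae) (.leaf (nat_lit 0x143085828e) (nat_lit 1280))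
 (.leaf (nat_lit 0x14308582ae) (nat_lit 2306))
)))))) (.node (nat_lit 0x1430878efe) (.node (nat_lit 0x1430869a8e) (.node (nat_lit 0x1430858eae) (.node (nat_lit 0x1430858a9e) (.node (nat_lit 0x14308586be) (.leaf (nat_lit 0x143085869e) (nat_lit 2820))
 (.leaf (nat_lit 0x14308586be) (nat_lit 3331))
) (.node (nat_lit 0x1430858abe) (.leaf (nat_lit 0x1430858a9e) (nat_lit 3330))
 (.node (nat_lit 0x1430858e8e) (.leaf (nat_lit 0x1430858abe) (nat_lit 2563))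
 (.leaf (nat_lit 0x1430858e8e) (nat_lit 2306))
))) (.node (nat_lit 0x14308692be) (.node (nat_lit 0x143086929e) (.leaf (nat_lit 0x1430858eae) (nat_lit 3074))
 (.leaf (nat_lit 0x143086929e) (nat_lit 3330))
) (.node (nat_lit 0x143086968e) (.leaf (nat_lit 0x14308692be) (nat_lit 2306))
 (.node (nat_lit 0x14308696ae) (.leaf (nat_lit 0x143086968e) (nat_lit 2563))
 (.leaf (nat_lit 0x14308696ae) (nat_lit 3331))
)))) (.node (nat_lit 0x14308782fe) (.node (nat_lit 0x1430869e9e) (.node (nat_lit 0x1430869aae) (.leaf (nat_lit 0x1430869a8e) (nat_lit 1283))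
 (.leaf (nat_lit 0x1430869aae) (nat_lit 2563))
) (.node (nat_lit 0x1430869ebe) (.leaf (nat_lit 0x1430869e9e) (nat_lit 3075))
 (.node (nat_lit 0x14308782de) (.leaf (nat_lit 0x1430869ebe) (nat_lit 3076))
 (.leaf (nat_lit 0x14308782de) (nat_lit 2818))
))) (.node (nat_lit 0x1430878ace) (.node (nat_lit 0x14308786ce) (.leaf (nat_lit 0x14308782fe) (nat_lit 1794))
 (.node (nat_lit 0x14308786ee) (.leaf (nat_lit 0x14308786ce) (nat_lit 3072))
 (.leaf (nat_lit 0x14308786ee) (nat_lit 3076))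
)) (.node (nat_lit 0x1430878aee) (.leaf (nat_lit 0x1430878ace) (nat_lit 1792))
 (.node (nat_lit 0x1430878ede) (.leaf (nat_lit 0x1430878aee) (nat_lit 3072))
 (.leaf (nat_lit 0x1430878ede) (nat_lit 3584))
))))) (.node (nat_lit 0x143101615e) (.node (nat_lit 0x143100713e) (.node (nat_lit 0x143100614e) (.node (nat_lit 0x143100610e) (.leaf (nat_lit 0x1430878efe) (nat_lit 2564))
 (.leaf (nat_lit 0x143100610e) (nat_lit 1539))
) (.node (nat_lit 0x1431006d0e) (.leaf (nat_lit 0x143100614e) (nat_lit 1795))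
 (.node (nat_lit 0x1431006d4e) (.leaf (nat_lit 0x1431006d0e) (nat_lit 2306))
 (.leaf (nat_lit 0x1431006d4e) (nat_lit 2562))
))) (.node (nat_lit 0x1431007d3e) (.node (nat_lit 0x143100717e) (.leaf (nat_lit 0x143100713e) (nat_lit 3076))
 (.leaf (nat_lit 0x143100717e) (nat_lit 2820))
) (.node (nat_lit 0x1431007d7e) (.leaf (nat_lit 0x1431007d3e) (nat_lit 2561))
 (.node (nat_lit 0x143101611e) (.leaf (nat_lit 0x1431007d7e) (nat_lit 2305))
 (.leaf (nat_lit 0x143101611e) (nat_lit 2562))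
)))) (.node (nat_lit 0x1431017d2e) (.node (nat_lit 0x1431016d5e) (.node (nat_lit 0x1431016d1e) (.leaf (nat_lit 0x143101615e) (nat_lit 2818))
 (.leaf (nat_lit 0x1431016d1e) (nat_lit 3588))
) (.node (nat_lit 0x143101712e) (.leaf (nat_lit 0x1431016d5e) (nat_lit 3585))
 (.node (nat_lit 0x143101716e) (.leaf (nat_lit 0x143101712e) (nat_lit 2817))
 (.leaf (nat_lit 0x143101716e) (nat_lit 3073))
))) (.node (nat_lit 0x143102656e) (.node (nat_lit 0x1431017d6e) (.leaf (nat_lit 0x1431017d2e) (nat_lit 3587))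
 (.node (nat_lit 0x143102652e) (.leaf (nat_lit 0x1431017d6e) (nat_lit 3331))
 (.leaf (nat_lit 0x143102652e) (nat_lit 2818))
)) (.node (nat_lit 0x143102692e) (.leaf (nat_lit 0x143102656e) (nat_lit 3074))
 (.node (nat_lit 0x143102696e) (.leaf (nat_lit 0x143102692e) (nat_lit 2305))
 (.leaf (nat_lit 0x143102696e) (nat_lit 2561))
))))))) (.node (nat_lit 0x143107791e) (.node (nat_lit 0x143105614e) (.node (nat_lit 0x143103790e) (.node (nat_lit 0x143103657e) (.node (nat_lit 0x143102791e) (.node (nat_lit 0x143102755e) (.leaf (nat_lit 0x143102751e) (nat_lit 3073))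
 (.leaf (nat_lit 0x143102755e) (nat_lit 2817))
) (.node (nat_lit 0x143102795e) (.leaf (nat_lit 0x143102791e) (nat_lit 3072))
 (.node (nat_lit 0x143103653e) (.leaf (nat_lit 0x143102795e) (nat_lit 3328))
 (.leaf (nat_lit 0x143103653e) (nat_lit 3328))
))) (.node (nat_lit 0x143103697e) (.node (nat_lit 0x143103693e) (.leaf (nat_lit 0x143103657e) (nat_lit 3072))
 (.leaf (nat_lit 0x143103693e) (nat_lit 3074))
) (.node (nat_lit 0x143103750e) (.leaf (nat_lit 0x143103697e) (nat_lit 3330))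
 (.node (nat_lit 0x143103754e) (.leaf (nat_lit 0x143103750e) (nat_lit 2816))
 (.leaf (nat_lit 0x143103754e) (nat_lit 3072))
)))) (.node (nat_lit 0x1431046d5e) (.node (nat_lit 0x143104611e) (.node (nat_lit 0x143103794e) (.leaf (nat_lit 0x143103790e) (nat_lit 2048))
 (.leaf (nat_lit 0x143103794e) (nat_lit 2304))
) (.node (nat_lit 0x143104615e) (.leaf (nat_lit 0x143104611e) (nat_lit 2818))
 (.node (nat_lit 0x1431046d1e) (.leaf (nat_lit 0x143104615e) (nat_lit 3074))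
 (.leaf (nat_lit 0x1431046d1e) (nat_lit 3585))
))) (.node (nat_lit 0x1431047d2e) (.node (nat_lit 0x143104712e) (.leaf (nat_lit 0x1431046d5e) (nat_lit 3329))
 (.node (nat_lit 0x143104716e) (.leaf (nat_lit 0x143104712e) (nat_lit 2561))
 (.leaf (nat_lit 0x143104716e) (nat_lit 2817))
)) (.node (nat_lit 0x1431047d6e) (.leaf (nat_lit 0x1431047d2e) (nat_lit 3331))
 (.node (nat_lit 0x143105610e) (.leaf (nat_lit 0x1431047d6e) (nat_lit 3587))
 (.leaf (nat_lit 0x143105610e) (nat_lit 1792))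
))))) (.node (nat_lit 0x143106697e) (.node (nat_lit 0x1431057d3e) (.node (nat_lit 0x1431056d4e) (.node (nat_lit 0x1431056d0e) (.leaf (nat_lit 0x143105614e) (nat_lit 2048))
 (.leaf (nat_lit 0x1431056d0e) (nat_lit 2562))
) (.node (nat_lit 0x143105713e) (.leaf (nat_lit 0x1431056d4e) (nat_lit 2818))
 (.node (nat_lit 0x143105717e) (.leaf (nat_lit 0x143105713e) (nat_lit 3332))
 (.leaf (nat_lit 0x143105717e) (nat_lit 3076))
))) (.node (nat_lit 0x143106653e) (.node (nat_lit 0x1431057d7e) (.leaf (nat_lit 0x1431057d3e) (nat_lit 2817))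
 (.leaf (nat_lit 0x1431057d7e) (nat_lit 2561))
) (.node (nat_lit 0x143106657e) (.leaf (nat_lit 0x143106653e) (nat_lit 3075))
 (.node (nat_lit 0x143106693e) (.leaf (nat_lit 0x143106657e) (nat_lit 2819))
 (.leaf (nat_lit 0x143106693e) (nat_lit 3331))
)))) (.node (nat_lit 0x143107652e) (.node (nat_lit 0x143106754e) (.node (nat_lit 0x143106750e) (.leaf (nat_lit 0x143106697e) (nat_lit 3075))
 (.leaf (nat_lit 0x143106750e) (nat_lit 2563))
) (.node (nat_lit 0x143106790e) (.leaf (nat_lit 0x143106754e) (nat_lit 2819))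
 (.node (nat_lit 0x143106794e) (.leaf (nat_lit 0x143106790e) (nat_lit 1795))
 (.leaf (nat_lit 0x143106794e) (nat_lit 2051))
))) (.node (nat_lit 0x143107696e) (.node (nat_lit 0x143107656e) (.leaf (nat_lit 0x143107652e) (nat_lit 3074))
 (.node (nat_lit 0x143107692e) (.leaf (nat_lit 0x143107656e) (nat_lit 3330))
 (.leaf (nat_lit 0x143107692e) (nat_lit 2561))
)) (.node (nat_lit 0x143107751e) (.leaf (nat_lit 0x143107696e) (nat_lit 2817))
 (.node (nat_lit 0x143107755e) (.leaf (nat_lit 0x143107751e) (nat_lit 3329))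
 (.leaf (nat_lit 0x143107755e) (nat_lit 3073))
)))))) (.node (nat_lit 0x1431c26ede) (.node (nat_lit 0x1431c1669e) (.node (nat_lit 0x1431c06efe) (.node (nat_lit 0x1431c0628e) (.node (nat_lit 0x143107795e) (.leaf (nat_lit 0x143107791e) (nat_lit 2819))
 (.leaf (nat_lit 0x143107795e) (nat_lit 3075))
) (.node (nat_lit 0x1431c062fe) (.leaf (nat_lit 0x1431c0628e) (nat_lit 1537))
 (.node (nat_lit 0x1431c06e8e) (.leaf (nat_lit 0x1431c062fe) (nat_lit 2308))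
 (.leaf (nat_lit 0x1431c06e8e) (nat_lit 2052))
))) (.node (nat_lit 0x1431c072ce) (.node (nat_lit 0x1431c072be) (.leaf (nat_lit 0x1431c06efe) (nat_lit 2820))
 (.leaf (nat_lit 0x1431c072be) (nat_lit 2564))
) (.node (nat_lit 0x1431c07ebe) (.leaf (nat_lit 0x1431c072ce) (nat_lit 1793))
 (.node (nat_lit 0x1431c07ece) (.leaf (nat_lit 0x1431c07ebe) (nat_lit 3076))
 (.leaf (nat_lit 0x1431c07ece) (nat_lit 2308))
)))) (.node (nat_lit 0x1431c176de) (.node (nat_lit 0x1431c16a9e) (.node (nat_lit 0x1431c166ee) (.leaf (nat_lit 0x1431c1669e) (nat_lit 2305))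
 (.leaf (nat_lit 0x1431c166ee) (nat_lit 3329))
) (.node (nat_lit 0x1431c16aee) (.leaf (nat_lit 0x1431c16a9e) (nat_lit 3329))
 (.node (nat_lit 0x1431c176ae) (.leaf (nat_lit 0x1431c16aee) (nat_lit 2816))
 (.leaf (nat_lit 0x1431c176ae) (nat_lit 3585))
))) (.node (nat_lit 0x1431c262ae) (.node (nat_lit 0x1431c17aae) (.leaf (nat_lit 0x1431c176de) (nat_lit 2561))
 (.node (nat_lit 0x1431c17ade) (.leaf (nat_lit 0x1431c17aae) (nat_lit 2560))
 (.leaf (nat_lit 0x1431c17ade) (nat_lit 3585))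
)) (.node (nat_lit 0x1431c262de) (.leaf (nat_lit 0x1431c262ae) (nat_lit 2051))
 (.node (nat_lit 0x1431c26eae) (.leaf (nat_lit 0x1431c262de) (nat_lit 3076))
 (.leaf (nat_lit 0x1431c26eae) (nat_lit 2564))
))))) (.node (nat_lit 0x1431c376fe) (.node (nat_lit 0x1431c366be) (.node (nat_lit 0x1431c272ee) (.node (nat_lit 0x1431c2729e) (.leaf (nat_lit 0x1431c26ede) (nat_lit 3329))
 (.leaf (nat_lit 0x1431c2729e) (nat_lit 3332))
) (.node (nat_lit 0x1431c27e9e) (.leaf (nat_lit 0x1431c272ee) (nat_lit 2307))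
 (.node (nat_lit 0x1431c27eee) (.leaf (nat_lit 0x1431c27e9e) (nat_lit 3073))
 (.leaf (nat_lit 0x1431c27eee) (nat_lit 2820))
))) (.node (nat_lit 0x1431c36abe) (.node (nat_lit 0x1431c366ce) (.leaf (nat_lit 0x1431c366be) (nat_lit 2817))
 (.leaf (nat_lit 0x1431c366ce) (nat_lit 3076))
) (.node (nat_lit 0x1431c36ace) (.leaf (nat_lit 0x1431c36abe) (nat_lit 3584))
 (.node (nat_lit 0x1431c3768e) (.leaf (nat_lit 0x1431c36ace) (nat_lit 2304))
 (.leaf (nat_lit 0x1431c3768e) (nat_lit 2820))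
)))) (.node (nat_lit 0x1431c46a9e) (.node (nat_lit 0x1431c37afe) (.node (nat_lit 0x1431c37a8e) (.leaf (nat_lit 0x1431c376fe) (nat_lit 3073))
 (.leaf (nat_lit 0x1431c37a8e) (nat_lit 2048))
) (.node (nat_lit 0x1431c4669e) (.leaf (nat_lit 0x1431c37afe) (nat_lit 3328))
 (.node (nat_lit 0x1431c466ee) (.leaf (nat_lit 0x1431c4669e) (nat_lit 2561))
 (.leaf (nat_lit 0x1431c466ee) (nat_lit 3588))
))) (.node (nat_lit 0x1431c476de) (.node (nat_lit 0x1431c46aee) (.leaf (nat_lit 0x1431c46a9e) (nat_lit 3585))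
 (.node (nat_lit 0x1431c476ae) (.leaf (nat_lit 0x1431c46aee) (nat_lit 2563))
 (.leaf (nat_lit 0x1431c476ae) (nat_lit 3332))
)) (.node (nat_lit 0x1431c47aae) (.leaf (nat_lit 0x1431c476de) (nat_lit 2817))
 (.node (nat_lit 0x1431c47ade) (.leaf (nat_lit 0x1431c47aae) (nat_lit 2307))
 (.leaf (nat_lit 0x1431c47ade) (nat_lit 3587))
)))))))) (.node (nat_lit 0x14408732d4) (.node (nat_lit 0x1440822a94) (.node (nat_lit 0x1431c772ee) (.node (nat_lit 0x1431c66abe) (.node (nat_lit 0x1431c572ce) (.node (nat_lit 0x1431c56e8e) (.node (nat_lit 0x1431c562fe) (.leaf (nat_lit 0x1431c5628e) (nat_lit 1793))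
 (.leaf (nat_lit 0x1431c562fe) (nat_lit 2564))
) (.node (nat_lit 0x1431c56efe) (.leaf (nat_lit 0x1431c56e8e) (nat_lit 2308))
 (.node (nat_lit 0x1431c572be) (.leaf (nat_lit 0x1431c56efe) (nat_lit 3076))
 (.leaf (nat_lit 0x1431c572be) (nat_lit 2820))
))) (.node (nat_lit 0x1431c57ece) (.node (nat_lit 0x1431c57ebe) (.leaf (nat_lit 0x1431c572ce) (nat_lit 2049))
 (.leaf (nat_lit 0x1431c57ebe) (nat_lit 3332))
) (.node (nat_lit 0x1431c666be) (.leaf (nat_lit 0x1431c57ece) (nat_lit 2564))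
 (.node (nat_lit 0x1431c666ce) (.leaf (nat_lit 0x1431c666be) (nat_lit 3073))
 (.leaf (nat_lit 0x1431c666ce) (nat_lit 2820))
)))) (.node (nat_lit 0x1431c67afe) (.node (nat_lit 0x1431c6768e) (.node (nat_lit 0x1431c66ace) (.leaf (nat_lit 0x1431c66abe) (nat_lit 3331))
 (.leaf (nat_lit 0x1431c66ace) (nat_lit 2051))
) (.node (nat_lit 0x1431c676fe) (.leaf (nat_lit 0x1431c6768e) (nat_lit 2564))
 (.node (nat_lit 0x1431c67a8e) (.leaf (nat_lit 0x1431c676fe) (nat_lit 3329))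
 (.leaf (nat_lit 0x1431c67a8e) (nat_lit 1795))
))) (.node (nat_lit 0x1431c76eae) (.node (nat_lit 0x1431c762ae) (.leaf (nat_lit 0x1431c67afe) (nat_lit 3075))
 (.node (nat_lit 0x1431c762de) (.leaf (nat_lit 0x1431c762ae) (nat_lit 2304))
 (.leaf (nat_lit 0x1431c762de) (nat_lit 3332))
)) (.node (nat_lit 0x1431c76ede) (.leaf (nat_lit 0x1431c76eae) (nat_lit 2820))
 (.node (nat_lit 0x1431c7729e) (.leaf (nat_lit 0x1431c76ede) (nat_lit 3073))
 (.leaf (nat_lit 0x1431c7729e) (nat_lit 3588))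
))))) (.node (nat_lit 0x1440803ae4) (.node (nat_lit 0x1440802ac4) (.node (nat_lit 0x1431c77eee) (.node (nat_lit 0x1431c77e9e) (.leaf (nat_lit 0x1431c772ee) (nat_lit 2560))
 (.leaf (nat_lit 0x1431c77e9e) (nat_lit 2817))
) (.node (nat_lit 0x1440802284) (.leaf (nat_lit 0x1431c77eee) (nat_lit 3076))
 (.node (nat_lit 0x14408022a4) (.leaf (nat_lit 0x1440802284) (nat_lit 1284))
 (.leaf (nat_lit 0x14408022a4) (nat_lit 2306))
))) (.node (nat_lit 0x1440803284) (.node (nat_lit 0x1440802ae4) (.leaf (nat_lit 0x1440802ac4) (nat_lit 3332))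
 (.leaf (nat_lit 0x1440802ae4) (nat_lit 2052))
) (.node (nat_lit 0x14408032a4) (.leaf (nat_lit 0x1440803284) (nat_lit 1540))
 (.node (nat_lit 0x1440803ac4) (.leaf (nat_lit 0x14408032a4) (nat_lit 2562))
 (.leaf (nat_lit 0x1440803ac4) (nat_lit 3076))
)))) (.node (nat_lit 0x1440813684) (.node (nat_lit 0x14408126a4) (.node (nat_lit 0x1440812684) (.leaf (nat_lit 0x1440803ae4) (nat_lit 1796))
 (.leaf (nat_lit 0x1440812684) (nat_lit 2051))
) (.node (nat_lit 0x1440812ec4) (.leaf (nat_lit 0x14408126a4) (nat_lit 3075))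
 (.node (nat_lit 0x1440812ee4) (.leaf (nat_lit 0x1440812ec4) (nat_lit 2817))
 (.leaf (nat_lit 0x1440812ee4) (nat_lit 2819))
))) (.node (nat_lit 0x1440813ee4) (.node (nat_lit 0x14408136a4) (.leaf (nat_lit 0x1440813684) (nat_lit 2307))
 (.node (nat_lit 0x1440813ec4) (.leaf (nat_lit 0x14408136a4) (nat_lit 3331))
 (.leaf (nat_lit 0x1440813ec4) (nat_lit 3073))
)) (.node (nat_lit 0x14408222d4) (.leaf (nat_lit 0x1440813ee4) (nat_lit 2563))
 (.node (nat_lit 0x14408222f4) (.leaf (nat_lit 0x14408222d4) (nat_lit 3330))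
 (.leaf (nat_lit 0x14408222f4) (nat_lit 2308))
)))))) (.node (nat_lit 0x1440843ee4) (.node (nat_lit 0x14408336d4) (.node (nat_lit 0x1440823ab4) (.node (nat_lit 0x14408232d4) (.node (nat_lit 0x1440822ab4) (.leaf (nat_lit 0x1440822a94) (nat_lit 3332))
 (.leaf (nat_lit 0x1440822ab4) (nat_lit 2819))
) (.node (nat_lit 0x14408232f4) (.leaf (nat_lit 0x14408232d4) (nat_lit 3331))
 (.node (nat_lit 0x1440823a94) (.leaf (nat_lit 0x14408232f4) (nat_lit 2564))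
 (.leaf (nat_lit 0x1440823a94) (nat_lit 3076))
))) (.node (nat_lit 0x14408326f4) (.node (nat_lit 0x14408326d4) (.leaf (nat_lit 0x1440823ab4) (nat_lit 3075))
 (.leaf (nat_lit 0x14408326d4) (nat_lit 2817))
) (.node (nat_lit 0x1440832e94) (.leaf (nat_lit 0x14408326f4) (nat_lit 2816))
 (.node (nat_lit 0x1440832eb4) (.leaf (nat_lit 0x1440832e94) (nat_lit 3330))
 (.leaf (nat_lit 0x1440832eb4) (nat_lit 2305))
)))) (.node (nat_lit 0x14408426a4) (.node (nat_lit 0x1440833e94) (.node (nat_lit 0x14408336f4) (.leaf (nat_lit 0x14408336d4) (nat_lit 2561))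
 (.leaf (nat_lit 0x14408336f4) (nat_lit 3072))
) (.node (nat_lit 0x1440833eb4) (.leaf (nat_lit 0x1440833e94) (nat_lit 3328))
 (.node (nat_lit 0x1440842684) (.leaf (nat_lit 0x1440833eb4) (nat_lit 2561))
 (.leaf (nat_lit 0x1440842684) (nat_lit 2307))
))) (.node (nat_lit 0x1440843684) (.node (nat_lit 0x1440842ec4) (.leaf (nat_lit 0x14408426a4) (nat_lit 3328))
 (.node (nat_lit 0x1440842ee4) (.leaf (nat_lit 0x1440842ec4) (nat_lit 2561))
 (.leaf (nat_lit 0x1440842ee4) (nat_lit 3075))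
)) (.node (nat_lit 0x14408436a4) (.leaf (nat_lit 0x1440843684) (nat_lit 2563))
 (.node (nat_lit 0x1440843ec4) (.leaf (nat_lit 0x14408436a4) (nat_lit 3329))
 (.leaf (nat_lit 0x1440843ec4) (nat_lit 2817))
))))) (.node (nat_lit 0x14408626f4) (.node (nat_lit 0x1440853284) (.node (nat_lit 0x14408522a4) (.node (nat_lit 0x1440852284) (.leaf (nat_lit 0x1440843ee4) (nat_lit 2819))
 (.leaf (nat_lit 0x1440852284) (nat_lit 1540))
) (.node (nat_lit 0x1440852ac4) (.leaf (nat_lit 0x14408522a4) (nat_lit 2562))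
 (.node (nat_lit 0x1440852ae4) (.leaf (nat_lit 0x1440852ac4) (nat_lit 3331))
 (.leaf (nat_lit 0x1440852ae4) (nat_lit 2308))
))) (.node (nat_lit 0x1440853ac4) (.node (nat_lit 0x14408532a4) (.leaf (nat_lit 0x1440853284) (nat_lit 1796))
 (.leaf (nat_lit 0x14408532a4) (nat_lit 2818))
) (.node (nat_lit 0x1440853ae4) (.leaf (nat_lit 0x1440853ac4) (nat_lit 3332))
 (.node (nat_lit 0x14408626d4) (.leaf (nat_lit 0x1440853ae4) (nat_lit 2052))
 (.leaf (nat_lit 0x14408626d4) (nat_lit 3073))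
)))) (.node (nat_lit 0x1440863e94) (.node (nat_lit 0x1440862eb4) (.node (nat_lit 0x1440862e94) (.leaf (nat_lit 0x14408626f4) (nat_lit 2563))
 (.leaf (nat_lit 0x1440862e94) (nat_lit 3331))
) (.node (nat_lit 0x14408636d4) (.leaf (nat_lit 0x1440862eb4) (nat_lit 2561))
 (.node (nat_lit 0x14408636f4) (.leaf (nat_lit 0x14408636d4) (nat_lit 2817))
 (.leaf (nat_lit 0x14408636f4) (nat_lit 2819))
))) (.node (nat_lit 0x14408722f4) (.node (nat_lit 0x1440863eb4) (.leaf (nat_lit 0x1440863e94) (nat_lit 3075))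
 (.node (nat_lit 0x14408722d4) (.leaf (nat_lit 0x1440863eb4) (nat_lit 2817))
 (.leaf (nat_lit 0x14408722d4) (nat_lit 3074))
)) (.node (nat_lit 0x1440872a94) (.leaf (nat_lit 0x14408722f4) (nat_lit 2052))
 (.node (nat_lit 0x1440872ab4) (.leaf (nat_lit 0x1440872a94) (nat_lit 3076))
 (.leaf (nat_lit 0x1440872ab4) (nat_lit 3072))
))))))) (.node (nat_lit 0x1440c47bc4) (.node (nat_lit 0x1440c267e4) (.node (nat_lit 0x1440c07fc4) (.node (nat_lit 0x1440c063b4) (.node (nat_lit 0x1440873a94) (.node (nat_lit 0x14408732f4) (.leaf (nat_lit 0x14408732d4) (nat_lit 3330))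
 (.leaf (nat_lit 0x14408732f4) (nat_lit 2308))
) (.node (nat_lit 0x1440873ab4) (.leaf (nat_lit 0x1440873a94) (nat_lit 2820))
 (.node (nat_lit 0x1440c06384) (.leaf (nat_lit 0x1440873ab4) (nat_lit 3328))
 (.leaf (nat_lit 0x1440c06384) (nat_lit 1028))
))) (.node (nat_lit 0x1440c06ff4) (.node (nat_lit 0x1440c06fc4) (.leaf (nat_lit 0x1440c063b4) (nat_lit 2562))
 (.leaf (nat_lit 0x1440c06fc4) (nat_lit 3331))
) (.node (nat_lit 0x1440c07384) (.leaf (nat_lit 0x1440c06ff4) (nat_lit 2308))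
 (.node (nat_lit 0x1440c073b4) (.leaf (nat_lit 0x1440c07384) (nat_lit 1284))
 (.leaf (nat_lit 0x1440c073b4) (nat_lit 2818))
)))) (.node (nat_lit 0x1440c16bf4) (.node (nat_lit 0x1440c16784) (.node (nat_lit 0x1440c07ff4) (.leaf (nat_lit 0x1440c07fc4) (nat_lit 3332))
 (.leaf (nat_lit 0x1440c07ff4) (nat_lit 2052))
) (.node (nat_lit 0x1440c167b4) (.leaf (nat_lit 0x1440c16784) (nat_lit 1795))
 (.node (nat_lit 0x1440c16bc4) (.leaf (nat_lit 0x1440c167b4) (nat_lit 3331))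
 (.leaf (nat_lit 0x1440c16bc4) (nat_lit 2561))
))) (.node (nat_lit 0x1440c17bc4) (.node (nat_lit 0x1440c17784) (.leaf (nat_lit 0x1440c16bf4) (nat_lit 3075))
 (.node (nat_lit 0x1440c177b4) (.leaf (nat_lit 0x1440c17784) (nat_lit 2051))
 (.leaf (nat_lit 0x1440c177b4) (nat_lit 3587))
)) (.node (nat_lit 0x1440c17bf4) (.leaf (nat_lit 0x1440c17bc4) (nat_lit 2817))
 (.node (nat_lit 0x1440c267d4) (.leaf (nat_lit 0x1440c17bf4) (nat_lit 2819))
 (.leaf (nat_lit 0x1440c267d4) (nat_lit 3073))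
))))) (.node (nat_lit 0x1440c36fa4) (.node (nat_lit 0x1440c27b94) (.node (nat_lit 0x1440c26ba4) (.node (nat_lit 0x1440c26b94) (.leaf (nat_lit 0x1440c267e4) (nat_lit 2560))
 (.leaf (nat_lit 0x1440c26b94) (nat_lit 3074))
) (.node (nat_lit 0x1440c277d4) (.leaf (nat_lit 0x1440c26ba4) (nat_lit 2049))
 (.node (nat_lit 0x1440c277e4) (.leaf (nat_lit 0x1440c277d4) (nat_lit 2817))
 (.leaf (nat_lit 0x1440c277e4) (nat_lit 2816))
))) (.node (nat_lit 0x1440c363d4) (.node (nat_lit 0x1440c27ba4) (.leaf (nat_lit 0x1440c27b94) (nat_lit 3330))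
 (.leaf (nat_lit 0x1440c27ba4) (nat_lit 2305))
) (.node (nat_lit 0x1440c363e4) (.leaf (nat_lit 0x1440c363d4) (nat_lit 3330))
 (.node (nat_lit 0x1440c36f94) (.leaf (nat_lit 0x1440c363e4) (nat_lit 2052))
 (.leaf (nat_lit 0x1440c36f94) (nat_lit 3076))
)))) (.node (nat_lit 0x1440c46784) (.node (nat_lit 0x1440c373e4) (.node (nat_lit 0x1440c373d4) (.leaf (nat_lit 0x1440c36fa4) (nat_lit 2563))
 (.leaf (nat_lit 0x1440c373d4) (nat_lit 3331))
) (.node (nat_lit 0x1440c37f94) (.leaf (nat_lit 0x1440c373e4) (nat_lit 2308))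
 (.node (nat_lit 0x1440c37fa4) (.leaf (nat_lit 0x1440c37f94) (nat_lit 2820))
 (.leaf (nat_lit 0x1440c37fa4) (nat_lit 2819))
))) (.node (nat_lit 0x1440c46bf4) (.node (nat_lit 0x1440c467b4) (.leaf (nat_lit 0x1440c46784) (nat_lit 2051))
 (.node (nat_lit 0x1440c46bc4) (.leaf (nat_lit 0x1440c467b4) (nat_lit 3585))
 (.leaf (nat_lit 0x1440c46bc4) (nat_lit 2305))
)) (.node (nat_lit 0x1440c47784) (.leaf (nat_lit 0x1440c46bf4) (nat_lit 3331))
 (.node (nat_lit 0x1440c477b4) (.leaf (nat_lit 0x1440c47784) (nat_lit 2307))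
 (.leaf (nat_lit 0x1440c477b4) (nat_lit 3329))
)))))) (.node (nat_lit 0x1440c76ba4) (.node (nat_lit 0x1440c663d4) (.node (nat_lit 0x1440c56ff4) (.node (nat_lit 0x1440c56384) (.node (nat_lit 0x1440c47bf4) (.leaf (nat_lit 0x1440c47bc4) (nat_lit 2561))
 (.leaf (nat_lit 0x1440c47bf4) (nat_lit 3075))
) (.node (nat_lit 0x1440c563b4) (.leaf (nat_lit 0x1440c56384) (nat_lit 1284))
 (.node (nat_lit 0x1440c56fc4) (.leaf (nat_lit 0x1440c563b4) (nat_lit 2818))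
 (.leaf (nat_lit 0x1440c56fc4) (nat_lit 3075))
))) (.node (nat_lit 0x1440c573b4) (.node (nat_lit 0x1440c57384) (.leaf (nat_lit 0x1440c56ff4) (nat_lit 2564))
 (.leaf (nat_lit 0x1440c57384) (nat_lit 1540))
) (.node (nat_lit 0x1440c57fc4) (.leaf (nat_lit 0x1440c573b4) (nat_lit 3074))
 (.node (nat_lit 0x1440c57ff4) (.leaf (nat_lit 0x1440c57fc4) (nat_lit 3331))
 (.leaf (nat_lit 0x1440c57ff4) (nat_lit 2308))
)))) (.node (nat_lit 0x1440c673e4) (.node (nat_lit 0x1440c66f94) (.node (nat_lit 0x1440c663e4) (.leaf (nat_lit 0x1440c663d4) (nat_lit 3074))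
 (.leaf (nat_lit 0x1440c663e4) (nat_lit 1796))
) (.node (nat_lit 0x1440c66fa4) (.leaf (nat_lit 0x1440c66f94) (nat_lit 2820))
 (.node (nat_lit 0x1440c673d4) (.leaf (nat_lit 0x1440c66fa4) (nat_lit 2816))
 (.leaf (nat_lit 0x1440c673d4) (nat_lit 3330))
))) (.node (nat_lit 0x1440c767d4) (.node (nat_lit 0x1440c67f94) (.leaf (nat_lit 0x1440c673e4) (nat_lit 2052))
 (.node (nat_lit 0x1440c67fa4) (.leaf (nat_lit 0x1440c67f94) (nat_lit 2564))
 (.leaf (nat_lit 0x1440c67fa4) (nat_lit 3072))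
)) (.node (nat_lit 0x1440c767e4) (.leaf (nat_lit 0x1440c767d4) (nat_lit 3329))
 (.node (nat_lit 0x1440c76b94) (.leaf (nat_lit 0x1440c767e4) (nat_lit 2307))
 (.leaf (nat_lit 0x1440c76b94) (nat_lit 3331))
))))) (.node (nat_lit 0x14418033e4) (.node (nat_lit 0x1441802384) (.node (nat_lit 0x1440c777e4) (.node (nat_lit 0x1440c777d4) (.leaf (nat_lit 0x1440c76ba4) (nat_lit 2305))
 (.leaf (nat_lit 0x1440c777d4) (nat_lit 3073))
) (.node (nat_lit 0x1440c77b94) (.leaf (nat_lit 0x1440c777e4) (nat_lit 2563))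
 (.node (nat_lit 0x1440c77ba4) (.leaf (nat_lit 0x1440c77b94) (nat_lit 3075))
 (.leaf (nat_lit 0x1440c77ba4) (nat_lit 2561))
))) (.node (nat_lit 0x1441802ba4) (.node (nat_lit 0x14418023e4) (.leaf (nat_lit 0x1441802384) (nat_lit 1538))
 (.leaf (nat_lit 0x14418023e4) (nat_lit 2050))
) (.node (nat_lit 0x1441802bc4) (.leaf (nat_lit 0x1441802ba4) (nat_lit 2052))
 (.node (nat_lit 0x1441803384) (.leaf (nat_lit 0x1441802bc4) (nat_lit 2820))
 (.leaf (nat_lit 0x1441803384) (nat_lit 1794))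
)))) (.node (nat_lit 0x1441812fa4) (.node (nat_lit 0x1441803bc4) (.node (nat_lit 0x1441803ba4) (.leaf (nat_lit 0x14418033e4) (nat_lit 2306))
 (.leaf (nat_lit 0x1441803ba4) (nat_lit 2308))
) (.node (nat_lit 0x1441812784) (.leaf (nat_lit 0x1441803bc4) (nat_lit 3076))
 (.node (nat_lit 0x14418127e4) (.leaf (nat_lit 0x1441812784) (nat_lit 2051))
 (.leaf (nat_lit 0x14418127e4) (nat_lit 2819))
))) (.node (nat_lit 0x14418137e4) (.node (nat_lit 0x1441812fc4) (.leaf (nat_lit 0x1441812fa4) (nat_lit 2819))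
 (.node (nat_lit 0x1441813784) (.leaf (nat_lit 0x1441812fc4) (nat_lit 3330))
 (.leaf (nat_lit 0x1441813784) (nat_lit 2307))
)) (.node (nat_lit 0x1441813fa4) (.leaf (nat_lit 0x14418137e4) (nat_lit 3075))
 (.node (nat_lit 0x1441813fc4) (.leaf (nat_lit 0x1441813fa4) (nat_lit 3075))
 (.leaf (nat_lit 0x1441813fc4) (nat_lit 3074))
))))))))) (.node (nat_lit 0x146047c92e) (.node (nat_lit 0x1441c47684) (.node (nat_lit 0x1441872f94) (.node (nat_lit 0x14418437e4) (.node (nat_lit 0x1441832b94) (.node (nat_lit 0x14418237d4) (.node (nat_lit 0x1441822f94) (.node (nat_lit 0x14418227d4) (.leaf (nat_lit 0x14418227b4) (nat_lit 2819))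
 (.leaf (nat_lit 0x14418227d4) (nat_lit 3329))
) (.node (nat_lit 0x1441822ff4) (.leaf (nat_lit 0x1441822f94) (nat_lit 3331))
 (.node (nat_lit 0x14418237b4) (.leaf (nat_lit 0x1441822ff4) (nat_lit 2818))
 (.leaf (nat_lit 0x14418237b4) (nat_lit 3075))
))) (.node (nat_lit 0x1441823ff4) (.node (nat_lit 0x1441823f94) (.leaf (nat_lit 0x14418237d4) (nat_lit 3073))
 (.leaf (nat_lit 0x1441823f94) (nat_lit 3330))
) (.node (nat_lit 0x14418323b4) (.leaf (nat_lit 0x1441823ff4) (nat_lit 2562))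
 (.node (nat_lit 0x14418323d4) (.leaf (nat_lit 0x14418323b4) (nat_lit 2308))
 (.leaf (nat_lit 0x14418323d4) (nat_lit 2818))
)))) (.node (nat_lit 0x1441833bf4) (.node (nat_lit 0x14418333b4) (.node (nat_lit 0x1441832bf4) (.leaf (nat_lit 0x1441832b94) (nat_lit 3076))
 (.leaf (nat_lit 0x1441832bf4) (nat_lit 3328))
) (.node (nat_lit 0x14418333d4) (.leaf (nat_lit 0x14418333b4) (nat_lit 2564))
 (.node (nat_lit 0x1441833b94) (.leaf (nat_lit 0x14418333d4) (nat_lit 3074))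
 (.leaf (nat_lit 0x1441833b94) (nat_lit 3332))
))) (.node (nat_lit 0x1441842fa4) (.node (nat_lit 0x1441842784) (.leaf (nat_lit 0x1441833bf4) (nat_lit 3072))
 (.node (nat_lit 0x14418427e4) (.leaf (nat_lit 0x1441842784) (nat_lit 2304))
 (.leaf (nat_lit 0x14418427e4) (nat_lit 3072))
)) (.node (nat_lit 0x1441842fc4) (.leaf (nat_lit 0x1441842fa4) (nat_lit 3072))
 (.node (nat_lit 0x1441843784) (.leaf (nat_lit 0x1441842fc4) (nat_lit 3074))
 (.leaf (nat_lit 0x1441843784) (nat_lit 2560))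
))))) (.node (nat_lit 0x1441853bc4) (.node (nat_lit 0x1441852ba4) (.node (nat_lit 0x1441843fc4) (.node (nat_lit 0x1441843fa4) (.leaf (nat_lit 0x14418437e4) (nat_lit 3328))
 (.leaf (nat_lit 0x1441843fa4) (nat_lit 3328))
) (.node (nat_lit 0x1441852384) (.leaf (nat_lit 0x1441843fc4) (nat_lit 2818))
 (.node (nat_lit 0x14418523e4) (.leaf (nat_lit 0x1441852384) (nat_lit 1794))
 (.leaf (nat_lit 0x14418523e4) (nat_lit 2306))
))) (.node (nat_lit 0x1441853384) (.node (nat_lit 0x1441852bc4) (.leaf (nat_lit 0x1441852ba4) (nat_lit 2308))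
 (.leaf (nat_lit 0x1441852bc4) (nat_lit 3076))
) (.node (nat_lit 0x14418533e4) (.leaf (nat_lit 0x1441853384) (nat_lit 2050))
 (.node (nat_lit 0x1441853ba4) (.leaf (nat_lit 0x14418533e4) (nat_lit 2562))
 (.leaf (nat_lit 0x1441853ba4) (nat_lit 2564))
)))) (.node (nat_lit 0x14418633b4) (.node (nat_lit 0x14418623d4) (.node (nat_lit 0x14418623b4) (.leaf (nat_lit 0x1441853bc4) (nat_lit 3332))
 (.leaf (nat_lit 0x14418623b4) (nat_lit 2564))
) (.node (nat_lit 0x1441862b94) (.leaf (nat_lit 0x14418623d4) (nat_lit 3074))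
 (.node (nat_lit 0x1441862bf4) (.leaf (nat_lit 0x1441862b94) (nat_lit 3332))
 (.leaf (nat_lit 0x1441862bf4) (nat_lit 3075))
))) (.node (nat_lit 0x1441863bf4) (.node (nat_lit 0x14418633d4) (.leaf (nat_lit 0x14418633b4) (nat_lit 2820))
 (.node (nat_lit 0x1441863b94) (.leaf (nat_lit 0x14418633d4) (nat_lit 3330))
 (.leaf (nat_lit 0x1441863b94) (nat_lit 3331))
)) (.node (nat_lit 0x14418727b4) (.leaf (nat_lit 0x1441863bf4) (nat_lit 2819))
 (.node (nat_lit 0x14418727d4) (.leaf (nat_lit 0x14418727b4) (nat_lit 3072))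
 (.leaf (nat_lit 0x14418727d4) (nat_lit 3073))
)))))) (.node (nat_lit 0x1441c17ac4) (.node (nat_lit 0x1441c07284) (.node (nat_lit 0x1441873ff4) (.node (nat_lit 0x14418737b4) (.node (nat_lit 0x1441872ff4) (.leaf (nat_lit 0x1441872f94) (nat_lit 3330))
 (.leaf (nat_lit 0x1441872ff4) (nat_lit 2562))
) (.node (nat_lit 0x14418737d4) (.leaf (nat_lit 0x14418737b4) (nat_lit 3328))
 (.node (nat_lit 0x1441873f94) (.leaf (nat_lit 0x14418737d4) (nat_lit 2817))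
 (.leaf (nat_lit 0x1441873f94) (nat_lit 3074))
))) (.node (nat_lit 0x1441c062f4) (.node (nat_lit 0x1441c06284) (.leaf (nat_lit 0x1441873ff4) (nat_lit 2306))
 (.leaf (nat_lit 0x1441c06284) (nat_lit 1282))
) (.node (nat_lit 0x1441c06eb4) (.leaf (nat_lit 0x1441c062f4) (nat_lit 2306))
 (.node (nat_lit 0x1441c06ec4) (.leaf (nat_lit 0x1441c06eb4) (nat_lit 2308))
 (.leaf (nat_lit 0x1441c06ec4) (nat_lit 3076))
)))) (.node (nat_lit 0x1441c166f4) (.node (nat_lit 0x1441c07eb4) (.node (nat_lit 0x1441c072f4) (.leaf (nat_lit 0x1441c07284) (nat_lit 1538))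
 (.leaf (nat_lit 0x1441c072f4) (nat_lit 2562))
) (.node (nat_lit 0x1441c07ec4) (.leaf (nat_lit 0x1441c07eb4) (nat_lit 2564))
 (.node (nat_lit 0x1441c16684) (.leaf (nat_lit 0x1441c07ec4) (nat_lit 3332))
 (.leaf (nat_lit 0x1441c16684) (nat_lit 2051))
))) (.node (nat_lit 0x1441c17684) (.node (nat_lit 0x1441c16ab4) (.leaf (nat_lit 0x1441c166f4) (nat_lit 3075))
 (.node (nat_lit 0x1441c16ac4) (.leaf (nat_lit 0x1441c16ab4) (nat_lit 3075))
 (.leaf (nat_lit 0x1441c16ac4) (nat_lit 3074))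
)) (.node (nat_lit 0x1441c176f4) (.leaf (nat_lit 0x1441c17684) (nat_lit 2307))
 (.node (nat_lit 0x1441c17ab4) (.leaf (nat_lit 0x1441c176f4) (nat_lit 3331))
 (.leaf (nat_lit 0x1441c17ab4) (nat_lit 3331))
))))) (.node (nat_lit 0x1441c366d4) (.node (nat_lit 0x1441c272a4) (.node (nat_lit 0x1441c262d4) (.node (nat_lit 0x1441c262a4) (.leaf (nat_lit 0x1441c17ac4) (nat_lit 2818))
 (.leaf (nat_lit 0x1441c262a4) (nat_lit 2052))
) (.node (nat_lit 0x1441c26e94) (.leaf (nat_lit 0x1441c262d4) (nat_lit 3074))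
 (.node (nat_lit 0x1441c26ee4) (.leaf (nat_lit 0x1441c26e94) (nat_lit 2820))
 (.leaf (nat_lit 0x1441c26ee4) (nat_lit 3072))
))) (.node (nat_lit 0x1441c27e94) (.node (nat_lit 0x1441c272d4) (.leaf (nat_lit 0x1441c272a4) (nat_lit 2308))
 (.leaf (nat_lit 0x1441c272d4) (nat_lit 3330))
) (.node (nat_lit 0x1441c27ee4) (.leaf (nat_lit 0x1441c27e94) (nat_lit 3076))
 (.node (nat_lit 0x1441c366a4) (.leaf (nat_lit 0x1441c27ee4) (nat_lit 2816))
 (.leaf (nat_lit 0x1441c366a4) (nat_lit 2563))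
)))) (.node (nat_lit 0x1441c37a94) (.node (nat_lit 0x1441c36ae4) (.node (nat_lit 0x1441c36a94) (.leaf (nat_lit 0x1441c366d4) (nat_lit 3332))
 (.leaf (nat_lit 0x1441c36a94) (nat_lit 3330))
) (.node (nat_lit 0x1441c376a4) (.leaf (nat_lit 0x1441c36ae4) (nat_lit 2562))
 (.node (nat_lit 0x1441c376d4) (.leaf (nat_lit 0x1441c376a4) (nat_lit 2819))
 (.leaf (nat_lit 0x1441c376d4) (nat_lit 3076))
))) (.node (nat_lit 0x1441c466f4) (.node (nat_lit 0x1441c37ae4) (.leaf (nat_lit 0x1441c37a94) (nat_lit 3074))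
 (.node (nat_lit 0x1441c46684) (.leaf (nat_lit 0x1441c37ae4) (nat_lit 2306))
 (.leaf (nat_lit 0x1441c46684) (nat_lit 2307))
)) (.node (nat_lit 0x1441c46ab4) (.leaf (nat_lit 0x1441c466f4) (nat_lit 3328))
 (.node (nat_lit 0x1441c46ac4) (.leaf (nat_lit 0x1441c46ab4) (nat_lit 3328))
 (.leaf (nat_lit 0x1441c46ac4) (nat_lit 2818))
))))))) (.node (nat_lit 0x146041dd2e) (.node (nat_lit 0x1441c762d4) (.node (nat_lit 0x1441c57eb4) (.node (nat_lit 0x1441c562f4) (.node (nat_lit 0x1441c47ab4) (.node (nat_lit 0x1441c476f4) (.leaf (nat_lit 0x1441c47684) (nat_lit 2563))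
 (.leaf (nat_lit 0x1441c476f4) (nat_lit 3584))
) (.node (nat_lit 0x1441c47ac4) (.leaf (nat_lit 0x1441c47ab4) (nat_lit 3584))
 (.node (nat_lit 0x1441c56284) (.leaf (nat_lit 0x1441c47ac4) (nat_lit 2562))
 (.leaf (nat_lit 0x1441c56284) (nat_lit 1538))
))) (.node (nat_lit 0x1441c56ec4) (.node (nat_lit 0x1441c56eb4) (.leaf (nat_lit 0x1441c562f4) (nat_lit 2562))
 (.leaf (nat_lit 0x1441c56eb4) (nat_lit 2564))
) (.node (nat_lit 0x1441c57284) (.leaf (nat_lit 0x1441c56ec4) (nat_lit 3331))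
 (.node (nat_lit 0x1441c572f4) (.leaf (nat_lit 0x1441c57284) (nat_lit 1794))
 (.leaf (nat_lit 0x1441c572f4) (nat_lit 2818))
)))) (.node (nat_lit 0x1441c66ae4) (.node (nat_lit 0x1441c666a4) (.node (nat_lit 0x1441c57ec4) (.leaf (nat_lit 0x1441c57eb4) (nat_lit 2820))
 (.leaf (nat_lit 0x1441c57ec4) (nat_lit 3075))
) (.node (nat_lit 0x1441c666d4) (.leaf (nat_lit 0x1441c666a4) (nat_lit 2816))
 (.node (nat_lit 0x1441c66a94) (.leaf (nat_lit 0x1441c666d4) (nat_lit 3076))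
 (.leaf (nat_lit 0x1441c66a94) (nat_lit 3074))
))) (.node (nat_lit 0x1441c67a94) (.node (nat_lit 0x1441c676a4) (.leaf (nat_lit 0x1441c66ae4) (nat_lit 2306))
 (.node (nat_lit 0x1441c676d4) (.leaf (nat_lit 0x1441c676a4) (nat_lit 3072))
 (.leaf (nat_lit 0x1441c676d4) (nat_lit 2820))
)) (.node (nat_lit 0x1441c67ae4) (.leaf (nat_lit 0x1441c67a94) (nat_lit 2818))
 (.node (nat_lit 0x1441c762a4) (.leaf (nat_lit 0x1441c67ae4) (nat_lit 2050))
 (.leaf (nat_lit 0x1441c762a4) (nat_lit 2308))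
))))) (.node (nat_lit 0x146040c57e) (.node (nat_lit 0x1441c77e94) (.node (nat_lit 0x1441c76ee4) (.node (nat_lit 0x1441c76e94) (.leaf (nat_lit 0x1441c762d4) (nat_lit 3330))
 (.leaf (nat_lit 0x1441c76e94) (nat_lit 3076))
) (.node (nat_lit 0x1441c772a4) (.leaf (nat_lit 0x1441c76ee4) (nat_lit 2819))
 (.node (nat_lit 0x1441c772d4) (.leaf (nat_lit 0x1441c772a4) (nat_lit 2564))
 (.leaf (nat_lit 0x1441c772d4) (nat_lit 3586))
))) (.node (nat_lit 0x146040c10e) (.node (nat_lit 0x1441c77ee4) (.leaf (nat_lit 0x1441c77e94) (nat_lit 3332))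
 (.leaf (nat_lit 0x1441c77ee4) (nat_lit 2563))
) (.node (nat_lit 0x146040c11e) (.leaf (nat_lit 0x146040c10e) (nat_lit 1028))
 (.node (nat_lit 0x146040c56e) (.leaf (nat_lit 0x146040c11e) (nat_lit 2818))
 (.leaf (nat_lit 0x146040c56e) (nat_lit 2819))
)))) (.node (nat_lit 0x146041c14e) (.node (nat_lit 0x146040d91e) (.node (nat_lit 0x146040d90e) (.leaf (nat_lit 0x146040c57e) (nat_lit 2564))
 (.leaf (nat_lit 0x146040d90e) (nat_lit 1284))
) (.node (nat_lit 0x146040dd6e) (.leaf (nat_lit 0x146040d91e) (nat_lit 3330))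
 (.node (nat_lit 0x146040dd7e) (.leaf (nat_lit 0x146040dd6e) (nat_lit 3328))
 (.leaf (nat_lit 0x146040dd7e) (nat_lit 1796))
))) (.node (nat_lit 0x146041c53e) (.node (nat_lit 0x146041c15e) (.leaf (nat_lit 0x146041c14e) (nat_lit 1540))
 (.node (nat_lit 0x146041c52e) (.leaf (nat_lit 0x146041c15e) (nat_lit 3330))
 (.leaf (nat_lit 0x146041c52e) (nat_lit 2307))
)) (.node (nat_lit 0x146041d94e) (.leaf (nat_lit 0x146041c53e) (nat_lit 3076))
 (.node (nat_lit 0x146041d95e) (.leaf (nat_lit 0x146041d94e) (nat_lit 1796))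
 (.leaf (nat_lit 0x146041d95e) (nat_lit 3331))
)))))) (.node (nat_lit 0x146044c53e) (.node (nat_lit 0x146043c96e) (.node (nat_lit 0x146042cd5e) (.node (nat_lit 0x146042c92e) (.node (nat_lit 0x146041dd3e) (.leaf (nat_lit 0x146041dd2e) (nat_lit 2819))
 (.leaf (nat_lit 0x146041dd3e) (nat_lit 2308))
) (.node (nat_lit 0x146042c93e) (.leaf (nat_lit 0x146042c92e) (nat_lit 1537))
 (.node (nat_lit 0x146042cd4e) (.leaf (nat_lit 0x146042c93e) (nat_lit 3330))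
 (.leaf (nat_lit 0x146042cd4e) (nat_lit 2048))
))) (.node (nat_lit 0x146042d13e) (.node (nat_lit 0x146042d12e) (.leaf (nat_lit 0x146042cd5e) (nat_lit 3073))
 (.leaf (nat_lit 0x146042d12e) (nat_lit 2305))
) (.node (nat_lit 0x146042d54e) (.leaf (nat_lit 0x146042d13e) (nat_lit 2816))
 (.node (nat_lit 0x146042d55e) (.leaf (nat_lit 0x146042d54e) (nat_lit 2563))
 (.leaf (nat_lit 0x146042d55e) (nat_lit 2561))
)))) (.node (nat_lit 0x146043d17e) (.node (nat_lit 0x146043cd0e) (.node (nat_lit 0x146043c97e) (.leaf (nat_lit 0x146043c96e) (nat_lit 2049))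
 (.leaf (nat_lit 0x146043c97e) (nat_lit 3075))
) (.node (nat_lit 0x146043cd1e) (.leaf (nat_lit 0x146043cd0e) (nat_lit 1539))
 (.node (nat_lit 0x146043d16e) (.leaf (nat_lit 0x146043cd1e) (nat_lit 3331))
 (.leaf (nat_lit 0x146043d16e) (nat_lit 2817))
))) (.node (nat_lit 0x146044c14e) (.node (nat_lit 0x146043d50e) (.leaf (nat_lit 0x146043d17e) (nat_lit 2307))
 (.node (nat_lit 0x146043d51e) (.leaf (nat_lit 0x146043d50e) (nat_lit 2051))
 (.leaf (nat_lit 0x146043d51e) (nat_lit 3073))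
)) (.node (nat_lit 0x146044c15e) (.leaf (nat_lit 0x146044c14e) (nat_lit 1284))
 (.node (nat_lit 0x146044c52e) (.leaf (nat_lit 0x146044c15e) (nat_lit 3074))
 (.leaf (nat_lit 0x146044c52e) (nat_lit 2563))
))))) (.node (nat_lit 0x146045d91e) (.node (nat_lit 0x146045c10e) (.node (nat_lit 0x146044d95e) (.node (nat_lit 0x146044d94e) (.leaf (nat_lit 0x146044c53e) (nat_lit 2820))
 (.leaf (nat_lit 0x146044d94e) (nat_lit 1540))
) (.node (nat_lit 0x146044dd2e) (.leaf (nat_lit 0x146044d95e) (nat_lit 3586))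
 (.node (nat_lit 0x146044dd3e) (.leaf (nat_lit 0x146044dd2e) (nat_lit 3072))
 (.leaf (nat_lit 0x146044dd3e) (nat_lit 2052))
))) (.node (nat_lit 0x146045c56e) (.node (nat_lit 0x146045c11e) (.leaf (nat_lit 0x146045c10e) (nat_lit 1284))
 (.leaf (nat_lit 0x146045c11e) (nat_lit 3074))
) (.node (nat_lit 0x146045c57e) (.leaf (nat_lit 0x146045c56e) (nat_lit 2563))
 (.node (nat_lit 0x146045d90e) (.leaf (nat_lit 0x146045c57e) (nat_lit 2820))
 (.leaf (nat_lit 0x146045d90e) (nat_lit 1540))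
)))) (.node (nat_lit 0x146046cd0e) (.node (nat_lit 0x146045dd7e) (.node (nat_lit 0x146045dd6e) (.leaf (nat_lit 0x146045d91e) (nat_lit 3587))
 (.leaf (nat_lit 0x146045dd6e) (nat_lit 3075))
) (.node (nat_lit 0x146046c96e) (.leaf (nat_lit 0x146045dd7e) (nat_lit 2052))
 (.node (nat_lit 0x146046c97e) (.leaf (nat_lit 0x146046c96e) (nat_lit 1793))
 (.leaf (nat_lit 0x146046c97e) (nat_lit 3328))
))) (.node (nat_lit 0x146046d17e) (.node (nat_lit 0x146046cd1e) (.leaf (nat_lit 0x146046cd0e) (nat_lit 1792))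
 (.node (nat_lit 0x146046d16e) (.leaf (nat_lit 0x146046cd1e) (nat_lit 3329))
 (.leaf (nat_lit 0x146046d16e) (nat_lit 2561))
)) (.node (nat_lit 0x146046d50e) (.leaf (nat_lit 0x146046d17e) (nat_lit 2560))
 (.node (nat_lit 0x146046d51e) (.leaf (nat_lit 0x146046d50e) (nat_lit 2307))
 (.leaf (nat_lit 0x146046d51e) (nat_lit 2817))
)))))))) (.node (nat_lit 0x146101313e) (.node (nat_lit 0x1460842ede) (.node (nat_lit 0x14608136fe) (.node (nat_lit 0x1460802ace) (.node (nat_lit 0x146047d13e) (.node (nat_lit 0x146047cd4e) (.node (nat_lit 0x146047c93e) (.leaf (nat_lit 0x146047c92e) (nat_lit 1793))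
 (.leaf (nat_lit 0x146047c93e) (nat_lit 3331))
) (.node (nat_lit 0x146047cd5e) (.leaf (nat_lit 0x146047cd4e) (nat_lit 1795))
 (.node (nat_lit 0x146047d12e) (.leaf (nat_lit 0x146047cd5e) (nat_lit 3329))
 (.leaf (nat_lit 0x146047d12e) (nat_lit 2561))
))) (.node (nat_lit 0x146047d55e) (.node (nat_lit 0x146047d54e) (.leaf (nat_lit 0x146047d13e) (nat_lit 2563))
 (.leaf (nat_lit 0x146047d54e) (nat_lit 2307))
) (.node (nat_lit 0x146080228e) (.leaf (nat_lit 0x146047d55e) (nat_lit 2817))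
 (.node (nat_lit 0x14608022ae) (.leaf (nat_lit 0x146080228e) (nat_lit 1284))
 (.leaf (nat_lit 0x14608022ae) (nat_lit 2308))
)))) (.node (nat_lit 0x1460803aae) (.node (nat_lit 0x14608032ce) (.node (nat_lit 0x1460802aee) (.leaf (nat_lit 0x1460802ace) (nat_lit 1796))
 (.leaf (nat_lit 0x1460802aee) (nat_lit 3076))
) (.node (nat_lit 0x14608032ee) (.leaf (nat_lit 0x14608032ce) (nat_lit 1540))
 (.node (nat_lit 0x1460803a8e) (.leaf (nat_lit 0x14608032ee) (nat_lit 2564))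
 (.leaf (nat_lit 0x1460803a8e) (nat_lit 1540))
))) (.node (nat_lit 0x1460812ede) (.node (nat_lit 0x146081269e) (.leaf (nat_lit 0x1460803aae) (nat_lit 2820))
 (.node (nat_lit 0x14608126be) (.leaf (nat_lit 0x146081269e) (nat_lit 2305))
 (.leaf (nat_lit 0x14608126be) (nat_lit 3329))
)) (.node (nat_lit 0x1460812efe) (.leaf (nat_lit 0x1460812ede) (nat_lit 3073))
 (.node (nat_lit 0x14608136de) (.leaf (nat_lit 0x1460812efe) (nat_lit 2560))
 (.leaf (nat_lit 0x14608136de) (nat_lit 2561))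
))))) (.node (nat_lit 0x1460823afe) (.node (nat_lit 0x1460822a9e) (.node (nat_lit 0x1460813ebe) (.node (nat_lit 0x1460813e9e) (.leaf (nat_lit 0x14608136fe) (nat_lit 3328))
 (.leaf (nat_lit 0x1460813e9e) (nat_lit 2817))
) (.node (nat_lit 0x14608222de) (.leaf (nat_lit 0x1460813ebe) (nat_lit 2816))
 (.node (nat_lit 0x14608222fe) (.leaf (nat_lit 0x14608222de) (nat_lit 3330))
 (.leaf (nat_lit 0x14608222fe) (nat_lit 2304))
))) (.node (nat_lit 0x146082329e) (.node (nat_lit 0x1460822abe) (.leaf (nat_lit 0x1460822a9e) (nat_lit 3075))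
 (.leaf (nat_lit 0x1460822abe) (nat_lit 3076))
) (.node (nat_lit 0x14608232be) (.leaf (nat_lit 0x146082329e) (nat_lit 3586))
 (.node (nat_lit 0x1460823ade) (.leaf (nat_lit 0x14608232be) (nat_lit 2560))
 (.leaf (nat_lit 0x1460823ade) (nat_lit 3331))
)))) (.node (nat_lit 0x146083368e) (.node (nat_lit 0x14608326ee) (.node (nat_lit 0x14608326ce) (.leaf (nat_lit 0x1460823afe) (nat_lit 2820))
 (.leaf (nat_lit 0x14608326ce) (nat_lit 2563))
) (.node (nat_lit 0x1460832e8e) (.leaf (nat_lit 0x14608326ee) (nat_lit 3073))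
 (.node (nat_lit 0x1460832eae) (.leaf (nat_lit 0x1460832e8e) (nat_lit 2051))
 (.leaf (nat_lit 0x1460832eae) (nat_lit 3075))
))) (.node (nat_lit 0x1460833eee) (.node (nat_lit 0x14608336ae) (.leaf (nat_lit 0x146083368e) (nat_lit 2307))
 (.node (nat_lit 0x1460833ece) (.leaf (nat_lit 0x14608336ae) (nat_lit 3329))
 (.leaf (nat_lit 0x1460833ece) (nat_lit 2307))
)) (.node (nat_lit 0x146084269e) (.leaf (nat_lit 0x1460833eee) (nat_lit 3331))
 (.node (nat_lit 0x14608426be) (.leaf (nat_lit 0x146084269e) (nat_lit 2561))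
 (.leaf (nat_lit 0x14608426be) (nat_lit 3331))
)))))) (.node (nat_lit 0x1460863eee) (.node (nat_lit 0x14608532ce) (.node (nat_lit 0x1460843ebe) (.node (nat_lit 0x14608436de) (.node (nat_lit 0x1460842efe) (.leaf (nat_lit 0x1460842ede) (nat_lit 3329))
 (.leaf (nat_lit 0x1460842efe) (nat_lit 2307))
) (.node (nat_lit 0x14608436fe) (.leaf (nat_lit 0x14608436de) (nat_lit 2817))
 (.node (nat_lit 0x1460843e9e) (.leaf (nat_lit 0x14608436fe) (nat_lit 3075))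
 (.leaf (nat_lit 0x1460843e9e) (nat_lit 3073))
))) (.node (nat_lit 0x14608522ae) (.node (nat_lit 0x146085228e) (.leaf (nat_lit 0x1460843ebe) (nat_lit 2563))
 (.leaf (nat_lit 0x146085228e) (nat_lit 1540))
) (.node (nat_lit 0x1460852ace) (.leaf (nat_lit 0x14608522ae) (nat_lit 2564))
 (.node (nat_lit 0x1460852aee) (.leaf (nat_lit 0x1460852ace) (nat_lit 2052))
 (.leaf (nat_lit 0x1460852aee) (nat_lit 3332))
)))) (.node (nat_lit 0x14608626ee) (.node (nat_lit 0x1460853a8e) (.node (nat_lit 0x14608532ee) (.leaf (nat_lit 0x14608532ce) (nat_lit 1796))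
 (.leaf (nat_lit 0x14608532ee) (nat_lit 2820))
) (.node (nat_lit 0x1460853aae) (.leaf (nat_lit 0x1460853a8e) (nat_lit 1796))
 (.node (nat_lit 0x14608626ce) (.leaf (nat_lit 0x1460853aae) (nat_lit 3076))
 (.leaf (nat_lit 0x14608626ce) (nat_lit 2819))
))) (.node (nat_lit 0x146086368e) (.node (nat_lit 0x1460862e8e) (.leaf (nat_lit 0x14608626ee) (nat_lit 2817))
 (.node (nat_lit 0x1460862eae) (.leaf (nat_lit 0x1460862e8e) (nat_lit 2304))
 (.leaf (nat_lit 0x1460862eae) (nat_lit 3328))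
)) (.node (nat_lit 0x14608636ae) (.leaf (nat_lit 0x146086368e) (nat_lit 2563))
 (.node (nat_lit 0x1460863ece) (.leaf (nat_lit 0x14608636ae) (nat_lit 3073))
 (.leaf (nat_lit 0x1460863ece) (nat_lit 2560))
))))) (.node (nat_lit 0x146100214e) (.node (nat_lit 0x146087329e) (.node (nat_lit 0x14608722fe) (.node (nat_lit 0x14608722de) (.leaf (nat_lit 0x1460863eee) (nat_lit 3329))
 (.leaf (nat_lit 0x14608722de) (nat_lit 3074))
) (.node (nat_lit 0x1460872a9e) (.leaf (nat_lit 0x14608722fe) (nat_lit 2051))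
 (.node (nat_lit 0x1460872abe) (.leaf (nat_lit 0x1460872a9e) (nat_lit 3331))
 (.leaf (nat_lit 0x1460872abe) (nat_lit 2820))
))) (.node (nat_lit 0x1460873ade) (.node (nat_lit 0x14608732be) (.leaf (nat_lit 0x146087329e) (nat_lit 3330))
 (.leaf (nat_lit 0x14608732be) (nat_lit 2307))
) (.node (nat_lit 0x1460873afe) (.leaf (nat_lit 0x1460873ade) (nat_lit 3330))
 (.node (nat_lit 0x146100210e) (.leaf (nat_lit 0x1460873afe) (nat_lit 2564))
 (.leaf (nat_lit 0x146100210e) (nat_lit 1538))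
)))) (.node (nat_lit 0x146100390e) (.node (nat_lit 0x146100296e) (.node (nat_lit 0x146100292e) (.leaf (nat_lit 0x146100214e) (nat_lit 1794))
 (.leaf (nat_lit 0x146100292e) (nat_lit 2305))
) (.node (nat_lit 0x146100312e) (.leaf (nat_lit 0x146100296e) (nat_lit 2561))
 (.node (nat_lit 0x146100316e) (.leaf (nat_lit 0x146100312e) (nat_lit 2820))
 (.leaf (nat_lit 0x146100316e) (nat_lit 3076))
))) (.node (nat_lit 0x146101215e) (.node (nat_lit 0x146100394e) (.leaf (nat_lit 0x146100390e) (nat_lit 1794))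
 (.node (nat_lit 0x146101211e) (.leaf (nat_lit 0x146100394e) (nat_lit 2050))
 (.leaf (nat_lit 0x146101211e) (nat_lit 2562))
)) (.node (nat_lit 0x146101293e) (.leaf (nat_lit 0x146101215e) (nat_lit 2818))
 (.node (nat_lit 0x146101297e) (.leaf (nat_lit 0x146101293e) (nat_lit 3331))
 (.leaf (nat_lit 0x146101297e) (nat_lit 3587))
))))))) (.node (nat_lit 0x1461063d2e) (.node (nat_lit 0x146104215e) (.node (nat_lit 0x1461023d3e) (.node (nat_lit 0x146102257e) (.node (nat_lit 0x146101391e) (.node (nat_lit 0x146101317e) (.leaf (nat_lit 0x146101313e) (nat_lit 3072))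
 (.leaf (nat_lit 0x146101317e) (nat_lit 2816))
) (.node (nat_lit 0x146101395e) (.leaf (nat_lit 0x146101391e) (nat_lit 3076))
 (.node (nat_lit 0x146102253e) (.leaf (nat_lit 0x146101395e) (nat_lit 3332))
 (.leaf (nat_lit 0x146102253e) (nat_lit 3330))
))) (.node (nat_lit 0x1461022d5e) (.node (nat_lit 0x1461022d1e) (.leaf (nat_lit 0x146102257e) (nat_lit 3074))
 (.leaf (nat_lit 0x1461022d1e) (nat_lit 3331))
) (.node (nat_lit 0x146102351e) (.leaf (nat_lit 0x1461022d5e) (nat_lit 3329))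
 (.node (nat_lit 0x146102355e) (.leaf (nat_lit 0x146102351e) (nat_lit 3329))
 (.leaf (nat_lit 0x146102355e) (nat_lit 3073))
)))) (.node (nat_lit 0x1461032d4e) (.node (nat_lit 0x146103252e) (.node (nat_lit 0x1461023d7e) (.leaf (nat_lit 0x1461023d3e) (nat_lit 2816))
 (.leaf (nat_lit 0x1461023d7e) (nat_lit 2560))
) (.node (nat_lit 0x146103256e) (.leaf (nat_lit 0x146103252e) (nat_lit 2819))
 (.node (nat_lit 0x1461032d0e) (.leaf (nat_lit 0x146103256e) (nat_lit 3075))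
 (.leaf (nat_lit 0x1461032d0e) (nat_lit 2051))
))) (.node (nat_lit 0x1461033d2e) (.node (nat_lit 0x146103350e) (.leaf (nat_lit 0x1461032d4e) (nat_lit 2307))
 (.node (nat_lit 0x146103354e) (.leaf (nat_lit 0x146103350e) (nat_lit 2307))
 (.leaf (nat_lit 0x146103354e) (nat_lit 2563))
)) (.node (nat_lit 0x1461033d6e) (.leaf (nat_lit 0x1461033d2e) (nat_lit 3075))
 (.node (nat_lit 0x146104211e) (.leaf (nat_lit 0x1461033d6e) (nat_lit 3331))
 (.leaf (nat_lit 0x146104211e) (nat_lit 2818))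
))))) (.node (nat_lit 0x146105296e) (.node (nat_lit 0x146104391e) (.node (nat_lit 0x146104297e) (.node (nat_lit 0x146104293e) (.leaf (nat_lit 0x146104215e) (nat_lit 3074))
 (.leaf (nat_lit 0x146104293e) (nat_lit 3587))
) (.node (nat_lit 0x146104313e) (.leaf (nat_lit 0x146104297e) (nat_lit 3331))
 (.node (nat_lit 0x146104317e) (.leaf (nat_lit 0x146104313e) (nat_lit 2819))
 (.leaf (nat_lit 0x146104317e) (nat_lit 2563))
))) (.node (nat_lit 0x146105210e) (.node (nat_lit 0x146104395e) (.leaf (nat_lit 0x146104391e) (nat_lit 3332))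
 (.leaf (nat_lit 0x146104395e) (nat_lit 3588))
) (.node (nat_lit 0x146105214e) (.leaf (nat_lit 0x146105210e) (nat_lit 1794))
 (.node (nat_lit 0x146105292e) (.leaf (nat_lit 0x146105214e) (nat_lit 2050))
 (.leaf (nat_lit 0x146105292e) (nat_lit 2561))
)))) (.node (nat_lit 0x146106252e) (.node (nat_lit 0x146105316e) (.node (nat_lit 0x146105312e) (.leaf (nat_lit 0x146105296e) (nat_lit 2817))
 (.leaf (nat_lit 0x146105312e) (nat_lit 3076))
) (.node (nat_lit 0x146105390e) (.leaf (nat_lit 0x146105316e) (nat_lit 3332))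
 (.node (nat_lit 0x146105394e) (.leaf (nat_lit 0x146105390e) (nat_lit 2050))
 (.leaf (nat_lit 0x146105394e) (nat_lit 2306))
))) (.node (nat_lit 0x1461062d4e) (.node (nat_lit 0x146106256e) (.leaf (nat_lit 0x146106252e) (nat_lit 3072))
 (.node (nat_lit 0x1461062d0e) (.leaf (nat_lit 0x146106256e) (nat_lit 3328))
 (.leaf (nat_lit 0x1461062d0e) (nat_lit 2304))
)) (.node (nat_lit 0x146106350e) (.leaf (nat_lit 0x1461062d4e) (nat_lit 2560))
 (.node (nat_lit 0x146106354e) (.leaf (nat_lit 0x146106350e) (nat_lit 2560))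
 (.leaf (nat_lit 0x146106354e) (nat_lit 2816))
)))))) (.node (nat_lit 0x1461c1cede) (.node (nat_lit 0x1461c0c28e) (.node (nat_lit 0x1461072d5e) (.node (nat_lit 0x146107253e) (.node (nat_lit 0x1461063d6e) (.leaf (nat_lit 0x1461063d2e) (nat_lit 3330))
 (.leaf (nat_lit 0x1461063d6e) (nat_lit 3074))
) (.node (nat_lit 0x146107257e) (.leaf (nat_lit 0x146107253e) (nat_lit 3074))
 (.node (nat_lit 0x1461072d1e) (.leaf (nat_lit 0x146107257e) (nat_lit 2818))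
 (.leaf (nat_lit 0x1461072d1e) (nat_lit 3329))
))) (.node (nat_lit 0x146107355e) (.node (nat_lit 0x146107351e) (.leaf (nat_lit 0x1461072d5e) (nat_lit 3073))
 (.leaf (nat_lit 0x146107351e) (nat_lit 3073))
) (.node (nat_lit 0x1461073d3e) (.leaf (nat_lit 0x146107355e) (nat_lit 2817))
 (.node (nat_lit 0x1461073d7e) (.leaf (nat_lit 0x1461073d3e) (nat_lit 2563))
 (.leaf (nat_lit 0x1461073d7e) (nat_lit 2307))
)))) (.node (nat_lit 0x1461c0dafe) (.node (nat_lit 0x1461c0c69e) (.node (nat_lit 0x1461c0c2fe) (.leaf (nat_lit 0x1461c0c28e) (nat_lit 1282))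
 (.leaf (nat_lit 0x1461c0c2fe) (nat_lit 2050))
) (.node (nat_lit 0x1461c0c6ee) (.leaf (nat_lit 0x1461c0c69e) (nat_lit 2564))
 (.node (nat_lit 0x1461c0da8e) (.leaf (nat_lit 0x1461c0c6ee) (nat_lit 3584))
 (.leaf (nat_lit 0x1461c0da8e) (nat_lit 1538))
))) (.node (nat_lit 0x1461c1cabe) (.node (nat_lit 0x1461c0de9e) (.leaf (nat_lit 0x1461c0dafe) (nat_lit 2818))
 (.node (nat_lit 0x1461c0deee) (.leaf (nat_lit 0x1461c0de9e) (nat_lit 3076))
 (.leaf (nat_lit 0x1461c0deee) (nat_lit 2816))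
)) (.node (nat_lit 0x1461c1cace) (.leaf (nat_lit 0x1461c1cabe) (nat_lit 3330))
 (.node (nat_lit 0x1461c1ceae) (.leaf (nat_lit 0x1461c1cace) (nat_lit 2050))
 (.leaf (nat_lit 0x1461c1ceae) (nat_lit 2307))
))))) (.node (nat_lit 0x1461c2dade) (.node (nat_lit 0x1461c2c2ae) (.node (nat_lit 0x1461c1d2ce) (.node (nat_lit 0x1461c1d2be) (.leaf (nat_lit 0x1461c1cede) (nat_lit 3588))
 (.leaf (nat_lit 0x1461c1d2be) (nat_lit 2562))
) (.node (nat_lit 0x1461c1d6ae) (.leaf (nat_lit 0x1461c1d2ce) (nat_lit 1794))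
 (.node (nat_lit 0x1461c1d6de) (.leaf (nat_lit 0x1461c1d6ae) (nat_lit 3075))
 (.leaf (nat_lit 0x1461c1d6de) (nat_lit 3076))
))) (.node (nat_lit 0x1461c2c6be) (.node (nat_lit 0x1461c2c2de) (.leaf (nat_lit 0x1461c2c2ae) (nat_lit 1794))
 (.leaf (nat_lit 0x1461c2c2de) (nat_lit 2818))
) (.node (nat_lit 0x1461c2c6ce) (.leaf (nat_lit 0x1461c2c6be) (nat_lit 3076))
 (.node (nat_lit 0x1461c2daae) (.leaf (nat_lit 0x1461c2c6ce) (nat_lit 2819))
 (.leaf (nat_lit 0x1461c2daae) (nat_lit 2562))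
)))) (.node (nat_lit 0x1461c3ce8e) (.node (nat_lit 0x1461c2dece) (.node (nat_lit 0x1461c2debe) (.leaf (nat_lit 0x1461c2dade) (nat_lit 3330))
 (.leaf (nat_lit 0x1461c2debe) (nat_lit 3072))
) (.node (nat_lit 0x1461c3ca9e) (.leaf (nat_lit 0x1461c2dece) (nat_lit 2304))
 (.node (nat_lit 0x1461c3caee) (.leaf (nat_lit 0x1461c3ca9e) (nat_lit 3075))
 (.leaf (nat_lit 0x1461c3caee) (nat_lit 3074))
))) (.node (nat_lit 0x1461c3d2ee) (.node (nat_lit 0x1461c3cefe) (.leaf (nat_lit 0x1461c3ce8e) (nat_lit 1795))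
 (.node (nat_lit 0x1461c3d29e) (.leaf (nat_lit 0x1461c3cefe) (nat_lit 2563))
 (.leaf (nat_lit 0x1461c3d29e) (nat_lit 3330))
)) (.node (nat_lit 0x1461c3d68e) (.leaf (nat_lit 0x1461c3d2ee) (nat_lit 2306))
 (.node (nat_lit 0x1461c3d6fe) (.leaf (nat_lit 0x1461c3d68e) (nat_lit 2307))
 (.leaf (nat_lit 0x1461c3d6fe) (nat_lit 3331))
)))))))))) (.node (nat_lit 0x181086808c) (.node (nat_lit 0x147101611a) (.node (nat_lit 0x147046d12a) (.node (nat_lit 0x147041c52a) (.node (nat_lit 0x1461c6d2ee) (.node (nat_lit 0x1461c5c69e) (.node (nat_lit 0x1461c4d2ce) (.node (nat_lit 0x1461c4ceae) (.node (nat_lit 0x1461c4cace) (.leaf (nat_lit 0x1461c4cabe) (nat_lit 3074))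
 (.leaf (nat_lit 0x1461c4cace) (nat_lit 1794))
) (.node (nat_lit 0x1461c4cede) (.leaf (nat_lit 0x1461c4ceae) (nat_lit 2560))
 (.node (nat_lit 0x1461c4d2be) (.leaf (nat_lit 0x1461c4cede) (nat_lit 3332))
 (.leaf (nat_lit 0x1461c4d2be) (nat_lit 2306))
))) (.node (nat_lit 0x1461c4d6de) (.node (nat_lit 0x1461c4d6ae) (.leaf (nat_lit 0x1461c4d2ce) (nat_lit 1538))
 (.leaf (nat_lit 0x1461c4d6ae) (nat_lit 3328))
) (.node (nat_lit 0x1461c5c28e) (.leaf (nat_lit 0x1461c4d6de) (nat_lit 2820))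
 (.node (nat_lit 0x1461c5c2fe) (.leaf (nat_lit 0x1461c5c28e) (nat_lit 1538))
 (.leaf (nat_lit 0x1461c5c2fe) (nat_lit 2306))
)))) (.node (nat_lit 0x1461c5deee) (.node (nat_lit 0x1461c5da8e) (.node (nat_lit 0x1461c5c6ee) (.leaf (nat_lit 0x1461c5c69e) (nat_lit 2820))
 (.leaf (nat_lit 0x1461c5c6ee) (nat_lit 3331))
) (.node (nat_lit 0x1461c5dafe) (.leaf (nat_lit 0x1461c5da8e) (nat_lit 1794))
 (.node (nat_lit 0x1461c5de9e) (.leaf (nat_lit 0x1461c5dafe) (nat_lit 3074))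
 (.leaf (nat_lit 0x1461c5de9e) (nat_lit 3332))
))) (.node (nat_lit 0x1461c6ce8e) (.node (nat_lit 0x1461c6ca9e) (.leaf (nat_lit 0x1461c5deee) (nat_lit 2563))
 (.node (nat_lit 0x1461c6caee) (.leaf (nat_lit 0x1461c6ca9e) (nat_lit 3328))
 (.leaf (nat_lit 0x1461c6caee) (nat_lit 2818))
)) (.node (nat_lit 0x1461c6cefe) (.leaf (nat_lit 0x1461c6ce8e) (nat_lit 2048))
 (.node (nat_lit 0x1461c6d29e) (.leaf (nat_lit 0x1461c6cefe) (nat_lit 2816))
 (.leaf (nat_lit 0x1461c6d29e) (nat_lit 3074))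
))))) (.node (nat_lit 0x1461c7dece) (.node (nat_lit 0x1461c7c6be) (.node (nat_lit 0x1461c6d6fe) (.node (nat_lit 0x1461c6d68e) (.leaf (nat_lit 0x1461c6d2ee) (nat_lit 2050))
 (.leaf (nat_lit 0x1461c6d68e) (nat_lit 2563))
) (.node (nat_lit 0x1461c7c2ae) (.leaf (nat_lit 0x1461c6d6fe) (nat_lit 3332))
 (.node (nat_lit 0x1461c7c2de) (.leaf (nat_lit 0x1461c7c2ae) (nat_lit 2050))
 (.leaf (nat_lit 0x1461c7c2de) (nat_lit 3074))
))) (.node (nat_lit 0x1461c7daae) (.node (nat_lit 0x1461c7c6ce) (.leaf (nat_lit 0x1461c7c6be) (nat_lit 3332))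
 (.leaf (nat_lit 0x1461c7c6ce) (nat_lit 2563))
) (.node (nat_lit 0x1461c7dade) (.leaf (nat_lit 0x1461c7daae) (nat_lit 2818))
 (.node (nat_lit 0x1461c7debe) (.leaf (nat_lit 0x1461c7dade) (nat_lit 3331))
 (.leaf (nat_lit 0x1461c7debe) (nat_lit 2819))
)))) (.node (nat_lit 0x147040d96a) (.node (nat_lit 0x147040c11a) (.node (nat_lit 0x147040c10a) (.leaf (nat_lit 0x1461c7dece) (nat_lit 2051))
 (.leaf (nat_lit 0x147040c10a) (nat_lit 1027))
) (.node (nat_lit 0x147040c56a) (.leaf (nat_lit 0x147040c11a) (nat_lit 2820))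
 (.node (nat_lit 0x147040c57a) (.leaf (nat_lit 0x147040c56a) (nat_lit 2308))
 (.leaf (nat_lit 0x147040c57a) (nat_lit 3075))
))) (.node (nat_lit 0x147040dd1a) (.node (nat_lit 0x147040d97a) (.leaf (nat_lit 0x147040d96a) (nat_lit 1540))
 (.node (nat_lit 0x147040dd0a) (.leaf (nat_lit 0x147040d97a) (nat_lit 3332))
 (.leaf (nat_lit 0x147040dd0a) (nat_lit 1540))
)) (.node (nat_lit 0x147041c14a) (.leaf (nat_lit 0x147040dd1a) (nat_lit 3332))
 (.node (nat_lit 0x147041c15a) (.leaf (nat_lit 0x147041c14a) (nat_lit 1536))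
 (.leaf (nat_lit 0x147041c15a) (nat_lit 3332))
)))))) (.node (nat_lit 0x147043d55a) (.node (nat_lit 0x147042d16a) (.node (nat_lit 0x147041dd5a) (.node (nat_lit 0x147041d92a) (.node (nat_lit 0x147041c53a) (.leaf (nat_lit 0x147041c52a) (nat_lit 2820))
 (.leaf (nat_lit 0x147041c53a) (nat_lit 2563))
) (.node (nat_lit 0x147041d93a) (.leaf (nat_lit 0x147041d92a) (nat_lit 2052))
 (.node (nat_lit 0x147041dd4a) (.leaf (nat_lit 0x147041d93a) (nat_lit 3075))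
 (.leaf (nat_lit 0x147041dd4a) (nat_lit 2052))
))) (.node (nat_lit 0x147042c91a) (.node (nat_lit 0x147042c90a) (.leaf (nat_lit 0x147041dd5a) (nat_lit 3075))
 (.leaf (nat_lit 0x147042c90a) (nat_lit 1283))
) (.node (nat_lit 0x147042cd6a) (.leaf (nat_lit 0x147042c91a) (nat_lit 3331))
 (.node (nat_lit 0x147042cd7a) (.leaf (nat_lit 0x147042cd6a) (nat_lit 2819))
 (.leaf (nat_lit 0x147042cd7a) (nat_lit 2305))
)))) (.node (nat_lit 0x147043c95a) (.node (nat_lit 0x147042d50a) (.node (nat_lit 0x147042d17a) (.leaf (nat_lit 0x147042d16a) (nat_lit 2051))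
 (.leaf (nat_lit 0x147042d17a) (nat_lit 3073))
) (.node (nat_lit 0x147042d51a) (.leaf (nat_lit 0x147042d50a) (nat_lit 2307))
 (.node (nat_lit 0x147043c94a) (.leaf (nat_lit 0x147042d51a) (nat_lit 2817))
 (.leaf (nat_lit 0x147043c94a) (nat_lit 1792))
))) (.node (nat_lit 0x147043d12a) (.node (nat_lit 0x147043cd2a) (.leaf (nat_lit 0x147043c95a) (nat_lit 3329))
 (.node (nat_lit 0x147043cd3a) (.leaf (nat_lit 0x147043cd2a) (nat_lit 3328))
 (.leaf (nat_lit 0x147043cd3a) (nat_lit 1793))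
)) (.node (nat_lit 0x147043d13a) (.leaf (nat_lit 0x147043d12a) (nat_lit 2560))
 (.node (nat_lit 0x147043d54a) (.leaf (nat_lit 0x147043d13a) (nat_lit 2561))
 (.leaf (nat_lit 0x147043d54a) (nat_lit 2819))
))))) (.node (nat_lit 0x147045c11a) (.node (nat_lit 0x147044d92a) (.node (nat_lit 0x147044c15a) (.node (nat_lit 0x147044c14a) (.leaf (nat_lit 0x147043d55a) (nat_lit 2305))
 (.leaf (nat_lit 0x147044c14a) (nat_lit 1283))
) (.node (nat_lit 0x147044c52a) (.leaf (nat_lit 0x147044c15a) (nat_lit 3076))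
 (.node (nat_lit 0x147044c53a) (.leaf (nat_lit 0x147044c52a) (nat_lit 2564))
 (.leaf (nat_lit 0x147044c53a) (nat_lit 2819))
))) (.node (nat_lit 0x147044dd4a) (.node (nat_lit 0x147044d93a) (.leaf (nat_lit 0x147044d92a) (nat_lit 1796))
 (.leaf (nat_lit 0x147044d93a) (nat_lit 3328))
) (.node (nat_lit 0x147044dd5a) (.leaf (nat_lit 0x147044dd4a) (nat_lit 1796))
 (.node (nat_lit 0x147045c10a) (.leaf (nat_lit 0x147044dd5a) (nat_lit 3331))
 (.leaf (nat_lit 0x147045c10a) (nat_lit 1280))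
)))) (.node (nat_lit 0x147045dd0a) (.node (nat_lit 0x147045c57a) (.node (nat_lit 0x147045c56a) (.leaf (nat_lit 0x147045c11a) (nat_lit 3076))
 (.leaf (nat_lit 0x147045c56a) (nat_lit 2564))
) (.node (nat_lit 0x147045d96a) (.leaf (nat_lit 0x147045c57a) (nat_lit 2819))
 (.node (nat_lit 0x147045d97a) (.leaf (nat_lit 0x147045d96a) (nat_lit 1796))
 (.leaf (nat_lit 0x147045d97a) (nat_lit 3331))
))) (.node (nat_lit 0x147046c95a) (.node (nat_lit 0x147045dd1a) (.leaf (nat_lit 0x147045dd0a) (nat_lit 1796))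
 (.node (nat_lit 0x147046c94a) (.leaf (nat_lit 0x147045dd1a) (nat_lit 3331))
 (.leaf (nat_lit 0x147046c94a) (nat_lit 1539))
)) (.node (nat_lit 0x147046cd2a) (.leaf (nat_lit 0x147046c95a) (nat_lit 3587))
 (.node (nat_lit 0x147046cd3a) (.leaf (nat_lit 0x147046cd2a) (nat_lit 3075))
 (.leaf (nat_lit 0x147046cd3a) (nat_lit 2049))
))))))) (.node (nat_lit 0x1470c37fda) (.node (nat_lit 0x1470c167aa) (.node (nat_lit 0x147047d50a) (.node (nat_lit 0x147047c91a) (.node (nat_lit 0x147046d54a) (.node (nat_lit 0x147046d13a) (.leaf (nat_lit 0x147046d12a) (nat_lit 2307))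
 (.leaf (nat_lit 0x147046d13a) (nat_lit 2817))
) (.node (nat_lit 0x147046d55a) (.leaf (nat_lit 0x147046d54a) (nat_lit 2563))
 (.node (nat_lit 0x147047c90a) (.leaf (nat_lit 0x147046d55a) (nat_lit 2561))
 (.leaf (nat_lit 0x147047c90a) (nat_lit 1536))
))) (.node (nat_lit 0x147047cd7a) (.node (nat_lit 0x147047cd6a) (.leaf (nat_lit 0x147047c91a) (nat_lit 3585))
 (.leaf (nat_lit 0x147047cd6a) (nat_lit 3072))
) (.node (nat_lit 0x147047d16a) (.leaf (nat_lit 0x147047cd7a) (nat_lit 2049))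
 (.node (nat_lit 0x147047d17a) (.leaf (nat_lit 0x147047d16a) (nat_lit 2304))
 (.leaf (nat_lit 0x147047d17a) (nat_lit 2817))
)))) (.node (nat_lit 0x1470c06ffa) (.node (nat_lit 0x1470c0638a) (.node (nat_lit 0x147047d51a) (.leaf (nat_lit 0x147047d50a) (nat_lit 2563))
 (.leaf (nat_lit 0x147047d51a) (nat_lit 2561))
) (.node (nat_lit 0x1470c063ba) (.leaf (nat_lit 0x1470c0638a) (nat_lit 1284))
 (.node (nat_lit 0x1470c06fca) (.leaf (nat_lit 0x1470c063ba) (nat_lit 2564))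
 (.leaf (nat_lit 0x1470c06fca) (nat_lit 2052))
))) (.node (nat_lit 0x1470c07f8a) (.node (nat_lit 0x1470c073ca) (.leaf (nat_lit 0x1470c06ffa) (nat_lit 3332))
 (.node (nat_lit 0x1470c073fa) (.leaf (nat_lit 0x1470c073ca) (nat_lit 1540))
 (.leaf (nat_lit 0x1470c073fa) (nat_lit 2820))
)) (.node (nat_lit 0x1470c07fba) (.leaf (nat_lit 0x1470c07f8a) (nat_lit 1796))
 (.node (nat_lit 0x1470c1679a) (.leaf (nat_lit 0x1470c07fba) (nat_lit 3076))
 (.leaf (nat_lit 0x1470c1679a) (nat_lit 2049))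
))))) (.node (nat_lit 0x1470c26bba) (.node (nat_lit 0x1470c17b9a) (.node (nat_lit 0x1470c16bea) (.node (nat_lit 0x1470c16bda) (.leaf (nat_lit 0x1470c167aa) (nat_lit 3587))
 (.leaf (nat_lit 0x1470c16bda) (nat_lit 3329))
) (.node (nat_lit 0x1470c177da) (.leaf (nat_lit 0x1470c16bea) (nat_lit 2304))
 (.node (nat_lit 0x1470c177ea) (.leaf (nat_lit 0x1470c177da) (nat_lit 2305))
 (.leaf (nat_lit 0x1470c177ea) (nat_lit 3331))
))) (.node (nat_lit 0x1470c267ca) (.node (nat_lit 0x1470c17baa) (.leaf (nat_lit 0x1470c17b9a) (nat_lit 3073))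
 (.leaf (nat_lit 0x1470c17baa) (nat_lit 2560))
) (.node (nat_lit 0x1470c267fa) (.leaf (nat_lit 0x1470c267ca) (nat_lit 2819))
 (.node (nat_lit 0x1470c26b8a) (.leaf (nat_lit 0x1470c267fa) (nat_lit 2817))
 (.leaf (nat_lit 0x1470c26b8a) (nat_lit 1795))
)))) (.node (nat_lit 0x1470c363da) (.node (nat_lit 0x1470c277ba) (.node (nat_lit 0x1470c2778a) (.leaf (nat_lit 0x1470c26bba) (nat_lit 3331))
 (.leaf (nat_lit 0x1470c2778a) (nat_lit 2563))
) (.node (nat_lit 0x1470c27bca) (.leaf (nat_lit 0x1470c277ba) (nat_lit 3073))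
 (.node (nat_lit 0x1470c27bfa) (.leaf (nat_lit 0x1470c27bca) (nat_lit 2051))
 (.leaf (nat_lit 0x1470c27bfa) (nat_lit 3587))
))) (.node (nat_lit 0x1470c36faa) (.node (nat_lit 0x1470c363ea) (.leaf (nat_lit 0x1470c363da) (nat_lit 3332))
 (.node (nat_lit 0x1470c36f9a) (.leaf (nat_lit 0x1470c363ea) (nat_lit 2048))
 (.leaf (nat_lit 0x1470c36f9a) (nat_lit 2819))
)) (.node (nat_lit 0x1470c3739a) (.leaf (nat_lit 0x1470c36faa) (nat_lit 2820))
 (.node (nat_lit 0x1470c373aa) (.leaf (nat_lit 0x1470c3739a) (nat_lit 3331))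
 (.leaf (nat_lit 0x1470c373aa) (nat_lit 2304))
)))))) (.node (nat_lit 0x1470c66faa) (.node (nat_lit 0x1470c5638a) (.node (nat_lit 0x1470c46bea) (.node (nat_lit 0x1470c4679a) (.node (nat_lit 0x1470c37fea) (.leaf (nat_lit 0x1470c37fda) (nat_lit 3075))
 (.leaf (nat_lit 0x1470c37fea) (nat_lit 2564))
) (.node (nat_lit 0x1470c467aa) (.leaf (nat_lit 0x1470c4679a) (nat_lit 2305))
 (.node (nat_lit 0x1470c46bda) (.leaf (nat_lit 0x1470c467aa) (nat_lit 3331))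
 (.leaf (nat_lit 0x1470c46bda) (nat_lit 3585))
))) (.node (nat_lit 0x1470c477ea) (.node (nat_lit 0x1470c477da) (.leaf (nat_lit 0x1470c46bea) (nat_lit 2051))
 (.leaf (nat_lit 0x1470c477da) (nat_lit 2561))
) (.node (nat_lit 0x1470c47b9a) (.leaf (nat_lit 0x1470c477ea) (nat_lit 3075))
 (.node (nat_lit 0x1470c47baa) (.leaf (nat_lit 0x1470c47b9a) (nat_lit 3329))
 (.leaf (nat_lit 0x1470c47baa) (nat_lit 2307))
)))) (.node (nat_lit 0x1470c573fa) (.node (nat_lit 0x1470c56fca) (.node (nat_lit 0x1470c563ba) (.leaf (nat_lit 0x1470c5638a) (nat_lit 1540))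
 (.leaf (nat_lit 0x1470c563ba) (nat_lit 2820))
) (.node (nat_lit 0x1470c56ffa) (.leaf (nat_lit 0x1470c56fca) (nat_lit 2308))
 (.node (nat_lit 0x1470c573ca) (.leaf (nat_lit 0x1470c56ffa) (nat_lit 3331))
 (.leaf (nat_lit 0x1470c573ca) (nat_lit 1796))
))) (.node (nat_lit 0x1470c663da) (.node (nat_lit 0x1470c57f8a) (.leaf (nat_lit 0x1470c573fa) (nat_lit 3076))
 (.node (nat_lit 0x1470c57fba) (.leaf (nat_lit 0x1470c57f8a) (nat_lit 2052))
 (.leaf (nat_lit 0x1470c57fba) (nat_lit 3332))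
)) (.node (nat_lit 0x1470c663ea) (.leaf (nat_lit 0x1470c663da) (nat_lit 3076))
 (.node (nat_lit 0x1470c66f9a) (.leaf (nat_lit 0x1470c663ea) (nat_lit 1795))
 (.leaf (nat_lit 0x1470c66f9a) (nat_lit 3075))
))))) (.node (nat_lit 0x1470c777ba) (.node (nat_lit 0x1470c767ca) (.node (nat_lit 0x1470c673aa) (.node (nat_lit 0x1470c6739a) (.leaf (nat_lit 0x1470c66faa) (nat_lit 2564))
 (.leaf (nat_lit 0x1470c6739a) (nat_lit 3332))
) (.node (nat_lit 0x1470c67fda) (.leaf (nat_lit 0x1470c673aa) (nat_lit 2051))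
 (.node (nat_lit 0x1470c67fea) (.leaf (nat_lit 0x1470c67fda) (nat_lit 3331))
 (.leaf (nat_lit 0x1470c67fea) (nat_lit 2308))
))) (.node (nat_lit 0x1470c76b8a) (.node (nat_lit 0x1470c767fa) (.leaf (nat_lit 0x1470c767ca) (nat_lit 3075))
 (.leaf (nat_lit 0x1470c767fa) (nat_lit 2561))
) (.node (nat_lit 0x1470c76bba) (.leaf (nat_lit 0x1470c76b8a) (nat_lit 2048))
 (.node (nat_lit 0x1470c7778a) (.leaf (nat_lit 0x1470c76bba) (nat_lit 3585))
 (.leaf (nat_lit 0x1470c7778a) (nat_lit 2819))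
)))) (.node (nat_lit 0x1471006d3a) (.node (nat_lit 0x1470c77bfa) (.node (nat_lit 0x1470c77bca) (.leaf (nat_lit 0x1470c777ba) (nat_lit 2817))
 (.leaf (nat_lit 0x1470c77bca) (nat_lit 2304))
) (.node (nat_lit 0x147100610a) (.leaf (nat_lit 0x1470c77bfa) (nat_lit 3329))
 (.node (nat_lit 0x147100614a) (.leaf (nat_lit 0x147100610a) (nat_lit 1538))
 (.leaf (nat_lit 0x147100614a) (nat_lit 1794))
))) (.node (nat_lit 0x147100717a) (.node (nat_lit 0x1471006d7a) (.leaf (nat_lit 0x1471006d3a) (nat_lit 2561))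
 (.node (nat_lit 0x147100713a) (.leaf (nat_lit 0x1471006d7a) (nat_lit 2817))
 (.leaf (nat_lit 0x147100713a) (nat_lit 3076))
)) (.node (nat_lit 0x1471007d0a) (.leaf (nat_lit 0x147100717a) (nat_lit 3332))
 (.node (nat_lit 0x1471007d4a) (.leaf (nat_lit 0x1471007d0a) (nat_lit 2050))
 (.leaf (nat_lit 0x1471007d4a) (nat_lit 2306))
)))))))) (.node (nat_lit 0x147183dbaa) (.node (nat_lit 0x147106691a) (.node (nat_lit 0x147103755a) (.node (nat_lit 0x147102690a) (.node (nat_lit 0x147101716a) (.node (nat_lit 0x1471016d2a) (.node (nat_lit 0x147101615a) (.leaf (nat_lit 0x147101611a) (nat_lit 2306))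
 (.leaf (nat_lit 0x147101615a) (nat_lit 2562))
) (.node (nat_lit 0x1471016d6a) (.leaf (nat_lit 0x1471016d2a) (nat_lit 3584))
 (.node (nat_lit 0x147101712a) (.leaf (nat_lit 0x1471016d6a) (nat_lit 3328))
 (.leaf (nat_lit 0x147101712a) (nat_lit 2816))
))) (.node (nat_lit 0x1471017d5a) (.node (nat_lit 0x1471017d1a) (.leaf (nat_lit 0x147101716a) (nat_lit 2560))
 (.leaf (nat_lit 0x1471017d1a) (nat_lit 3332))
) (.node (nat_lit 0x147102653a) (.leaf (nat_lit 0x1471017d5a) (nat_lit 3588))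
 (.node (nat_lit 0x147102657a) (.leaf (nat_lit 0x147102653a) (nat_lit 3075))
 (.leaf (nat_lit 0x147102657a) (nat_lit 3331))
)))) (.node (nat_lit 0x147102797a) (.node (nat_lit 0x147102750a) (.node (nat_lit 0x147102694a) (.leaf (nat_lit 0x147102690a) (nat_lit 2051))
 (.leaf (nat_lit 0x147102694a) (nat_lit 2307))
) (.node (nat_lit 0x147102754a) (.leaf (nat_lit 0x147102750a) (nat_lit 2563))
 (.node (nat_lit 0x147102793a) (.leaf (nat_lit 0x147102754a) (nat_lit 2819))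
 (.leaf (nat_lit 0x147102793a) (nat_lit 3330))
))) (.node (nat_lit 0x147103691a) (.node (nat_lit 0x147103652a) (.leaf (nat_lit 0x147102797a) (nat_lit 3074))
 (.node (nat_lit 0x147103656a) (.leaf (nat_lit 0x147103652a) (nat_lit 3074))
 (.leaf (nat_lit 0x147103656a) (nat_lit 2818))
)) (.node (nat_lit 0x147103695a) (.leaf (nat_lit 0x147103691a) (nat_lit 3075))
 (.node (nat_lit 0x147103751a) (.leaf (nat_lit 0x147103695a) (nat_lit 3331))
 (.leaf (nat_lit 0x147103751a) (nat_lit 3329))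
))))) (.node (nat_lit 0x1471047d5a) (.node (nat_lit 0x1471046d2a) (.node (nat_lit 0x147103796a) (.node (nat_lit 0x147103792a) (.leaf (nat_lit 0x147103755a) (nat_lit 3073))
 (.leaf (nat_lit 0x147103792a) (nat_lit 2560))
) (.node (nat_lit 0x147104611a) (.leaf (nat_lit 0x147103796a) (nat_lit 2304))
 (.node (nat_lit 0x147104615a) (.leaf (nat_lit 0x147104611a) (nat_lit 2562))
 (.leaf (nat_lit 0x147104615a) (nat_lit 2818))
))) (.node (nat_lit 0x147104712a) (.node (nat_lit 0x1471046d6a) (.leaf (nat_lit 0x1471046d2a) (nat_lit 3331))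
 (.leaf (nat_lit 0x1471046d6a) (nat_lit 3075))
) (.node (nat_lit 0x147104716a) (.leaf (nat_lit 0x147104712a) (nat_lit 2563))
 (.node (nat_lit 0x1471047d1a) (.leaf (nat_lit 0x147104716a) (nat_lit 2307))
 (.leaf (nat_lit 0x1471047d1a) (nat_lit 3587))
)))) (.node (nat_lit 0x147105713a) (.node (nat_lit 0x147105614a) (.node (nat_lit 0x147105610a) (.leaf (nat_lit 0x1471047d5a) (nat_lit 3331))
 (.leaf (nat_lit 0x147105610a) (nat_lit 1794))
) (.node (nat_lit 0x1471056d3a) (.leaf (nat_lit 0x147105614a) (nat_lit 2050))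
 (.node (nat_lit 0x1471056d7a) (.leaf (nat_lit 0x1471056d3a) (nat_lit 2817))
 (.leaf (nat_lit 0x1471056d7a) (nat_lit 3073))
))) (.node (nat_lit 0x1471057d4a) (.node (nat_lit 0x147105717a) (.leaf (nat_lit 0x147105713a) (nat_lit 3332))
 (.node (nat_lit 0x1471057d0a) (.leaf (nat_lit 0x147105717a) (nat_lit 3331))
 (.leaf (nat_lit 0x1471057d0a) (nat_lit 2306))
)) (.node (nat_lit 0x147106652a) (.leaf (nat_lit 0x1471057d4a) (nat_lit 2562))
 (.node (nat_lit 0x147106656a) (.leaf (nat_lit 0x147106652a) (nat_lit 2818))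
 (.leaf (nat_lit 0x147106656a) (nat_lit 2562))
)))))) (.node (nat_lit 0x147180dfea) (.node (nat_lit 0x147107750a) (.node (nat_lit 0x147106796a) (.node (nat_lit 0x147106751a) (.node (nat_lit 0x147106695a) (.leaf (nat_lit 0x147106691a) (nat_lit 3331))
 (.leaf (nat_lit 0x147106695a) (nat_lit 3329))
) (.node (nat_lit 0x147106755a) (.leaf (nat_lit 0x147106751a) (nat_lit 3073))
 (.node (nat_lit 0x147106792a) (.leaf (nat_lit 0x147106755a) (nat_lit 2817))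
 (.leaf (nat_lit 0x147106792a) (nat_lit 2307))
))) (.node (nat_lit 0x147107657a) (.node (nat_lit 0x147107653a) (.leaf (nat_lit 0x147106796a) (nat_lit 2051))
 (.leaf (nat_lit 0x147107653a) (nat_lit 3328))
) (.node (nat_lit 0x147107690a) (.leaf (nat_lit 0x147107657a) (nat_lit 3584))
 (.node (nat_lit 0x147107694a) (.leaf (nat_lit 0x147107690a) (nat_lit 2304))
 (.leaf (nat_lit 0x147107694a) (nat_lit 2560))
)))) (.node (nat_lit 0x147180c3ea) (.node (nat_lit 0x147107793a) (.node (nat_lit 0x147107754a) (.leaf (nat_lit 0x147107750a) (nat_lit 2816))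
 (.leaf (nat_lit 0x147107754a) (nat_lit 3072))
) (.node (nat_lit 0x147107797a) (.leaf (nat_lit 0x147107793a) (nat_lit 3074))
 (.node (nat_lit 0x147180c38a) (.leaf (nat_lit 0x147107797a) (nat_lit 2818))
 (.leaf (nat_lit 0x147180c38a) (nat_lit 1283))
))) (.node (nat_lit 0x147180db9a) (.node (nat_lit 0x147180c79a) (.leaf (nat_lit 0x147180c3ea) (nat_lit 1794))
 (.node (nat_lit 0x147180c7fa) (.leaf (nat_lit 0x147180c79a) (nat_lit 2561))
 (.leaf (nat_lit 0x147180c7fa) (nat_lit 3329))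
)) (.node (nat_lit 0x147180dbfa) (.leaf (nat_lit 0x147180db9a) (nat_lit 3332))
 (.node (nat_lit 0x147180df8a) (.leaf (nat_lit 0x147180dbfa) (nat_lit 3072))
 (.leaf (nat_lit 0x147180df8a) (nat_lit 1794))
))))) (.node (nat_lit 0x147182cbea) (.node (nat_lit 0x147181d3aa) (.node (nat_lit 0x147181cbda) (.node (nat_lit 0x147181cbba) (.leaf (nat_lit 0x147180dfea) (nat_lit 2562))
 (.leaf (nat_lit 0x147181cbba) (nat_lit 2563))
) (.node (nat_lit 0x147181cfaa) (.leaf (nat_lit 0x147181cbda) (nat_lit 3331))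
 (.node (nat_lit 0x147181cfca) (.leaf (nat_lit 0x147181cfaa) (nat_lit 3074))
 (.leaf (nat_lit 0x147181cfca) (nat_lit 2306))
))) (.node (nat_lit 0x147181d7ba) (.node (nat_lit 0x147181d3ca) (.leaf (nat_lit 0x147181d3aa) (nat_lit 2306))
 (.leaf (nat_lit 0x147181d3ca) (nat_lit 1792))
) (.node (nat_lit 0x147181d7da) (.leaf (nat_lit 0x147181d7ba) (nat_lit 3331))
 (.node (nat_lit 0x147182cb8a) (.leaf (nat_lit 0x147181d7da) (nat_lit 3073))
 (.leaf (nat_lit 0x147182cb8a) (nat_lit 1539))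
)))) (.node (nat_lit 0x147182d78a) (.node (nat_lit 0x147182cffa) (.node (nat_lit 0x147182cf9a) (.leaf (nat_lit 0x147182cbea) (nat_lit 2307))
 (.leaf (nat_lit 0x147182cf9a) (nat_lit 3075))
) (.node (nat_lit 0x147182d39a) (.leaf (nat_lit 0x147182cffa) (nat_lit 3330))
 (.node (nat_lit 0x147182d3fa) (.leaf (nat_lit 0x147182d39a) (nat_lit 3074))
 (.leaf (nat_lit 0x147182d3fa) (nat_lit 2562))
))) (.node (nat_lit 0x147183c3da) (.node (nat_lit 0x147182d7ea) (.leaf (nat_lit 0x147182d78a) (nat_lit 2563))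
 (.node (nat_lit 0x147183c3ba) (.leaf (nat_lit 0x147182d7ea) (nat_lit 3075))
 (.leaf (nat_lit 0x147183c3ba) (nat_lit 2050))
)) (.node (nat_lit 0x147183c7aa) (.leaf (nat_lit 0x147183c3da) (nat_lit 2562))
 (.node (nat_lit 0x147183c7ca) (.leaf (nat_lit 0x147183c7aa) (nat_lit 3332))
 (.leaf (nat_lit 0x147183c7ca) (nat_lit 3075))
))))))) (.node (nat_lit 0x1810808c9c) (.node (nat_lit 0x147186c3da) (.node (nat_lit 0x147184d7ba) (.node (nat_lit 0x147184cbda) (.node (nat_lit 0x147183dfba) (.node (nat_lit 0x147183dbca) (.leaf (nat_lit 0x147183dbaa) (nat_lit 2816))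
 (.leaf (nat_lit 0x147183dbca) (nat_lit 2048))
) (.node (nat_lit 0x147183dfda) (.leaf (nat_lit 0x147183dfba) (nat_lit 2818))
 (.node (nat_lit 0x147184cbba) (.leaf (nat_lit 0x147183dfda) (nat_lit 3584))
 (.leaf (nat_lit 0x147184cbba) (nat_lit 2816))
))) (.node (nat_lit 0x147184cfca) (.node (nat_lit 0x147184cfaa) (.leaf (nat_lit 0x147184cbda) (nat_lit 3588))
 (.leaf (nat_lit 0x147184cfaa) (nat_lit 2818))
) (.node (nat_lit 0x147184d3aa) (.leaf (nat_lit 0x147184cfca) (nat_lit 2050))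
 (.node (nat_lit 0x147184d3ca) (.leaf (nat_lit 0x147184d3aa) (nat_lit 2050))
 (.leaf (nat_lit 0x147184d3ca) (nat_lit 1539))
)))) (.node (nat_lit 0x147185c7fa) (.node (nat_lit 0x147185c38a) (.node (nat_lit 0x147184d7da) (.leaf (nat_lit 0x147184d7ba) (nat_lit 3585))
 (.leaf (nat_lit 0x147184d7da) (nat_lit 2817))
) (.node (nat_lit 0x147185c3ea) (.leaf (nat_lit 0x147185c38a) (nat_lit 1536))
 (.node (nat_lit 0x147185c79a) (.leaf (nat_lit 0x147185c3ea) (nat_lit 2050))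
 (.leaf (nat_lit 0x147185c79a) (nat_lit 2817))
))) (.node (nat_lit 0x147185df8a) (.node (nat_lit 0x147185db9a) (.leaf (nat_lit 0x147185c7fa) (nat_lit 3587))
 (.node (nat_lit 0x147185dbfa) (.leaf (nat_lit 0x147185db9a) (nat_lit 3587))
 (.leaf (nat_lit 0x147185dbfa) (nat_lit 2819))
)) (.node (nat_lit 0x147185dfea) (.leaf (nat_lit 0x147185df8a) (nat_lit 2050))
 (.node (nat_lit 0x147186c3ba) (.leaf (nat_lit 0x147185dfea) (nat_lit 2818))
 (.leaf (nat_lit 0x147186c3ba) (nat_lit 2306))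
))))) (.node (nat_lit 0x147187cffa) (.node (nat_lit 0x147186dfba) (.node (nat_lit 0x147186c7ca) (.node (nat_lit 0x147186c7aa) (.leaf (nat_lit 0x147186c3da) (nat_lit 2818))
 (.leaf (nat_lit 0x147186c7aa) (nat_lit 3331))
) (.node (nat_lit 0x147186dbaa) (.leaf (nat_lit 0x147186c7ca) (nat_lit 2819))
 (.node (nat_lit 0x147186dbca) (.leaf (nat_lit 0x147186dbaa) (nat_lit 2563))
 (.leaf (nat_lit 0x147186dbca) (nat_lit 1795))
))) (.node (nat_lit 0x147187cb8a) (.node (nat_lit 0x147186dfda) (.leaf (nat_lit 0x147186dfba) (nat_lit 3074))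
 (.leaf (nat_lit 0x147186dfda) (nat_lit 3331))
) (.node (nat_lit 0x147187cbea) (.leaf (nat_lit 0x147187cb8a) (nat_lit 1792))
 (.node (nat_lit 0x147187cf9a) (.leaf (nat_lit 0x147187cbea) (nat_lit 2560))
 (.leaf (nat_lit 0x147187cf9a) (nat_lit 3328))
)))) (.node (nat_lit 0x181080808c) (.node (nat_lit 0x147187d3fa) (.node (nat_lit 0x147187d39a) (.leaf (nat_lit 0x147187cffa) (nat_lit 3074))
 (.leaf (nat_lit 0x147187d39a) (nat_lit 2818))
) (.node (nat_lit 0x147187d78a) (.leaf (nat_lit 0x147187d3fa) (nat_lit 2306))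
 (.node (nat_lit 0x147187d7ea) (.leaf (nat_lit 0x147187d78a) (nat_lit 2819))
 (.leaf (nat_lit 0x147187d7ea) (nat_lit 3328))
))) (.node (nat_lit 0x18108084ac) (.node (nat_lit 0x18108080ac) (.leaf (nat_lit 0x181080808c) (nat_lit 1026))
 (.node (nat_lit 0x181080848c) (.leaf (nat_lit 0x18108080ac) (nat_lit 2306))
 (.leaf (nat_lit 0x181080848c) (nat_lit 2308))
)) (.node (nat_lit 0x181080889c) (.leaf (nat_lit 0x18108084ac) (nat_lit 3074))
 (.node (nat_lit 0x18108088bc) (.leaf (nat_lit 0x181080889c) (nat_lit 3073))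
 (.leaf (nat_lit 0x18108088bc) (nat_lit 3076))
)))))) (.node (nat_lit 0x18108394fc) (.node (nat_lit 0x18108280cc) (.node (nat_lit 0x18108194bc) (.node (nat_lit 0x181081909c) (.node (nat_lit 0x1810808cbc) (.leaf (nat_lit 0x1810808c9c) (nat_lit 3073))
 (.leaf (nat_lit 0x1810808cbc) (nat_lit 2308))
) (.node (nat_lit 0x18108190bc) (.leaf (nat_lit 0x181081909c) (nat_lit 3074))
 (.node (nat_lit 0x181081949c) (.leaf (nat_lit 0x18108190bc) (nat_lit 3072))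
 (.leaf (nat_lit 0x181081949c) (nat_lit 2049))
))) (.node (nat_lit 0x18108198ac) (.node (nat_lit 0x181081988c) (.leaf (nat_lit 0x18108194bc) (nat_lit 3073))
 (.leaf (nat_lit 0x181081988c) (nat_lit 3076))
) (.node (nat_lit 0x1810819c8c) (.leaf (nat_lit 0x18108198ac) (nat_lit 3073))
 (.node (nat_lit 0x1810819cac) (.leaf (nat_lit 0x1810819c8c) (nat_lit 1792))
 (.leaf (nat_lit 0x1810819cac) (nat_lit 3072))
)))) (.node (nat_lit 0x18108288fc) (.node (nat_lit 0x18108284cc) (.node (nat_lit 0x18108280ec) (.leaf (nat_lit 0x18108280cc) (nat_lit 1538))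
 (.leaf (nat_lit 0x18108280ec) (nat_lit 2818))
) (.node (nat_lit 0x18108284ec) (.leaf (nat_lit 0x18108284cc) (nat_lit 2820))
 (.node (nat_lit 0x18108288dc) (.leaf (nat_lit 0x18108284ec) (nat_lit 3329))
 (.leaf (nat_lit 0x18108288dc) (nat_lit 2561))
))) (.node (nat_lit 0x18108390dc) (.node (nat_lit 0x1810828cdc) (.leaf (nat_lit 0x18108288fc) (nat_lit 3331))
 (.node (nat_lit 0x1810828cfc) (.leaf (nat_lit 0x1810828cdc) (nat_lit 3331))
 (.leaf (nat_lit 0x1810828cfc) (nat_lit 2820))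
)) (.node (nat_lit 0x18108390fc) (.leaf (nat_lit 0x18108390dc) (nat_lit 3074))
 (.node (nat_lit 0x18108394dc) (.leaf (nat_lit 0x18108390fc) (nat_lit 3075))
 (.leaf (nat_lit 0x18108394dc) (nat_lit 2049))
))))) (.node (nat_lit 0x18108488fc) (.node (nat_lit 0x18108480cc) (.node (nat_lit 0x18108398ec) (.node (nat_lit 0x18108398cc) (.leaf (nat_lit 0x18108394fc) (nat_lit 3073))
 (.leaf (nat_lit 0x18108398cc) (nat_lit 3076))
) (.node (nat_lit 0x1810839ccc) (.leaf (nat_lit 0x18108398ec) (nat_lit 3073))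
 (.node (nat_lit 0x1810839cec) (.leaf (nat_lit 0x1810839ccc) (nat_lit 1795))
 (.leaf (nat_lit 0x1810839cec) (nat_lit 3075))
))) (.node (nat_lit 0x18108484cc) (.node (nat_lit 0x18108480ec) (.leaf (nat_lit 0x18108480cc) (nat_lit 1282))
 (.leaf (nat_lit 0x18108480ec) (nat_lit 2562))
) (.node (nat_lit 0x18108484ec) (.leaf (nat_lit 0x18108484cc) (nat_lit 2564))
 (.node (nat_lit 0x18108488dc) (.leaf (nat_lit 0x18108484ec) (nat_lit 3330))
 (.leaf (nat_lit 0x18108488dc) (nat_lit 2817))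
)))) (.node (nat_lit 0x18108594dc) (.node (nat_lit 0x1810848cfc) (.node (nat_lit 0x1810848cdc) (.leaf (nat_lit 0x18108488fc) (nat_lit 3332))
 (.leaf (nat_lit 0x1810848cdc) (nat_lit 3329))
) (.node (nat_lit 0x18108590dc) (.leaf (nat_lit 0x1810848cfc) (nat_lit 2564))
 (.node (nat_lit 0x18108590fc) (.leaf (nat_lit 0x18108590dc) (nat_lit 2818))
 (.leaf (nat_lit 0x18108590fc) (nat_lit 3328))
))) (.node (nat_lit 0x18108598ec) (.node (nat_lit 0x18108594fc) (.leaf (nat_lit 0x18108594dc) (nat_lit 1793))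
 (.node (nat_lit 0x18108598cc) (.leaf (nat_lit 0x18108594fc) (nat_lit 2817))
 (.leaf (nat_lit 0x18108598cc) (nat_lit 3332))
)) (.node (nat_lit 0x1810859ccc) (.leaf (nat_lit 0x18108598ec) (nat_lit 2817))
 (.node (nat_lit 0x1810859cec) (.leaf (nat_lit 0x1810859ccc) (nat_lit 2048))
 (.leaf (nat_lit 0x1810859cec) (nat_lit 3328))
))))))))) (.node (nat_lit 0x18114343bc) (.node (nat_lit 0x181100509c) (.node (nat_lit 0x1810c387dc) (.node (nat_lit 0x1810c08bac) (.node (nat_lit 0x181087949c) (.node (nat_lit 0x18108688bc) (.node (nat_lit 0x181086848c) (.node (nat_lit 0x18108680ac) (.leaf (nat_lit 0x181086808c) (nat_lit 1282))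
 (.leaf (nat_lit 0x18108680ac) (nat_lit 2562))
) (.node (nat_lit 0x18108684ac) (.leaf (nat_lit 0x181086848c) (nat_lit 2564))
 (.node (nat_lit 0x181086889c) (.leaf (nat_lit 0x18108684ac) (nat_lit 3330))
 (.leaf (nat_lit 0x181086889c) (nat_lit 2817))
))) (.node (nat_lit 0x1810868cbc) (.node (nat_lit 0x1810868c9c) (.leaf (nat_lit 0x18108688bc) (nat_lit 3332))
 (.leaf (nat_lit 0x1810868c9c) (nat_lit 3329))
) (.node (nat_lit 0x181087909c) (.leaf (nat_lit 0x1810868cbc) (nat_lit 2564))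
 (.node (nat_lit 0x18108790bc) (.leaf (nat_lit 0x181087909c) (nat_lit 3330))
 (.leaf (nat_lit 0x18108790bc) (nat_lit 2819))
)))) (.node (nat_lit 0x1810879cac) (.node (nat_lit 0x181087988c) (.node (nat_lit 0x18108794bc) (.leaf (nat_lit 0x181087949c) (nat_lit 2305))
 (.leaf (nat_lit 0x18108794bc) (nat_lit 3329))
) (.node (nat_lit 0x18108798ac) (.leaf (nat_lit 0x181087988c) (nat_lit 2820))
 (.node (nat_lit 0x1810879c8c) (.leaf (nat_lit 0x18108798ac) (nat_lit 3329))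
 (.leaf (nat_lit 0x1810879c8c) (nat_lit 1539))
))) (.node (nat_lit 0x1810c0878c) (.node (nat_lit 0x1810c0838c) (.leaf (nat_lit 0x1810879cac) (nat_lit 2819))
 (.node (nat_lit 0x1810c083bc) (.leaf (nat_lit 0x1810c0838c) (nat_lit 769))
 (.leaf (nat_lit 0x1810c083bc) (nat_lit 2562))
)) (.node (nat_lit 0x1810c087bc) (.leaf (nat_lit 0x1810c0878c) (nat_lit 2052))
 (.node (nat_lit 0x1810c08b9c) (.leaf (nat_lit 0x1810c087bc) (nat_lit 3330))
 (.leaf (nat_lit 0x1810c08b9c) (nat_lit 3329))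
))))) (.node (nat_lit 0x1810c19fbc) (.node (nat_lit 0x1810c1979c) (.node (nat_lit 0x1810c08fac) (.node (nat_lit 0x1810c08f9c) (.leaf (nat_lit 0x1810c08bac) (nat_lit 2052))
 (.leaf (nat_lit 0x1810c08f9c) (nat_lit 2816))
) (.node (nat_lit 0x1810c1939c) (.leaf (nat_lit 0x1810c08fac) (nat_lit 2820))
 (.node (nat_lit 0x1810c193ac) (.leaf (nat_lit 0x1810c1939c) (nat_lit 2307))
 (.leaf (nat_lit 0x1810c193ac) (nat_lit 3330))
))) (.node (nat_lit 0x1810c19b8c) (.node (nat_lit 0x1810c197ac) (.leaf (nat_lit 0x1810c1979c) (nat_lit 2820))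
 (.leaf (nat_lit 0x1810c197ac) (nat_lit 2816))
) (.node (nat_lit 0x1810c19bbc) (.leaf (nat_lit 0x1810c19b8c) (nat_lit 2816))
 (.node (nat_lit 0x1810c19f8c) (.leaf (nat_lit 0x1810c19bbc) (nat_lit 3075))
 (.leaf (nat_lit 0x1810c19f8c) (nat_lit 1795))
)))) (.node (nat_lit 0x1810c29bdc) (.node (nat_lit 0x1810c293fc) (.node (nat_lit 0x1810c293cc) (.leaf (nat_lit 0x1810c19fbc) (nat_lit 3328))
 (.leaf (nat_lit 0x1810c293cc) (nat_lit 1281))
) (.node (nat_lit 0x1810c297cc) (.leaf (nat_lit 0x1810c293fc) (nat_lit 3074))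
 (.node (nat_lit 0x1810c297fc) (.leaf (nat_lit 0x1810c297cc) (nat_lit 2564))
 (.leaf (nat_lit 0x1810c297fc) (nat_lit 3075))
))) (.node (nat_lit 0x1810c29fec) (.node (nat_lit 0x1810c29bec) (.leaf (nat_lit 0x1810c29bdc) (nat_lit 3331))
 (.node (nat_lit 0x1810c29fdc) (.leaf (nat_lit 0x1810c29bec) (nat_lit 2564))
 (.leaf (nat_lit 0x1810c29fdc) (nat_lit 2307))
)) (.node (nat_lit 0x1810c383dc) (.leaf (nat_lit 0x1810c29fec) (nat_lit 3332))
 (.node (nat_lit 0x1810c383ec) (.leaf (nat_lit 0x1810c383dc) (nat_lit 2304))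
 (.leaf (nat_lit 0x1810c383ec) (nat_lit 3330))
)))))) (.node (nat_lit 0x1810c58ffc) (.node (nat_lit 0x1810c49bdc) (.node (nat_lit 0x1810c38ffc) (.node (nat_lit 0x1810c38bcc) (.node (nat_lit 0x1810c387ec) (.leaf (nat_lit 0x1810c387dc) (nat_lit 2820))
 (.leaf (nat_lit 0x1810c387ec) (nat_lit 2819))
) (.node (nat_lit 0x1810c38bfc) (.leaf (nat_lit 0x1810c38bcc) (nat_lit 2819))
 (.node (nat_lit 0x1810c38fcc) (.leaf (nat_lit 0x1810c38bfc) (nat_lit 3072))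
 (.leaf (nat_lit 0x1810c38fcc) (nat_lit 1795))
))) (.node (nat_lit 0x1810c493fc) (.node (nat_lit 0x1810c493cc) (.leaf (nat_lit 0x1810c38ffc) (nat_lit 3331))
 (.leaf (nat_lit 0x1810c493cc) (nat_lit 1025))
) (.node (nat_lit 0x1810c497cc) (.leaf (nat_lit 0x1810c493fc) (nat_lit 2818))
 (.node (nat_lit 0x1810c497fc) (.leaf (nat_lit 0x1810c497cc) (nat_lit 2308))
 (.leaf (nat_lit 0x1810c497fc) (nat_lit 3328))
)))) (.node (nat_lit 0x1810c583ec) (.node (nat_lit 0x1810c49fdc) (.node (nat_lit 0x1810c49bec) (.leaf (nat_lit 0x1810c49bdc) (nat_lit 3585))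
 (.leaf (nat_lit 0x1810c49bec) (nat_lit 2308))
) (.node (nat_lit 0x1810c49fec) (.leaf (nat_lit 0x1810c49fdc) (nat_lit 2560))
 (.node (nat_lit 0x1810c583dc) (.leaf (nat_lit 0x1810c49fec) (nat_lit 3076))
 (.leaf (nat_lit 0x1810c583dc) (nat_lit 2051))
))) (.node (nat_lit 0x1810c58bcc) (.node (nat_lit 0x1810c587dc) (.leaf (nat_lit 0x1810c583ec) (nat_lit 3074))
 (.node (nat_lit 0x1810c587ec) (.leaf (nat_lit 0x1810c587dc) (nat_lit 2564))
 (.leaf (nat_lit 0x1810c587ec) (nat_lit 3072))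
)) (.node (nat_lit 0x1810c58bfc) (.leaf (nat_lit 0x1810c58bcc) (nat_lit 3072))
 (.node (nat_lit 0x1810c58fcc) (.leaf (nat_lit 0x1810c58bfc) (nat_lit 2819))
 (.leaf (nat_lit 0x1810c58fcc) (nat_lit 2051))
))))) (.node (nat_lit 0x1810c793ac) (.node (nat_lit 0x1810c68b9c) (.node (nat_lit 0x1810c683bc) (.node (nat_lit 0x1810c6838c) (.leaf (nat_lit 0x1810c58ffc) (nat_lit 3584))
 (.leaf (nat_lit 0x1810c6838c) (nat_lit 1025))
) (.node (nat_lit 0x1810c6878c) (.leaf (nat_lit 0x1810c683bc) (nat_lit 2818))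
 (.node (nat_lit 0x1810c687bc) (.leaf (nat_lit 0x1810c6878c) (nat_lit 2308))
 (.leaf (nat_lit 0x1810c687bc) (nat_lit 3331))
))) (.node (nat_lit 0x1810c68f9c) (.node (nat_lit 0x1810c68bac) (.leaf (nat_lit 0x1810c68b9c) (nat_lit 3587))
 (.leaf (nat_lit 0x1810c68bac) (nat_lit 2308))
) (.node (nat_lit 0x1810c68fac) (.leaf (nat_lit 0x1810c68f9c) (nat_lit 2563))
 (.node (nat_lit 0x1810c7939c) (.leaf (nat_lit 0x1810c68fac) (nat_lit 3076))
 (.leaf (nat_lit 0x1810c7939c) (nat_lit 2560))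
)))) (.node (nat_lit 0x1810c79f8c) (.node (nat_lit 0x1810c797ac) (.node (nat_lit 0x1810c7979c) (.leaf (nat_lit 0x1810c793ac) (nat_lit 3331))
 (.leaf (nat_lit 0x1810c7979c) (nat_lit 3076))
) (.node (nat_lit 0x1810c79b8c) (.leaf (nat_lit 0x1810c797ac) (nat_lit 2563))
 (.node (nat_lit 0x1810c79bbc) (.leaf (nat_lit 0x1810c79b8c) (nat_lit 2563))
 (.leaf (nat_lit 0x1810c79bbc) (nat_lit 3328))
))) (.node (nat_lit 0x18110040cc) (.node (nat_lit 0x1810c79fbc) (.leaf (nat_lit 0x1810c79f8c) (nat_lit 1539))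
 (.node (nat_lit 0x181100408c) (.leaf (nat_lit 0x1810c79fbc) (nat_lit 3075))
 (.leaf (nat_lit 0x181100408c) (nat_lit 1281))
)) (.node (nat_lit 0x181100448c) (.leaf (nat_lit 0x18110040cc) (nat_lit 1537))
 (.node (nat_lit 0x18110044cc) (.leaf (nat_lit 0x181100448c) (nat_lit 2308))
 (.leaf (nat_lit 0x18110044cc) (nat_lit 2564))
))))))) (.node (nat_lit 0x1811055cac) (.node (nat_lit 0x18110348fc) (.node (nat_lit 0x1811015c8c) (.node (nat_lit 0x18110148dc) (.node (nat_lit 0x181100549c) (.node (nat_lit 0x18110050dc) (.leaf (nat_lit 0x181100509c) (nat_lit 3076))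
 (.leaf (nat_lit 0x18110050dc) (nat_lit 2820))
) (.node (nat_lit 0x18110054dc) (.leaf (nat_lit 0x181100549c) (nat_lit 2305))
 (.node (nat_lit 0x181101489c) (.leaf (nat_lit 0x18110054dc) (nat_lit 2049))
 (.leaf (nat_lit 0x181101489c) (nat_lit 3329))
))) (.node (nat_lit 0x1811014cdc) (.node (nat_lit 0x1811014c9c) (.leaf (nat_lit 0x18110148dc) (nat_lit 3073))
 (.leaf (nat_lit 0x1811014c9c) (nat_lit 2817))
) (.node (nat_lit 0x181101588c) (.leaf (nat_lit 0x1811014cdc) (nat_lit 3073))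
 (.node (nat_lit 0x18110158cc) (.leaf (nat_lit 0x181101588c) (nat_lit 3328))
 (.leaf (nat_lit 0x18110158cc) (nat_lit 3329))
)))) (.node (nat_lit 0x18110244ec) (.node (nat_lit 0x18110240ac) (.node (nat_lit 0x1811015ccc) (.leaf (nat_lit 0x1811015c8c) (nat_lit 2304))
 (.leaf (nat_lit 0x1811015ccc) (nat_lit 2560))
) (.node (nat_lit 0x18110240ec) (.leaf (nat_lit 0x18110240ac) (nat_lit 2050))
 (.node (nat_lit 0x18110244ac) (.leaf (nat_lit 0x18110240ec) (nat_lit 2306))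
 (.leaf (nat_lit 0x18110244ac) (nat_lit 3076))
))) (.node (nat_lit 0x18110254bc) (.node (nat_lit 0x18110250bc) (.leaf (nat_lit 0x18110244ec) (nat_lit 3332))
 (.node (nat_lit 0x18110250fc) (.leaf (nat_lit 0x18110250bc) (nat_lit 2817))
 (.leaf (nat_lit 0x18110250fc) (nat_lit 3073))
)) (.node (nat_lit 0x18110254fc) (.leaf (nat_lit 0x18110254bc) (nat_lit 3329))
 (.node (nat_lit 0x18110348bc) (.leaf (nat_lit 0x18110254fc) (nat_lit 3073))
 (.leaf (nat_lit 0x18110348bc) (nat_lit 3330))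
))))) (.node (nat_lit 0x18110444ec) (.node (nat_lit 0x1811035cac) (.node (nat_lit 0x1811034cfc) (.node (nat_lit 0x1811034cbc) (.leaf (nat_lit 0x18110348fc) (nat_lit 3586))
 (.leaf (nat_lit 0x1811034cbc) (nat_lit 2049))
) (.node (nat_lit 0x18110358ac) (.leaf (nat_lit 0x1811034cfc) (nat_lit 2305))
 (.node (nat_lit 0x18110358ec) (.leaf (nat_lit 0x18110358ac) (nat_lit 3073))
 (.leaf (nat_lit 0x18110358ec) (nat_lit 2817))
))) (.node (nat_lit 0x18110440ac) (.node (nat_lit 0x1811035cec) (.leaf (nat_lit 0x1811035cac) (nat_lit 2819))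
 (.leaf (nat_lit 0x1811035cec) (nat_lit 3075))
) (.node (nat_lit 0x18110440ec) (.leaf (nat_lit 0x18110440ac) (nat_lit 2306))
 (.node (nat_lit 0x18110444ac) (.leaf (nat_lit 0x18110440ec) (nat_lit 2562))
 (.leaf (nat_lit 0x18110444ac) (nat_lit 3332))
)))) (.node (nat_lit 0x18110548bc) (.node (nat_lit 0x18110450fc) (.node (nat_lit 0x18110450bc) (.leaf (nat_lit 0x18110444ec) (nat_lit 3588))
 (.leaf (nat_lit 0x18110450bc) (nat_lit 2561))
) (.node (nat_lit 0x18110454bc) (.leaf (nat_lit 0x18110450fc) (nat_lit 2817))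
 (.node (nat_lit 0x18110454fc) (.leaf (nat_lit 0x18110454bc) (nat_lit 3585))
 (.leaf (nat_lit 0x18110454fc) (nat_lit 3329))
))) (.node (nat_lit 0x1811054cfc) (.node (nat_lit 0x18110548fc) (.leaf (nat_lit 0x18110548bc) (nat_lit 3587))
 (.node (nat_lit 0x1811054cbc) (.leaf (nat_lit 0x18110548fc) (nat_lit 3331))
 (.leaf (nat_lit 0x1811054cbc) (nat_lit 2305))
)) (.node (nat_lit 0x18110558ac) (.leaf (nat_lit 0x1811054cfc) (nat_lit 2561))
 (.node (nat_lit 0x18110558ec) (.leaf (nat_lit 0x18110558ac) (nat_lit 3329))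
 (.leaf (nat_lit 0x18110558ec) (nat_lit 3073))
)))))) (.node (nat_lit 0x18114047dc) (.node (nat_lit 0x181107489c) (.node (nat_lit 0x18110644cc) (.node (nat_lit 0x181106408c) (.node (nat_lit 0x1811055cec) (.leaf (nat_lit 0x1811055cac) (nat_lit 2563))
 (.leaf (nat_lit 0x1811055cec) (nat_lit 2819))
) (.node (nat_lit 0x18110640cc) (.leaf (nat_lit 0x181106408c) (nat_lit 1537))
 (.node (nat_lit 0x181106448c) (.leaf (nat_lit 0x18110640cc) (nat_lit 1793))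
 (.leaf (nat_lit 0x181106448c) (nat_lit 2564))
))) (.node (nat_lit 0x18110650dc) (.node (nat_lit 0x181106509c) (.leaf (nat_lit 0x18110644cc) (nat_lit 2820))
 (.leaf (nat_lit 0x181106509c) (nat_lit 3332))
) (.node (nat_lit 0x181106549c) (.leaf (nat_lit 0x18110650dc) (nat_lit 3076))
 (.node (nat_lit 0x18110654dc) (.leaf (nat_lit 0x181106549c) (nat_lit 2561))
 (.leaf (nat_lit 0x18110654dc) (nat_lit 2305))
)))) (.node (nat_lit 0x18110758cc) (.node (nat_lit 0x1811074c9c) (.node (nat_lit 0x18110748dc) (.leaf (nat_lit 0x181107489c) (nat_lit 3073))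
 (.leaf (nat_lit 0x18110748dc) (nat_lit 2817))
) (.node (nat_lit 0x1811074cdc) (.leaf (nat_lit 0x1811074c9c) (nat_lit 3073))
 (.node (nat_lit 0x181107588c) (.leaf (nat_lit 0x1811074cdc) (nat_lit 3329))
 (.leaf (nat_lit 0x181107588c) (nat_lit 3075))
))) (.node (nat_lit 0x181140438c) (.node (nat_lit 0x1811075c8c) (.leaf (nat_lit 0x18110758cc) (nat_lit 3331))
 (.node (nat_lit 0x1811075ccc) (.leaf (nat_lit 0x1811075c8c) (nat_lit 2051))
 (.leaf (nat_lit 0x1811075ccc) (nat_lit 2307))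
)) (.node (nat_lit 0x18114043dc) (.leaf (nat_lit 0x181140438c) (nat_lit 1025))
 (.node (nat_lit 0x181140478c) (.leaf (nat_lit 0x18114043dc) (nat_lit 2305))
 (.leaf (nat_lit 0x181140478c) (nat_lit 2308))
))))) (.node (nat_lit 0x1811415bdc) (.node (nat_lit 0x1811414b9c) (.node (nat_lit 0x18114053cc) (.node (nat_lit 0x181140539c) (.leaf (nat_lit 0x18114047dc) (nat_lit 3074))
 (.leaf (nat_lit 0x181140539c) (nat_lit 2561))
) (.node (nat_lit 0x181140579c) (.leaf (nat_lit 0x18114053cc) (nat_lit 1281))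
 (.node (nat_lit 0x18114057cc) (.leaf (nat_lit 0x181140579c) (nat_lit 3330))
 (.leaf (nat_lit 0x18114057cc) (nat_lit 2564))
))) (.node (nat_lit 0x1811414f9c) (.node (nat_lit 0x1811414bcc) (.leaf (nat_lit 0x1811414b9c) (nat_lit 3073))
 (.leaf (nat_lit 0x1811414bcc) (nat_lit 3328))
) (.node (nat_lit 0x1811414fcc) (.leaf (nat_lit 0x1811414f9c) (nat_lit 3585))
 (.node (nat_lit 0x1811415b8c) (.leaf (nat_lit 0x1811414fcc) (nat_lit 2304))
 (.leaf (nat_lit 0x1811415b8c) (nat_lit 3072))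
)))) (.node (nat_lit 0x1811424fac) (.node (nat_lit 0x1811415fdc) (.node (nat_lit 0x1811415f8c) (.leaf (nat_lit 0x1811415bdc) (nat_lit 3329))
 (.leaf (nat_lit 0x1811415f8c) (nat_lit 2048))
) (.node (nat_lit 0x1811424bac) (.leaf (nat_lit 0x1811415fdc) (nat_lit 3329))
 (.node (nat_lit 0x1811424bfc) (.leaf (nat_lit 0x1811424bac) (nat_lit 1793))
 (.leaf (nat_lit 0x1811424bfc) (nat_lit 3073))
))) (.node (nat_lit 0x1811425bec) (.node (nat_lit 0x1811424ffc) (.leaf (nat_lit 0x1811424fac) (nat_lit 3075))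
 (.node (nat_lit 0x1811425bbc) (.leaf (nat_lit 0x1811424ffc) (nat_lit 3072))
 (.leaf (nat_lit 0x1811425bbc) (nat_lit 3329))
)) (.node (nat_lit 0x1811425fbc) (.leaf (nat_lit 0x1811425bec) (nat_lit 2049))
 (.node (nat_lit 0x1811425fec) (.leaf (nat_lit 0x1811425fbc) (nat_lit 2816))
 (.leaf (nat_lit 0x1811425fec) (nat_lit 3331))
)))))))) (.node (nat_lit 0x1820459b62) (.node (nat_lit 0x1820408722) (.node (nat_lit 0x18114553fc) (.node (nat_lit 0x1811444fac) (.node (nat_lit 0x18114353fc) (.node (nat_lit 0x18114347bc) (.node (nat_lit 0x18114343ec) (.leaf (nat_lit 0x18114343bc) (nat_lit 2307))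
 (.leaf (nat_lit 0x18114343ec) (nat_lit 3074))
) (.node (nat_lit 0x18114347ec) (.leaf (nat_lit 0x18114347bc) (nat_lit 3076))
 (.node (nat_lit 0x18114353ac) (.leaf (nat_lit 0x18114347ec) (nat_lit 3075))
 (.leaf (nat_lit 0x18114353ac) (nat_lit 3330))
))) (.node (nat_lit 0x18114357fc) (.node (nat_lit 0x18114357ac) (.leaf (nat_lit 0x18114353fc) (nat_lit 2563))
 (.leaf (nat_lit 0x18114357ac) (nat_lit 2819))
) (.node (nat_lit 0x1811444bac) (.leaf (nat_lit 0x18114357fc) (nat_lit 3332))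
 (.node (nat_lit 0x1811444bfc) (.leaf (nat_lit 0x1811444bac) (nat_lit 2049))
 (.leaf (nat_lit 0x1811444bfc) (nat_lit 3329))
)))) (.node (nat_lit 0x1811445fec) (.node (nat_lit 0x1811445bbc) (.node (nat_lit 0x1811444ffc) (.leaf (nat_lit 0x1811444fac) (nat_lit 3328))
 (.leaf (nat_lit 0x1811444ffc) (nat_lit 2819))
) (.node (nat_lit 0x1811445bec) (.leaf (nat_lit 0x1811445bbc) (nat_lit 3585))
 (.node (nat_lit 0x1811445fbc) (.leaf (nat_lit 0x1811445bec) (nat_lit 2305))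
 (.leaf (nat_lit 0x1811445fbc) (nat_lit 2563))
))) (.node (nat_lit 0x18114547bc) (.node (nat_lit 0x18114543bc) (.leaf (nat_lit 0x1811445fec) (nat_lit 3584))
 (.node (nat_lit 0x18114543ec) (.leaf (nat_lit 0x18114543bc) (nat_lit 2560))
 (.leaf (nat_lit 0x18114543ec) (nat_lit 3330))
)) (.node (nat_lit 0x18114547ec) (.leaf (nat_lit 0x18114547bc) (nat_lit 3332))
 (.node (nat_lit 0x18114553ac) (.leaf (nat_lit 0x18114547ec) (nat_lit 2819))
 (.leaf (nat_lit 0x18114553ac) (nat_lit 3331))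
))))) (.node (nat_lit 0x18114657cc) (.node (nat_lit 0x181146478c) (.node (nat_lit 0x18114557fc) (.node (nat_lit 0x18114557ac) (.leaf (nat_lit 0x18114553fc) (nat_lit 2816))
 (.leaf (nat_lit 0x18114557ac) (nat_lit 2563))
) (.node (nat_lit 0x181146438c) (.leaf (nat_lit 0x18114557fc) (nat_lit 3588))
 (.node (nat_lit 0x18114643dc) (.leaf (nat_lit 0x181146438c) (nat_lit 1281))
 (.leaf (nat_lit 0x18114643dc) (nat_lit 2561))
))) (.node (nat_lit 0x181146539c) (.node (nat_lit 0x18114647dc) (.leaf (nat_lit 0x181146478c) (nat_lit 2564))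
 (.leaf (nat_lit 0x18114647dc) (nat_lit 3330))
) (.node (nat_lit 0x18114653cc) (.leaf (nat_lit 0x181146539c) (nat_lit 2817))
 (.node (nat_lit 0x181146579c) (.leaf (nat_lit 0x18114653cc) (nat_lit 1537))
 (.leaf (nat_lit 0x181146579c) (nat_lit 3329))
)))) (.node (nat_lit 0x1811475b8c) (.node (nat_lit 0x1811474bcc) (.node (nat_lit 0x1811474b9c) (.leaf (nat_lit 0x18114657cc) (nat_lit 2820))
 (.leaf (nat_lit 0x1811474b9c) (nat_lit 3329))
) (.node (nat_lit 0x1811474f9c) (.leaf (nat_lit 0x1811474bcc) (nat_lit 3075))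
 (.node (nat_lit 0x1811474fcc) (.leaf (nat_lit 0x1811474f9c) (nat_lit 3329))
 (.leaf (nat_lit 0x1811474fcc) (nat_lit 2051))
))) (.node (nat_lit 0x1811475fdc) (.node (nat_lit 0x1811475bdc) (.leaf (nat_lit 0x1811475b8c) (nat_lit 2819))
 (.node (nat_lit 0x1811475f8c) (.leaf (nat_lit 0x1811475bdc) (nat_lit 3585))
 (.leaf (nat_lit 0x1811475f8c) (nat_lit 1795))
)) (.node (nat_lit 0x1820408302) (.leaf (nat_lit 0x1811475fdc) (nat_lit 3073))
 (.node (nat_lit 0x1820408312) (.leaf (nat_lit 0x1820408302) (nat_lit 259))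
 (.leaf (nat_lit 0x1820408312) (nat_lit 2563))
)))))) (.node (nat_lit 0x1820429f32) (.node (nat_lit 0x1820418b62) (.node (nat_lit 0x1820408f32) (.node (nat_lit 0x1820408b02) (.node (nat_lit 0x1820408732) (.leaf (nat_lit 0x1820408722) (nat_lit 2817))
 (.leaf (nat_lit 0x1820408732) (nat_lit 2819))
) (.node (nat_lit 0x1820408b12) (.leaf (nat_lit 0x1820408b02) (nat_lit 1540))
 (.node (nat_lit 0x1820408f22) (.leaf (nat_lit 0x1820408b12) (nat_lit 3331))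
 (.leaf (nat_lit 0x1820408f22) (nat_lit 3844))
))) (.node (nat_lit 0x1820418372) (.node (nat_lit 0x1820418362) (.leaf (nat_lit 0x1820408f32) (nat_lit 2051))
 (.leaf (nat_lit 0x1820418362) (nat_lit 3330))
) (.node (nat_lit 0x1820418742) (.leaf (nat_lit 0x1820418372) (nat_lit 1792))
 (.node (nat_lit 0x1820418752) (.leaf (nat_lit 0x1820418742) (nat_lit 3330))
 (.leaf (nat_lit 0x1820418752) (nat_lit 1793))
)))) (.node (nat_lit 0x1820429312) (.node (nat_lit 0x1820418f42) (.node (nat_lit 0x1820418b72) (.leaf (nat_lit 0x1820418b62) (nat_lit 2817))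
 (.leaf (nat_lit 0x1820418b72) (nat_lit 2820))
) (.node (nat_lit 0x1820418f52) (.leaf (nat_lit 0x1820418f42) (nat_lit 2820))
 (.node (nat_lit 0x1820429302) (.leaf (nat_lit 0x1820418f52) (nat_lit 2817))
 (.leaf (nat_lit 0x1820429302) (nat_lit 768))
))) (.node (nat_lit 0x1820429b02) (.node (nat_lit 0x1820429722) (.leaf (nat_lit 0x1820429312) (nat_lit 3072))
 (.node (nat_lit 0x1820429732) (.leaf (nat_lit 0x1820429722) (nat_lit 2305))
 (.leaf (nat_lit 0x1820429732) (nat_lit 3328))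
)) (.node (nat_lit 0x1820429b12) (.leaf (nat_lit 0x1820429b02) (nat_lit 2052))
 (.node (nat_lit 0x1820429f22) (.leaf (nat_lit 0x1820429b12) (nat_lit 3329))
 (.leaf (nat_lit 0x1820429f22) (nat_lit 3332))
))))) (.node (nat_lit 0x1820449312) (.node (nat_lit 0x1820439b62) (.node (nat_lit 0x1820439372) (.node (nat_lit 0x1820439362) (.leaf (nat_lit 0x1820429f32) (nat_lit 2560))
 (.leaf (nat_lit 0x1820439362) (nat_lit 3330))
) (.node (nat_lit 0x1820439742) (.leaf (nat_lit 0x1820439372) (nat_lit 1795))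
 (.node (nat_lit 0x1820439752) (.leaf (nat_lit 0x1820439742) (nat_lit 3330))
 (.leaf (nat_lit 0x1820439752) (nat_lit 1793))
))) (.node (nat_lit 0x1820439f42) (.node (nat_lit 0x1820439b72) (.leaf (nat_lit 0x1820439b62) (nat_lit 2817))
 (.leaf (nat_lit 0x1820439b72) (nat_lit 2820))
) (.node (nat_lit 0x1820439f52) (.leaf (nat_lit 0x1820439f42) (nat_lit 2820))
 (.node (nat_lit 0x1820449302) (.leaf (nat_lit 0x1820439f52) (nat_lit 2817))
 (.leaf (nat_lit 0x1820449302) (nat_lit 515))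
)))) (.node (nat_lit 0x1820449f22) (.node (nat_lit 0x1820449732) (.node (nat_lit 0x1820449722) (.leaf (nat_lit 0x1820449312) (nat_lit 2819))
 (.leaf (nat_lit 0x1820449722) (nat_lit 2561))
) (.node (nat_lit 0x1820449b02) (.leaf (nat_lit 0x1820449732) (nat_lit 3075))
 (.node (nat_lit 0x1820449b12) (.leaf (nat_lit 0x1820449b02) (nat_lit 1796))
 (.leaf (nat_lit 0x1820449b12) (nat_lit 3587))
))) (.node (nat_lit 0x1820459372) (.node (nat_lit 0x1820449f32) (.leaf (nat_lit 0x1820449f22) (nat_lit 3588))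
 (.node (nat_lit 0x1820459362) (.leaf (nat_lit 0x1820449f32) (nat_lit 2307))
 (.leaf (nat_lit 0x1820459362) (nat_lit 3329))
)) (.node (nat_lit 0x1820459742) (.leaf (nat_lit 0x1820459372) (nat_lit 2048))
 (.node (nat_lit 0x1820459752) (.leaf (nat_lit 0x1820459742) (nat_lit 3074))
 (.leaf (nat_lit 0x1820459752) (nat_lit 1537))
))))))) (.node (nat_lit 0x1820c29f92) (.node (nat_lit 0x1820c083b2) (.node (nat_lit 0x1820468f22) (.node (nat_lit 0x1820468312) (.node (nat_lit 0x1820459f42) (.node (nat_lit 0x1820459b72) (.leaf (nat_lit 0x1820459b62) (nat_lit 2561))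
 (.leaf (nat_lit 0x1820459b72) (nat_lit 3076))
) (.node (nat_lit 0x1820459f52) (.leaf (nat_lit 0x1820459f42) (nat_lit 3076))
 (.node (nat_lit 0x1820468302) (.leaf (nat_lit 0x1820459f52) (nat_lit 2561))
 (.leaf (nat_lit 0x1820468302) (nat_lit 512))
))) (.node (nat_lit 0x1820468732) (.node (nat_lit 0x1820468722) (.leaf (nat_lit 0x1820468312) (nat_lit 2816))
 (.leaf (nat_lit 0x1820468722) (nat_lit 2561))
) (.node (nat_lit 0x1820468b02) (.leaf (nat_lit 0x1820468732) (nat_lit 3072))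
 (.node (nat_lit 0x1820468b12) (.leaf (nat_lit 0x1820468b02) (nat_lit 1796))
 (.leaf (nat_lit 0x1820468b12) (nat_lit 3585))
)))) (.node (nat_lit 0x1820478752) (.node (nat_lit 0x1820478362) (.node (nat_lit 0x1820468f32) (.leaf (nat_lit 0x1820468f22) (nat_lit 3588))
 (.leaf (nat_lit 0x1820468f32) (nat_lit 2304))
) (.node (nat_lit 0x1820478372) (.leaf (nat_lit 0x1820478362) (nat_lit 3074))
 (.node (nat_lit 0x1820478742) (.leaf (nat_lit 0x1820478372) (nat_lit 1539))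
 (.leaf (nat_lit 0x1820478742) (nat_lit 3332))
))) (.node (nat_lit 0x1820478f42) (.node (nat_lit 0x1820478b62) (.leaf (nat_lit 0x1820478752) (nat_lit 2049))
 (.node (nat_lit 0x1820478b72) (.leaf (nat_lit 0x1820478b62) (nat_lit 3073))
 (.leaf (nat_lit 0x1820478b72) (nat_lit 2564))
)) (.node (nat_lit 0x1820478f52) (.leaf (nat_lit 0x1820478f42) (nat_lit 2564))
 (.node (nat_lit 0x1820c08382) (.leaf (nat_lit 0x1820478f52) (nat_lit 3073))
 (.leaf (nat_lit 0x1820c08382) (nat_lit 515))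
))))) (.node (nat_lit 0x1820c197f2) (.node (nat_lit 0x1820c08f92) (.node (nat_lit 0x1820c087a2) (.node (nat_lit 0x1820c08792) (.leaf (nat_lit 0x1820c083b2) (nat_lit 2307))
 (.leaf (nat_lit 0x1820c08792) (nat_lit 2307))
) (.node (nat_lit 0x1820c08b82) (.leaf (nat_lit 0x1820c087a2) (nat_lit 3585))
 (.node (nat_lit 0x1820c08bb2) (.leaf (nat_lit 0x1820c08b82) (nat_lit 1796))
 (.leaf (nat_lit 0x1820c08bb2) (nat_lit 3075))
))) (.node (nat_lit 0x1820c193d2) (.node (nat_lit 0x1820c08fa2) (.leaf (nat_lit 0x1820c08f92) (nat_lit 3075))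
 (.leaf (nat_lit 0x1820c08fa2) (nat_lit 3074))
) (.node (nat_lit 0x1820c193e2) (.leaf (nat_lit 0x1820c193d2) (nat_lit 2051))
 (.node (nat_lit 0x1820c197c2) (.leaf (nat_lit 0x1820c193e2) (nat_lit 3074))
 (.leaf (nat_lit 0x1820c197c2) (nat_lit 3076))
)))) (.node (nat_lit 0x1820c29382) (.node (nat_lit 0x1820c19be2) (.node (nat_lit 0x1820c19bd2) (.leaf (nat_lit 0x1820c197f2) (nat_lit 3074))
 (.leaf (nat_lit 0x1820c19bd2) (nat_lit 3076))
) (.node (nat_lit 0x1820c19fc2) (.leaf (nat_lit 0x1820c19be2) (nat_lit 3073))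
 (.node (nat_lit 0x1820c19ff2) (.leaf (nat_lit 0x1820c19fc2) (nat_lit 3074))
 (.leaf (nat_lit 0x1820c19ff2) (nat_lit 2048))
))) (.node (nat_lit 0x1820c297a2) (.node (nat_lit 0x1820c293b2) (.leaf (nat_lit 0x1820c29382) (nat_lit 1024))
 (.node (nat_lit 0x1820c29792) (.leaf (nat_lit 0x1820c293b2) (nat_lit 2816))
 (.leaf (nat_lit 0x1820c29792) (nat_lit 2816))
)) (.node (nat_lit 0x1820c29b82) (.leaf (nat_lit 0x1820c297a2) (nat_lit 3332))
 (.node (nat_lit 0x1820c29bb2) (.leaf (nat_lit 0x1820c29b82) (nat_lit 2308))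
 (.leaf (nat_lit 0x1820c29bb2) (nat_lit 3584))
)))))) (.node (nat_lit 0x1820c587f2) (.node (nat_lit 0x1820c49382) (.node (nat_lit 0x1820c387f2) (.node (nat_lit 0x1820c383d2) (.node (nat_lit 0x1820c29fa2) (.leaf (nat_lit 0x1820c29f92) (nat_lit 3584))
 (.leaf (nat_lit 0x1820c29fa2) (nat_lit 2562))
) (.node (nat_lit 0x1820c383e2) (.leaf (nat_lit 0x1820c383d2) (nat_lit 2048))
 (.node (nat_lit 0x1820c387c2) (.leaf (nat_lit 0x1820c383e2) (nat_lit 3074))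
 (.leaf (nat_lit 0x1820c387c2) (nat_lit 3076))
))) (.node (nat_lit 0x1820c38be2) (.node (nat_lit 0x1820c38bd2) (.leaf (nat_lit 0x1820c387f2) (nat_lit 3074))
 (.leaf (nat_lit 0x1820c38bd2) (nat_lit 3076))
) (.node (nat_lit 0x1820c38fc2) (.leaf (nat_lit 0x1820c38be2) (nat_lit 3073))
 (.node (nat_lit 0x1820c38ff2) (.leaf (nat_lit 0x1820c38fc2) (nat_lit 3074))
 (.leaf (nat_lit 0x1820c38ff2) (nat_lit 2051))
)))) (.node (nat_lit 0x1820c49bb2) (.node (nat_lit 0x1820c49792) (.node (nat_lit 0x1820c493b2) (.leaf (nat_lit 0x1820c49382) (nat_lit 771))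
 (.leaf (nat_lit 0x1820c493b2) (nat_lit 2563))
) (.node (nat_lit 0x1820c497a2) (.leaf (nat_lit 0x1820c49792) (nat_lit 2563))
 (.node (nat_lit 0x1820c49b82) (.leaf (nat_lit 0x1820c497a2) (nat_lit 3588))
 (.leaf (nat_lit 0x1820c49b82) (nat_lit 2052))
))) (.node (nat_lit 0x1820c583d2) (.node (nat_lit 0x1820c49f92) (.leaf (nat_lit 0x1820c49bb2) (nat_lit 3331))
 (.node (nat_lit 0x1820c49fa2) (.leaf (nat_lit 0x1820c49f92) (nat_lit 3331))
 (.leaf (nat_lit 0x1820c49fa2) (nat_lit 2818))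
)) (.node (nat_lit 0x1820c583e2) (.leaf (nat_lit 0x1820c583d2) (nat_lit 1795))
 (.node (nat_lit 0x1820c587c2) (.leaf (nat_lit 0x1820c583e2) (nat_lit 2818))
 (.leaf (nat_lit 0x1820c587c2) (nat_lit 2820))
))))) (.node (nat_lit 0x1820c68bb2) (.node (nat_lit 0x1820c68382) (.node (nat_lit 0x1820c58be2) (.node (nat_lit 0x1820c58bd2) (.leaf (nat_lit 0x1820c587f2) (nat_lit 3330))
 (.leaf (nat_lit 0x1820c58bd2) (nat_lit 2820))
) (.node (nat_lit 0x1820c58fc2) (.leaf (nat_lit 0x1820c58be2) (nat_lit 3329))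
 (.node (nat_lit 0x1820c58ff2) (.leaf (nat_lit 0x1820c58fc2) (nat_lit 3330))
 (.leaf (nat_lit 0x1820c58ff2) (nat_lit 2304))
))) (.node (nat_lit 0x1820c68792) (.node (nat_lit 0x1820c683b2) (.leaf (nat_lit 0x1820c68382) (nat_lit 768))
 (.leaf (nat_lit 0x1820c683b2) (nat_lit 2560))
) (.node (nat_lit 0x1820c687a2) (.leaf (nat_lit 0x1820c68792) (nat_lit 2560))
 (.node (nat_lit 0x1820c68b82) (.leaf (nat_lit 0x1820c687a2) (nat_lit 3588))
 (.leaf (nat_lit 0x1820c68b82) (nat_lit 2052))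
)))) (.node (nat_lit 0x1820c797c2) (.node (nat_lit 0x1820c68fa2) (.node (nat_lit 0x1820c68f92) (.leaf (nat_lit 0x1820c68bb2) (nat_lit 3328))
 (.leaf (nat_lit 0x1820c68f92) (nat_lit 3328))
) (.node (nat_lit 0x1820c793d2) (.leaf (nat_lit 0x1820c68fa2) (nat_lit 2818))
 (.node (nat_lit 0x1820c793e2) (.leaf (nat_lit 0x1820c793d2) (nat_lit 2304))
 (.leaf (nat_lit 0x1820c793e2) (nat_lit 3330))
))) (.node (nat_lit 0x1820c79be2) (.node (nat_lit 0x1820c797f2) (.leaf (nat_lit 0x1820c797c2) (nat_lit 3332))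
 (.node (nat_lit 0x1820c79bd2) (.leaf (nat_lit 0x1820c797f2) (nat_lit 2818))
 (.leaf (nat_lit 0x1820c79bd2) (nat_lit 3332))
)) (.node (nat_lit 0x1820c79fc2) (.leaf (nat_lit 0x1820c79be2) (nat_lit 2817))
 (.node (nat_lit 0x1820c79ff2) (.leaf (nat_lit 0x1820c79fc2) (nat_lit 2818))
 (.leaf (nat_lit 0x1820c79ff2) (nat_lit 1795))
)))))))))))) (.node (nat_lit 0x1c1140428c) (.node (nat_lit 0x1850444b2e) (.node (nat_lit 0x1831c2672e) (.node (nat_lit 0x183045932e) (.node (nat_lit 0x1821c2b302) (.node (nat_lit 0x182145abb2) (.node (nat_lit 0x182142b3d2) (.node (nat_lit 0x182141af92) (.node (nat_lit 0x182140b7f2) (.node (nat_lit 0x182140ab82) (.node (nat_lit 0x182140a3d2) (.leaf (nat_lit 0x182140a382) (nat_lit 1028))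
 (.leaf (nat_lit 0x182140a3d2) (nat_lit 2308))
) (.node (nat_lit 0x182140abd2) (.leaf (nat_lit 0x182140ab82) (nat_lit 1796))
 (.node (nat_lit 0x182140b7a2) (.leaf (nat_lit 0x182140abd2) (nat_lit 3076))
 (.leaf (nat_lit 0x182140b7a2) (nat_lit 3585))
))) (.node (nat_lit 0x182140bff2) (.node (nat_lit 0x182140bfa2) (.leaf (nat_lit 0x182140b7f2) (nat_lit 2820))
 (.leaf (nat_lit 0x182140bfa2) (nat_lit 3076))
) (.node (nat_lit 0x182141a792) (.leaf (nat_lit 0x182140bff2) (nat_lit 2305))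
 (.node (nat_lit 0x182141a7c2) (.leaf (nat_lit 0x182141a792) (nat_lit 2305))
 (.leaf (nat_lit 0x182141a7c2) (nat_lit 3329))
)))) (.node (nat_lit 0x182141bbe2) (.node (nat_lit 0x182141b3b2) (.node (nat_lit 0x182141afc2) (.leaf (nat_lit 0x182141af92) (nat_lit 3073))
 (.leaf (nat_lit 0x182141afc2) (nat_lit 3328))
) (.node (nat_lit 0x182141b3e2) (.leaf (nat_lit 0x182141b3b2) (nat_lit 2816))
 (.node (nat_lit 0x182141bbb2) (.leaf (nat_lit 0x182141b3e2) (nat_lit 3588))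
 (.leaf (nat_lit 0x182141bbb2) (nat_lit 3588))
))) (.node (nat_lit 0x182142afa2) (.node (nat_lit 0x182142a7a2) (.leaf (nat_lit 0x182141bbe2) (nat_lit 3073))
 (.node (nat_lit 0x182142a7f2) (.leaf (nat_lit 0x182142a7a2) (nat_lit 3073))
 (.leaf (nat_lit 0x182142a7f2) (nat_lit 3332))
)) (.node (nat_lit 0x182142aff2) (.leaf (nat_lit 0x182142afa2) (nat_lit 3588))
 (.node (nat_lit 0x182142b382) (.leaf (nat_lit 0x182142aff2) (nat_lit 2817))
 (.leaf (nat_lit 0x182142b382) (nat_lit 1540))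
))))) (.node (nat_lit 0x182143bfc2) (.node (nat_lit 0x182143abb2) (.node (nat_lit 0x182142bbd2) (.node (nat_lit 0x182142bb82) (.leaf (nat_lit 0x182142b3d2) (nat_lit 2820))
 (.leaf (nat_lit 0x182142bb82) (nat_lit 2308))
) (.node (nat_lit 0x182143a3b2) (.leaf (nat_lit 0x182142bbd2) (nat_lit 3588))
 (.node (nat_lit 0x182143a3e2) (.leaf (nat_lit 0x182143a3b2) (nat_lit 2307))
 (.leaf (nat_lit 0x182143a3e2) (nat_lit 3076))
))) (.node (nat_lit 0x182143b792) (.node (nat_lit 0x182143abe2) (.leaf (nat_lit 0x182143abb2) (nat_lit 3076))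
 (.leaf (nat_lit 0x182143abe2) (nat_lit 3585))
) (.node (nat_lit 0x182143b7c2) (.leaf (nat_lit 0x182143b792) (nat_lit 2817))
 (.node (nat_lit 0x182143bf92) (.leaf (nat_lit 0x182143b7c2) (nat_lit 3332))
 (.leaf (nat_lit 0x182143bf92) (nat_lit 3585))
)))) (.node (nat_lit 0x182144b382) (.node (nat_lit 0x182144a7f2) (.node (nat_lit 0x182144a7a2) (.leaf (nat_lit 0x182143bfc2) (nat_lit 2819))
 (.leaf (nat_lit 0x182144a7a2) (nat_lit 3329))
) (.node (nat_lit 0x182144afa2) (.leaf (nat_lit 0x182144a7f2) (nat_lit 3076))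
 (.node (nat_lit 0x182144aff2) (.leaf (nat_lit 0x182144afa2) (nat_lit 3332))
 (.leaf (nat_lit 0x182144aff2) (nat_lit 2561))
))) (.node (nat_lit 0x182144bbd2) (.node (nat_lit 0x182144b3d2) (.leaf (nat_lit 0x182144b382) (nat_lit 1284))
 (.node (nat_lit 0x182144bb82) (.leaf (nat_lit 0x182144b3d2) (nat_lit 2564))
 (.leaf (nat_lit 0x182144bb82) (nat_lit 2052))
)) (.node (nat_lit 0x182145a3b2) (.leaf (nat_lit 0x182144bbd2) (nat_lit 3332))
 (.node (nat_lit 0x182145a3e2) (.leaf (nat_lit 0x182145a3b2) (nat_lit 2560))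
 (.leaf (nat_lit 0x182145a3e2) (nat_lit 3332))
)))))) (.node (nat_lit 0x182147bbe2) (.node (nat_lit 0x182146b7a2) (.node (nat_lit 0x182145bfc2) (.node (nat_lit 0x182145b792) (.node (nat_lit 0x182145abe2) (.leaf (nat_lit 0x182145abb2) (nat_lit 3332))
 (.leaf (nat_lit 0x182145abe2) (nat_lit 3329))
) (.node (nat_lit 0x182145b7c2) (.leaf (nat_lit 0x182145b792) (nat_lit 2561))
 (.node (nat_lit 0x182145bf92) (.leaf (nat_lit 0x182145b7c2) (nat_lit 3585))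
 (.leaf (nat_lit 0x182145bf92) (nat_lit 3329))
))) (.node (nat_lit 0x182146a3d2) (.node (nat_lit 0x182146a382) (.leaf (nat_lit 0x182145bfc2) (nat_lit 3072))
 (.leaf (nat_lit 0x182146a382) (nat_lit 1284))
) (.node (nat_lit 0x182146ab82) (.leaf (nat_lit 0x182146a3d2) (nat_lit 2564))
 (.node (nat_lit 0x182146abd2) (.leaf (nat_lit 0x182146ab82) (nat_lit 2052))
 (.leaf (nat_lit 0x182146abd2) (nat_lit 3332))
)))) (.node (nat_lit 0x182147a7c2) (.node (nat_lit 0x182146bfa2) (.node (nat_lit 0x182146b7f2) (.leaf (nat_lit 0x182146b7a2) (nat_lit 3329))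
 (.leaf (nat_lit 0x182146b7f2) (nat_lit 3076))
) (.node (nat_lit 0x182146bff2) (.leaf (nat_lit 0x182146bfa2) (nat_lit 3332))
 (.node (nat_lit 0x182147a792) (.leaf (nat_lit 0x182146bff2) (nat_lit 2561))
 (.leaf (nat_lit 0x182147a792) (nat_lit 2561))
))) (.node (nat_lit 0x182147b3b2) (.node (nat_lit 0x182147af92) (.leaf (nat_lit 0x182147a7c2) (nat_lit 3588))
 (.node (nat_lit 0x182147afc2) (.leaf (nat_lit 0x182147af92) (nat_lit 3329))
 (.leaf (nat_lit 0x182147afc2) (nat_lit 3075))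
)) (.node (nat_lit 0x182147b3e2) (.leaf (nat_lit 0x182147b3b2) (nat_lit 2563))
 (.node (nat_lit 0x182147bbb2) (.leaf (nat_lit 0x182147b3e2) (nat_lit 3332))
 (.leaf (nat_lit 0x182147bbb2) (nat_lit 3332))
))))) (.node (nat_lit 0x1821c1a362) (.node (nat_lit 0x1821c0b722) (.node (nat_lit 0x1821c0a372) (.node (nat_lit 0x1821c0a302) (.leaf (nat_lit 0x182147bbe2) (nat_lit 3329))
 (.leaf (nat_lit 0x1821c0a302) (nat_lit 1027))
) (.node (nat_lit 0x1821c0ab02) (.leaf (nat_lit 0x1821c0a372) (nat_lit 2307))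
 (.node (nat_lit 0x1821c0ab72) (.leaf (nat_lit 0x1821c0ab02) (nat_lit 1795))
 (.leaf (nat_lit 0x1821c0ab72) (nat_lit 3074))
))) (.node (nat_lit 0x1821c0bf22) (.node (nat_lit 0x1821c0b752) (.leaf (nat_lit 0x1821c0b722) (nat_lit 3073))
 (.leaf (nat_lit 0x1821c0b752) (nat_lit 2305))
) (.node (nat_lit 0x1821c0bf52) (.leaf (nat_lit 0x1821c0bf22) (nat_lit 3585))
 (.node (nat_lit 0x1821c1a312) (.leaf (nat_lit 0x1821c0bf52) (nat_lit 3076))
 (.leaf (nat_lit 0x1821c1a312) (nat_lit 2307))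
)))) (.node (nat_lit 0x1821c1bf32) (.node (nat_lit 0x1821c1ab62) (.node (nat_lit 0x1821c1ab12) (.leaf (nat_lit 0x1821c1a362) (nat_lit 3330))
 (.leaf (nat_lit 0x1821c1ab12) (nat_lit 3076))
) (.node (nat_lit 0x1821c1b732) (.leaf (nat_lit 0x1821c1ab62) (nat_lit 3329))
 (.node (nat_lit 0x1821c1b742) (.leaf (nat_lit 0x1821c1b732) (nat_lit 3329))
 (.leaf (nat_lit 0x1821c1b742) (nat_lit 3075))
))) (.node (nat_lit 0x1821c2a752) (.node (nat_lit 0x1821c1bf42) (.leaf (nat_lit 0x1821c1bf32) (nat_lit 2817))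
 (.node (nat_lit 0x1821c2a722) (.leaf (nat_lit 0x1821c1bf42) (nat_lit 3585))
 (.leaf (nat_lit 0x1821c2a722) (nat_lit 3585))
)) (.node (nat_lit 0x1821c2af22) (.leaf (nat_lit 0x1821c2a752) (nat_lit 2817))
 (.node (nat_lit 0x1821c2af52) (.leaf (nat_lit 0x1821c2af22) (nat_lit 3073))
 (.leaf (nat_lit 0x1821c2af52) (nat_lit 3588))
))))))) (.node (nat_lit 0x1821c7bf32) (.node (nat_lit 0x1821c5a742) (.node (nat_lit 0x1821c3bb12) (.node (nat_lit 0x1821c3a742) (.node (nat_lit 0x1821c2bb02) (.node (nat_lit 0x1821c2b372) (.leaf (nat_lit 0x1821c2b302) (nat_lit 1536))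
 (.leaf (nat_lit 0x1821c2b372) (nat_lit 2816))
) (.node (nat_lit 0x1821c2bb72) (.leaf (nat_lit 0x1821c2bb02) (nat_lit 2304))
 (.node (nat_lit 0x1821c3a732) (.leaf (nat_lit 0x1821c2bb72) (nat_lit 3586))
 (.leaf (nat_lit 0x1821c3a732) (nat_lit 2817))
))) (.node (nat_lit 0x1821c3af42) (.node (nat_lit 0x1821c3af32) (.leaf (nat_lit 0x1821c3a742) (nat_lit 3584))
 (.leaf (nat_lit 0x1821c3af32) (nat_lit 2305))
) (.node (nat_lit 0x1821c3b312) (.leaf (nat_lit 0x1821c3af42) (nat_lit 3073))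
 (.node (nat_lit 0x1821c3b362) (.leaf (nat_lit 0x1821c3b312) (nat_lit 2816))
 (.leaf (nat_lit 0x1821c3b362) (nat_lit 3329))
)))) (.node (nat_lit 0x1821c4af52) (.node (nat_lit 0x1821c4a722) (.node (nat_lit 0x1821c3bb62) (.leaf (nat_lit 0x1821c3bb12) (nat_lit 3588))
 (.leaf (nat_lit 0x1821c3bb62) (nat_lit 2817))
) (.node (nat_lit 0x1821c4a752) (.leaf (nat_lit 0x1821c4a722) (nat_lit 3329))
 (.node (nat_lit 0x1821c4af22) (.leaf (nat_lit 0x1821c4a752) (nat_lit 2561))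
 (.leaf (nat_lit 0x1821c4af22) (nat_lit 3329))
))) (.node (nat_lit 0x1821c4bb02) (.node (nat_lit 0x1821c4b302) (.leaf (nat_lit 0x1821c4af52) (nat_lit 3332))
 (.node (nat_lit 0x1821c4b372) (.leaf (nat_lit 0x1821c4b302) (nat_lit 1283))
 (.leaf (nat_lit 0x1821c4b372) (nat_lit 2563))
)) (.node (nat_lit 0x1821c4bb72) (.leaf (nat_lit 0x1821c4bb02) (nat_lit 2051))
 (.node (nat_lit 0x1821c5a732) (.leaf (nat_lit 0x1821c4bb72) (nat_lit 3330))
 (.leaf (nat_lit 0x1821c5a732) (nat_lit 3073))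
))))) (.node (nat_lit 0x1821c6ab72) (.node (nat_lit 0x1821c5bb12) (.node (nat_lit 0x1821c5af42) (.node (nat_lit 0x1821c5af32) (.leaf (nat_lit 0x1821c5a742) (nat_lit 3331))
 (.leaf (nat_lit 0x1821c5af32) (nat_lit 2561))
) (.node (nat_lit 0x1821c5b312) (.leaf (nat_lit 0x1821c5af42) (nat_lit 3329))
 (.node (nat_lit 0x1821c5b362) (.leaf (nat_lit 0x1821c5b312) (nat_lit 2563))
 (.leaf (nat_lit 0x1821c5b362) (nat_lit 3586))
))) (.node (nat_lit 0x1821c6a302) (.node (nat_lit 0x1821c5bb62) (.leaf (nat_lit 0x1821c5bb12) (nat_lit 3332))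
 (.leaf (nat_lit 0x1821c5bb62) (nat_lit 3073))
) (.node (nat_lit 0x1821c6a372) (.leaf (nat_lit 0x1821c6a302) (nat_lit 1280))
 (.node (nat_lit 0x1821c6ab02) (.leaf (nat_lit 0x1821c6a372) (nat_lit 2560))
 (.leaf (nat_lit 0x1821c6ab02) (nat_lit 2048))
)))) (.node (nat_lit 0x1821c7a312) (.node (nat_lit 0x1821c6b752) (.node (nat_lit 0x1821c6b722) (.leaf (nat_lit 0x1821c6ab72) (nat_lit 3330))
 (.leaf (nat_lit 0x1821c6b722) (nat_lit 3329))
) (.node (nat_lit 0x1821c6bf22) (.leaf (nat_lit 0x1821c6b752) (nat_lit 2561))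
 (.node (nat_lit 0x1821c6bf52) (.leaf (nat_lit 0x1821c6bf22) (nat_lit 3329))
 (.leaf (nat_lit 0x1821c6bf52) (nat_lit 3332))
))) (.node (nat_lit 0x1821c7ab62) (.node (nat_lit 0x1821c7a362) (.leaf (nat_lit 0x1821c7a312) (nat_lit 2560))
 (.node (nat_lit 0x1821c7ab12) (.leaf (nat_lit 0x1821c7a362) (nat_lit 3585))
 (.leaf (nat_lit 0x1821c7ab12) (nat_lit 3332))
)) (.node (nat_lit 0x1821c7b732) (.leaf (nat_lit 0x1821c7ab62) (nat_lit 3073))
 (.node (nat_lit 0x1821c7b742) (.leaf (nat_lit 0x1821c7b732) (nat_lit 3073))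
 (.leaf (nat_lit 0x1821c7b742) (nat_lit 3328))
)))))) (.node (nat_lit 0x183042977e) (.node (nat_lit 0x183041836e) (.node (nat_lit 0x183040873e) (.node (nat_lit 0x183040830e) (.node (nat_lit 0x1821c7bf42) (.leaf (nat_lit 0x1821c7bf32) (nat_lit 2561))
 (.leaf (nat_lit 0x1821c7bf42) (nat_lit 3329))
) (.node (nat_lit 0x183040831e) (.leaf (nat_lit 0x183040830e) (nat_lit 513))
 (.node (nat_lit 0x183040872e) (.leaf (nat_lit 0x183040831e) (nat_lit 2818))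
 (.leaf (nat_lit 0x183040872e) (nat_lit 2564))
))) (.node (nat_lit 0x1830408b3e) (.node (nat_lit 0x1830408b2e) (.leaf (nat_lit 0x183040873e) (nat_lit 2560))
 (.leaf (nat_lit 0x1830408b2e) (nat_lit 1796))
) (.node (nat_lit 0x1830408f0e) (.leaf (nat_lit 0x1830408b3e) (nat_lit 3584))
 (.node (nat_lit 0x1830408f1e) (.leaf (nat_lit 0x1830408f0e) (nat_lit 1796))
 (.leaf (nat_lit 0x1830408f1e) (nat_lit 3587))
)))) (.node (nat_lit 0x1830418b5e) (.node (nat_lit 0x183041874e) (.node (nat_lit 0x183041837e) (.leaf (nat_lit 0x183041836e) (nat_lit 3331))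
 (.leaf (nat_lit 0x183041837e) (nat_lit 2048))
) (.node (nat_lit 0x183041875e) (.leaf (nat_lit 0x183041874e) (nat_lit 1539))
 (.node (nat_lit 0x1830418b4e) (.leaf (nat_lit 0x183041875e) (nat_lit 3587))
 (.leaf (nat_lit 0x1830418b4e) (nat_lit 2563))
))) (.node (nat_lit 0x183042934e) (.node (nat_lit 0x1830418f6e) (.leaf (nat_lit 0x1830418b5e) (nat_lit 3076))
 (.node (nat_lit 0x1830418f7e) (.leaf (nat_lit 0x1830418f6e) (nat_lit 2563))
 (.leaf (nat_lit 0x1830418f7e) (nat_lit 2564))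
)) (.node (nat_lit 0x183042935e) (.leaf (nat_lit 0x183042934e) (nat_lit 1025))
 (.node (nat_lit 0x183042976e) (.leaf (nat_lit 0x183042935e) (nat_lit 3330))
 (.leaf (nat_lit 0x183042976e) (nat_lit 3076))
))))) (.node (nat_lit 0x1830439b1e) (.node (nat_lit 0x183043932e) (.node (nat_lit 0x1830429b7e) (.node (nat_lit 0x1830429b6e) (.leaf (nat_lit 0x183042977e) (nat_lit 2051))
 (.leaf (nat_lit 0x1830429b6e) (nat_lit 2308))
) (.node (nat_lit 0x1830429f4e) (.leaf (nat_lit 0x1830429b7e) (nat_lit 3075))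
 (.node (nat_lit 0x1830429f5e) (.leaf (nat_lit 0x1830429f4e) (nat_lit 2308))
 (.leaf (nat_lit 0x1830429f5e) (nat_lit 3075))
))) (.node (nat_lit 0x183043970e) (.node (nat_lit 0x183043933e) (.leaf (nat_lit 0x183043932e) (nat_lit 3328))
 (.leaf (nat_lit 0x183043933e) (nat_lit 2051))
) (.node (nat_lit 0x183043971e) (.leaf (nat_lit 0x183043970e) (nat_lit 1539))
 (.node (nat_lit 0x1830439b0e) (.leaf (nat_lit 0x183043971e) (nat_lit 3588))
 (.leaf (nat_lit 0x1830439b0e) (nat_lit 2560))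
)))) (.node (nat_lit 0x183044976e) (.node (nat_lit 0x1830439f3e) (.node (nat_lit 0x1830439f2e) (.leaf (nat_lit 0x1830439b1e) (nat_lit 3076))
 (.leaf (nat_lit 0x1830439f2e) (nat_lit 2560))
) (.node (nat_lit 0x183044934e) (.leaf (nat_lit 0x1830439f3e) (nat_lit 2564))
 (.node (nat_lit 0x183044935e) (.leaf (nat_lit 0x183044934e) (nat_lit 769))
 (.leaf (nat_lit 0x183044935e) (nat_lit 3074))
))) (.node (nat_lit 0x1830449b7e) (.node (nat_lit 0x183044977e) (.leaf (nat_lit 0x183044976e) (nat_lit 2820))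
 (.node (nat_lit 0x1830449b6e) (.leaf (nat_lit 0x183044977e) (nat_lit 2304))
 (.leaf (nat_lit 0x1830449b6e) (nat_lit 2052))
)) (.node (nat_lit 0x1830449f4e) (.leaf (nat_lit 0x1830449b7e) (nat_lit 3328))
 (.node (nat_lit 0x1830449f5e) (.leaf (nat_lit 0x1830449f4e) (nat_lit 2052))
 (.leaf (nat_lit 0x1830449f5e) (nat_lit 3331))
)))))))) (.node (nat_lit 0x18308798ce) (.node (nat_lit 0x18308284de) (.node (nat_lit 0x1830478b5e) (.node (nat_lit 0x183046872e) (.node (nat_lit 0x1830459b1e) (.node (nat_lit 0x183045970e) (.node (nat_lit 0x183045933e) (.leaf (nat_lit 0x183045932e) (nat_lit 3075))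
 (.leaf (nat_lit 0x183045933e) (nat_lit 2304))
) (.node (nat_lit 0x183045971e) (.leaf (nat_lit 0x183045970e) (nat_lit 1283))
 (.node (nat_lit 0x1830459b0e) (.leaf (nat_lit 0x183045971e) (nat_lit 3331))
 (.leaf (nat_lit 0x1830459b0e) (nat_lit 2307))
))) (.node (nat_lit 0x1830459f3e) (.node (nat_lit 0x1830459f2e) (.leaf (nat_lit 0x1830459b1e) (nat_lit 3332))
 (.leaf (nat_lit 0x1830459f2e) (nat_lit 2307))
) (.node (nat_lit 0x183046830e) (.leaf (nat_lit 0x1830459f3e) (nat_lit 2820))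
 (.node (nat_lit 0x183046831e) (.leaf (nat_lit 0x183046830e) (nat_lit 769))
 (.leaf (nat_lit 0x183046831e) (nat_lit 3074))
)))) (.node (nat_lit 0x1830468f1e) (.node (nat_lit 0x1830468b2e) (.node (nat_lit 0x183046873e) (.leaf (nat_lit 0x183046872e) (nat_lit 2820))
 (.leaf (nat_lit 0x183046873e) (nat_lit 2307))
) (.node (nat_lit 0x1830468b3e) (.leaf (nat_lit 0x1830468b2e) (nat_lit 2052))
 (.node (nat_lit 0x1830468f0e) (.leaf (nat_lit 0x1830468b3e) (nat_lit 3331))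
 (.leaf (nat_lit 0x1830468f0e) (nat_lit 2052))
))) (.node (nat_lit 0x183047874e) (.node (nat_lit 0x183047836e) (.leaf (nat_lit 0x1830468f1e) (nat_lit 3331))
 (.node (nat_lit 0x183047837e) (.leaf (nat_lit 0x183047836e) (nat_lit 3330))
 (.leaf (nat_lit 0x183047837e) (nat_lit 1795))
)) (.node (nat_lit 0x183047875e) (.leaf (nat_lit 0x183047874e) (nat_lit 1795))
 (.node (nat_lit 0x1830478b4e) (.leaf (nat_lit 0x183047875e) (nat_lit 3332))
 (.leaf (nat_lit 0x1830478b4e) (nat_lit 2816))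
))))) (.node (nat_lit 0x1830808cae) (.node (nat_lit 0x183080849e) (.node (nat_lit 0x1830478f7e) (.node (nat_lit 0x1830478f6e) (.leaf (nat_lit 0x1830478b5e) (nat_lit 2820))
 (.leaf (nat_lit 0x1830478f6e) (nat_lit 2816))
) (.node (nat_lit 0x183080808e) (.leaf (nat_lit 0x1830478f7e) (nat_lit 2308))
 (.node (nat_lit 0x18308080ae) (.leaf (nat_lit 0x183080808e) (nat_lit 770))
 (.leaf (nat_lit 0x18308080ae) (nat_lit 2050))
))) (.node (nat_lit 0x183080889e) (.node (nat_lit 0x18308084be) (.leaf (nat_lit 0x183080849e) (nat_lit 2564))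
 (.leaf (nat_lit 0x18308084be) (nat_lit 3329))
) (.node (nat_lit 0x18308088be) (.leaf (nat_lit 0x183080889e) (nat_lit 3332))
 (.node (nat_lit 0x1830808c8e) (.leaf (nat_lit 0x18308088be) (nat_lit 2816))
 (.leaf (nat_lit 0x1830808c8e) (nat_lit 2052))
)))) (.node (nat_lit 0x18308198ce) (.node (nat_lit 0x18308190fe) (.node (nat_lit 0x18308190de) (.leaf (nat_lit 0x1830808cae) (nat_lit 2818))
 (.leaf (nat_lit 0x18308190de) (nat_lit 3331))
) (.node (nat_lit 0x18308194ce) (.leaf (nat_lit 0x18308190fe) (nat_lit 2818))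
 (.node (nat_lit 0x18308194ee) (.leaf (nat_lit 0x18308194ce) (nat_lit 1795))
 (.leaf (nat_lit 0x18308194ee) (nat_lit 2819))
))) (.node (nat_lit 0x1830819cfe) (.node (nat_lit 0x18308198ee) (.leaf (nat_lit 0x18308198ce) (nat_lit 2819))
 (.node (nat_lit 0x1830819cde) (.leaf (nat_lit 0x18308198ee) (nat_lit 3332))
 (.leaf (nat_lit 0x1830819cde) (nat_lit 3330))
)) (.node (nat_lit 0x18308280ce) (.leaf (nat_lit 0x1830819cfe) (nat_lit 2049))
 (.node (nat_lit 0x18308280ee) (.leaf (nat_lit 0x18308280ce) (nat_lit 1282))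
 (.leaf (nat_lit 0x18308280ee) (nat_lit 2562))
)))))) (.node (nat_lit 0x1830848cee) (.node (nat_lit 0x183083988e) (.node (nat_lit 0x1830828cee) (.node (nat_lit 0x18308288de) (.node (nat_lit 0x18308284fe) (.leaf (nat_lit 0x18308284de) (nat_lit 3076))
 (.leaf (nat_lit 0x18308284fe) (nat_lit 3075))
) (.node (nat_lit 0x18308288fe) (.leaf (nat_lit 0x18308288de) (nat_lit 3331))
 (.node (nat_lit 0x1830828cce) (.leaf (nat_lit 0x18308288fe) (nat_lit 2307))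
 (.leaf (nat_lit 0x1830828cce) (nat_lit 2564))
))) (.node (nat_lit 0x18308390be) (.node (nat_lit 0x183083909e) (.leaf (nat_lit 0x1830828cee) (nat_lit 3330))
 (.leaf (nat_lit 0x183083909e) (nat_lit 3328))
) (.node (nat_lit 0x183083948e) (.leaf (nat_lit 0x18308390be) (nat_lit 2818))
 (.node (nat_lit 0x18308394ae) (.leaf (nat_lit 0x183083948e) (nat_lit 1795))
 (.leaf (nat_lit 0x18308394ae) (nat_lit 2816))
)))) (.node (nat_lit 0x18308480ee) (.node (nat_lit 0x1830839c9e) (.node (nat_lit 0x18308398ae) (.leaf (nat_lit 0x183083988e) (nat_lit 2816))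
 (.leaf (nat_lit 0x18308398ae) (nat_lit 3332))
) (.node (nat_lit 0x1830839cbe) (.leaf (nat_lit 0x1830839c9e) (nat_lit 3330))
 (.node (nat_lit 0x18308480ce) (.leaf (nat_lit 0x1830839cbe) (nat_lit 2049))
 (.leaf (nat_lit 0x18308480ce) (nat_lit 1026))
))) (.node (nat_lit 0x18308488de) (.node (nat_lit 0x18308484de) (.leaf (nat_lit 0x18308480ee) (nat_lit 2306))
 (.node (nat_lit 0x18308484fe) (.leaf (nat_lit 0x18308484de) (nat_lit 2820))
 (.leaf (nat_lit 0x18308484fe) (nat_lit 3328))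
)) (.node (nat_lit 0x18308488fe) (.leaf (nat_lit 0x18308488de) (nat_lit 3588))
 (.node (nat_lit 0x1830848cce) (.leaf (nat_lit 0x18308488fe) (nat_lit 2560))
 (.leaf (nat_lit 0x1830848cce) (nat_lit 2308))
))))) (.node (nat_lit 0x18308680ae) (.node (nat_lit 0x183085988e) (.node (nat_lit 0x18308590be) (.node (nat_lit 0x183085909e) (.leaf (nat_lit 0x1830848cee) (nat_lit 3074))
 (.leaf (nat_lit 0x183085909e) (nat_lit 3075))
) (.node (nat_lit 0x183085948e) (.leaf (nat_lit 0x18308590be) (nat_lit 3074))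
 (.node (nat_lit 0x18308594ae) (.leaf (nat_lit 0x183085948e) (nat_lit 1539))
 (.leaf (nat_lit 0x18308594ae) (nat_lit 2563))
))) (.node (nat_lit 0x1830859c9e) (.node (nat_lit 0x18308598ae) (.leaf (nat_lit 0x183085988e) (nat_lit 2563))
 (.leaf (nat_lit 0x18308598ae) (nat_lit 3331))
) (.node (nat_lit 0x1830859cbe) (.leaf (nat_lit 0x1830859c9e) (nat_lit 3586))
 (.node (nat_lit 0x183086808e) (.leaf (nat_lit 0x1830859cbe) (nat_lit 2305))
 (.leaf (nat_lit 0x183086808e) (nat_lit 1026))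
)))) (.node (nat_lit 0x1830868c8e) (.node (nat_lit 0x18308684be) (.node (nat_lit 0x183086849e) (.leaf (nat_lit 0x18308680ae) (nat_lit 2306))
 (.leaf (nat_lit 0x183086849e) (nat_lit 2820))
) (.node (nat_lit 0x183086889e) (.leaf (nat_lit 0x18308684be) (nat_lit 3331))
 (.node (nat_lit 0x18308688be) (.leaf (nat_lit 0x183086889e) (nat_lit 3587))
 (.leaf (nat_lit 0x18308688be) (nat_lit 2563))
))) (.node (nat_lit 0x18308790fe) (.node (nat_lit 0x1830868cae) (.leaf (nat_lit 0x1830868c8e) (nat_lit 2308))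
 (.node (nat_lit 0x18308790de) (.leaf (nat_lit 0x1830868cae) (nat_lit 3074))
 (.leaf (nat_lit 0x18308790de) (nat_lit 3584))
)) (.node (nat_lit 0x18308794ce) (.leaf (nat_lit 0x18308790fe) (nat_lit 2562))
 (.node (nat_lit 0x18308794ee) (.leaf (nat_lit 0x18308794ce) (nat_lit 2051))
 (.leaf (nat_lit 0x18308794ee) (nat_lit 3072))
))))))) (.node (nat_lit 0x1831047c9e) (.node (nat_lit 0x18310260ee) (.node (nat_lit 0x1831007cbe) (.node (nat_lit 0x18310060ce) (.node (nat_lit 0x1830879cde) (.node (nat_lit 0x18308798ee) (.leaf (nat_lit 0x18308798ce) (nat_lit 3072))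
 (.leaf (nat_lit 0x18308798ee) (nat_lit 3076))
) (.node (nat_lit 0x1830879cfe) (.leaf (nat_lit 0x1830879cde) (nat_lit 3074))
 (.node (nat_lit 0x183100608e) (.leaf (nat_lit 0x1830879cfe) (nat_lit 1793))
 (.leaf (nat_lit 0x183100608e) (nat_lit 1284))
))) (.node (nat_lit 0x1831006cce) (.node (nat_lit 0x1831006c8e) (.leaf (nat_lit 0x18310060ce) (nat_lit 1540))
 (.leaf (nat_lit 0x1831006c8e) (nat_lit 2052))
) (.node (nat_lit 0x18310070be) (.leaf (nat_lit 0x1831006cce) (nat_lit 2308))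
 (.node (nat_lit 0x18310070fe) (.leaf (nat_lit 0x18310070be) (nat_lit 2820))
 (.leaf (nat_lit 0x18310070fe) (nat_lit 2564))
)))) (.node (nat_lit 0x18310168de) (.node (nat_lit 0x183101649e) (.node (nat_lit 0x1831007cfe) (.leaf (nat_lit 0x1831007cbe) (nat_lit 2564))
 (.leaf (nat_lit 0x1831007cfe) (nat_lit 2308))
) (.node (nat_lit 0x18310164de) (.leaf (nat_lit 0x183101649e) (nat_lit 2305))
 (.node (nat_lit 0x183101689e) (.leaf (nat_lit 0x18310164de) (nat_lit 2561))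
 (.leaf (nat_lit 0x183101689e) (nat_lit 3329))
))) (.node (nat_lit 0x18310178ae) (.node (nat_lit 0x18310174ae) (.leaf (nat_lit 0x18310168de) (nat_lit 3585))
 (.node (nat_lit 0x18310174ee) (.leaf (nat_lit 0x18310174ae) (nat_lit 3075))
 (.leaf (nat_lit 0x18310174ee) (nat_lit 3331))
)) (.node (nat_lit 0x18310178ee) (.leaf (nat_lit 0x18310178ae) (nat_lit 3329))
 (.node (nat_lit 0x18310260ae) (.leaf (nat_lit 0x18310178ee) (nat_lit 3073))
 (.leaf (nat_lit 0x18310260ae) (nat_lit 2052))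
))))) (.node (nat_lit 0x18310368fe) (.node (nat_lit 0x1831027c9e) (.node (nat_lit 0x1831026cee) (.node (nat_lit 0x1831026cae) (.leaf (nat_lit 0x18310260ee) (nat_lit 2308))
 (.leaf (nat_lit 0x1831026cae) (nat_lit 2820))
) (.node (nat_lit 0x183102709e) (.leaf (nat_lit 0x1831026cee) (nat_lit 3076))
 (.node (nat_lit 0x18310270de) (.leaf (nat_lit 0x183102709e) (nat_lit 3073))
 (.leaf (nat_lit 0x18310270de) (nat_lit 3329))
))) (.node (nat_lit 0x18310364be) (.node (nat_lit 0x1831027cde) (.leaf (nat_lit 0x1831027c9e) (nat_lit 3331))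
 (.leaf (nat_lit 0x1831027cde) (nat_lit 3075))
) (.node (nat_lit 0x18310364fe) (.leaf (nat_lit 0x18310364be) (nat_lit 3073))
 (.node (nat_lit 0x18310368be) (.leaf (nat_lit 0x18310364fe) (nat_lit 3329))
 (.leaf (nat_lit 0x18310368be) (nat_lit 3328))
)))) (.node (nat_lit 0x18310460ae) (.node (nat_lit 0x18310374ce) (.node (nat_lit 0x183103748e) (.leaf (nat_lit 0x18310368fe) (nat_lit 3072))
 (.leaf (nat_lit 0x183103748e) (nat_lit 2308))
) (.node (nat_lit 0x183103788e) (.leaf (nat_lit 0x18310374ce) (nat_lit 2564))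
 (.node (nat_lit 0x18310378ce) (.leaf (nat_lit 0x183103788e) (nat_lit 3072))
 (.leaf (nat_lit 0x18310378ce) (nat_lit 3328))
))) (.node (nat_lit 0x1831046cee) (.node (nat_lit 0x18310460ee) (.leaf (nat_lit 0x18310460ae) (nat_lit 2308))
 (.node (nat_lit 0x1831046cae) (.leaf (nat_lit 0x18310460ee) (nat_lit 2564))
 (.leaf (nat_lit 0x1831046cae) (nat_lit 3076))
)) (.node (nat_lit 0x183104709e) (.leaf (nat_lit 0x1831046cee) (nat_lit 3332))
 (.node (nat_lit 0x18310470de) (.leaf (nat_lit 0x183104709e) (nat_lit 2817))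
 (.leaf (nat_lit 0x18310470de) (nat_lit 3073))
)))))) (.node (nat_lit 0x18310768de) (.node (nat_lit 0x183106608e) (.node (nat_lit 0x18310568fe) (.node (nat_lit 0x18310564be) (.node (nat_lit 0x1831047cde) (.leaf (nat_lit 0x1831047c9e) (nat_lit 3584))
 (.leaf (nat_lit 0x1831047cde) (nat_lit 3328))
) (.node (nat_lit 0x18310564fe) (.leaf (nat_lit 0x18310564be) (nat_lit 3329))
 (.node (nat_lit 0x18310568be) (.leaf (nat_lit 0x18310564fe) (nat_lit 3331))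
 (.leaf (nat_lit 0x18310568be) (nat_lit 3075))
))) (.node (nat_lit 0x18310574ce) (.node (nat_lit 0x183105748e) (.leaf (nat_lit 0x18310568fe) (nat_lit 2819))
 (.leaf (nat_lit 0x183105748e) (nat_lit 2052))
) (.node (nat_lit 0x183105788e) (.leaf (nat_lit 0x18310574ce) (nat_lit 2308))
 (.node (nat_lit 0x18310578ce) (.leaf (nat_lit 0x183105788e) (nat_lit 2819))
 (.leaf (nat_lit 0x18310578ce) (nat_lit 3075))
)))) (.node (nat_lit 0x18310670fe) (.node (nat_lit 0x1831066c8e) (.node (nat_lit 0x18310660ce) (.leaf (nat_lit 0x183106608e) (nat_lit 1540))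
 (.leaf (nat_lit 0x18310660ce) (nat_lit 1796))
) (.node (nat_lit 0x1831066cce) (.leaf (nat_lit 0x1831066c8e) (nat_lit 2308))
 (.node (nat_lit 0x18310670be) (.leaf (nat_lit 0x1831066cce) (nat_lit 2564))
 (.leaf (nat_lit 0x18310670be) (nat_lit 3076))
))) (.node (nat_lit 0x183107649e) (.node (nat_lit 0x1831067cbe) (.leaf (nat_lit 0x18310670fe) (nat_lit 2820))
 (.node (nat_lit 0x1831067cfe) (.leaf (nat_lit 0x1831067cbe) (nat_lit 2820))
 (.leaf (nat_lit 0x1831067cfe) (nat_lit 2564))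
)) (.node (nat_lit 0x18310764de) (.leaf (nat_lit 0x183107649e) (nat_lit 2561))
 (.node (nat_lit 0x183107689e) (.leaf (nat_lit 0x18310764de) (nat_lit 2817))
 (.leaf (nat_lit 0x183107689e) (nat_lit 3587))
))))) (.node (nat_lit 0x1831c0734e) (.node (nat_lit 0x1831c0630e) (.node (nat_lit 0x18310774ee) (.node (nat_lit 0x18310774ae) (.leaf (nat_lit 0x18310768de) (nat_lit 3331))
 (.leaf (nat_lit 0x18310774ae) (nat_lit 2819))
) (.node (nat_lit 0x18310778ae) (.leaf (nat_lit 0x18310774ee) (nat_lit 3075))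
 (.node (nat_lit 0x18310778ee) (.leaf (nat_lit 0x18310778ae) (nat_lit 3331))
 (.leaf (nat_lit 0x18310778ee) (nat_lit 3329))
))) (.node (nat_lit 0x1831c06f0e) (.node (nat_lit 0x1831c0637e) (.leaf (nat_lit 0x1831c0630e) (nat_lit 1281))
 (.leaf (nat_lit 0x1831c0637e) (nat_lit 2564))
) (.node (nat_lit 0x1831c06f7e) (.leaf (nat_lit 0x1831c06f0e) (nat_lit 2308))
 (.node (nat_lit 0x1831c0733e) (.leaf (nat_lit 0x1831c06f7e) (nat_lit 2818))
 (.leaf (nat_lit 0x1831c0733e) (nat_lit 2820))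
)))) (.node (nat_lit 0x1831c16f1e) (.node (nat_lit 0x1831c07f4e) (.node (nat_lit 0x1831c07f3e) (.leaf (nat_lit 0x1831c0734e) (nat_lit 1537))
 (.leaf (nat_lit 0x1831c07f3e) (nat_lit 3074))
) (.node (nat_lit 0x1831c1631e) (.leaf (nat_lit 0x1831c07f4e) (nat_lit 2564))
 (.node (nat_lit 0x1831c1636e) (.leaf (nat_lit 0x1831c1631e) (nat_lit 2563))
 (.leaf (nat_lit 0x1831c1636e) (nat_lit 3332))
))) (.node (nat_lit 0x1831c1735e) (.node (nat_lit 0x1831c16f6e) (.leaf (nat_lit 0x1831c16f1e) (nat_lit 3076))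
 (.node (nat_lit 0x1831c1732e) (.leaf (nat_lit 0x1831c16f6e) (nat_lit 3075))
 (.leaf (nat_lit 0x1831c1732e) (nat_lit 3328))
)) (.node (nat_lit 0x1831c17f2e) (.leaf (nat_lit 0x1831c1735e) (nat_lit 2819))
 (.node (nat_lit 0x1831c17f5e) (.leaf (nat_lit 0x1831c17f2e) (nat_lit 2819))
 (.leaf (nat_lit 0x1831c17f5e) (nat_lit 3332))
))))))))) (.node (nat_lit 0x1840c76792) (.node (nat_lit 0x1840445b02) (.node (nat_lit 0x1831c76f1e) (.node (nat_lit 0x1831c4776e) (.node (nat_lit 0x1831c36b3e) (.node (nat_lit 0x1831c2776e) (.node (nat_lit 0x1831c26b2e) (.node (nat_lit 0x1831c2675e) (.leaf (nat_lit 0x1831c2672e) (nat_lit 2819))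
 (.leaf (nat_lit 0x1831c2675e) (nat_lit 3328))
) (.node (nat_lit 0x1831c26b5e) (.leaf (nat_lit 0x1831c26b2e) (nat_lit 1793))
 (.node (nat_lit 0x1831c2771e) (.leaf (nat_lit 0x1831c26b5e) (nat_lit 3073))
 (.leaf (nat_lit 0x1831c2771e) (nat_lit 3072))
))) (.node (nat_lit 0x1831c27b6e) (.node (nat_lit 0x1831c27b1e) (.leaf (nat_lit 0x1831c2776e) (nat_lit 3075))
 (.leaf (nat_lit 0x1831c27b1e) (nat_lit 3329))
) (.node (nat_lit 0x1831c3673e) (.leaf (nat_lit 0x1831c27b6e) (nat_lit 2049))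
 (.node (nat_lit 0x1831c3674e) (.leaf (nat_lit 0x1831c3673e) (nat_lit 3328))
 (.leaf (nat_lit 0x1831c3674e) (nat_lit 2560))
)))) (.node (nat_lit 0x1831c37b7e) (.node (nat_lit 0x1831c3770e) (.node (nat_lit 0x1831c36b4e) (.leaf (nat_lit 0x1831c36b3e) (nat_lit 3075))
 (.leaf (nat_lit 0x1831c36b4e) (nat_lit 3072))
) (.node (nat_lit 0x1831c3777e) (.leaf (nat_lit 0x1831c3770e) (nat_lit 2304))
 (.node (nat_lit 0x1831c37b0e) (.leaf (nat_lit 0x1831c3777e) (nat_lit 3072))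
 (.leaf (nat_lit 0x1831c37b0e) (nat_lit 2816))
))) (.node (nat_lit 0x1831c46b2e) (.node (nat_lit 0x1831c4672e) (.leaf (nat_lit 0x1831c37b7e) (nat_lit 3331))
 (.node (nat_lit 0x1831c4675e) (.leaf (nat_lit 0x1831c4672e) (nat_lit 3072))
 (.leaf (nat_lit 0x1831c4675e) (nat_lit 3075))
)) (.node (nat_lit 0x1831c46b5e) (.leaf (nat_lit 0x1831c46b2e) (nat_lit 2049))
 (.node (nat_lit 0x1831c4771e) (.leaf (nat_lit 0x1831c46b5e) (nat_lit 3329))
 (.leaf (nat_lit 0x1831c4771e) (nat_lit 2819))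
))))) (.node (nat_lit 0x1831c57b7e) (.node (nat_lit 0x1831c56b3e) (.node (nat_lit 0x1831c47b6e) (.node (nat_lit 0x1831c47b1e) (.leaf (nat_lit 0x1831c4776e) (nat_lit 3328))
 (.leaf (nat_lit 0x1831c47b1e) (nat_lit 3585))
) (.node (nat_lit 0x1831c5673e) (.leaf (nat_lit 0x1831c47b6e) (nat_lit 2305))
 (.node (nat_lit 0x1831c5674e) (.leaf (nat_lit 0x1831c5673e) (nat_lit 3075))
 (.leaf (nat_lit 0x1831c5674e) (nat_lit 2307))
))) (.node (nat_lit 0x1831c5770e) (.node (nat_lit 0x1831c56b4e) (.leaf (nat_lit 0x1831c56b3e) (nat_lit 3328))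
 (.leaf (nat_lit 0x1831c56b4e) (nat_lit 2819))
) (.node (nat_lit 0x1831c5777e) (.leaf (nat_lit 0x1831c5770e) (nat_lit 2051))
 (.node (nat_lit 0x1831c57b0e) (.leaf (nat_lit 0x1831c5777e) (nat_lit 2819))
 (.leaf (nat_lit 0x1831c57b0e) (nat_lit 2563))
)))) (.node (nat_lit 0x1831c6733e) (.node (nat_lit 0x1831c6637e) (.node (nat_lit 0x1831c6630e) (.leaf (nat_lit 0x1831c57b7e) (nat_lit 3331))
 (.leaf (nat_lit 0x1831c6630e) (nat_lit 1537))
) (.node (nat_lit 0x1831c66f0e) (.leaf (nat_lit 0x1831c6637e) (nat_lit 2820))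
 (.node (nat_lit 0x1831c66f7e) (.leaf (nat_lit 0x1831c66f0e) (nat_lit 2564))
 (.leaf (nat_lit 0x1831c66f7e) (nat_lit 3074))
))) (.node (nat_lit 0x1831c67f4e) (.node (nat_lit 0x1831c6734e) (.leaf (nat_lit 0x1831c6733e) (nat_lit 3076))
 (.node (nat_lit 0x1831c67f3e) (.leaf (nat_lit 0x1831c6734e) (nat_lit 1793))
 (.leaf (nat_lit 0x1831c67f3e) (nat_lit 3330))
)) (.node (nat_lit 0x1831c7631e) (.leaf (nat_lit 0x1831c67f4e) (nat_lit 2820))
 (.node (nat_lit 0x1831c7636e) (.leaf (nat_lit 0x1831c7631e) (nat_lit 2816))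
 (.leaf (nat_lit 0x1831c7636e) (nat_lit 3331))
)))))) (.node (nat_lit 0x1840415732) (.node (nat_lit 0x1840405302) (.node (nat_lit 0x1831c77f5e) (.node (nat_lit 0x1831c7732e) (.node (nat_lit 0x1831c76f6e) (.leaf (nat_lit 0x1831c76f1e) (nat_lit 3332))
 (.leaf (nat_lit 0x1831c76f6e) (nat_lit 2819))
) (.node (nat_lit 0x1831c7735e) (.leaf (nat_lit 0x1831c7732e) (nat_lit 3075))
 (.node (nat_lit 0x1831c77f2e) (.leaf (nat_lit 0x1831c7735e) (nat_lit 3072))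
 (.leaf (nat_lit 0x1831c77f2e) (nat_lit 2563))
))) (.node (nat_lit 0x1840404312) (.node (nat_lit 0x1840404302) (.leaf (nat_lit 0x1831c77f5e) (nat_lit 3588))
 (.leaf (nat_lit 0x1840404302) (nat_lit 516))
) (.node (nat_lit 0x1840404742) (.leaf (nat_lit 0x1840404312) (nat_lit 2820))
 (.node (nat_lit 0x1840404752) (.leaf (nat_lit 0x1840404742) (nat_lit 3331))
 (.leaf (nat_lit 0x1840404752) (nat_lit 2052))
)))) (.node (nat_lit 0x1840414372) (.node (nat_lit 0x1840405742) (.node (nat_lit 0x1840405312) (.leaf (nat_lit 0x1840405302) (nat_lit 772))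
 (.leaf (nat_lit 0x1840405312) (nat_lit 3076))
) (.node (nat_lit 0x1840405752) (.leaf (nat_lit 0x1840405742) (nat_lit 3332))
 (.node (nat_lit 0x1840414362) (.leaf (nat_lit 0x1840405752) (nat_lit 1796))
 (.leaf (nat_lit 0x1840414362) (nat_lit 3329))
))) (.node (nat_lit 0x1840415362) (.node (nat_lit 0x1840414722) (.leaf (nat_lit 0x1840414372) (nat_lit 2052))
 (.node (nat_lit 0x1840414732) (.leaf (nat_lit 0x1840414722) (nat_lit 3076))
 (.leaf (nat_lit 0x1840414732) (nat_lit 2563))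
)) (.node (nat_lit 0x1840415372) (.leaf (nat_lit 0x1840415362) (nat_lit 3073))
 (.node (nat_lit 0x1840415722) (.leaf (nat_lit 0x1840415372) (nat_lit 2308))
 (.leaf (nat_lit 0x1840415722) (nat_lit 2820))
))))) (.node (nat_lit 0x1840434b72) (.node (nat_lit 0x1840425b02) (.node (nat_lit 0x1840424b12) (.node (nat_lit 0x1840424b02) (.leaf (nat_lit 0x1840415732) (nat_lit 2819))
 (.leaf (nat_lit 0x1840424b02) (nat_lit 1283))
) (.node (nat_lit 0x1840424f42) (.leaf (nat_lit 0x1840424b12) (nat_lit 3331))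
 (.node (nat_lit 0x1840424f52) (.leaf (nat_lit 0x1840424f42) (nat_lit 2561))
 (.leaf (nat_lit 0x1840424f52) (nat_lit 2819))
))) (.node (nat_lit 0x1840425f42) (.node (nat_lit 0x1840425b12) (.leaf (nat_lit 0x1840425b02) (nat_lit 1539))
 (.leaf (nat_lit 0x1840425b12) (nat_lit 3587))
) (.node (nat_lit 0x1840425f52) (.leaf (nat_lit 0x1840425f42) (nat_lit 2817))
 (.node (nat_lit 0x1840434b62) (.leaf (nat_lit 0x1840425f52) (nat_lit 2563))
 (.leaf (nat_lit 0x1840434b62) (nat_lit 2817))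
)))) (.node (nat_lit 0x1840435f22) (.node (nat_lit 0x1840434f32) (.node (nat_lit 0x1840434f22) (.leaf (nat_lit 0x1840434b72) (nat_lit 2560))
 (.leaf (nat_lit 0x1840434f22) (nat_lit 3584))
) (.node (nat_lit 0x1840435b62) (.leaf (nat_lit 0x1840434f32) (nat_lit 1793))
 (.node (nat_lit 0x1840435b72) (.leaf (nat_lit 0x1840435b62) (nat_lit 2561))
 (.leaf (nat_lit 0x1840435b72) (nat_lit 2816))
))) (.node (nat_lit 0x1840444b12) (.node (nat_lit 0x1840435f32) (.leaf (nat_lit 0x1840435f22) (nat_lit 3328))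
 (.node (nat_lit 0x1840444b02) (.leaf (nat_lit 0x1840435f32) (nat_lit 2049))
 (.leaf (nat_lit 0x1840444b02) (nat_lit 1539))
)) (.node (nat_lit 0x1840444f42) (.leaf (nat_lit 0x1840444b12) (nat_lit 3585))
 (.node (nat_lit 0x1840444f52) (.leaf (nat_lit 0x1840444f42) (nat_lit 2305))
 (.leaf (nat_lit 0x1840444f52) (nat_lit 3075))
))))))) (.node (nat_lit 0x1840c17bd2) (.node (nat_lit 0x1840474372) (.node (nat_lit 0x1840455f22) (.node (nat_lit 0x1840454b72) (.node (nat_lit 0x1840445f42) (.node (nat_lit 0x1840445b12) (.leaf (nat_lit 0x1840445b02) (nat_lit 1795))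
 (.leaf (nat_lit 0x1840445b12) (nat_lit 3329))
) (.node (nat_lit 0x1840445f52) (.leaf (nat_lit 0x1840445f42) (nat_lit 2561))
 (.node (nat_lit 0x1840454b62) (.leaf (nat_lit 0x1840445f52) (nat_lit 2819))
 (.leaf (nat_lit 0x1840454b62) (nat_lit 3073))
))) (.node (nat_lit 0x1840454f32) (.node (nat_lit 0x1840454f22) (.leaf (nat_lit 0x1840454b72) (nat_lit 2307))
 (.leaf (nat_lit 0x1840454f22) (nat_lit 3331))
) (.node (nat_lit 0x1840455b62) (.leaf (nat_lit 0x1840454f32) (nat_lit 2049))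
 (.node (nat_lit 0x1840455b72) (.leaf (nat_lit 0x1840455b62) (nat_lit 2817))
 (.leaf (nat_lit 0x1840455b72) (nat_lit 2563))
)))) (.node (nat_lit 0x1840464752) (.node (nat_lit 0x1840464302) (.node (nat_lit 0x1840455f32) (.leaf (nat_lit 0x1840455f22) (nat_lit 3075))
 (.leaf (nat_lit 0x1840455f32) (nat_lit 2305))
) (.node (nat_lit 0x1840464312) (.leaf (nat_lit 0x1840464302) (nat_lit 772))
 (.node (nat_lit 0x1840464742) (.leaf (nat_lit 0x1840464312) (nat_lit 3076))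
 (.leaf (nat_lit 0x1840464742) (nat_lit 3075))
))) (.node (nat_lit 0x1840465742) (.node (nat_lit 0x1840465302) (.leaf (nat_lit 0x1840464752) (nat_lit 2308))
 (.node (nat_lit 0x1840465312) (.leaf (nat_lit 0x1840465302) (nat_lit 1028))
 (.leaf (nat_lit 0x1840465312) (nat_lit 3332))
)) (.node (nat_lit 0x1840465752) (.leaf (nat_lit 0x1840465742) (nat_lit 3331))
 (.node (nat_lit 0x1840474362) (.leaf (nat_lit 0x1840465752) (nat_lit 2052))
 (.leaf (nat_lit 0x1840474362) (nat_lit 3330))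
))))) (.node (nat_lit 0x1840c06ff2) (.node (nat_lit 0x1840475722) (.node (nat_lit 0x1840474732) (.node (nat_lit 0x1840474722) (.leaf (nat_lit 0x1840474372) (nat_lit 1796))
 (.leaf (nat_lit 0x1840474722) (nat_lit 2820))
) (.node (nat_lit 0x1840475362) (.leaf (nat_lit 0x1840474732) (nat_lit 2816))
 (.node (nat_lit 0x1840475372) (.leaf (nat_lit 0x1840475362) (nat_lit 3329))
 (.leaf (nat_lit 0x1840475372) (nat_lit 2052))
))) (.node (nat_lit 0x1840c06382) (.node (nat_lit 0x1840475732) (.leaf (nat_lit 0x1840475722) (nat_lit 2564))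
 (.leaf (nat_lit 0x1840475732) (nat_lit 3072))
) (.node (nat_lit 0x1840c063b2) (.leaf (nat_lit 0x1840c06382) (nat_lit 772))
 (.node (nat_lit 0x1840c06fc2) (.leaf (nat_lit 0x1840c063b2) (nat_lit 2564))
 (.leaf (nat_lit 0x1840c06fc2) (nat_lit 3332))
)))) (.node (nat_lit 0x1840c16792) (.node (nat_lit 0x1840c073b2) (.node (nat_lit 0x1840c07382) (.leaf (nat_lit 0x1840c06ff2) (nat_lit 2308))
 (.leaf (nat_lit 0x1840c07382) (nat_lit 1028))
) (.node (nat_lit 0x1840c07fc2) (.leaf (nat_lit 0x1840c073b2) (nat_lit 2820))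
 (.node (nat_lit 0x1840c07ff2) (.leaf (nat_lit 0x1840c07fc2) (nat_lit 3076))
 (.leaf (nat_lit 0x1840c07ff2) (nat_lit 2052))
))) (.node (nat_lit 0x1840c16be2) (.node (nat_lit 0x1840c167a2) (.leaf (nat_lit 0x1840c16792) (nat_lit 2049))
 (.node (nat_lit 0x1840c16bd2) (.leaf (nat_lit 0x1840c167a2) (nat_lit 3584))
 (.leaf (nat_lit 0x1840c16bd2) (nat_lit 2816))
)) (.node (nat_lit 0x1840c17792) (.leaf (nat_lit 0x1840c16be2) (nat_lit 3073))
 (.node (nat_lit 0x1840c177a2) (.leaf (nat_lit 0x1840c17792) (nat_lit 2305))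
 (.leaf (nat_lit 0x1840c177a2) (nat_lit 3328))
)))))) (.node (nat_lit 0x1840c46bb2) (.node (nat_lit 0x1840c363d2) (.node (nat_lit 0x1840c26bb2) (.node (nat_lit 0x1840c267c2) (.node (nat_lit 0x1840c17be2) (.leaf (nat_lit 0x1840c17bd2) (nat_lit 3072))
 (.leaf (nat_lit 0x1840c17be2) (nat_lit 2817))
) (.node (nat_lit 0x1840c267f2) (.leaf (nat_lit 0x1840c267c2) (nat_lit 2817))
 (.node (nat_lit 0x1840c26b82) (.leaf (nat_lit 0x1840c267f2) (nat_lit 3075))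
 (.leaf (nat_lit 0x1840c26b82) (nat_lit 1539))
))) (.node (nat_lit 0x1840c277f2) (.node (nat_lit 0x1840c277c2) (.leaf (nat_lit 0x1840c26bb2) (nat_lit 3075))
 (.leaf (nat_lit 0x1840c277c2) (nat_lit 3073))
) (.node (nat_lit 0x1840c27b82) (.leaf (nat_lit 0x1840c277f2) (nat_lit 2819))
 (.node (nat_lit 0x1840c27bb2) (.leaf (nat_lit 0x1840c27b82) (nat_lit 1795))
 (.leaf (nat_lit 0x1840c27bb2) (nat_lit 3331))
)))) (.node (nat_lit 0x1840c373e2) (.node (nat_lit 0x1840c36f92) (.node (nat_lit 0x1840c363e2) (.leaf (nat_lit 0x1840c363d2) (nat_lit 2308))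
 (.leaf (nat_lit 0x1840c363e2) (nat_lit 3330))
) (.node (nat_lit 0x1840c36fa2) (.leaf (nat_lit 0x1840c36f92) (nat_lit 2819))
 (.node (nat_lit 0x1840c373d2) (.leaf (nat_lit 0x1840c36fa2) (nat_lit 3328))
 (.leaf (nat_lit 0x1840c373d2) (nat_lit 2564))
))) (.node (nat_lit 0x1840c467c2) (.node (nat_lit 0x1840c37f92) (.leaf (nat_lit 0x1840c373e2) (nat_lit 3329))
 (.node (nat_lit 0x1840c37fa2) (.leaf (nat_lit 0x1840c37f92) (nat_lit 3075))
 (.leaf (nat_lit 0x1840c37fa2) (nat_lit 3072))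
)) (.node (nat_lit 0x1840c467f2) (.leaf (nat_lit 0x1840c467c2) (nat_lit 2561))
 (.node (nat_lit 0x1840c46b82) (.leaf (nat_lit 0x1840c467f2) (nat_lit 3328))
 (.leaf (nat_lit 0x1840c46b82) (nat_lit 1795))
))))) (.node (nat_lit 0x1840c573e2) (.node (nat_lit 0x1840c563d2) (.node (nat_lit 0x1840c477f2) (.node (nat_lit 0x1840c477c2) (.leaf (nat_lit 0x1840c46bb2) (nat_lit 3328))
 (.leaf (nat_lit 0x1840c477c2) (nat_lit 2817))
) (.node (nat_lit 0x1840c47b82) (.leaf (nat_lit 0x1840c477f2) (nat_lit 3072))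
 (.node (nat_lit 0x1840c47bb2) (.leaf (nat_lit 0x1840c47b82) (nat_lit 2051))
 (.leaf (nat_lit 0x1840c47bb2) (nat_lit 3584))
))) (.node (nat_lit 0x1840c56f92) (.node (nat_lit 0x1840c563e2) (.leaf (nat_lit 0x1840c563d2) (nat_lit 2052))
 (.leaf (nat_lit 0x1840c563e2) (nat_lit 3074))
) (.node (nat_lit 0x1840c56fa2) (.leaf (nat_lit 0x1840c56f92) (nat_lit 3072))
 (.node (nat_lit 0x1840c573d2) (.leaf (nat_lit 0x1840c56fa2) (nat_lit 3075))
 (.leaf (nat_lit 0x1840c573d2) (nat_lit 2308))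
)))) (.node (nat_lit 0x1840c66fc2) (.node (nat_lit 0x1840c57fa2) (.node (nat_lit 0x1840c57f92) (.leaf (nat_lit 0x1840c573e2) (nat_lit 3330))
 (.leaf (nat_lit 0x1840c57f92) (nat_lit 3328))
) (.node (nat_lit 0x1840c66382) (.leaf (nat_lit 0x1840c57fa2) (nat_lit 2819))
 (.node (nat_lit 0x1840c663b2) (.leaf (nat_lit 0x1840c66382) (nat_lit 1028))
 (.leaf (nat_lit 0x1840c663b2) (nat_lit 2820))
))) (.node (nat_lit 0x1840c673b2) (.node (nat_lit 0x1840c66ff2) (.leaf (nat_lit 0x1840c66fc2) (nat_lit 3331))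
 (.node (nat_lit 0x1840c67382) (.leaf (nat_lit 0x1840c66ff2) (nat_lit 2564))
 (.leaf (nat_lit 0x1840c67382) (nat_lit 1284))
)) (.node (nat_lit 0x1840c67fc2) (.leaf (nat_lit 0x1840c673b2) (nat_lit 3076))
 (.node (nat_lit 0x1840c67ff2) (.leaf (nat_lit 0x1840c67fc2) (nat_lit 3332))
 (.leaf (nat_lit 0x1840c67ff2) (nat_lit 2308))
)))))))) (.node (nat_lit 0x1841c17312) (.node (nat_lit 0x1841444f92) (.node (nat_lit 0x1841415be2) (.node (nat_lit 0x1841404792) (.node (nat_lit 0x1840c777a2) (.node (nat_lit 0x1840c76bd2) (.node (nat_lit 0x1840c767a2) (.leaf (nat_lit 0x1840c76792) (nat_lit 2305))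
 (.leaf (nat_lit 0x1840c767a2) (nat_lit 3331))
) (.node (nat_lit 0x1840c76be2) (.leaf (nat_lit 0x1840c76bd2) (nat_lit 2563))
 (.node (nat_lit 0x1840c77792) (.leaf (nat_lit 0x1840c76be2) (nat_lit 3329))
 (.leaf (nat_lit 0x1840c77792) (nat_lit 2561))
))) (.node (nat_lit 0x1840c77be2) (.node (nat_lit 0x1840c77bd2) (.leaf (nat_lit 0x1840c777a2) (nat_lit 3075))
 (.leaf (nat_lit 0x1840c77bd2) (nat_lit 2819))
) (.node (nat_lit 0x1841404382) (.leaf (nat_lit 0x1840c77be2) (nat_lit 3073))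
 (.node (nat_lit 0x18414043d2) (.leaf (nat_lit 0x1841404382) (nat_lit 770))
 (.leaf (nat_lit 0x18414043d2) (nat_lit 2050))
)))) (.node (nat_lit 0x18414057c2) (.node (nat_lit 0x1841405382) (.node (nat_lit 0x18414047c2) (.leaf (nat_lit 0x1841404792) (nat_lit 2564))
 (.leaf (nat_lit 0x18414047c2) (nat_lit 3329))
) (.node (nat_lit 0x18414053d2) (.leaf (nat_lit 0x1841405382) (nat_lit 1026))
 (.node (nat_lit 0x1841405792) (.leaf (nat_lit 0x18414053d2) (nat_lit 2306))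
 (.leaf (nat_lit 0x1841405792) (nat_lit 2820))
))) (.node (nat_lit 0x1841414fa2) (.node (nat_lit 0x1841414bb2) (.leaf (nat_lit 0x18414057c2) (nat_lit 3328))
 (.node (nat_lit 0x1841414be2) (.leaf (nat_lit 0x1841414bb2) (nat_lit 2819))
 (.leaf (nat_lit 0x1841414be2) (nat_lit 3330))
)) (.node (nat_lit 0x1841414ff2) (.leaf (nat_lit 0x1841414fa2) (nat_lit 3330))
 (.node (nat_lit 0x1841415bb2) (.leaf (nat_lit 0x1841414ff2) (nat_lit 2562))
 (.leaf (nat_lit 0x1841415bb2) (nat_lit 3075))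
))))) (.node (nat_lit 0x1841425fc2) (.node (nat_lit 0x1841424f92) (.node (nat_lit 0x1841415ff2) (.node (nat_lit 0x1841415fa2) (.leaf (nat_lit 0x1841415be2) (nat_lit 3329))
 (.leaf (nat_lit 0x1841415fa2) (nat_lit 3074))
) (.node (nat_lit 0x1841424b82) (.leaf (nat_lit 0x1841415ff2) (nat_lit 2306))
 (.node (nat_lit 0x1841424bd2) (.leaf (nat_lit 0x1841424b82) (nat_lit 1539))
 (.leaf (nat_lit 0x1841424bd2) (nat_lit 2819))
))) (.node (nat_lit 0x1841425b82) (.node (nat_lit 0x1841424fc2) (.leaf (nat_lit 0x1841424f92) (nat_lit 3075))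
 (.leaf (nat_lit 0x1841424fc2) (nat_lit 3074))
) (.node (nat_lit 0x1841425bd2) (.leaf (nat_lit 0x1841425b82) (nat_lit 1795))
 (.node (nat_lit 0x1841425f92) (.leaf (nat_lit 0x1841425bd2) (nat_lit 3075))
 (.leaf (nat_lit 0x1841425f92) (nat_lit 3331))
)))) (.node (nat_lit 0x18414353b2) (.node (nat_lit 0x18414343e2) (.node (nat_lit 0x18414343b2) (.leaf (nat_lit 0x1841425fc2) (nat_lit 2818))
 (.leaf (nat_lit 0x18414343b2) (nat_lit 2050))
) (.node (nat_lit 0x18414347a2) (.leaf (nat_lit 0x18414343e2) (nat_lit 2818))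
 (.node (nat_lit 0x18414347f2) (.leaf (nat_lit 0x18414347a2) (nat_lit 3332))
 (.leaf (nat_lit 0x18414347f2) (nat_lit 3072))
))) (.node (nat_lit 0x18414357f2) (.node (nat_lit 0x18414353e2) (.leaf (nat_lit 0x18414353b2) (nat_lit 2306))
 (.node (nat_lit 0x18414357a2) (.leaf (nat_lit 0x18414353e2) (nat_lit 3074))
 (.leaf (nat_lit 0x18414357a2) (nat_lit 3588))
)) (.node (nat_lit 0x1841444b82) (.leaf (nat_lit 0x18414357f2) (nat_lit 2816))
 (.node (nat_lit 0x1841444bd2) (.leaf (nat_lit 0x1841444b82) (nat_lit 1795))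
 (.leaf (nat_lit 0x1841444bd2) (nat_lit 3075))
)))))) (.node (nat_lit 0x18414657c2) (.node (nat_lit 0x18414553b2) (.node (nat_lit 0x1841445fc2) (.node (nat_lit 0x1841445b82) (.node (nat_lit 0x1841444fc2) (.leaf (nat_lit 0x1841444f92) (nat_lit 3328))
 (.leaf (nat_lit 0x1841444fc2) (nat_lit 2818))
) (.node (nat_lit 0x1841445bd2) (.leaf (nat_lit 0x1841445b82) (nat_lit 2051))
 (.node (nat_lit 0x1841445f92) (.leaf (nat_lit 0x1841445bd2) (nat_lit 3331))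
 (.leaf (nat_lit 0x1841445f92) (nat_lit 3584))
))) (.node (nat_lit 0x18414543e2) (.node (nat_lit 0x18414543b2) (.leaf (nat_lit 0x1841445fc2) (nat_lit 2562))
 (.leaf (nat_lit 0x18414543b2) (nat_lit 2306))
) (.node (nat_lit 0x18414547a2) (.leaf (nat_lit 0x18414543e2) (nat_lit 3074))
 (.node (nat_lit 0x18414547f2) (.leaf (nat_lit 0x18414547a2) (nat_lit 3587))
 (.leaf (nat_lit 0x18414547f2) (nat_lit 2819))
)))) (.node (nat_lit 0x18414643d2) (.node (nat_lit 0x18414557a2) (.node (nat_lit 0x18414553e2) (.leaf (nat_lit 0x18414553b2) (nat_lit 2562))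
 (.leaf (nat_lit 0x18414553e2) (nat_lit 3330))
) (.node (nat_lit 0x18414557f2) (.leaf (nat_lit 0x18414557a2) (nat_lit 3331))
 (.node (nat_lit 0x1841464382) (.leaf (nat_lit 0x18414557f2) (nat_lit 2563))
 (.leaf (nat_lit 0x1841464382) (nat_lit 1026))
))) (.node (nat_lit 0x1841465382) (.node (nat_lit 0x1841464792) (.leaf (nat_lit 0x18414643d2) (nat_lit 2306))
 (.node (nat_lit 0x18414647c2) (.leaf (nat_lit 0x1841464792) (nat_lit 2820))
 (.leaf (nat_lit 0x18414647c2) (nat_lit 3331))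
)) (.node (nat_lit 0x18414653d2) (.leaf (nat_lit 0x1841465382) (nat_lit 1282))
 (.node (nat_lit 0x1841465792) (.leaf (nat_lit 0x18414653d2) (nat_lit 2562))
 (.leaf (nat_lit 0x1841465792) (nat_lit 3076))
))))) (.node (nat_lit 0x1841c06372) (.node (nat_lit 0x1841475bb2) (.node (nat_lit 0x1841474be2) (.node (nat_lit 0x1841474bb2) (.leaf (nat_lit 0x18414657c2) (nat_lit 3075))
 (.leaf (nat_lit 0x1841474bb2) (nat_lit 3072))
) (.node (nat_lit 0x1841474fa2) (.leaf (nat_lit 0x1841474be2) (nat_lit 3329))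
 (.node (nat_lit 0x1841474ff2) (.leaf (nat_lit 0x1841474fa2) (nat_lit 3074))
 (.leaf (nat_lit 0x1841474ff2) (nat_lit 2306))
))) (.node (nat_lit 0x1841475fa2) (.node (nat_lit 0x1841475be2) (.leaf (nat_lit 0x1841475bb2) (nat_lit 3328))
 (.leaf (nat_lit 0x1841475be2) (nat_lit 3073))
) (.node (nat_lit 0x1841475ff2) (.leaf (nat_lit 0x1841475fa2) (nat_lit 2818))
 (.node (nat_lit 0x1841c06302) (.leaf (nat_lit 0x1841475ff2) (nat_lit 2050))
 (.leaf (nat_lit 0x1841c06302) (nat_lit 1026))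
)))) (.node (nat_lit 0x1841c07f32) (.node (nat_lit 0x1841c06f42) (.node (nat_lit 0x1841c06f32) (.leaf (nat_lit 0x1841c06372) (nat_lit 2306))
 (.leaf (nat_lit 0x1841c06f32) (nat_lit 2564))
) (.node (nat_lit 0x1841c07302) (.leaf (nat_lit 0x1841c06f42) (nat_lit 3073))
 (.node (nat_lit 0x1841c07372) (.leaf (nat_lit 0x1841c07302) (nat_lit 1282))
 (.leaf (nat_lit 0x1841c07372) (nat_lit 2562))
))) (.node (nat_lit 0x1841c16362) (.node (nat_lit 0x1841c07f42) (.leaf (nat_lit 0x1841c07f32) (nat_lit 2820))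
 (.node (nat_lit 0x1841c16312) (.leaf (nat_lit 0x1841c07f42) (nat_lit 3329))
 (.leaf (nat_lit 0x1841c16312) (nat_lit 2306))
)) (.node (nat_lit 0x1841c16f22) (.leaf (nat_lit 0x1841c16362) (nat_lit 3074))
 (.node (nat_lit 0x1841c16f52) (.leaf (nat_lit 0x1841c16f22) (nat_lit 3332))
 (.leaf (nat_lit 0x1841c16f52) (nat_lit 3328))
))))))) (.node (nat_lit 0x1841c67f32) (.node (nat_lit 0x1841c46742) (.node (nat_lit 0x1841c27b02) (.node (nat_lit 0x1841c26742) (.node (nat_lit 0x1841c17f22) (.node (nat_lit 0x1841c17362) (.leaf (nat_lit 0x1841c17312) (nat_lit 2562))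
 (.leaf (nat_lit 0x1841c17362) (nat_lit 3330))
) (.node (nat_lit 0x1841c17f52) (.leaf (nat_lit 0x1841c17f22) (nat_lit 3588))
 (.node (nat_lit 0x1841c26732) (.leaf (nat_lit 0x1841c17f52) (nat_lit 3072))
 (.leaf (nat_lit 0x1841c26732) (nat_lit 2819))
))) (.node (nat_lit 0x1841c26b72) (.node (nat_lit 0x1841c26b02) (.leaf (nat_lit 0x1841c26742) (nat_lit 3330))
 (.leaf (nat_lit 0x1841c26b02) (nat_lit 1539))
) (.node (nat_lit 0x1841c27732) (.leaf (nat_lit 0x1841c26b72) (nat_lit 2819))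
 (.node (nat_lit 0x1841c27742) (.leaf (nat_lit 0x1841c27732) (nat_lit 3075))
 (.leaf (nat_lit 0x1841c27742) (nat_lit 3074))
)))) (.node (nat_lit 0x1841c36b62) (.node (nat_lit 0x1841c36722) (.node (nat_lit 0x1841c27b72) (.leaf (nat_lit 0x1841c27b02) (nat_lit 1795))
 (.leaf (nat_lit 0x1841c27b72) (nat_lit 3075))
) (.node (nat_lit 0x1841c36752) (.leaf (nat_lit 0x1841c36722) (nat_lit 3584))
 (.node (nat_lit 0x1841c36b12) (.leaf (nat_lit 0x1841c36752) (nat_lit 2818))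
 (.leaf (nat_lit 0x1841c36b12) (nat_lit 2819))
))) (.node (nat_lit 0x1841c37b12) (.node (nat_lit 0x1841c37722) (.leaf (nat_lit 0x1841c36b62) (nat_lit 3329))
 (.node (nat_lit 0x1841c37752) (.leaf (nat_lit 0x1841c37722) (nat_lit 3328))
 (.leaf (nat_lit 0x1841c37752) (nat_lit 2562))
)) (.node (nat_lit 0x1841c37b62) (.leaf (nat_lit 0x1841c37b12) (nat_lit 3075))
 (.node (nat_lit 0x1841c46732) (.leaf (nat_lit 0x1841c37b62) (nat_lit 3073))
 (.leaf (nat_lit 0x1841c46732) (nat_lit 3072))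
))))) (.node (nat_lit 0x1841c56b62) (.node (nat_lit 0x1841c47b02) (.node (nat_lit 0x1841c46b72) (.node (nat_lit 0x1841c46b02) (.leaf (nat_lit 0x1841c46742) (nat_lit 3074))
 (.leaf (nat_lit 0x1841c46b02) (nat_lit 1792))
) (.node (nat_lit 0x1841c47732) (.leaf (nat_lit 0x1841c46b72) (nat_lit 3072))
 (.node (nat_lit 0x1841c47742) (.leaf (nat_lit 0x1841c47732) (nat_lit 3328))
 (.leaf (nat_lit 0x1841c47742) (nat_lit 2818))
))) (.node (nat_lit 0x1841c56722) (.node (nat_lit 0x1841c47b72) (.leaf (nat_lit 0x1841c47b02) (nat_lit 2048))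
 (.leaf (nat_lit 0x1841c47b72) (nat_lit 3328))
) (.node (nat_lit 0x1841c56752) (.leaf (nat_lit 0x1841c56722) (nat_lit 3331))
 (.node (nat_lit 0x1841c56b12) (.leaf (nat_lit 0x1841c56752) (nat_lit 2562))
 (.leaf (nat_lit 0x1841c56b12) (nat_lit 3072))
)))) (.node (nat_lit 0x1841c66302) (.node (nat_lit 0x1841c57752) (.node (nat_lit 0x1841c57722) (.leaf (nat_lit 0x1841c56b62) (nat_lit 3073))
 (.leaf (nat_lit 0x1841c57722) (nat_lit 3075))
) (.node (nat_lit 0x1841c57b12) (.leaf (nat_lit 0x1841c57752) (nat_lit 2306))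
 (.node (nat_lit 0x1841c57b62) (.leaf (nat_lit 0x1841c57b12) (nat_lit 3328))
 (.leaf (nat_lit 0x1841c57b62) (nat_lit 2817))
))) (.node (nat_lit 0x1841c66f42) (.node (nat_lit 0x1841c66372) (.leaf (nat_lit 0x1841c66302) (nat_lit 1282))
 (.node (nat_lit 0x1841c66f32) (.leaf (nat_lit 0x1841c66372) (nat_lit 2562))
 (.leaf (nat_lit 0x1841c66f32) (nat_lit 2820))
)) (.node (nat_lit 0x1841c67302) (.leaf (nat_lit 0x1841c66f42) (nat_lit 3329))
 (.node (nat_lit 0x1841c67372) (.leaf (nat_lit 0x1841c67302) (nat_lit 1538))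
 (.leaf (nat_lit 0x1841c67372) (nat_lit 2818))
)))))) (.node (nat_lit 0x185041473e) (.node (nat_lit 0x185040430e) (.node (nat_lit 0x1841c76f52) (.node (nat_lit 0x1841c76312) (.node (nat_lit 0x1841c67f42) (.leaf (nat_lit 0x1841c67f32) (nat_lit 3076))
 (.leaf (nat_lit 0x1841c67f42) (nat_lit 3331))
) (.node (nat_lit 0x1841c76362) (.leaf (nat_lit 0x1841c76312) (nat_lit 2562))
 (.node (nat_lit 0x1841c76f22) (.leaf (nat_lit 0x1841c76362) (nat_lit 3330))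
 (.leaf (nat_lit 0x1841c76f22) (nat_lit 3587))
))) (.node (nat_lit 0x1841c77362) (.node (nat_lit 0x1841c77312) (.leaf (nat_lit 0x1841c76f52) (nat_lit 3075))
 (.leaf (nat_lit 0x1841c77312) (nat_lit 2818))
) (.node (nat_lit 0x1841c77f22) (.leaf (nat_lit 0x1841c77362) (nat_lit 3329))
 (.node (nat_lit 0x1841c77f52) (.leaf (nat_lit 0x1841c77f22) (nat_lit 3331))
 (.leaf (nat_lit 0x1841c77f52) (nat_lit 2819))
)))) (.node (nat_lit 0x185040535e) (.node (nat_lit 0x185040474e) (.node (nat_lit 0x185040431e) (.leaf (nat_lit 0x185040430e) (nat_lit 772))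
 (.leaf (nat_lit 0x185040431e) (nat_lit 2818))
) (.node (nat_lit 0x185040475e) (.leaf (nat_lit 0x185040474e) (nat_lit 1796))
 (.node (nat_lit 0x185040534e) (.leaf (nat_lit 0x185040475e) (nat_lit 3331))
 (.leaf (nat_lit 0x185040534e) (nat_lit 1028))
))) (.node (nat_lit 0x185041436e) (.node (nat_lit 0x185040570e) (.leaf (nat_lit 0x185040535e) (nat_lit 3074))
 (.node (nat_lit 0x185040571e) (.leaf (nat_lit 0x185040570e) (nat_lit 1540))
 (.leaf (nat_lit 0x185040571e) (nat_lit 3330))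
)) (.node (nat_lit 0x185041437e) (.leaf (nat_lit 0x185041436e) (nat_lit 3075))
 (.node (nat_lit 0x185041472e) (.leaf (nat_lit 0x185041437e) (nat_lit 2048))
 (.leaf (nat_lit 0x185041472e) (nat_lit 2307))
))))) (.node (nat_lit 0x1850425b7e) (.node (nat_lit 0x1850424b2e) (.node (nat_lit 0x185041533e) (.node (nat_lit 0x185041532e) (.leaf (nat_lit 0x185041473e) (nat_lit 2820))
 (.leaf (nat_lit 0x185041532e) (nat_lit 2819))
) (.node (nat_lit 0x185041576e) (.leaf (nat_lit 0x185041533e) (nat_lit 2304))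
 (.node (nat_lit 0x185041577e) (.leaf (nat_lit 0x185041576e) (nat_lit 2563))
 (.leaf (nat_lit 0x185041577e) (nat_lit 2564))
))) (.node (nat_lit 0x1850424f6e) (.node (nat_lit 0x1850424b3e) (.leaf (nat_lit 0x1850424b2e) (nat_lit 1537))
 (.leaf (nat_lit 0x1850424b3e) (nat_lit 3587))
) (.node (nat_lit 0x1850424f7e) (.leaf (nat_lit 0x1850424f6e) (nat_lit 2819))
 (.node (nat_lit 0x1850425b6e) (.leaf (nat_lit 0x1850424f7e) (nat_lit 2304))
 (.leaf (nat_lit 0x1850425b6e) (nat_lit 1793))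
)))) (.node (nat_lit 0x1850434f0e) (.node (nat_lit 0x1850425f3e) (.node (nat_lit 0x1850425f2e) (.leaf (nat_lit 0x1850425b7e) (nat_lit 3331))
 (.leaf (nat_lit 0x1850425f2e) (nat_lit 2563))
) (.node (nat_lit 0x1850434b4e) (.leaf (nat_lit 0x1850425f3e) (nat_lit 2560))
 (.node (nat_lit 0x1850434b5e) (.leaf (nat_lit 0x1850434b4e) (nat_lit 2563))
 (.leaf (nat_lit 0x1850434b5e) (nat_lit 2817))
))) (.node (nat_lit 0x1850435b1e) (.node (nat_lit 0x1850434f1e) (.leaf (nat_lit 0x1850434f0e) (nat_lit 1539))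
 (.node (nat_lit 0x1850435b0e) (.leaf (nat_lit 0x1850434f1e) (nat_lit 3587))
 (.leaf (nat_lit 0x1850435b0e) (nat_lit 2307))
)) (.node (nat_lit 0x1850435f4e) (.leaf (nat_lit 0x1850435b1e) (nat_lit 3073))
 (.node (nat_lit 0x1850435f5e) (.leaf (nat_lit 0x1850435f4e) (nat_lit 1795))
 (.leaf (nat_lit 0x1850435f5e) (nat_lit 3585))
)))))))))) (.node (nat_lit 0x1870c6638c) (.node (nat_lit 0x1851c1a31e) (.node (nat_lit 0x185086b48e) (.node (nat_lit 0x185081acce) (.node (nat_lit 0x185046535e) (.node (nat_lit 0x1850454f0e) (.node (nat_lit 0x1850445b7e) (.node (nat_lit 0x1850444f6e) (.node (nat_lit 0x1850444b3e) (.leaf (nat_lit 0x1850444b2e) (nat_lit 1793))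
 (.leaf (nat_lit 0x1850444b3e) (nat_lit 3331))
) (.node (nat_lit 0x1850444f7e) (.leaf (nat_lit 0x1850444f6e) (nat_lit 3072))
 (.node (nat_lit 0x1850445b6e) (.leaf (nat_lit 0x1850444f7e) (nat_lit 2051))
 (.leaf (nat_lit 0x1850445b6e) (nat_lit 2049))
))) (.node (nat_lit 0x1850445f3e) (.node (nat_lit 0x1850445f2e) (.leaf (nat_lit 0x1850445b7e) (nat_lit 3075))
 (.leaf (nat_lit 0x1850445f2e) (nat_lit 2816))
) (.node (nat_lit 0x1850454b4e) (.leaf (nat_lit 0x1850445f3e) (nat_lit 2307))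
 (.node (nat_lit 0x1850454b5e) (.leaf (nat_lit 0x1850454b4e) (nat_lit 2819))
 (.leaf (nat_lit 0x1850454b5e) (nat_lit 2561))
)))) (.node (nat_lit 0x1850455f5e) (.node (nat_lit 0x1850455b0e) (.node (nat_lit 0x1850454f1e) (.leaf (nat_lit 0x1850454f0e) (nat_lit 1795))
 (.leaf (nat_lit 0x1850454f1e) (nat_lit 3585))
) (.node (nat_lit 0x1850455b1e) (.leaf (nat_lit 0x1850455b0e) (nat_lit 2563))
 (.node (nat_lit 0x1850455f4e) (.leaf (nat_lit 0x1850455b1e) (nat_lit 2817))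
 (.leaf (nat_lit 0x1850455f4e) (nat_lit 2051))
))) (.node (nat_lit 0x185046474e) (.node (nat_lit 0x185046430e) (.leaf (nat_lit 0x1850455f5e) (nat_lit 3329))
 (.node (nat_lit 0x185046431e) (.leaf (nat_lit 0x185046430e) (nat_lit 1028))
 (.leaf (nat_lit 0x185046431e) (nat_lit 3074))
)) (.node (nat_lit 0x185046475e) (.leaf (nat_lit 0x185046474e) (nat_lit 2052))
 (.node (nat_lit 0x185046534e) (.leaf (nat_lit 0x185046475e) (nat_lit 3075))
 (.leaf (nat_lit 0x185046534e) (nat_lit 1284))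
))))) (.node (nat_lit 0x185047577e) (.node (nat_lit 0x185047472e) (.node (nat_lit 0x185046571e) (.node (nat_lit 0x185046570e) (.leaf (nat_lit 0x185046535e) (nat_lit 3330))
 (.leaf (nat_lit 0x185046570e) (nat_lit 1796))
) (.node (nat_lit 0x185047436e) (.leaf (nat_lit 0x185046571e) (nat_lit 3331))
 (.node (nat_lit 0x185047437e) (.leaf (nat_lit 0x185047436e) (nat_lit 3328))
 (.leaf (nat_lit 0x185047437e) (nat_lit 1795))
))) (.node (nat_lit 0x185047532e) (.node (nat_lit 0x185047473e) (.leaf (nat_lit 0x185047472e) (nat_lit 2563))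
 (.leaf (nat_lit 0x185047473e) (nat_lit 2564))
) (.node (nat_lit 0x185047533e) (.leaf (nat_lit 0x185047532e) (nat_lit 3072))
 (.node (nat_lit 0x185047576e) (.leaf (nat_lit 0x185047533e) (nat_lit 2051))
 (.leaf (nat_lit 0x185047576e) (nat_lit 2819))
)))) (.node (nat_lit 0x185080b48e) (.node (nat_lit 0x185080a0ae) (.node (nat_lit 0x185080a08e) (.leaf (nat_lit 0x185047577e) (nat_lit 2308))
 (.leaf (nat_lit 0x185080a08e) (nat_lit 1028))
) (.node (nat_lit 0x185080a8de) (.leaf (nat_lit 0x185080a0ae) (nat_lit 2308))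
 (.node (nat_lit 0x185080a8fe) (.leaf (nat_lit 0x185080a8de) (nat_lit 3587))
 (.leaf (nat_lit 0x185080a8fe) (nat_lit 2564))
))) (.node (nat_lit 0x185080bcfe) (.node (nat_lit 0x185080b4ae) (.leaf (nat_lit 0x185080b48e) (nat_lit 1796))
 (.node (nat_lit 0x185080bcde) (.leaf (nat_lit 0x185080b4ae) (nat_lit 2820))
 (.leaf (nat_lit 0x185080bcde) (nat_lit 3332))
)) (.node (nat_lit 0x185081a49e) (.leaf (nat_lit 0x185080bcfe) (nat_lit 2052))
 (.node (nat_lit 0x185081a4be) (.leaf (nat_lit 0x185081a49e) (nat_lit 2305))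
 (.leaf (nat_lit 0x185081a4be) (nat_lit 3329))
)))))) (.node (nat_lit 0x185083b8ae) (.node (nat_lit 0x185082b4ce) (.node (nat_lit 0x185081b8ee) (.node (nat_lit 0x185081b09e) (.node (nat_lit 0x185081acee) (.leaf (nat_lit 0x185081acce) (nat_lit 2304))
 (.leaf (nat_lit 0x185081acee) (nat_lit 3328))
) (.node (nat_lit 0x185081b0be) (.leaf (nat_lit 0x185081b09e) (nat_lit 3073))
 (.node (nat_lit 0x185081b8ce) (.leaf (nat_lit 0x185081b0be) (nat_lit 3072))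
 (.leaf (nat_lit 0x185081b8ce) (nat_lit 3075))
))) (.node (nat_lit 0x185082a0ee) (.node (nat_lit 0x185082a0ce) (.leaf (nat_lit 0x185081b8ee) (nat_lit 2817))
 (.leaf (nat_lit 0x185082a0ce) (nat_lit 1540))
) (.node (nat_lit 0x185082a89e) (.leaf (nat_lit 0x185082a0ee) (nat_lit 2820))
 (.node (nat_lit 0x185082a8be) (.leaf (nat_lit 0x185082a89e) (nat_lit 3075))
 (.leaf (nat_lit 0x185082a8be) (nat_lit 3076))
)))) (.node (nat_lit 0x185083a4fe) (.node (nat_lit 0x185082bc9e) (.node (nat_lit 0x185082b4ee) (.leaf (nat_lit 0x185082b4ce) (nat_lit 2308))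
 (.leaf (nat_lit 0x185082b4ee) (nat_lit 3332))
) (.node (nat_lit 0x185082bcbe) (.leaf (nat_lit 0x185082bc9e) (nat_lit 3587))
 (.node (nat_lit 0x185083a4de) (.leaf (nat_lit 0x185082bcbe) (nat_lit 2564))
 (.leaf (nat_lit 0x185083a4de) (nat_lit 2817))
))) (.node (nat_lit 0x185083b0de) (.node (nat_lit 0x185083ac8e) (.leaf (nat_lit 0x185083a4fe) (nat_lit 3331))
 (.node (nat_lit 0x185083acae) (.leaf (nat_lit 0x185083ac8e) (nat_lit 1795))
 (.leaf (nat_lit 0x185083acae) (nat_lit 2819))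
)) (.node (nat_lit 0x185083b0fe) (.leaf (nat_lit 0x185083b0de) (nat_lit 3585))
 (.node (nat_lit 0x185083b88e) (.leaf (nat_lit 0x185083b0fe) (nat_lit 2563))
 (.leaf (nat_lit 0x185083b88e) (nat_lit 2563))
))))) (.node (nat_lit 0x185085a4fe) (.node (nat_lit 0x185084b4ce) (.node (nat_lit 0x185084a0ee) (.node (nat_lit 0x185084a0ce) (.leaf (nat_lit 0x185083b8ae) (nat_lit 3329))
 (.leaf (nat_lit 0x185084a0ce) (nat_lit 1284))
) (.node (nat_lit 0x185084a89e) (.leaf (nat_lit 0x185084a0ee) (nat_lit 2564))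
 (.node (nat_lit 0x185084a8be) (.leaf (nat_lit 0x185084a89e) (nat_lit 3331))
 (.leaf (nat_lit 0x185084a8be) (nat_lit 2820))
))) (.node (nat_lit 0x185084bc9e) (.node (nat_lit 0x185084b4ee) (.leaf (nat_lit 0x185084b4ce) (nat_lit 2052))
 (.leaf (nat_lit 0x185084b4ee) (nat_lit 3076))
) (.node (nat_lit 0x185084bcbe) (.leaf (nat_lit 0x185084bc9e) (nat_lit 3588))
 (.node (nat_lit 0x185085a4de) (.leaf (nat_lit 0x185084bcbe) (nat_lit 2308))
 (.leaf (nat_lit 0x185085a4de) (nat_lit 2561))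
)))) (.node (nat_lit 0x185085b88e) (.node (nat_lit 0x185085acae) (.node (nat_lit 0x185085ac8e) (.leaf (nat_lit 0x185085a4fe) (nat_lit 3585))
 (.leaf (nat_lit 0x185085ac8e) (nat_lit 2048))
) (.node (nat_lit 0x185085b0de) (.leaf (nat_lit 0x185085acae) (nat_lit 3072))
 (.node (nat_lit 0x185085b0fe) (.leaf (nat_lit 0x185085b0de) (nat_lit 3329))
 (.leaf (nat_lit 0x185085b0fe) (nat_lit 2816))
))) (.node (nat_lit 0x185086a0ae) (.node (nat_lit 0x185085b8ae) (.leaf (nat_lit 0x185085b88e) (nat_lit 2819))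
 (.node (nat_lit 0x185086a08e) (.leaf (nat_lit 0x185085b8ae) (nat_lit 3073))
 (.leaf (nat_lit 0x185086a08e) (nat_lit 1284))
)) (.node (nat_lit 0x185086a8de) (.leaf (nat_lit 0x185086a0ae) (nat_lit 2564))
 (.node (nat_lit 0x185086a8fe) (.leaf (nat_lit 0x185086a8de) (nat_lit 3331))
 (.leaf (nat_lit 0x185086a8fe) (nat_lit 2820))
))))))) (.node (nat_lit 0x1851035c9e) (.node (nat_lit 0x18510148fe) (.node (nat_lit 0x185087b8ce) (.node (nat_lit 0x185087a4be) (.node (nat_lit 0x185086bcde) (.node (nat_lit 0x185086b4ae) (.leaf (nat_lit 0x185086b48e) (nat_lit 2052))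
 (.leaf (nat_lit 0x185086b4ae) (nat_lit 3076))
) (.node (nat_lit 0x185086bcfe) (.leaf (nat_lit 0x185086bcde) (nat_lit 3588))
 (.node (nat_lit 0x185087a49e) (.leaf (nat_lit 0x185086bcfe) (nat_lit 2308))
 (.leaf (nat_lit 0x185087a49e) (nat_lit 2561))
))) (.node (nat_lit 0x185087acee) (.node (nat_lit 0x185087acce) (.leaf (nat_lit 0x185087a4be) (nat_lit 3587))
 (.leaf (nat_lit 0x185087acce) (nat_lit 2051))
) (.node (nat_lit 0x185087b09e) (.leaf (nat_lit 0x185087acee) (nat_lit 3075))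
 (.node (nat_lit 0x185087b0be) (.leaf (nat_lit 0x185087b09e) (nat_lit 3329))
 (.leaf (nat_lit 0x185087b0be) (nat_lit 2819))
)))) (.node (nat_lit 0x18510044de) (.node (nat_lit 0x185100408e) (.node (nat_lit 0x185087b8ee) (.leaf (nat_lit 0x185087b8ce) (nat_lit 2819))
 (.leaf (nat_lit 0x185087b8ee) (nat_lit 3073))
) (.node (nat_lit 0x18510040ce) (.leaf (nat_lit 0x185100408e) (nat_lit 1026))
 (.node (nat_lit 0x185100449e) (.leaf (nat_lit 0x18510040ce) (nat_lit 1282))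
 (.leaf (nat_lit 0x185100449e) (nat_lit 2564))
))) (.node (nat_lit 0x185100548e) (.node (nat_lit 0x185100509e) (.leaf (nat_lit 0x18510044de) (nat_lit 2820))
 (.node (nat_lit 0x18510050de) (.leaf (nat_lit 0x185100509e) (nat_lit 3076))
 (.leaf (nat_lit 0x18510050de) (nat_lit 3332))
)) (.node (nat_lit 0x18510054ce) (.leaf (nat_lit 0x185100548e) (nat_lit 1794))
 (.node (nat_lit 0x18510148be) (.leaf (nat_lit 0x18510054ce) (nat_lit 2050))
 (.leaf (nat_lit 0x18510148be) (nat_lit 3074))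
))))) (.node (nat_lit 0x18510244fe) (.node (nat_lit 0x1851015cbe) (.node (nat_lit 0x1851014cee) (.node (nat_lit 0x1851014cae) (.leaf (nat_lit 0x18510148fe) (nat_lit 2818))
 (.leaf (nat_lit 0x1851014cae) (nat_lit 2563))
) (.node (nat_lit 0x18510158ae) (.leaf (nat_lit 0x1851014cee) (nat_lit 2819))
 (.node (nat_lit 0x18510158ee) (.leaf (nat_lit 0x18510158ae) (nat_lit 3075))
 (.leaf (nat_lit 0x18510158ee) (nat_lit 3331))
))) (.node (nat_lit 0x18510240ae) (.node (nat_lit 0x1851015cfe) (.leaf (nat_lit 0x1851015cbe) (nat_lit 2560))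
 (.leaf (nat_lit 0x1851015cfe) (nat_lit 2304))
) (.node (nat_lit 0x18510240ee) (.leaf (nat_lit 0x18510240ae) (nat_lit 1794))
 (.node (nat_lit 0x18510244be) (.leaf (nat_lit 0x18510240ee) (nat_lit 2050))
 (.leaf (nat_lit 0x18510244be) (nat_lit 3332))
)))) (.node (nat_lit 0x185103489e) (.node (nat_lit 0x18510250fe) (.node (nat_lit 0x18510250be) (.leaf (nat_lit 0x18510244fe) (nat_lit 3588))
 (.leaf (nat_lit 0x18510250be) (nat_lit 2816))
) (.node (nat_lit 0x18510254ae) (.leaf (nat_lit 0x18510250fe) (nat_lit 2560))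
 (.node (nat_lit 0x18510254ee) (.leaf (nat_lit 0x18510254ae) (nat_lit 2819))
 (.leaf (nat_lit 0x18510254ee) (nat_lit 3075))
))) (.node (nat_lit 0x1851034cce) (.node (nat_lit 0x18510348de) (.leaf (nat_lit 0x185103489e) (nat_lit 3331))
 (.node (nat_lit 0x1851034c8e) (.leaf (nat_lit 0x18510348de) (nat_lit 3587))
 (.leaf (nat_lit 0x1851034c8e) (nat_lit 1795))
)) (.node (nat_lit 0x185103588e) (.leaf (nat_lit 0x1851034cce) (nat_lit 2051))
 (.node (nat_lit 0x18510358ce) (.leaf (nat_lit 0x185103588e) (nat_lit 2563))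
 (.leaf (nat_lit 0x18510358ce) (nat_lit 2819))
)))))) (.node (nat_lit 0x18510644de) (.node (nat_lit 0x185105489e) (.node (nat_lit 0x18510444fe) (.node (nat_lit 0x18510440ae) (.node (nat_lit 0x1851035cde) (.leaf (nat_lit 0x1851035c9e) (nat_lit 3330))
 (.leaf (nat_lit 0x1851035cde) (nat_lit 3074))
) (.node (nat_lit 0x18510440ee) (.leaf (nat_lit 0x18510440ae) (nat_lit 2050))
 (.node (nat_lit 0x18510444be) (.leaf (nat_lit 0x18510440ee) (nat_lit 2306))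
 (.leaf (nat_lit 0x18510444be) (nat_lit 3587))
))) (.node (nat_lit 0x18510450fe) (.node (nat_lit 0x18510450be) (.leaf (nat_lit 0x18510444fe) (nat_lit 3331))
 (.leaf (nat_lit 0x18510450be) (nat_lit 2563))
) (.node (nat_lit 0x18510454ae) (.leaf (nat_lit 0x18510450fe) (nat_lit 2307))
 (.node (nat_lit 0x18510454ee) (.leaf (nat_lit 0x18510454ae) (nat_lit 3072))
 (.leaf (nat_lit 0x18510454ee) (nat_lit 3328))
)))) (.node (nat_lit 0x18510558ce) (.node (nat_lit 0x1851054c8e) (.node (nat_lit 0x18510548de) (.leaf (nat_lit 0x185105489e) (nat_lit 3587))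
 (.leaf (nat_lit 0x18510548de) (nat_lit 3586))
) (.node (nat_lit 0x1851054cce) (.leaf (nat_lit 0x1851054c8e) (nat_lit 2051))
 (.node (nat_lit 0x185105588e) (.leaf (nat_lit 0x1851054cce) (nat_lit 2307))
 (.leaf (nat_lit 0x185105588e) (nat_lit 2819))
))) (.node (nat_lit 0x185106408e) (.node (nat_lit 0x1851055c9e) (.leaf (nat_lit 0x18510558ce) (nat_lit 3075))
 (.node (nat_lit 0x1851055cde) (.leaf (nat_lit 0x1851055c9e) (nat_lit 3074))
 (.leaf (nat_lit 0x1851055cde) (nat_lit 2818))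
)) (.node (nat_lit 0x18510640ce) (.leaf (nat_lit 0x185106408e) (nat_lit 1282))
 (.node (nat_lit 0x185106449e) (.leaf (nat_lit 0x18510640ce) (nat_lit 1538))
 (.leaf (nat_lit 0x185106449e) (nat_lit 2820))
))))) (.node (nat_lit 0x18510758ee) (.node (nat_lit 0x18510748be) (.node (nat_lit 0x18510650de) (.node (nat_lit 0x185106509e) (.leaf (nat_lit 0x18510644de) (nat_lit 3076))
 (.leaf (nat_lit 0x185106509e) (nat_lit 3332))
) (.node (nat_lit 0x185106548e) (.leaf (nat_lit 0x18510650de) (nat_lit 3331))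
 (.node (nat_lit 0x18510654ce) (.leaf (nat_lit 0x185106548e) (nat_lit 2050))
 (.leaf (nat_lit 0x18510654ce) (nat_lit 2306))
))) (.node (nat_lit 0x1851074cae) (.node (nat_lit 0x18510748fe) (.leaf (nat_lit 0x18510748be) (nat_lit 2818))
 (.leaf (nat_lit 0x18510748fe) (nat_lit 2562))
) (.node (nat_lit 0x1851074cee) (.leaf (nat_lit 0x1851074cae) (nat_lit 2819))
 (.node (nat_lit 0x18510758ae) (.leaf (nat_lit 0x1851074cee) (nat_lit 3075))
 (.leaf (nat_lit 0x18510758ae) (nat_lit 3328))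
)))) (.node (nat_lit 0x1851c0ab2e) (.node (nat_lit 0x1851075cfe) (.node (nat_lit 0x1851075cbe) (.leaf (nat_lit 0x18510758ee) (nat_lit 3329))
 (.leaf (nat_lit 0x1851075cbe) (nat_lit 2307))
) (.node (nat_lit 0x1851c0a30e) (.leaf (nat_lit 0x1851075cfe) (nat_lit 2051))
 (.node (nat_lit 0x1851c0a37e) (.leaf (nat_lit 0x1851c0a30e) (nat_lit 1282))
 (.leaf (nat_lit 0x1851c0a37e) (nat_lit 2306))
))) (.node (nat_lit 0x1851c0b77e) (.node (nat_lit 0x1851c0ab5e) (.leaf (nat_lit 0x1851c0ab2e) (nat_lit 2049))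
 (.node (nat_lit 0x1851c0b70e) (.leaf (nat_lit 0x1851c0ab5e) (nat_lit 3329))
 (.leaf (nat_lit 0x1851c0b70e) (nat_lit 2050))
)) (.node (nat_lit 0x1851c0bf2e) (.leaf (nat_lit 0x1851c0b77e) (nat_lit 2818))
 (.node (nat_lit 0x1851c0bf5e) (.leaf (nat_lit 0x1851c0bf2e) (nat_lit 2820))
 (.leaf (nat_lit 0x1851c0bf5e) (nat_lit 3328))
)))))))) (.node (nat_lit 0x187083b09c) (.node (nat_lit 0x1851c6ab2e) (.node (nat_lit 0x1851c3b35e) (.node (nat_lit 0x1851c2af1e) (.node (nat_lit 0x1851c1b76e) (.node (nat_lit 0x1851c1ab3e) (.node (nat_lit 0x1851c1a36e) (.leaf (nat_lit 0x1851c1a31e) (nat_lit 2562))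
 (.leaf (nat_lit 0x1851c1a36e) (nat_lit 3074))
) (.node (nat_lit 0x1851c1ab4e) (.leaf (nat_lit 0x1851c1ab3e) (nat_lit 3075))
 (.node (nat_lit 0x1851c1b71e) (.leaf (nat_lit 0x1851c1ab4e) (nat_lit 3075))
 (.leaf (nat_lit 0x1851c1b71e) (nat_lit 3076))
))) (.node (nat_lit 0x1851c1bf4e) (.node (nat_lit 0x1851c1bf3e) (.leaf (nat_lit 0x1851c1b76e) (nat_lit 3072))
 (.leaf (nat_lit 0x1851c1bf3e) (nat_lit 3328))
) (.node (nat_lit 0x1851c2a73e) (.leaf (nat_lit 0x1851c1bf4e) (nat_lit 2560))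
 (.node (nat_lit 0x1851c2a74e) (.leaf (nat_lit 0x1851c2a73e) (nat_lit 3330))
 (.leaf (nat_lit 0x1851c2a74e) (nat_lit 2562))
)))) (.node (nat_lit 0x1851c2bb6e) (.node (nat_lit 0x1851c2b33e) (.node (nat_lit 0x1851c2af6e) (.leaf (nat_lit 0x1851c2af1e) (nat_lit 2819))
 (.leaf (nat_lit 0x1851c2af6e) (nat_lit 3332))
) (.node (nat_lit 0x1851c2b34e) (.leaf (nat_lit 0x1851c2b33e) (nat_lit 2818))
 (.node (nat_lit 0x1851c2bb1e) (.leaf (nat_lit 0x1851c2b34e) (nat_lit 1794))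
 (.leaf (nat_lit 0x1851c2bb1e) (nat_lit 3587))
))) (.node (nat_lit 0x1851c3af0e) (.node (nat_lit 0x1851c3a72e) (.leaf (nat_lit 0x1851c2bb6e) (nat_lit 2561))
 (.node (nat_lit 0x1851c3a75e) (.leaf (nat_lit 0x1851c3a72e) (nat_lit 2563))
 (.leaf (nat_lit 0x1851c3a75e) (nat_lit 3588))
)) (.node (nat_lit 0x1851c3af7e) (.leaf (nat_lit 0x1851c3af0e) (nat_lit 2051))
 (.node (nat_lit 0x1851c3b32e) (.leaf (nat_lit 0x1851c3af7e) (nat_lit 2819))
 (.leaf (nat_lit 0x1851c3b32e) (nat_lit 3075))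
))))) (.node (nat_lit 0x1851c4bb6e) (.node (nat_lit 0x1851c4af1e) (.node (nat_lit 0x1851c3bb7e) (.node (nat_lit 0x1851c3bb0e) (.leaf (nat_lit 0x1851c3b35e) (nat_lit 3074))
 (.leaf (nat_lit 0x1851c3bb0e) (nat_lit 2563))
) (.node (nat_lit 0x1851c4a73e) (.leaf (nat_lit 0x1851c3bb7e) (nat_lit 3331))
 (.node (nat_lit 0x1851c4a74e) (.leaf (nat_lit 0x1851c4a73e) (nat_lit 3074))
 (.leaf (nat_lit 0x1851c4a74e) (nat_lit 2306))
))) (.node (nat_lit 0x1851c4b33e) (.node (nat_lit 0x1851c4af6e) (.leaf (nat_lit 0x1851c4af1e) (nat_lit 3072))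
 (.leaf (nat_lit 0x1851c4af6e) (nat_lit 3076))
) (.node (nat_lit 0x1851c4b34e) (.leaf (nat_lit 0x1851c4b33e) (nat_lit 2562))
 (.node (nat_lit 0x1851c4bb1e) (.leaf (nat_lit 0x1851c4b34e) (nat_lit 1538))
 (.leaf (nat_lit 0x1851c4bb1e) (nat_lit 3585))
)))) (.node (nat_lit 0x1851c5b32e) (.node (nat_lit 0x1851c5a75e) (.node (nat_lit 0x1851c5a72e) (.leaf (nat_lit 0x1851c4bb6e) (nat_lit 2305))
 (.leaf (nat_lit 0x1851c5a72e) (nat_lit 2816))
) (.node (nat_lit 0x1851c5af0e) (.leaf (nat_lit 0x1851c5a75e) (nat_lit 3332))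
 (.node (nat_lit 0x1851c5af7e) (.leaf (nat_lit 0x1851c5af0e) (nat_lit 2304))
 (.leaf (nat_lit 0x1851c5af7e) (nat_lit 3072))
))) (.node (nat_lit 0x1851c5bb7e) (.node (nat_lit 0x1851c5b35e) (.leaf (nat_lit 0x1851c5b32e) (nat_lit 3330))
 (.node (nat_lit 0x1851c5bb0e) (.leaf (nat_lit 0x1851c5b35e) (nat_lit 2818))
 (.leaf (nat_lit 0x1851c5bb0e) (nat_lit 2819))
)) (.node (nat_lit 0x1851c6a30e) (.leaf (nat_lit 0x1851c5bb7e) (nat_lit 3331))
 (.node (nat_lit 0x1851c6a37e) (.leaf (nat_lit 0x1851c6a30e) (nat_lit 1538))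
 (.leaf (nat_lit 0x1851c6a37e) (nat_lit 2562))
)))))) (.node (nat_lit 0x187080bcac) (.node (nat_lit 0x1851c7b71e) (.node (nat_lit 0x1851c6bf5e) (.node (nat_lit 0x1851c6b70e) (.node (nat_lit 0x1851c6ab5e) (.leaf (nat_lit 0x1851c6ab2e) (nat_lit 2305))
 (.leaf (nat_lit 0x1851c6ab5e) (nat_lit 3585))
) (.node (nat_lit 0x1851c6b77e) (.leaf (nat_lit 0x1851c6b70e) (nat_lit 2306))
 (.node (nat_lit 0x1851c6bf2e) (.leaf (nat_lit 0x1851c6b77e) (nat_lit 3074))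
 (.leaf (nat_lit 0x1851c6bf2e) (nat_lit 3076))
))) (.node (nat_lit 0x1851c7a36e) (.node (nat_lit 0x1851c7a31e) (.leaf (nat_lit 0x1851c6bf5e) (nat_lit 3075))
 (.leaf (nat_lit 0x1851c7a31e) (nat_lit 2818))
) (.node (nat_lit 0x1851c7ab3e) (.leaf (nat_lit 0x1851c7a36e) (nat_lit 3331))
 (.node (nat_lit 0x1851c7ab4e) (.leaf (nat_lit 0x1851c7ab3e) (nat_lit 3328))
 (.leaf (nat_lit 0x1851c7ab4e) (nat_lit 2819))
)))) (.node (nat_lit 0x187080a0ac) (.node (nat_lit 0x1851c7bf3e) (.node (nat_lit 0x1851c7b76e) (.leaf (nat_lit 0x1851c7b71e) (nat_lit 3332))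
 (.leaf (nat_lit 0x1851c7b76e) (nat_lit 2819))
) (.node (nat_lit 0x1851c7bf4e) (.leaf (nat_lit 0x1851c7bf3e) (nat_lit 3075))
 (.node (nat_lit 0x187080a08c) (.leaf (nat_lit 0x1851c7bf4e) (nat_lit 2307))
 (.leaf (nat_lit 0x187080a08c) (nat_lit 1284))
))) (.node (nat_lit 0x187080b4dc) (.node (nat_lit 0x187080a8dc) (.leaf (nat_lit 0x187080a0ac) (nat_lit 2306))
 (.node (nat_lit 0x187080a8fc) (.leaf (nat_lit 0x187080a8dc) (nat_lit 2820))
 (.leaf (nat_lit 0x187080a8fc) (nat_lit 3331))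
)) (.node (nat_lit 0x187080b4fc) (.leaf (nat_lit 0x187080b4dc) (nat_lit 2052))
 (.node (nat_lit 0x187080bc8c) (.leaf (nat_lit 0x187080b4fc) (nat_lit 3076))
 (.leaf (nat_lit 0x187080bc8c) (nat_lit 1796))
))))) (.node (nat_lit 0x187082a0ec) (.node (nat_lit 0x187081b0dc) (.node (nat_lit 0x187081a4ac) (.node (nat_lit 0x187081a48c) (.leaf (nat_lit 0x187080bcac) (nat_lit 3076))
 (.leaf (nat_lit 0x187081a48c) (nat_lit 2051))
) (.node (nat_lit 0x187081acdc) (.leaf (nat_lit 0x187081a4ac) (nat_lit 3075))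
 (.node (nat_lit 0x187081acfc) (.leaf (nat_lit 0x187081acdc) (nat_lit 3585))
 (.leaf (nat_lit 0x187081acfc) (nat_lit 2561))
))) (.node (nat_lit 0x187081b88c) (.node (nat_lit 0x187081b0fc) (.leaf (nat_lit 0x187081b0dc) (nat_lit 2819))
 (.leaf (nat_lit 0x187081b0fc) (nat_lit 3329))
) (.node (nat_lit 0x187081b8ac) (.leaf (nat_lit 0x187081b88c) (nat_lit 2563))
 (.node (nat_lit 0x187082a0cc) (.leaf (nat_lit 0x187081b8ac) (nat_lit 3329))
 (.leaf (nat_lit 0x187082a0cc) (nat_lit 1796))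
)))) (.node (nat_lit 0x187082bccc) (.node (nat_lit 0x187082a8bc) (.node (nat_lit 0x187082a89c) (.leaf (nat_lit 0x187082a0ec) (nat_lit 2818))
 (.leaf (nat_lit 0x187082a89c) (nat_lit 3332))
) (.node (nat_lit 0x187082b49c) (.leaf (nat_lit 0x187082a8bc) (nat_lit 2819))
 (.node (nat_lit 0x187082b4bc) (.leaf (nat_lit 0x187082b49c) (nat_lit 2564))
 (.leaf (nat_lit 0x187082b4bc) (nat_lit 3331))
))) (.node (nat_lit 0x187083a4ec) (.node (nat_lit 0x187082bcec) (.leaf (nat_lit 0x187082bccc) (nat_lit 2308))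
 (.node (nat_lit 0x187083a4cc) (.leaf (nat_lit 0x187082bcec) (nat_lit 3588))
 (.leaf (nat_lit 0x187083a4cc) (nat_lit 2560))
)) (.node (nat_lit 0x187083ac9c) (.leaf (nat_lit 0x187083a4ec) (nat_lit 3584))
 (.node (nat_lit 0x187083acbc) (.leaf (nat_lit 0x187083ac9c) (nat_lit 3073))
 (.leaf (nat_lit 0x187083acbc) (nat_lit 2049))
))))))) (.node (nat_lit 0x1870c07f8c) (.node (nat_lit 0x187086a0ac) (.node (nat_lit 0x187084bccc) (.node (nat_lit 0x187084a0ec) (.node (nat_lit 0x187083b8cc) (.node (nat_lit 0x187083b0bc) (.leaf (nat_lit 0x187083b09c) (nat_lit 3328))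
 (.leaf (nat_lit 0x187083b0bc) (nat_lit 2817))
) (.node (nat_lit 0x187083b8ec) (.leaf (nat_lit 0x187083b8cc) (nat_lit 3075))
 (.node (nat_lit 0x187084a0cc) (.leaf (nat_lit 0x187083b8ec) (nat_lit 2817))
 (.leaf (nat_lit 0x187084a0cc) (nat_lit 1540))
))) (.node (nat_lit 0x187084a8bc) (.node (nat_lit 0x187084a89c) (.leaf (nat_lit 0x187084a0ec) (nat_lit 2562))
 (.leaf (nat_lit 0x187084a89c) (nat_lit 3076))
) (.node (nat_lit 0x187084b49c) (.leaf (nat_lit 0x187084a8bc) (nat_lit 3075))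
 (.node (nat_lit 0x187084b4bc) (.leaf (nat_lit 0x187084b49c) (nat_lit 2308))
 (.leaf (nat_lit 0x187084b4bc) (nat_lit 3332))
)))) (.node (nat_lit 0x187085acbc) (.node (nat_lit 0x187085a4cc) (.node (nat_lit 0x187084bcec) (.leaf (nat_lit 0x187084bccc) (nat_lit 2052))
 (.leaf (nat_lit 0x187084bcec) (nat_lit 3332))
) (.node (nat_lit 0x187085a4ec) (.leaf (nat_lit 0x187085a4cc) (nat_lit 2307))
 (.node (nat_lit 0x187085ac9c) (.leaf (nat_lit 0x187085a4ec) (nat_lit 3331))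
 (.leaf (nat_lit 0x187085ac9c) (nat_lit 3329))
))) (.node (nat_lit 0x187085b8cc) (.node (nat_lit 0x187085b09c) (.leaf (nat_lit 0x187085acbc) (nat_lit 2305))
 (.node (nat_lit 0x187085b0bc) (.leaf (nat_lit 0x187085b09c) (nat_lit 3075))
 (.leaf (nat_lit 0x187085b0bc) (nat_lit 3073))
)) (.node (nat_lit 0x187085b8ec) (.leaf (nat_lit 0x187085b8cc) (nat_lit 2819))
 (.node (nat_lit 0x187086a08c) (.leaf (nat_lit 0x187085b8ec) (nat_lit 3073))
 (.leaf (nat_lit 0x187086a08c) (nat_lit 1540))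
))))) (.node (nat_lit 0x187087acfc) (.node (nat_lit 0x187086bc8c) (.node (nat_lit 0x187086a8fc) (.node (nat_lit 0x187086a8dc) (.leaf (nat_lit 0x187086a0ac) (nat_lit 2562))
 (.leaf (nat_lit 0x187086a8dc) (nat_lit 3076))
) (.node (nat_lit 0x187086b4dc) (.leaf (nat_lit 0x187086a8fc) (nat_lit 3075))
 (.node (nat_lit 0x187086b4fc) (.leaf (nat_lit 0x187086b4dc) (nat_lit 2308))
 (.leaf (nat_lit 0x187086b4fc) (nat_lit 3332))
))) (.node (nat_lit 0x187087a48c) (.node (nat_lit 0x187086bcac) (.leaf (nat_lit 0x187086bc8c) (nat_lit 2052))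
 (.leaf (nat_lit 0x187086bcac) (nat_lit 3332))
) (.node (nat_lit 0x187087a4ac) (.leaf (nat_lit 0x187087a48c) (nat_lit 2304))
 (.node (nat_lit 0x187087acdc) (.leaf (nat_lit 0x187087a4ac) (nat_lit 3328))
 (.leaf (nat_lit 0x187087acdc) (nat_lit 3329))
)))) (.node (nat_lit 0x1870c0638c) (.node (nat_lit 0x187087b0fc) (.node (nat_lit 0x187087b0dc) (.leaf (nat_lit 0x187087acfc) (nat_lit 2305))
 (.leaf (nat_lit 0x187087b0dc) (nat_lit 3072))
) (.node (nat_lit 0x187087b88c) (.leaf (nat_lit 0x187087b0fc) (nat_lit 3073))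
 (.node (nat_lit 0x187087b8ac) (.leaf (nat_lit 0x187087b88c) (nat_lit 2819))
 (.leaf (nat_lit 0x187087b8ac) (nat_lit 3073))
))) (.node (nat_lit 0x1870c06ffc) (.node (nat_lit 0x1870c063bc) (.leaf (nat_lit 0x1870c0638c) (nat_lit 1028))
 (.node (nat_lit 0x1870c06fcc) (.leaf (nat_lit 0x1870c063bc) (nat_lit 2562))
 (.leaf (nat_lit 0x1870c06fcc) (nat_lit 2052))
)) (.node (nat_lit 0x1870c073cc) (.leaf (nat_lit 0x1870c06ffc) (nat_lit 3330))
 (.node (nat_lit 0x1870c073fc) (.leaf (nat_lit 0x1870c073cc) (nat_lit 1284))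
 (.leaf (nat_lit 0x1870c073fc) (nat_lit 2818))
)))))) (.node (nat_lit 0x1870c36fac) (.node (nat_lit 0x1870c267dc) (.node (nat_lit 0x1870c16bfc) (.node (nat_lit 0x1870c1678c) (.node (nat_lit 0x1870c07fbc) (.leaf (nat_lit 0x1870c07f8c) (nat_lit 1796))
 (.leaf (nat_lit 0x1870c07fbc) (nat_lit 3074))
) (.node (nat_lit 0x1870c167bc) (.leaf (nat_lit 0x1870c1678c) (nat_lit 1795))
 (.node (nat_lit 0x1870c16bcc) (.leaf (nat_lit 0x1870c167bc) (nat_lit 3331))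
 (.leaf (nat_lit 0x1870c16bcc) (nat_lit 2819))
))) (.node (nat_lit 0x1870c177fc) (.node (nat_lit 0x1870c177cc) (.leaf (nat_lit 0x1870c16bfc) (nat_lit 3073))
 (.leaf (nat_lit 0x1870c177cc) (nat_lit 2051))
) (.node (nat_lit 0x1870c17b8c) (.leaf (nat_lit 0x1870c177fc) (nat_lit 3587))
 (.node (nat_lit 0x1870c17bbc) (.leaf (nat_lit 0x1870c17b8c) (nat_lit 2563))
 (.leaf (nat_lit 0x1870c17bbc) (nat_lit 3329))
)))) (.node (nat_lit 0x1870c277ac) (.node (nat_lit 0x1870c26b9c) (.node (nat_lit 0x1870c267ec) (.leaf (nat_lit 0x1870c267dc) (nat_lit 2560))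
 (.leaf (nat_lit 0x1870c267ec) (nat_lit 3075))
) (.node (nat_lit 0x1870c26bac) (.leaf (nat_lit 0x1870c26b9c) (nat_lit 3329))
 (.node (nat_lit 0x1870c2779c) (.leaf (nat_lit 0x1870c26bac) (nat_lit 1793))
 (.leaf (nat_lit 0x1870c2779c) (nat_lit 2816))
))) (.node (nat_lit 0x1870c363dc) (.node (nat_lit 0x1870c27bdc) (.leaf (nat_lit 0x1870c277ac) (nat_lit 2819))
 (.node (nat_lit 0x1870c27bec) (.leaf (nat_lit 0x1870c27bdc) (nat_lit 3585))
 (.leaf (nat_lit 0x1870c27bec) (nat_lit 2049))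
)) (.node (nat_lit 0x1870c363ec) (.leaf (nat_lit 0x1870c363dc) (nat_lit 2304))
 (.node (nat_lit 0x1870c36f9c) (.leaf (nat_lit 0x1870c363ec) (nat_lit 3331))
 (.leaf (nat_lit 0x1870c36f9c) (nat_lit 3076))
))))) (.node (nat_lit 0x1870c477ac) (.node (nat_lit 0x1870c467dc) (.node (nat_lit 0x1870c373ac) (.node (nat_lit 0x1870c3739c) (.leaf (nat_lit 0x1870c36fac) (nat_lit 2563))
 (.leaf (nat_lit 0x1870c3739c) (nat_lit 2560))
) (.node (nat_lit 0x1870c37fdc) (.leaf (nat_lit 0x1870c373ac) (nat_lit 3075))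
 (.node (nat_lit 0x1870c37fec) (.leaf (nat_lit 0x1870c37fdc) (nat_lit 2820))
 (.leaf (nat_lit 0x1870c37fec) (nat_lit 2819))
))) (.node (nat_lit 0x1870c46b9c) (.node (nat_lit 0x1870c467ec) (.leaf (nat_lit 0x1870c467dc) (nat_lit 2307))
 (.leaf (nat_lit 0x1870c467ec) (nat_lit 3328))
) (.node (nat_lit 0x1870c46bac) (.leaf (nat_lit 0x1870c46b9c) (nat_lit 3587))
 (.node (nat_lit 0x1870c4779c) (.leaf (nat_lit 0x1870c46bac) (nat_lit 2049))
 (.leaf (nat_lit 0x1870c4779c) (nat_lit 2563))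
)))) (.node (nat_lit 0x1870c56f9c) (.node (nat_lit 0x1870c47bec) (.node (nat_lit 0x1870c47bdc) (.leaf (nat_lit 0x1870c477ac) (nat_lit 3072))
 (.leaf (nat_lit 0x1870c47bdc) (nat_lit 3331))
) (.node (nat_lit 0x1870c563dc) (.leaf (nat_lit 0x1870c47bec) (nat_lit 2305))
 (.node (nat_lit 0x1870c563ec) (.leaf (nat_lit 0x1870c563dc) (nat_lit 2051))
 (.leaf (nat_lit 0x1870c563ec) (nat_lit 3330))
))) (.node (nat_lit 0x1870c573ac) (.node (nat_lit 0x1870c56fac) (.leaf (nat_lit 0x1870c56f9c) (nat_lit 2820))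
 (.node (nat_lit 0x1870c5739c) (.leaf (nat_lit 0x1870c56fac) (nat_lit 2819))
 (.leaf (nat_lit 0x1870c5739c) (nat_lit 2307))
)) (.node (nat_lit 0x1870c57fdc) (.leaf (nat_lit 0x1870c573ac) (nat_lit 3328))
 (.node (nat_lit 0x1870c57fec) (.leaf (nat_lit 0x1870c57fdc) (nat_lit 2564))
 (.leaf (nat_lit 0x1870c57fec) (nat_lit 3075))
))))))))) (.node (nat_lit 0x1c108392cc) (.node (nat_lit 0x187140b7ac) (.node (nat_lit 0x187103689c) (.node (nat_lit 0x18710070fc) (.node (nat_lit 0x1870c76bcc) (.node (nat_lit 0x1870c673fc) (.node (nat_lit 0x1870c66fcc) (.node (nat_lit 0x1870c663bc) (.leaf (nat_lit 0x1870c6638c) (nat_lit 1284))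
 (.leaf (nat_lit 0x1870c663bc) (nat_lit 2818))
) (.node (nat_lit 0x1870c66ffc) (.leaf (nat_lit 0x1870c66fcc) (nat_lit 2308))
 (.node (nat_lit 0x1870c673cc) (.leaf (nat_lit 0x1870c66ffc) (nat_lit 3331))
 (.leaf (nat_lit 0x1870c673cc) (nat_lit 1540))
))) (.node (nat_lit 0x1870c67fbc) (.node (nat_lit 0x1870c67f8c) (.leaf (nat_lit 0x1870c673fc) (nat_lit 3074))
 (.leaf (nat_lit 0x1870c67f8c) (nat_lit 2052))
) (.node (nat_lit 0x1870c7678c) (.leaf (nat_lit 0x1870c67fbc) (nat_lit 3330))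
 (.node (nat_lit 0x1870c767bc) (.leaf (nat_lit 0x1870c7678c) (nat_lit 2051))
 (.leaf (nat_lit 0x1870c767bc) (nat_lit 3585))
)))) (.node (nat_lit 0x1870c77bbc) (.node (nat_lit 0x1870c777cc) (.node (nat_lit 0x1870c76bfc) (.leaf (nat_lit 0x1870c76bcc) (nat_lit 3075))
 (.leaf (nat_lit 0x1870c76bfc) (nat_lit 2817))
) (.node (nat_lit 0x1870c777fc) (.leaf (nat_lit 0x1870c777cc) (nat_lit 2307))
 (.node (nat_lit 0x1870c77b8c) (.leaf (nat_lit 0x1870c777fc) (nat_lit 3329))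
 (.leaf (nat_lit 0x1870c77b8c) (nat_lit 2819))
))) (.node (nat_lit 0x1871006cbc) (.node (nat_lit 0x187100608c) (.leaf (nat_lit 0x1870c77bbc) (nat_lit 3073))
 (.node (nat_lit 0x18710060cc) (.leaf (nat_lit 0x187100608c) (nat_lit 1282))
 (.leaf (nat_lit 0x18710060cc) (nat_lit 1538))
)) (.node (nat_lit 0x1871006cfc) (.leaf (nat_lit 0x1871006cbc) (nat_lit 2308))
 (.node (nat_lit 0x18710070bc) (.leaf (nat_lit 0x1871006cfc) (nat_lit 2564))
 (.leaf (nat_lit 0x18710070bc) (nat_lit 2820))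
))))) (.node (nat_lit 0x18710178cc) (.node (nat_lit 0x18710168bc) (.node (nat_lit 0x1871007ccc) (.node (nat_lit 0x1871007c8c) (.leaf (nat_lit 0x18710070fc) (nat_lit 3076))
 (.leaf (nat_lit 0x1871007c8c) (nat_lit 2050))
) (.node (nat_lit 0x187101648c) (.leaf (nat_lit 0x1871007ccc) (nat_lit 2306))
 (.node (nat_lit 0x18710164cc) (.leaf (nat_lit 0x187101648c) (nat_lit 2051))
 (.leaf (nat_lit 0x18710164cc) (nat_lit 2307))
))) (.node (nat_lit 0x18710174bc) (.node (nat_lit 0x18710168fc) (.leaf (nat_lit 0x18710168bc) (nat_lit 3075))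
 (.leaf (nat_lit 0x18710168fc) (nat_lit 3331))
) (.node (nat_lit 0x18710174fc) (.leaf (nat_lit 0x18710174bc) (nat_lit 3586))
 (.node (nat_lit 0x187101788c) (.leaf (nat_lit 0x18710174fc) (nat_lit 3330))
 (.leaf (nat_lit 0x187101788c) (nat_lit 2819))
)))) (.node (nat_lit 0x187102709c) (.node (nat_lit 0x18710260ec) (.node (nat_lit 0x18710260ac) (.leaf (nat_lit 0x18710178cc) (nat_lit 3075))
 (.leaf (nat_lit 0x18710260ac) (nat_lit 2050))
) (.node (nat_lit 0x1871026c9c) (.leaf (nat_lit 0x18710260ec) (nat_lit 2306))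
 (.node (nat_lit 0x1871026cdc) (.leaf (nat_lit 0x1871026c9c) (nat_lit 3076))
 (.leaf (nat_lit 0x1871026cdc) (nat_lit 3332))
))) (.node (nat_lit 0x1871027cec) (.node (nat_lit 0x18710270dc) (.leaf (nat_lit 0x187102709c) (nat_lit 3072))
 (.node (nat_lit 0x1871027cac) (.leaf (nat_lit 0x18710270dc) (nat_lit 2816))
 (.leaf (nat_lit 0x1871027cac) (nat_lit 2820))
)) (.node (nat_lit 0x18710364ac) (.leaf (nat_lit 0x1871027cec) (nat_lit 3076))
 (.node (nat_lit 0x18710364ec) (.leaf (nat_lit 0x18710364ac) (nat_lit 2819))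
 (.leaf (nat_lit 0x18710364ec) (nat_lit 3075))
)))))) (.node (nat_lit 0x18710578ec) (.node (nat_lit 0x187104709c) (.node (nat_lit 0x18710378ec) (.node (nat_lit 0x187103749c) (.node (nat_lit 0x18710368dc) (.leaf (nat_lit 0x187103689c) (nat_lit 3330))
 (.leaf (nat_lit 0x18710368dc) (nat_lit 3074))
) (.node (nat_lit 0x18710374dc) (.leaf (nat_lit 0x187103749c) (nat_lit 2816))
 (.node (nat_lit 0x18710378ac) (.leaf (nat_lit 0x18710374dc) (nat_lit 2560))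
 (.leaf (nat_lit 0x18710378ac) (nat_lit 3331))
))) (.node (nat_lit 0x18710460ec) (.node (nat_lit 0x18710460ac) (.leaf (nat_lit 0x18710378ec) (nat_lit 3329))
 (.leaf (nat_lit 0x18710460ac) (nat_lit 2306))
) (.node (nat_lit 0x1871046c9c) (.leaf (nat_lit 0x18710460ec) (nat_lit 2562))
 (.node (nat_lit 0x1871046cdc) (.leaf (nat_lit 0x1871046c9c) (nat_lit 3332))
 (.leaf (nat_lit 0x1871046cdc) (nat_lit 3588))
)))) (.node (nat_lit 0x18710564ec) (.node (nat_lit 0x1871047cac) (.node (nat_lit 0x18710470dc) (.leaf (nat_lit 0x187104709c) (nat_lit 2819))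
 (.leaf (nat_lit 0x18710470dc) (nat_lit 2563))
) (.node (nat_lit 0x1871047cec) (.leaf (nat_lit 0x1871047cac) (nat_lit 3076))
 (.node (nat_lit 0x18710564ac) (.leaf (nat_lit 0x1871047cec) (nat_lit 3332))
 (.leaf (nat_lit 0x18710564ac) (nat_lit 3075))
))) (.node (nat_lit 0x187105749c) (.node (nat_lit 0x187105689c) (.leaf (nat_lit 0x18710564ec) (nat_lit 3331))
 (.node (nat_lit 0x18710568dc) (.leaf (nat_lit 0x187105689c) (nat_lit 3074))
 (.leaf (nat_lit 0x18710568dc) (nat_lit 2818))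
)) (.node (nat_lit 0x18710574dc) (.leaf (nat_lit 0x187105749c) (nat_lit 2563))
 (.node (nat_lit 0x18710578ac) (.leaf (nat_lit 0x18710574dc) (nat_lit 2307))
 (.leaf (nat_lit 0x18710578ac) (nat_lit 3329))
))))) (.node (nat_lit 0x18710764cc) (.node (nat_lit 0x18710670bc) (.node (nat_lit 0x18710660cc) (.node (nat_lit 0x187106608c) (.leaf (nat_lit 0x18710578ec) (nat_lit 3073))
 (.leaf (nat_lit 0x187106608c) (nat_lit 1538))
) (.node (nat_lit 0x1871066cbc) (.leaf (nat_lit 0x18710660cc) (nat_lit 1794))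
 (.node (nat_lit 0x1871066cfc) (.leaf (nat_lit 0x1871066cbc) (nat_lit 2564))
 (.leaf (nat_lit 0x1871066cfc) (nat_lit 2820))
))) (.node (nat_lit 0x1871067c8c) (.node (nat_lit 0x18710670fc) (.leaf (nat_lit 0x18710670bc) (nat_lit 3076))
 (.leaf (nat_lit 0x18710670fc) (nat_lit 3332))
) (.node (nat_lit 0x1871067ccc) (.leaf (nat_lit 0x1871067c8c) (nat_lit 2306))
 (.node (nat_lit 0x187107648c) (.leaf (nat_lit 0x1871067ccc) (nat_lit 2562))
 (.leaf (nat_lit 0x187107648c) (nat_lit 2307))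
)))) (.node (nat_lit 0x187107788c) (.node (nat_lit 0x18710768fc) (.node (nat_lit 0x18710768bc) (.leaf (nat_lit 0x18710764cc) (nat_lit 2563))
 (.leaf (nat_lit 0x18710768bc) (nat_lit 3331))
) (.node (nat_lit 0x18710774bc) (.leaf (nat_lit 0x18710768fc) (nat_lit 3587))
 (.node (nat_lit 0x18710774fc) (.leaf (nat_lit 0x18710774bc) (nat_lit 3330))
 (.leaf (nat_lit 0x18710774fc) (nat_lit 3074))
))) (.node (nat_lit 0x187140a3dc) (.node (nat_lit 0x18710778cc) (.leaf (nat_lit 0x187107788c) (nat_lit 3072))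
 (.node (nat_lit 0x187140a38c) (.leaf (nat_lit 0x18710778cc) (nat_lit 3328))
 (.leaf (nat_lit 0x187140a38c) (nat_lit 1284))
)) (.node (nat_lit 0x187140abac) (.leaf (nat_lit 0x187140a3dc) (nat_lit 2306))
 (.node (nat_lit 0x187140abfc) (.leaf (nat_lit 0x187140abac) (nat_lit 2052))
 (.leaf (nat_lit 0x187140abfc) (nat_lit 3332))
))))))) (.node (nat_lit 0x187145bfbc) (.node (nat_lit 0x187143a3ec) (.node (nat_lit 0x187141bb8c) (.node (nat_lit 0x187141a7dc) (.node (nat_lit 0x187140bf8c) (.node (nat_lit 0x187140b7fc) (.leaf (nat_lit 0x187140b7ac) (nat_lit 2820))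
 (.leaf (nat_lit 0x187140b7fc) (nat_lit 3328))
) (.node (nat_lit 0x187140bfdc) (.leaf (nat_lit 0x187140bf8c) (nat_lit 2050))
 (.node (nat_lit 0x187141a78c) (.leaf (nat_lit 0x187140bfdc) (nat_lit 3074))
 (.leaf (nat_lit 0x187141a78c) (nat_lit 2051))
))) (.node (nat_lit 0x187141affc) (.node (nat_lit 0x187141afac) (.leaf (nat_lit 0x187141a7dc) (nat_lit 3075))
 (.leaf (nat_lit 0x187141afac) (nat_lit 2819))
) (.node (nat_lit 0x187141b3ac) (.leaf (nat_lit 0x187141affc) (nat_lit 3332))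
 (.node (nat_lit 0x187141b3fc) (.leaf (nat_lit 0x187141b3ac) (nat_lit 3331))
 (.leaf (nat_lit 0x187141b3fc) (nat_lit 2818))
)))) (.node (nat_lit 0x187142afcc) (.node (nat_lit 0x187142a7bc) (.node (nat_lit 0x187141bbdc) (.leaf (nat_lit 0x187141bb8c) (nat_lit 2819))
 (.leaf (nat_lit 0x187141bbdc) (nat_lit 3587))
) (.node (nat_lit 0x187142a7ec) (.leaf (nat_lit 0x187142a7bc) (nat_lit 2819))
 (.node (nat_lit 0x187142af9c) (.leaf (nat_lit 0x187142a7ec) (nat_lit 3332))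
 (.leaf (nat_lit 0x187142af9c) (nat_lit 3331))
))) (.node (nat_lit 0x187142bbbc) (.node (nat_lit 0x187142b39c) (.leaf (nat_lit 0x187142afcc) (nat_lit 2562))
 (.node (nat_lit 0x187142b3cc) (.leaf (nat_lit 0x187142b39c) (nat_lit 2818))
 (.leaf (nat_lit 0x187142b3cc) (nat_lit 1796))
)) (.node (nat_lit 0x187142bbec) (.leaf (nat_lit 0x187142bbbc) (nat_lit 3331))
 (.node (nat_lit 0x187143a3bc) (.leaf (nat_lit 0x187142bbec) (nat_lit 2564))
 (.leaf (nat_lit 0x187143a3bc) (nat_lit 2306))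
))))) (.node (nat_lit 0x187144afcc) (.node (nat_lit 0x187143bfbc) (.node (nat_lit 0x187143abcc) (.node (nat_lit 0x187143ab9c) (.leaf (nat_lit 0x187143a3ec) (nat_lit 3074))
 (.leaf (nat_lit 0x187143ab9c) (nat_lit 3075))
) (.node (nat_lit 0x187143b79c) (.leaf (nat_lit 0x187143abcc) (nat_lit 3331))
 (.node (nat_lit 0x187143b7cc) (.leaf (nat_lit 0x187143b79c) (nat_lit 3584))
 (.leaf (nat_lit 0x187143b7cc) (nat_lit 2563))
))) (.node (nat_lit 0x187144a7bc) (.node (nat_lit 0x187143bfec) (.leaf (nat_lit 0x187143bfbc) (nat_lit 2820))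
 (.leaf (nat_lit 0x187143bfec) (nat_lit 3328))
) (.node (nat_lit 0x187144a7ec) (.leaf (nat_lit 0x187144a7bc) (nat_lit 3072))
 (.node (nat_lit 0x187144af9c) (.leaf (nat_lit 0x187144a7ec) (nat_lit 3076))
 (.leaf (nat_lit 0x187144af9c) (nat_lit 3330))
)))) (.node (nat_lit 0x187145a3bc) (.node (nat_lit 0x187144b3cc) (.node (nat_lit 0x187144b39c) (.leaf (nat_lit 0x187144afcc) (nat_lit 2306))
 (.leaf (nat_lit 0x187144b39c) (nat_lit 2562))
) (.node (nat_lit 0x187144bbbc) (.leaf (nat_lit 0x187144b3cc) (nat_lit 1540))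
 (.node (nat_lit 0x187144bbec) (.leaf (nat_lit 0x187144bbbc) (nat_lit 3588))
 (.leaf (nat_lit 0x187144bbec) (nat_lit 2308))
))) (.node (nat_lit 0x187145abcc) (.node (nat_lit 0x187145a3ec) (.leaf (nat_lit 0x187145a3bc) (nat_lit 2562))
 (.node (nat_lit 0x187145ab9c) (.leaf (nat_lit 0x187145a3ec) (nat_lit 3330))
 (.leaf (nat_lit 0x187145ab9c) (nat_lit 3331))
)) (.node (nat_lit 0x187145b79c) (.leaf (nat_lit 0x187145abcc) (nat_lit 3075))
 (.node (nat_lit 0x187145b7cc) (.leaf (nat_lit 0x187145b79c) (nat_lit 3331))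
 (.leaf (nat_lit 0x187145b7cc) (nat_lit 2307))
)))))) (.node (nat_lit 0x1c108086ac) (.node (nat_lit 0x187147a78c) (.node (nat_lit 0x187146abfc) (.node (nat_lit 0x187146a38c) (.node (nat_lit 0x187145bfec) (.leaf (nat_lit 0x187145bfbc) (nat_lit 3076))
 (.leaf (nat_lit 0x187145bfec) (nat_lit 3075))
) (.node (nat_lit 0x187146a3dc) (.leaf (nat_lit 0x187146a38c) (nat_lit 1540))
 (.node (nat_lit 0x187146abac) (.leaf (nat_lit 0x187146a3dc) (nat_lit 2562))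
 (.leaf (nat_lit 0x187146abac) (nat_lit 2308))
))) (.node (nat_lit 0x187146b7fc) (.node (nat_lit 0x187146b7ac) (.leaf (nat_lit 0x187146abfc) (nat_lit 3587))
 (.leaf (nat_lit 0x187146b7ac) (nat_lit 3076))
) (.node (nat_lit 0x187146bf8c) (.leaf (nat_lit 0x187146b7fc) (nat_lit 3075))
 (.node (nat_lit 0x187146bfdc) (.leaf (nat_lit 0x187146bf8c) (nat_lit 2306))
 (.leaf (nat_lit 0x187146bfdc) (nat_lit 3330))
)))) (.node (nat_lit 0x187147b3fc) (.node (nat_lit 0x187147afac) (.node (nat_lit 0x187147a7dc) (.leaf (nat_lit 0x187147a78c) (nat_lit 2307))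
 (.leaf (nat_lit 0x187147a7dc) (nat_lit 3328))
) (.node (nat_lit 0x187147affc) (.leaf (nat_lit 0x187147afac) (nat_lit 3072))
 (.node (nat_lit 0x187147b3ac) (.leaf (nat_lit 0x187147affc) (nat_lit 3076))
 (.leaf (nat_lit 0x187147b3ac) (nat_lit 3330))
))) (.node (nat_lit 0x1c1080828c) (.node (nat_lit 0x187147bb8c) (.leaf (nat_lit 0x187147b3fc) (nat_lit 2562))
 (.node (nat_lit 0x187147bbdc) (.leaf (nat_lit 0x187147bb8c) (nat_lit 3075))
 (.leaf (nat_lit 0x187147bbdc) (nat_lit 3331))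
)) (.node (nat_lit 0x1c108082ac) (.leaf (nat_lit 0x1c1080828c) (nat_lit 1025))
 (.node (nat_lit 0x1c1080868c) (.leaf (nat_lit 0x1c108082ac) (nat_lit 2306))
 (.leaf (nat_lit 0x1c1080868c) (nat_lit 2308))
))))) (.node (nat_lit 0x1c10819aac) (.node (nat_lit 0x1c1081929c) (.node (nat_lit 0x1c10808abc) (.node (nat_lit 0x1c10808a9c) (.leaf (nat_lit 0x1c108086ac) (nat_lit 3074))
 (.leaf (nat_lit 0x1c10808a9c) (nat_lit 2816))
) (.node (nat_lit 0x1c10808e9c) (.leaf (nat_lit 0x1c10808abc) (nat_lit 3076))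
 (.node (nat_lit 0x1c10808ebc) (.leaf (nat_lit 0x1c10808e9c) (nat_lit 3073))
 (.leaf (nat_lit 0x1c10808ebc) (nat_lit 2308))
))) (.node (nat_lit 0x1c1081969c) (.node (nat_lit 0x1c108192bc) (.leaf (nat_lit 0x1c1081929c) (nat_lit 2306))
 (.leaf (nat_lit 0x1c108192bc) (nat_lit 3074))
) (.node (nat_lit 0x1c108196bc) (.leaf (nat_lit 0x1c1081969c) (nat_lit 3076))
 (.node (nat_lit 0x1c10819a8c) (.leaf (nat_lit 0x1c108196bc) (nat_lit 3072))
 (.leaf (nat_lit 0x1c10819a8c) (nat_lit 1792))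
)))) (.node (nat_lit 0x1c108286dc) (.node (nat_lit 0x1c10819eac) (.node (nat_lit 0x1c10819e8c) (.leaf (nat_lit 0x1c10819aac) (nat_lit 3072))
 (.leaf (nat_lit 0x1c10819e8c) (nat_lit 3072))
) (.node (nat_lit 0x1c108282dc) (.leaf (nat_lit 0x1c10819eac) (nat_lit 3331))
 (.node (nat_lit 0x1c108282fc) (.leaf (nat_lit 0x1c108282dc) (nat_lit 2306))
 (.leaf (nat_lit 0x1c108282fc) (nat_lit 3074))
))) (.node (nat_lit 0x1c10828aec) (.node (nat_lit 0x1c108286fc) (.leaf (nat_lit 0x1c108286dc) (nat_lit 3076))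
 (.node (nat_lit 0x1c10828acc) (.leaf (nat_lit 0x1c108286fc) (nat_lit 3075))
 (.leaf (nat_lit 0x1c10828acc) (nat_lit 1795))
)) (.node (nat_lit 0x1c10828ecc) (.leaf (nat_lit 0x1c10828aec) (nat_lit 3075))
 (.node (nat_lit 0x1c10828eec) (.leaf (nat_lit 0x1c10828ecc) (nat_lit 3075))
 (.leaf (nat_lit 0x1c10828eec) (nat_lit 3328))
)))))))) (.node (nat_lit 0x1c10c599cc) (.node (nat_lit 0x1c10c0858c) (.node (nat_lit 0x1c10858aec) (.node (nat_lit 0x1c108496cc) (.node (nat_lit 0x1c10839afc) (.node (nat_lit 0x1c108396cc) (.node (nat_lit 0x1c108392ec) (.leaf (nat_lit 0x1c108392cc) (nat_lit 1537))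
 (.leaf (nat_lit 0x1c108392ec) (nat_lit 2818))
) (.node (nat_lit 0x1c108396ec) (.leaf (nat_lit 0x1c108396cc) (nat_lit 2820))
 (.node (nat_lit 0x1c10839adc) (.leaf (nat_lit 0x1c108396ec) (nat_lit 3331))
 (.leaf (nat_lit 0x1c10839adc) (nat_lit 2307))
))) (.node (nat_lit 0x1c10839efc) (.node (nat_lit 0x1c10839edc) (.leaf (nat_lit 0x1c10839afc) (nat_lit 3330))
 (.leaf (nat_lit 0x1c10839edc) (nat_lit 3331))
) (.node (nat_lit 0x1c108492cc) (.leaf (nat_lit 0x1c10839efc) (nat_lit 2820))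
 (.node (nat_lit 0x1c108492ec) (.leaf (nat_lit 0x1c108492cc) (nat_lit 1281))
 (.leaf (nat_lit 0x1c108492ec) (nat_lit 2562))
)))) (.node (nat_lit 0x1c10849efc) (.node (nat_lit 0x1c10849adc) (.node (nat_lit 0x1c108496ec) (.leaf (nat_lit 0x1c108496cc) (nat_lit 2564))
 (.leaf (nat_lit 0x1c108496ec) (nat_lit 3330))
) (.node (nat_lit 0x1c10849afc) (.leaf (nat_lit 0x1c10849adc) (nat_lit 2560))
 (.node (nat_lit 0x1c10849edc) (.leaf (nat_lit 0x1c10849afc) (nat_lit 3332))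
 (.leaf (nat_lit 0x1c10849edc) (nat_lit 3329))
))) (.node (nat_lit 0x1c108586dc) (.node (nat_lit 0x1c108582dc) (.leaf (nat_lit 0x1c10849efc) (nat_lit 2564))
 (.node (nat_lit 0x1c108582fc) (.leaf (nat_lit 0x1c108582dc) (nat_lit 2050))
 (.leaf (nat_lit 0x1c108582fc) (nat_lit 2818))
)) (.node (nat_lit 0x1c108586fc) (.leaf (nat_lit 0x1c108586dc) (nat_lit 2820))
 (.node (nat_lit 0x1c10858acc) (.leaf (nat_lit 0x1c108586fc) (nat_lit 3328))
 (.leaf (nat_lit 0x1c10858acc) (nat_lit 2048))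
))))) (.node (nat_lit 0x1c10869eac) (.node (nat_lit 0x1c1086969c) (.node (nat_lit 0x1c10858eec) (.node (nat_lit 0x1c10858ecc) (.leaf (nat_lit 0x1c10858aec) (nat_lit 3328))
 (.leaf (nat_lit 0x1c10858ecc) (nat_lit 3328))
) (.node (nat_lit 0x1c1086929c) (.leaf (nat_lit 0x1c10858eec) (nat_lit 3075))
 (.node (nat_lit 0x1c108692bc) (.leaf (nat_lit 0x1c1086929c) (nat_lit 2562))
 (.leaf (nat_lit 0x1c108692bc) (nat_lit 3330))
))) (.node (nat_lit 0x1c10869a8c) (.node (nat_lit 0x1c108696bc) (.leaf (nat_lit 0x1c1086969c) (nat_lit 3332))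
 (.leaf (nat_lit 0x1c108696bc) (nat_lit 2819))
) (.node (nat_lit 0x1c10869aac) (.leaf (nat_lit 0x1c10869a8c) (nat_lit 1539))
 (.node (nat_lit 0x1c10869e8c) (.leaf (nat_lit 0x1c10869aac) (nat_lit 2819))
 (.leaf (nat_lit 0x1c10869e8c) (nat_lit 2819))
)))) (.node (nat_lit 0x1c10878a9c) (.node (nat_lit 0x1c108782ac) (.node (nat_lit 0x1c1087828c) (.leaf (nat_lit 0x1c10869eac) (nat_lit 3584))
 (.leaf (nat_lit 0x1c1087828c) (nat_lit 1281))
) (.node (nat_lit 0x1c1087868c) (.leaf (nat_lit 0x1c108782ac) (nat_lit 2562))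
 (.node (nat_lit 0x1c108786ac) (.leaf (nat_lit 0x1c1087868c) (nat_lit 2564))
 (.leaf (nat_lit 0x1c108786ac) (nat_lit 3330))
))) (.node (nat_lit 0x1c10878ebc) (.node (nat_lit 0x1c10878abc) (.leaf (nat_lit 0x1c10878a9c) (nat_lit 2563))
 (.node (nat_lit 0x1c10878e9c) (.leaf (nat_lit 0x1c10878abc) (nat_lit 3332))
 (.leaf (nat_lit 0x1c10878e9c) (nat_lit 3329))
)) (.node (nat_lit 0x1c10c0818c) (.leaf (nat_lit 0x1c10878ebc) (nat_lit 2564))
 (.node (nat_lit 0x1c10c081bc) (.leaf (nat_lit 0x1c10c0818c) (nat_lit 1027))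
 (.leaf (nat_lit 0x1c10c081bc) (nat_lit 2562))
)))))) (.node (nat_lit 0x1c10c29dfc) (.node (nat_lit 0x1c10c1998c) (.node (nat_lit 0x1c10c08dac) (.node (nat_lit 0x1c10c0899c) (.node (nat_lit 0x1c10c085bc) (.leaf (nat_lit 0x1c10c0858c) (nat_lit 2052))
 (.leaf (nat_lit 0x1c10c085bc) (nat_lit 3330))
) (.node (nat_lit 0x1c10c089ac) (.leaf (nat_lit 0x1c10c0899c) (nat_lit 3329))
 (.node (nat_lit 0x1c10c08d9c) (.leaf (nat_lit 0x1c10c089ac) (nat_lit 2052))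
 (.leaf (nat_lit 0x1c10c08d9c) (nat_lit 2817))
))) (.node (nat_lit 0x1c10c191ac) (.node (nat_lit 0x1c10c1919c) (.leaf (nat_lit 0x1c10c08dac) (nat_lit 2820))
 (.leaf (nat_lit 0x1c10c1919c) (nat_lit 3076))
) (.node (nat_lit 0x1c10c1959c) (.leaf (nat_lit 0x1c10c191ac) (nat_lit 2816))
 (.node (nat_lit 0x1c10c195ac) (.leaf (nat_lit 0x1c10c1959c) (nat_lit 2049))
 (.leaf (nat_lit 0x1c10c195ac) (nat_lit 3329))
)))) (.node (nat_lit 0x1c10c291ec) (.node (nat_lit 0x1c10c19d8c) (.node (nat_lit 0x1c10c199bc) (.leaf (nat_lit 0x1c10c1998c) (nat_lit 1536))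
 (.leaf (nat_lit 0x1c10c199bc) (nat_lit 3328))
) (.node (nat_lit 0x1c10c19dbc) (.leaf (nat_lit 0x1c10c19d8c) (nat_lit 2820))
 (.node (nat_lit 0x1c10c291dc) (.leaf (nat_lit 0x1c10c19dbc) (nat_lit 2817))
 (.leaf (nat_lit 0x1c10c291dc) (nat_lit 3076))
))) (.node (nat_lit 0x1c10c299cc) (.node (nat_lit 0x1c10c295dc) (.leaf (nat_lit 0x1c10c291ec) (nat_lit 2819))
 (.node (nat_lit 0x1c10c295ec) (.leaf (nat_lit 0x1c10c295dc) (nat_lit 2049))
 (.leaf (nat_lit 0x1c10c295ec) (nat_lit 3329))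
)) (.node (nat_lit 0x1c10c299fc) (.leaf (nat_lit 0x1c10c299cc) (nat_lit 1539))
 (.node (nat_lit 0x1c10c29dcc) (.leaf (nat_lit 0x1c10c299fc) (nat_lit 3331))
 (.leaf (nat_lit 0x1c10c29dcc) (nat_lit 2820))
))))) (.node (nat_lit 0x1c10c481fc) (.node (nat_lit 0x1c10c389dc) (.node (nat_lit 0x1c10c381fc) (.node (nat_lit 0x1c10c381cc) (.leaf (nat_lit 0x1c10c29dfc) (nat_lit 2817))
 (.leaf (nat_lit 0x1c10c381cc) (nat_lit 1536))
) (.node (nat_lit 0x1c10c385cc) (.leaf (nat_lit 0x1c10c381fc) (nat_lit 3074))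
 (.node (nat_lit 0x1c10c385fc) (.leaf (nat_lit 0x1c10c385cc) (nat_lit 2564))
 (.leaf (nat_lit 0x1c10c385fc) (nat_lit 3073))
))) (.node (nat_lit 0x1c10c38ddc) (.node (nat_lit 0x1c10c389ec) (.leaf (nat_lit 0x1c10c389dc) (nat_lit 3075))
 (.leaf (nat_lit 0x1c10c389ec) (nat_lit 2564))
) (.node (nat_lit 0x1c10c38dec) (.leaf (nat_lit 0x1c10c38ddc) (nat_lit 2305))
 (.node (nat_lit 0x1c10c481cc) (.leaf (nat_lit 0x1c10c38dec) (nat_lit 3332))
 (.leaf (nat_lit 0x1c10c481cc) (nat_lit 1283))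
)))) (.node (nat_lit 0x1c10c48ddc) (.node (nat_lit 0x1c10c485fc) (.node (nat_lit 0x1c10c485cc) (.leaf (nat_lit 0x1c10c481fc) (nat_lit 2818))
 (.leaf (nat_lit 0x1c10c485cc) (nat_lit 2308))
) (.node (nat_lit 0x1c10c489dc) (.leaf (nat_lit 0x1c10c485fc) (nat_lit 3329))
 (.node (nat_lit 0x1c10c489ec) (.leaf (nat_lit 0x1c10c489dc) (nat_lit 3328))
 (.leaf (nat_lit 0x1c10c489ec) (nat_lit 2308))
))) (.node (nat_lit 0x1c10c591ec) (.node (nat_lit 0x1c10c48dec) (.leaf (nat_lit 0x1c10c48ddc) (nat_lit 2561))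
 (.node (nat_lit 0x1c10c591dc) (.leaf (nat_lit 0x1c10c48dec) (nat_lit 3076))
 (.leaf (nat_lit 0x1c10c591dc) (nat_lit 2820))
)) (.node (nat_lit 0x1c10c595dc) (.leaf (nat_lit 0x1c10c591ec) (nat_lit 3072))
 (.node (nat_lit 0x1c10c595ec) (.leaf (nat_lit 0x1c10c595dc) (nat_lit 1793))
 (.leaf (nat_lit 0x1c10c595ec) (nat_lit 3073))
))))))) (.node (nat_lit 0x1c11025dbc) (.node (nat_lit 0x1c110041cc) (.node (nat_lit 0x1c10c69d8c) (.node (nat_lit 0x1c10c691ac) (.node (nat_lit 0x1c10c59dcc) (.node (nat_lit 0x1c10c599fc) (.leaf (nat_lit 0x1c10c599cc) (nat_lit 1792))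
 (.leaf (nat_lit 0x1c10c599fc) (nat_lit 3584))
) (.node (nat_lit 0x1c10c59dfc) (.leaf (nat_lit 0x1c10c59dcc) (nat_lit 3076))
 (.node (nat_lit 0x1c10c6919c) (.leaf (nat_lit 0x1c10c59dfc) (nat_lit 2561))
 (.leaf (nat_lit 0x1c10c6919c) (nat_lit 3332))
))) (.node (nat_lit 0x1c10c695ac) (.node (nat_lit 0x1c10c6959c) (.leaf (nat_lit 0x1c10c691ac) (nat_lit 2563))
 (.leaf (nat_lit 0x1c10c6959c) (nat_lit 2305))
) (.node (nat_lit 0x1c10c6998c) (.leaf (nat_lit 0x1c10c695ac) (nat_lit 3331))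
 (.node (nat_lit 0x1c10c699bc) (.leaf (nat_lit 0x1c10c6998c) (nat_lit 1283))
 (.leaf (nat_lit 0x1c10c699bc) (nat_lit 3075))
)))) (.node (nat_lit 0x1c10c785bc) (.node (nat_lit 0x1c10c7818c) (.node (nat_lit 0x1c10c69dbc) (.leaf (nat_lit 0x1c10c69d8c) (nat_lit 2564))
 (.leaf (nat_lit 0x1c10c69dbc) (nat_lit 3073))
) (.node (nat_lit 0x1c10c781bc) (.leaf (nat_lit 0x1c10c7818c) (nat_lit 1280))
 (.node (nat_lit 0x1c10c7858c) (.leaf (nat_lit 0x1c10c781bc) (nat_lit 2818))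
 (.leaf (nat_lit 0x1c10c7858c) (nat_lit 2308))
))) (.node (nat_lit 0x1c10c78d9c) (.node (nat_lit 0x1c10c7899c) (.leaf (nat_lit 0x1c10c785bc) (nat_lit 3329))
 (.node (nat_lit 0x1c10c789ac) (.leaf (nat_lit 0x1c10c7899c) (nat_lit 3331))
 (.leaf (nat_lit 0x1c10c789ac) (nat_lit 2308))
)) (.node (nat_lit 0x1c10c78dac) (.leaf (nat_lit 0x1c10c78d9c) (nat_lit 2561))
 (.node (nat_lit 0x1c1100418c) (.leaf (nat_lit 0x1c10c78dac) (nat_lit 3076))
 (.leaf (nat_lit 0x1c1100418c) (nat_lit 1537))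
))))) (.node (nat_lit 0x1c11014ddc) (.node (nat_lit 0x1c1100559c) (.node (nat_lit 0x1c110045cc) (.node (nat_lit 0x1c1100458c) (.leaf (nat_lit 0x1c110041cc) (nat_lit 1793))
 (.leaf (nat_lit 0x1c1100458c) (nat_lit 2564))
) (.node (nat_lit 0x1c1100519c) (.leaf (nat_lit 0x1c110045cc) (nat_lit 2820))
 (.node (nat_lit 0x1c110051dc) (.leaf (nat_lit 0x1c1100519c) (nat_lit 3332))
 (.leaf (nat_lit 0x1c110051dc) (nat_lit 3076))
))) (.node (nat_lit 0x1c1101499c) (.node (nat_lit 0x1c110055dc) (.leaf (nat_lit 0x1c1100559c) (nat_lit 2561))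
 (.leaf (nat_lit 0x1c110055dc) (nat_lit 2305))
) (.node (nat_lit 0x1c110149dc) (.leaf (nat_lit 0x1c1101499c) (nat_lit 3073))
 (.node (nat_lit 0x1c11014d9c) (.leaf (nat_lit 0x1c110149dc) (nat_lit 3329))
 (.leaf (nat_lit 0x1c11014d9c) (nat_lit 3073))
)))) (.node (nat_lit 0x1c110249ac) (.node (nat_lit 0x1c110159cc) (.node (nat_lit 0x1c1101598c) (.leaf (nat_lit 0x1c11014ddc) (nat_lit 2817))
 (.leaf (nat_lit 0x1c1101598c) (nat_lit 2048))
) (.node (nat_lit 0x1c11015d8c) (.leaf (nat_lit 0x1c110159cc) (nat_lit 2304))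
 (.node (nat_lit 0x1c11015dcc) (.leaf (nat_lit 0x1c11015d8c) (nat_lit 3072))
 (.leaf (nat_lit 0x1c11015dcc) (nat_lit 3328))
))) (.node (nat_lit 0x1c11024dec) (.node (nat_lit 0x1c110249ec) (.leaf (nat_lit 0x1c110249ac) (nat_lit 2049))
 (.node (nat_lit 0x1c11024dac) (.leaf (nat_lit 0x1c110249ec) (nat_lit 2305))
 (.leaf (nat_lit 0x1c11024dac) (nat_lit 3074))
)) (.node (nat_lit 0x1c110259bc) (.leaf (nat_lit 0x1c11024dec) (nat_lit 3330))
 (.node (nat_lit 0x1c110259fc) (.leaf (nat_lit 0x1c110259bc) (nat_lit 2816))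
 (.leaf (nat_lit 0x1c110259fc) (nat_lit 3072))
)))))) (.node (nat_lit 0x1c11054dec) (.node (nat_lit 0x1c110441bc) (.node (nat_lit 0x1c110345fc) (.node (nat_lit 0x1c110341bc) (.node (nat_lit 0x1c11025dfc) (.leaf (nat_lit 0x1c11025dbc) (nat_lit 3073))
 (.leaf (nat_lit 0x1c11025dfc) (nat_lit 2817))
) (.node (nat_lit 0x1c110341fc) (.leaf (nat_lit 0x1c110341bc) (nat_lit 2306))
 (.node (nat_lit 0x1c110345bc) (.leaf (nat_lit 0x1c110341fc) (nat_lit 2562))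
 (.leaf (nat_lit 0x1c110345bc) (nat_lit 3332))
))) (.node (nat_lit 0x1c110351ec) (.node (nat_lit 0x1c110351ac) (.leaf (nat_lit 0x1c110345fc) (nat_lit 3588))
 (.leaf (nat_lit 0x1c110351ac) (nat_lit 2561))
) (.node (nat_lit 0x1c110355ac) (.leaf (nat_lit 0x1c110351ec) (nat_lit 2817))
 (.node (nat_lit 0x1c110355ec) (.leaf (nat_lit 0x1c110355ac) (nat_lit 3331))
 (.leaf (nat_lit 0x1c110355ec) (nat_lit 3075))
)))) (.node (nat_lit 0x1c110451ec) (.node (nat_lit 0x1c110445bc) (.node (nat_lit 0x1c110441fc) (.leaf (nat_lit 0x1c110441bc) (nat_lit 2562))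
 (.leaf (nat_lit 0x1c110441fc) (nat_lit 2818))
) (.node (nat_lit 0x1c110445fc) (.leaf (nat_lit 0x1c110445bc) (nat_lit 3585))
 (.node (nat_lit 0x1c110451ac) (.leaf (nat_lit 0x1c110445fc) (nat_lit 3329))
 (.leaf (nat_lit 0x1c110451ac) (nat_lit 2305))
))) (.node (nat_lit 0x1c110549ac) (.node (nat_lit 0x1c110455ac) (.leaf (nat_lit 0x1c110451ec) (nat_lit 2561))
 (.node (nat_lit 0x1c110455ec) (.leaf (nat_lit 0x1c110455ac) (nat_lit 3584))
 (.leaf (nat_lit 0x1c110455ec) (nat_lit 3328))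
)) (.node (nat_lit 0x1c110549ec) (.leaf (nat_lit 0x1c110549ac) (nat_lit 2305))
 (.node (nat_lit 0x1c11054dac) (.leaf (nat_lit 0x1c110549ec) (nat_lit 2561))
 (.leaf (nat_lit 0x1c11054dac) (nat_lit 3330))
))))) (.node (nat_lit 0x1c110659cc) (.node (nat_lit 0x1c1106499c) (.node (nat_lit 0x1c110559fc) (.node (nat_lit 0x1c110559bc) (.leaf (nat_lit 0x1c11054dec) (nat_lit 3331))
 (.leaf (nat_lit 0x1c110559bc) (nat_lit 2563))
) (.node (nat_lit 0x1c11055dbc) (.leaf (nat_lit 0x1c110559fc) (nat_lit 2819))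
 (.node (nat_lit 0x1c11055dfc) (.leaf (nat_lit 0x1c11055dbc) (nat_lit 3329))
 (.leaf (nat_lit 0x1c11055dfc) (nat_lit 3073))
))) (.node (nat_lit 0x1c11064d9c) (.node (nat_lit 0x1c110649dc) (.leaf (nat_lit 0x1c1106499c) (nat_lit 3329))
 (.leaf (nat_lit 0x1c110649dc) (nat_lit 3331))
) (.node (nat_lit 0x1c11064ddc) (.leaf (nat_lit 0x1c11064d9c) (nat_lit 2817))
 (.node (nat_lit 0x1c1106598c) (.leaf (nat_lit 0x1c11064ddc) (nat_lit 2561))
 (.leaf (nat_lit 0x1c1106598c) (nat_lit 1795))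
)))) (.node (nat_lit 0x1c1107458c) (.node (nat_lit 0x1c11065dcc) (.node (nat_lit 0x1c11065d8c) (.leaf (nat_lit 0x1c110659cc) (nat_lit 2051))
 (.leaf (nat_lit 0x1c11065d8c) (nat_lit 2819))
) (.node (nat_lit 0x1c1107418c) (.leaf (nat_lit 0x1c11065dcc) (nat_lit 3075))
 (.node (nat_lit 0x1c110741cc) (.leaf (nat_lit 0x1c1107418c) (nat_lit 1793))
 (.leaf (nat_lit 0x1c110741cc) (nat_lit 2049))
))) (.node (nat_lit 0x1c110751dc) (.node (nat_lit 0x1c110745cc) (.leaf (nat_lit 0x1c1107458c) (nat_lit 2820))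
 (.node (nat_lit 0x1c1107519c) (.leaf (nat_lit 0x1c110745cc) (nat_lit 3076))
 (.leaf (nat_lit 0x1c1107519c) (nat_lit 3329))
)) (.node (nat_lit 0x1c1107559c) (.leaf (nat_lit 0x1c110751dc) (nat_lit 3332))
 (.node (nat_lit 0x1c110755dc) (.leaf (nat_lit 0x1c1107559c) (nat_lit 2817))
 (.leaf (nat_lit 0x1c110755dc) (nat_lit 2561))
))))))))))) (.node (nat_lit 0x1c408426c6) (.node (nat_lit 0x1c30429366) (.node (nat_lit 0x1c20c5919a) (.node (nat_lit 0x1c20429b2a) (.node (nat_lit 0x1c114546ac) (.node (nat_lit 0x1c114252ec) (.node (nat_lit 0x1c11414e9c) (.node (nat_lit 0x1c114052cc) (.node (nat_lit 0x1c1140468c) (.node (nat_lit 0x1c114042dc) (.leaf (nat_lit 0x1c1140428c) (nat_lit 1281))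
 (.leaf (nat_lit 0x1c114042dc) (nat_lit 2561))
) (.node (nat_lit 0x1c114046dc) (.leaf (nat_lit 0x1c1140468c) (nat_lit 2308))
 (.node (nat_lit 0x1c1140529c) (.leaf (nat_lit 0x1c114046dc) (nat_lit 3076))
 (.leaf (nat_lit 0x1c1140529c) (nat_lit 2817))
))) (.node (nat_lit 0x1c114056cc) (.node (nat_lit 0x1c1140569c) (.leaf (nat_lit 0x1c114052cc) (nat_lit 1537))
 (.leaf (nat_lit 0x1c1140569c) (nat_lit 3332))
) (.node (nat_lit 0x1c11414a9c) (.leaf (nat_lit 0x1c114056cc) (nat_lit 2564))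
 (.node (nat_lit 0x1c11414acc) (.leaf (nat_lit 0x1c11414a9c) (nat_lit 3329))
 (.leaf (nat_lit 0x1c11414acc) (nat_lit 2048))
)))) (.node (nat_lit 0x1c11415edc) (.node (nat_lit 0x1c11415a8c) (.node (nat_lit 0x1c11414ecc) (.leaf (nat_lit 0x1c11414e9c) (nat_lit 2817))
 (.leaf (nat_lit 0x1c11414ecc) (nat_lit 3332))
) (.node (nat_lit 0x1c11415adc) (.leaf (nat_lit 0x1c11415a8c) (nat_lit 1792))
 (.node (nat_lit 0x1c11415e8c) (.leaf (nat_lit 0x1c11415adc) (nat_lit 3073))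
 (.leaf (nat_lit 0x1c11415e8c) (nat_lit 3076))
))) (.node (nat_lit 0x1c114246ac) (.node (nat_lit 0x1c114242ac) (.leaf (nat_lit 0x1c11415edc) (nat_lit 3073))
 (.node (nat_lit 0x1c114242fc) (.leaf (nat_lit 0x1c114242ac) (nat_lit 2051))
 (.leaf (nat_lit 0x1c114242fc) (nat_lit 3074))
)) (.node (nat_lit 0x1c114246fc) (.leaf (nat_lit 0x1c114246ac) (nat_lit 2820))
 (.node (nat_lit 0x1c114252bc) (.leaf (nat_lit 0x1c114246fc) (nat_lit 3073))
 (.leaf (nat_lit 0x1c114252bc) (nat_lit 3330))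
))))) (.node (nat_lit 0x1c11435efc) (.node (nat_lit 0x1c11434ebc) (.node (nat_lit 0x1c114256ec) (.node (nat_lit 0x1c114256bc) (.leaf (nat_lit 0x1c114252ec) (nat_lit 2307))
 (.leaf (nat_lit 0x1c114256bc) (nat_lit 2817))
) (.node (nat_lit 0x1c11434abc) (.leaf (nat_lit 0x1c114256ec) (nat_lit 3076))
 (.node (nat_lit 0x1c11434aec) (.leaf (nat_lit 0x1c11434abc) (nat_lit 3331))
 (.leaf (nat_lit 0x1c11434aec) (nat_lit 2816))
))) (.node (nat_lit 0x1c11435aac) (.node (nat_lit 0x1c11434eec) (.leaf (nat_lit 0x1c11434ebc) (nat_lit 2049))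
 (.leaf (nat_lit 0x1c11434eec) (nat_lit 3073))
) (.node (nat_lit 0x1c11435afc) (.leaf (nat_lit 0x1c11435aac) (nat_lit 2560))
 (.node (nat_lit 0x1c11435eac) (.leaf (nat_lit 0x1c11435afc) (nat_lit 3587))
 (.leaf (nat_lit 0x1c11435eac) (nat_lit 3329))
)))) (.node (nat_lit 0x1c11445aac) (.node (nat_lit 0x1c11444aec) (.node (nat_lit 0x1c11444abc) (.leaf (nat_lit 0x1c11435efc) (nat_lit 2305))
 (.leaf (nat_lit 0x1c11444abc) (nat_lit 3584))
) (.node (nat_lit 0x1c11444ebc) (.leaf (nat_lit 0x1c11444aec) (nat_lit 2563))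
 (.node (nat_lit 0x1c11444eec) (.leaf (nat_lit 0x1c11444ebc) (nat_lit 2305))
 (.leaf (nat_lit 0x1c11444eec) (nat_lit 3329))
))) (.node (nat_lit 0x1c11445efc) (.node (nat_lit 0x1c11445afc) (.leaf (nat_lit 0x1c11445aac) (nat_lit 2307))
 (.node (nat_lit 0x1c11445eac) (.leaf (nat_lit 0x1c11445afc) (nat_lit 3586))
 (.leaf (nat_lit 0x1c11445eac) (nat_lit 3332))
)) (.node (nat_lit 0x1c114542ac) (.leaf (nat_lit 0x1c11445efc) (nat_lit 2561))
 (.node (nat_lit 0x1c114542fc) (.leaf (nat_lit 0x1c114542ac) (nat_lit 2304))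
 (.leaf (nat_lit 0x1c114542fc) (nat_lit 3330))
)))))) (.node (nat_lit 0x1c114756cc) (.node (nat_lit 0x1c11465a8c) (.node (nat_lit 0x1c114556ec) (.node (nat_lit 0x1c114552bc) (.node (nat_lit 0x1c114546fc) (.leaf (nat_lit 0x1c114546ac) (nat_lit 3076))
 (.leaf (nat_lit 0x1c114546fc) (nat_lit 2817))
) (.node (nat_lit 0x1c114552ec) (.leaf (nat_lit 0x1c114552bc) (nat_lit 3586))
 (.node (nat_lit 0x1c114556bc) (.leaf (nat_lit 0x1c114552ec) (nat_lit 2560))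
 (.leaf (nat_lit 0x1c114556bc) (nat_lit 2561))
))) (.node (nat_lit 0x1c11464acc) (.node (nat_lit 0x1c11464a9c) (.leaf (nat_lit 0x1c114556ec) (nat_lit 3332))
 (.leaf (nat_lit 0x1c11464a9c) (nat_lit 3073))
) (.node (nat_lit 0x1c11464e9c) (.leaf (nat_lit 0x1c11464acc) (nat_lit 1795))
 (.node (nat_lit 0x1c11464ecc) (.leaf (nat_lit 0x1c11464e9c) (nat_lit 3073))
 (.leaf (nat_lit 0x1c11464ecc) (nat_lit 3076))
)))) (.node (nat_lit 0x1c114742dc) (.node (nat_lit 0x1c11465e8c) (.node (nat_lit 0x1c11465adc) (.leaf (nat_lit 0x1c11465a8c) (nat_lit 1539))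
 (.leaf (nat_lit 0x1c11465adc) (nat_lit 2817))
) (.node (nat_lit 0x1c11465edc) (.leaf (nat_lit 0x1c11465e8c) (nat_lit 2820))
 (.node (nat_lit 0x1c1147428c) (.leaf (nat_lit 0x1c11465edc) (nat_lit 3329))
 (.leaf (nat_lit 0x1c1147428c) (nat_lit 1537))
))) (.node (nat_lit 0x1c1147529c) (.node (nat_lit 0x1c1147468c) (.leaf (nat_lit 0x1c114742dc) (nat_lit 2817))
 (.node (nat_lit 0x1c114746dc) (.leaf (nat_lit 0x1c1147468c) (nat_lit 2564))
 (.leaf (nat_lit 0x1c114746dc) (nat_lit 3329))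
)) (.node (nat_lit 0x1c114752cc) (.leaf (nat_lit 0x1c1147529c) (nat_lit 3073))
 (.node (nat_lit 0x1c1147569c) (.leaf (nat_lit 0x1c114752cc) (nat_lit 1793))
 (.leaf (nat_lit 0x1c1147569c) (nat_lit 3073))
))))) (.node (nat_lit 0x1c2041837a) (.node (nat_lit 0x1c20408b0a) (.node (nat_lit 0x1c2040831a) (.node (nat_lit 0x1c2040830a) (.leaf (nat_lit 0x1c114756cc) (nat_lit 2820))
 (.leaf (nat_lit 0x1c2040830a) (nat_lit 769))
) (.node (nat_lit 0x1c2040872a) (.leaf (nat_lit 0x1c2040831a) (nat_lit 2562))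
 (.node (nat_lit 0x1c2040873a) (.leaf (nat_lit 0x1c2040872a) (nat_lit 2304))
 (.leaf (nat_lit 0x1c2040873a) (nat_lit 2820))
))) (.node (nat_lit 0x1c20408f2a) (.node (nat_lit 0x1c20408b1a) (.leaf (nat_lit 0x1c20408b0a) (nat_lit 1796))
 (.leaf (nat_lit 0x1c20408b1a) (nat_lit 3330))
) (.node (nat_lit 0x1c20408f3a) (.leaf (nat_lit 0x1c20408f2a) (nat_lit 3328))
 (.node (nat_lit 0x1c2041836a) (.leaf (nat_lit 0x1c20408f3a) (nat_lit 2052))
 (.leaf (nat_lit 0x1c2041836a) (nat_lit 1792))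
)))) (.node (nat_lit 0x1c20418f4a) (.node (nat_lit 0x1c2041875a) (.node (nat_lit 0x1c2041874a) (.leaf (nat_lit 0x1c2041837a) (nat_lit 3330))
 (.leaf (nat_lit 0x1c2041874a) (nat_lit 1795))
) (.node (nat_lit 0x1c20418b6a) (.leaf (nat_lit 0x1c2041875a) (nat_lit 3331))
 (.node (nat_lit 0x1c20418b7a) (.leaf (nat_lit 0x1c20418b6a) (nat_lit 2308))
 (.leaf (nat_lit 0x1c20418b7a) (nat_lit 2819))
))) (.node (nat_lit 0x1c2042933a) (.node (nat_lit 0x1c20418f5a) (.leaf (nat_lit 0x1c20418f4a) (nat_lit 2307))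
 (.node (nat_lit 0x1c2042932a) (.leaf (nat_lit 0x1c20418f5a) (nat_lit 2820))
 (.leaf (nat_lit 0x1c2042932a) (nat_lit 1795))
)) (.node (nat_lit 0x1c2042970a) (.leaf (nat_lit 0x1c2042933a) (nat_lit 3330))
 (.node (nat_lit 0x1c2042971a) (.leaf (nat_lit 0x1c2042970a) (nat_lit 1795))
 (.leaf (nat_lit 0x1c2042971a) (nat_lit 3328))
))))))) (.node (nat_lit 0x1c20478f2a) (.node (nat_lit 0x1c2045933a) (.node (nat_lit 0x1c20439f6a) (.node (nat_lit 0x1c2043935a) (.node (nat_lit 0x1c20429f0a) (.node (nat_lit 0x1c20429b3a) (.leaf (nat_lit 0x1c20429b2a) (nat_lit 2308))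
 (.leaf (nat_lit 0x1c20429b3a) (nat_lit 2816))
) (.node (nat_lit 0x1c20429f1a) (.leaf (nat_lit 0x1c20429f0a) (nat_lit 2304))
 (.node (nat_lit 0x1c2043934a) (.leaf (nat_lit 0x1c20429f1a) (nat_lit 2820))
 (.leaf (nat_lit 0x1c2043934a) (nat_lit 1281))
))) (.node (nat_lit 0x1c2043977a) (.node (nat_lit 0x1c2043976a) (.leaf (nat_lit 0x1c2043935a) (nat_lit 3074))
 (.leaf (nat_lit 0x1c2043976a) (nat_lit 1795))
) (.node (nat_lit 0x1c20439b4a) (.leaf (nat_lit 0x1c2043977a) (nat_lit 3332))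
 (.node (nat_lit 0x1c20439b5a) (.leaf (nat_lit 0x1c20439b4a) (nat_lit 2308))
 (.leaf (nat_lit 0x1c20439b5a) (nat_lit 3075))
)))) (.node (nat_lit 0x1c2044977a) (.node (nat_lit 0x1c2044934a) (.node (nat_lit 0x1c20439f7a) (.leaf (nat_lit 0x1c20439f6a) (nat_lit 2819))
 (.leaf (nat_lit 0x1c20439f7a) (nat_lit 2564))
) (.node (nat_lit 0x1c2044935a) (.leaf (nat_lit 0x1c2044934a) (nat_lit 1025))
 (.node (nat_lit 0x1c2044976a) (.leaf (nat_lit 0x1c2044935a) (nat_lit 2818))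
 (.leaf (nat_lit 0x1c2044976a) (nat_lit 2048))
))) (.node (nat_lit 0x1c20449f6a) (.node (nat_lit 0x1c20449b4a) (.leaf (nat_lit 0x1c2044977a) (nat_lit 3076))
 (.node (nat_lit 0x1c20449b5a) (.leaf (nat_lit 0x1c20449b4a) (nat_lit 2052))
 (.leaf (nat_lit 0x1c20449b5a) (nat_lit 3328))
)) (.node (nat_lit 0x1c20449f7a) (.leaf (nat_lit 0x1c20449f6a) (nat_lit 3072))
 (.node (nat_lit 0x1c2045932a) (.leaf (nat_lit 0x1c20449f7a) (nat_lit 2308))
 (.leaf (nat_lit 0x1c2045932a) (nat_lit 2048))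
))))) (.node (nat_lit 0x1c2046875a) (.node (nat_lit 0x1c20459f0a) (.node (nat_lit 0x1c2045971a) (.node (nat_lit 0x1c2045970a) (.leaf (nat_lit 0x1c2045933a) (nat_lit 3331))
 (.leaf (nat_lit 0x1c2045970a) (nat_lit 1539))
) (.node (nat_lit 0x1c20459b2a) (.leaf (nat_lit 0x1c2045971a) (nat_lit 3075))
 (.node (nat_lit 0x1c20459b3a) (.leaf (nat_lit 0x1c20459b2a) (nat_lit 2564))
 (.leaf (nat_lit 0x1c20459b3a) (nat_lit 2563))
))) (.node (nat_lit 0x1c2046836a) (.node (nat_lit 0x1c20459f1a) (.leaf (nat_lit 0x1c20459f0a) (nat_lit 2051))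
 (.leaf (nat_lit 0x1c20459f1a) (nat_lit 3076))
) (.node (nat_lit 0x1c2046837a) (.leaf (nat_lit 0x1c2046836a) (nat_lit 1539))
 (.node (nat_lit 0x1c2046874a) (.leaf (nat_lit 0x1c2046837a) (nat_lit 3074))
 (.leaf (nat_lit 0x1c2046874a) (nat_lit 2051))
)))) (.node (nat_lit 0x1c2047830a) (.node (nat_lit 0x1c20468b7a) (.node (nat_lit 0x1c20468b6a) (.leaf (nat_lit 0x1c2046875a) (nat_lit 3332))
 (.leaf (nat_lit 0x1c20468b6a) (nat_lit 2052))
) (.node (nat_lit 0x1c20468f4a) (.leaf (nat_lit 0x1c20468b7a) (nat_lit 3072))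
 (.node (nat_lit 0x1c20468f5a) (.leaf (nat_lit 0x1c20468f4a) (nat_lit 2560))
 (.leaf (nat_lit 0x1c20468f5a) (nat_lit 2564))
))) (.node (nat_lit 0x1c2047873a) (.node (nat_lit 0x1c2047831a) (.leaf (nat_lit 0x1c2047830a) (nat_lit 1025))
 (.node (nat_lit 0x1c2047872a) (.leaf (nat_lit 0x1c2047831a) (nat_lit 2818))
 (.leaf (nat_lit 0x1c2047872a) (nat_lit 2051))
)) (.node (nat_lit 0x1c20478b0a) (.leaf (nat_lit 0x1c2047873a) (nat_lit 3076))
 (.node (nat_lit 0x1c20478b1a) (.leaf (nat_lit 0x1c20478b0a) (nat_lit 2052))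
 (.leaf (nat_lit 0x1c20478b1a) (nat_lit 3331))
)))))) (.node (nat_lit 0x1c20c295ba) (.node (nat_lit 0x1c20c191da) (.node (nat_lit 0x1c20c085aa) (.node (nat_lit 0x1c20c0818a) (.node (nat_lit 0x1c20478f3a) (.leaf (nat_lit 0x1c20478f2a) (nat_lit 3075))
 (.leaf (nat_lit 0x1c20478f3a) (nat_lit 2308))
) (.node (nat_lit 0x1c20c081ba) (.leaf (nat_lit 0x1c20c0818a) (nat_lit 1026))
 (.node (nat_lit 0x1c20c0859a) (.leaf (nat_lit 0x1c20c081ba) (nat_lit 2306))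
 (.leaf (nat_lit 0x1c20c0859a) (nat_lit 2308))
))) (.node (nat_lit 0x1c20c089ba) (.node (nat_lit 0x1c20c0898a) (.leaf (nat_lit 0x1c20c085aa) (nat_lit 3328))
 (.leaf (nat_lit 0x1c20c0898a) (nat_lit 1796))
) (.node (nat_lit 0x1c20c08d9a) (.leaf (nat_lit 0x1c20c089ba) (nat_lit 3074))
 (.node (nat_lit 0x1c20c08daa) (.leaf (nat_lit 0x1c20c08d9a) (nat_lit 3076))
 (.leaf (nat_lit 0x1c20c08daa) (nat_lit 2560))
)))) (.node (nat_lit 0x1c20c199ea) (.node (nat_lit 0x1c20c195ca) (.node (nat_lit 0x1c20c191ea) (.leaf (nat_lit 0x1c20c191da) (nat_lit 3075))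
 (.leaf (nat_lit 0x1c20c191ea) (nat_lit 2562))
) (.node (nat_lit 0x1c20c195fa) (.leaf (nat_lit 0x1c20c195ca) (nat_lit 1795))
 (.node (nat_lit 0x1c20c199da) (.leaf (nat_lit 0x1c20c195fa) (nat_lit 3075))
 (.leaf (nat_lit 0x1c20c199da) (nat_lit 3074))
))) (.node (nat_lit 0x1c20c2919a) (.node (nat_lit 0x1c20c19dca) (.leaf (nat_lit 0x1c20c199ea) (nat_lit 1793))
 (.node (nat_lit 0x1c20c19dfa) (.leaf (nat_lit 0x1c20c19dca) (nat_lit 2563))
 (.leaf (nat_lit 0x1c20c19dfa) (nat_lit 3076))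
)) (.node (nat_lit 0x1c20c291aa) (.leaf (nat_lit 0x1c20c2919a) (nat_lit 3072))
 (.node (nat_lit 0x1c20c2958a) (.leaf (nat_lit 0x1c20c291aa) (nat_lit 2562))
 (.leaf (nat_lit 0x1c20c2958a) (nat_lit 1792))
))))) (.node (nat_lit 0x1c20c389fa) (.node (nat_lit 0x1c20c381ca) (.node (nat_lit 0x1c20c299aa) (.node (nat_lit 0x1c20c2999a) (.leaf (nat_lit 0x1c20c295ba) (nat_lit 3072))
 (.leaf (nat_lit 0x1c20c2999a) (nat_lit 3074))
) (.node (nat_lit 0x1c20c29d8a) (.leaf (nat_lit 0x1c20c299aa) (nat_lit 1793))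
 (.node (nat_lit 0x1c20c29dba) (.leaf (nat_lit 0x1c20c29d8a) (nat_lit 2560))
 (.leaf (nat_lit 0x1c20c29dba) (nat_lit 3076))
))) (.node (nat_lit 0x1c20c385da) (.node (nat_lit 0x1c20c381fa) (.leaf (nat_lit 0x1c20c381ca) (nat_lit 1538))
 (.leaf (nat_lit 0x1c20c381fa) (nat_lit 2818))
) (.node (nat_lit 0x1c20c385ea) (.leaf (nat_lit 0x1c20c385da) (nat_lit 2820))
 (.node (nat_lit 0x1c20c389ca) (.leaf (nat_lit 0x1c20c385ea) (nat_lit 2819))
 (.leaf (nat_lit 0x1c20c389ca) (nat_lit 2308))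
)))) (.node (nat_lit 0x1c20c485da) (.node (nat_lit 0x1c20c38dea) (.node (nat_lit 0x1c20c38dda) (.leaf (nat_lit 0x1c20c389fa) (nat_lit 3329))
 (.leaf (nat_lit 0x1c20c38dda) (nat_lit 3331))
) (.node (nat_lit 0x1c20c481ca) (.leaf (nat_lit 0x1c20c38dea) (nat_lit 2051))
 (.node (nat_lit 0x1c20c481fa) (.leaf (nat_lit 0x1c20c481ca) (nat_lit 1282))
 (.leaf (nat_lit 0x1c20c481fa) (nat_lit 2562))
))) (.node (nat_lit 0x1c20c489fa) (.node (nat_lit 0x1c20c485ea) (.leaf (nat_lit 0x1c20c485da) (nat_lit 2564))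
 (.node (nat_lit 0x1c20c489ca) (.leaf (nat_lit 0x1c20c485ea) (nat_lit 3072))
 (.leaf (nat_lit 0x1c20c489ca) (nat_lit 2052))
)) (.node (nat_lit 0x1c20c48dda) (.leaf (nat_lit 0x1c20c489fa) (nat_lit 3330))
 (.node (nat_lit 0x1c20c48dea) (.leaf (nat_lit 0x1c20c48dda) (nat_lit 3332))
 (.leaf (nat_lit 0x1c20c48dea) (nat_lit 2304))
)))))))) (.node (nat_lit 0x1c210731aa) (.node (nat_lit 0x1c21022daa) (.node (nat_lit 0x1c20c789ba) (.node (nat_lit 0x1c20c695ca) (.node (nat_lit 0x1c20c599aa) (.node (nat_lit 0x1c20c5958a) (.node (nat_lit 0x1c20c591aa) (.leaf (nat_lit 0x1c20c5919a) (nat_lit 2819))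
 (.leaf (nat_lit 0x1c20c591aa) (nat_lit 2818))
) (.node (nat_lit 0x1c20c595ba) (.leaf (nat_lit 0x1c20c5958a) (nat_lit 1539))
 (.node (nat_lit 0x1c20c5999a) (.leaf (nat_lit 0x1c20c595ba) (nat_lit 2819))
 (.leaf (nat_lit 0x1c20c5999a) (nat_lit 3330))
))) (.node (nat_lit 0x1c20c59dba) (.node (nat_lit 0x1c20c59d8a) (.leaf (nat_lit 0x1c20c599aa) (nat_lit 2049))
 (.leaf (nat_lit 0x1c20c59d8a) (nat_lit 2307))
) (.node (nat_lit 0x1c20c691da) (.leaf (nat_lit 0x1c20c59dba) (nat_lit 3332))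
 (.node (nat_lit 0x1c20c691ea) (.leaf (nat_lit 0x1c20c691da) (nat_lit 3328))
 (.leaf (nat_lit 0x1c20c691ea) (nat_lit 2306))
)))) (.node (nat_lit 0x1c20c69dfa) (.node (nat_lit 0x1c20c699da) (.node (nat_lit 0x1c20c695fa) (.leaf (nat_lit 0x1c20c695ca) (nat_lit 2048))
 (.leaf (nat_lit 0x1c20c695fa) (nat_lit 3328))
) (.node (nat_lit 0x1c20c699ea) (.leaf (nat_lit 0x1c20c699da) (nat_lit 2818))
 (.node (nat_lit 0x1c20c69dca) (.leaf (nat_lit 0x1c20c699ea) (nat_lit 1537))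
 (.leaf (nat_lit 0x1c20c69dca) (nat_lit 2816))
))) (.node (nat_lit 0x1c20c7859a) (.node (nat_lit 0x1c20c7818a) (.leaf (nat_lit 0x1c20c69dfa) (nat_lit 2820))
 (.node (nat_lit 0x1c20c781ba) (.leaf (nat_lit 0x1c20c7818a) (nat_lit 1282))
 (.leaf (nat_lit 0x1c20c781ba) (nat_lit 2562))
)) (.node (nat_lit 0x1c20c785aa) (.leaf (nat_lit 0x1c20c7859a) (nat_lit 2564))
 (.node (nat_lit 0x1c20c7898a) (.leaf (nat_lit 0x1c20c785aa) (nat_lit 3075))
 (.leaf (nat_lit 0x1c20c7898a) (nat_lit 2052))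
))))) (.node (nat_lit 0x1c210039ea) (.node (nat_lit 0x1c2100298a) (.node (nat_lit 0x1c20c78daa) (.node (nat_lit 0x1c20c78d9a) (.leaf (nat_lit 0x1c20c789ba) (nat_lit 3330))
 (.leaf (nat_lit 0x1c20c78d9a) (nat_lit 3332))
) (.node (nat_lit 0x1c2100218a) (.leaf (nat_lit 0x1c20c78daa) (nat_lit 2307))
 (.node (nat_lit 0x1c210021ca) (.leaf (nat_lit 0x1c2100218a) (nat_lit 1540))
 (.leaf (nat_lit 0x1c210021ca) (nat_lit 1796))
))) (.node (nat_lit 0x1c210031aa) (.node (nat_lit 0x1c210029ca) (.leaf (nat_lit 0x1c2100298a) (nat_lit 2052))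
 (.leaf (nat_lit 0x1c210029ca) (nat_lit 2308))
) (.node (nat_lit 0x1c210031ea) (.leaf (nat_lit 0x1c210031aa) (nat_lit 2564))
 (.node (nat_lit 0x1c210039aa) (.leaf (nat_lit 0x1c210031ea) (nat_lit 2308))
 (.leaf (nat_lit 0x1c210039aa) (nat_lit 2308))
)))) (.node (nat_lit 0x1c210135ba) (.node (nat_lit 0x1c210125da) (.node (nat_lit 0x1c2101259a) (.leaf (nat_lit 0x1c210039ea) (nat_lit 2052))
 (.leaf (nat_lit 0x1c2101259a) (nat_lit 2561))
) (.node (nat_lit 0x1c21012d9a) (.leaf (nat_lit 0x1c210125da) (nat_lit 2817))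
 (.node (nat_lit 0x1c21012dda) (.leaf (nat_lit 0x1c21012d9a) (nat_lit 3330))
 (.leaf (nat_lit 0x1c21012dda) (nat_lit 3328))
))) (.node (nat_lit 0x1c21013dfa) (.node (nat_lit 0x1c210135fa) (.leaf (nat_lit 0x1c210135ba) (nat_lit 3072))
 (.node (nat_lit 0x1c21013dba) (.leaf (nat_lit 0x1c210135fa) (nat_lit 3328))
 (.leaf (nat_lit 0x1c21013dba) (nat_lit 3073))
)) (.node (nat_lit 0x1c210225aa) (.leaf (nat_lit 0x1c21013dfa) (nat_lit 2817))
 (.node (nat_lit 0x1c210225ea) (.leaf (nat_lit 0x1c210225aa) (nat_lit 3329))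
 (.leaf (nat_lit 0x1c210225ea) (nat_lit 3328))
)))))) (.node (nat_lit 0x1c210439da) (.node (nat_lit 0x1c2103319a) (.node (nat_lit 0x1c21023dca) (.node (nat_lit 0x1c2102358a) (.node (nat_lit 0x1c21022dea) (.leaf (nat_lit 0x1c21022daa) (nat_lit 3072))
 (.leaf (nat_lit 0x1c21022dea) (nat_lit 2816))
) (.node (nat_lit 0x1c210235ca) (.leaf (nat_lit 0x1c2102358a) (nat_lit 2564))
 (.node (nat_lit 0x1c21023d8a) (.leaf (nat_lit 0x1c210235ca) (nat_lit 2820))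
 (.leaf (nat_lit 0x1c21023d8a) (nat_lit 2816))
))) (.node (nat_lit 0x1c210321fa) (.node (nat_lit 0x1c210321ba) (.leaf (nat_lit 0x1c21023dca) (nat_lit 3072))
 (.leaf (nat_lit 0x1c210321ba) (nat_lit 2308))
) (.node (nat_lit 0x1c210329ba) (.leaf (nat_lit 0x1c210321fa) (nat_lit 2564))
 (.node (nat_lit 0x1c210329fa) (.leaf (nat_lit 0x1c210329ba) (nat_lit 3076))
 (.leaf (nat_lit 0x1c210329fa) (nat_lit 3332))
)))) (.node (nat_lit 0x1c210421fa) (.node (nat_lit 0x1c2103399a) (.node (nat_lit 0x1c210331da) (.leaf (nat_lit 0x1c2103319a) (nat_lit 3329))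
 (.leaf (nat_lit 0x1c210331da) (nat_lit 3332))
) (.node (nat_lit 0x1c210339da) (.leaf (nat_lit 0x1c2103399a) (nat_lit 3075))
 (.node (nat_lit 0x1c210421ba) (.leaf (nat_lit 0x1c210339da) (nat_lit 2819))
 (.leaf (nat_lit 0x1c210421ba) (nat_lit 2564))
))) (.node (nat_lit 0x1c2104319a) (.node (nat_lit 0x1c210429ba) (.leaf (nat_lit 0x1c210421fa) (nat_lit 2820))
 (.node (nat_lit 0x1c210429fa) (.leaf (nat_lit 0x1c210429ba) (nat_lit 3332))
 (.leaf (nat_lit 0x1c210429fa) (nat_lit 3588))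
)) (.node (nat_lit 0x1c210431da) (.leaf (nat_lit 0x1c2104319a) (nat_lit 3073))
 (.node (nat_lit 0x1c2104399a) (.leaf (nat_lit 0x1c210431da) (nat_lit 3329))
 (.leaf (nat_lit 0x1c2104399a) (nat_lit 3328))
))))) (.node (nat_lit 0x1c210625da) (.node (nat_lit 0x1c2105358a) (.node (nat_lit 0x1c210525ea) (.node (nat_lit 0x1c210525aa) (.leaf (nat_lit 0x1c210439da) (nat_lit 3072))
 (.leaf (nat_lit 0x1c210525aa) (nat_lit 3331))
) (.node (nat_lit 0x1c21052daa) (.leaf (nat_lit 0x1c210525ea) (nat_lit 3075))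
 (.node (nat_lit 0x1c21052dea) (.leaf (nat_lit 0x1c21052daa) (nat_lit 2819))
 (.leaf (nat_lit 0x1c21052dea) (nat_lit 2563))
))) (.node (nat_lit 0x1c21053d8a) (.node (nat_lit 0x1c210535ca) (.leaf (nat_lit 0x1c2105358a) (nat_lit 2308))
 (.leaf (nat_lit 0x1c210535ca) (nat_lit 2564))
) (.node (nat_lit 0x1c21053dca) (.leaf (nat_lit 0x1c21053d8a) (nat_lit 2563))
 (.node (nat_lit 0x1c2106259a) (.leaf (nat_lit 0x1c21053dca) (nat_lit 2819))
 (.leaf (nat_lit 0x1c2106259a) (nat_lit 2817))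
)))) (.node (nat_lit 0x1c21063dba) (.node (nat_lit 0x1c21062dda) (.node (nat_lit 0x1c21062d9a) (.leaf (nat_lit 0x1c210625da) (nat_lit 3073))
 (.leaf (nat_lit 0x1c21062d9a) (nat_lit 3331))
) (.node (nat_lit 0x1c210635ba) (.leaf (nat_lit 0x1c21062dda) (nat_lit 3075))
 (.node (nat_lit 0x1c210635fa) (.leaf (nat_lit 0x1c210635ba) (nat_lit 2819))
 (.leaf (nat_lit 0x1c210635fa) (nat_lit 3075))
))) (.node (nat_lit 0x1c210721ca) (.node (nat_lit 0x1c21063dfa) (.leaf (nat_lit 0x1c21063dba) (nat_lit 3329))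
 (.node (nat_lit 0x1c2107218a) (.leaf (nat_lit 0x1c21063dfa) (nat_lit 3073))
 (.leaf (nat_lit 0x1c2107218a) (nat_lit 1796))
)) (.node (nat_lit 0x1c2107298a) (.leaf (nat_lit 0x1c210721ca) (nat_lit 2052))
 (.node (nat_lit 0x1c210729ca) (.leaf (nat_lit 0x1c2107298a) (nat_lit 2308))
 (.leaf (nat_lit 0x1c210729ca) (nat_lit 2564))
))))))) (.node (nat_lit 0x1c21843f1a) (.node (nat_lit 0x1c2182274a) (.node (nat_lit 0x1c21803b2a) (.node (nat_lit 0x1c2180236a) (.node (nat_lit 0x1c210739aa) (.node (nat_lit 0x1c210731ea) (.leaf (nat_lit 0x1c210731aa) (nat_lit 2820))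
 (.leaf (nat_lit 0x1c210731ea) (nat_lit 2564))
) (.node (nat_lit 0x1c210739ea) (.leaf (nat_lit 0x1c210739aa) (nat_lit 2564))
 (.node (nat_lit 0x1c2180230a) (.leaf (nat_lit 0x1c210739ea) (nat_lit 2308))
 (.leaf (nat_lit 0x1c2180230a) (nat_lit 1537))
))) (.node (nat_lit 0x1c21802b6a) (.node (nat_lit 0x1c21802b0a) (.leaf (nat_lit 0x1c2180236a) (nat_lit 2308))
 (.leaf (nat_lit 0x1c21802b0a) (nat_lit 2052))
) (.node (nat_lit 0x1c2180332a) (.leaf (nat_lit 0x1c21802b6a) (nat_lit 2562))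
 (.node (nat_lit 0x1c2180334a) (.leaf (nat_lit 0x1c2180332a) (nat_lit 2564))
 (.leaf (nat_lit 0x1c2180334a) (nat_lit 1793))
)))) (.node (nat_lit 0x1c21812b7a) (.node (nat_lit 0x1c2181231a) (.node (nat_lit 0x1c21803b4a) (.leaf (nat_lit 0x1c21803b2a) (nat_lit 2818))
 (.leaf (nat_lit 0x1c21803b4a) (nat_lit 2308))
) (.node (nat_lit 0x1c2181237a) (.leaf (nat_lit 0x1c2181231a) (nat_lit 2563))
 (.node (nat_lit 0x1c21812b1a) (.leaf (nat_lit 0x1c2181237a) (nat_lit 3076))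
 (.leaf (nat_lit 0x1c21812b1a) (nat_lit 3076))
))) (.node (nat_lit 0x1c21813b3a) (.node (nat_lit 0x1c2181333a) (.leaf (nat_lit 0x1c21812b7a) (nat_lit 3331))
 (.node (nat_lit 0x1c2181335a) (.leaf (nat_lit 0x1c2181333a) (nat_lit 3332))
 (.leaf (nat_lit 0x1c2181335a) (nat_lit 2819))
)) (.node (nat_lit 0x1c21813b5a) (.leaf (nat_lit 0x1c21813b3a) (nat_lit 3075))
 (.node (nat_lit 0x1c2182272a) (.leaf (nat_lit 0x1c21813b5a) (nat_lit 3332))
 (.leaf (nat_lit 0x1c2182272a) (nat_lit 3072))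
))))) (.node (nat_lit 0x1c21832f5a) (.node (nat_lit 0x1c21823f0a) (.node (nat_lit 0x1c21822f4a) (.node (nat_lit 0x1c21822f2a) (.leaf (nat_lit 0x1c2182274a) (nat_lit 2560))
 (.leaf (nat_lit 0x1c21822f2a) (nat_lit 3331))
) (.node (nat_lit 0x1c2182370a) (.leaf (nat_lit 0x1c21822f4a) (nat_lit 2816))
 (.node (nat_lit 0x1c2182376a) (.leaf (nat_lit 0x1c2182370a) (nat_lit 2304))
 (.leaf (nat_lit 0x1c2182376a) (nat_lit 2816))
))) (.node (nat_lit 0x1c2183273a) (.node (nat_lit 0x1c21823f6a) (.leaf (nat_lit 0x1c21823f0a) (nat_lit 2560))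
 (.leaf (nat_lit 0x1c21823f6a) (nat_lit 3328))
) (.node (nat_lit 0x1c2183275a) (.leaf (nat_lit 0x1c2183273a) (nat_lit 2817))
 (.node (nat_lit 0x1c21832f3a) (.leaf (nat_lit 0x1c2183275a) (nat_lit 3328))
 (.leaf (nat_lit 0x1c21832f3a) (nat_lit 2049))
)))) (.node (nat_lit 0x1c2184273a) (.node (nat_lit 0x1c2183377a) (.node (nat_lit 0x1c2183371a) (.leaf (nat_lit 0x1c21832f5a) (nat_lit 2817))
 (.leaf (nat_lit 0x1c2183371a) (nat_lit 3072))
) (.node (nat_lit 0x1c21833f1a) (.leaf (nat_lit 0x1c2183377a) (nat_lit 3073))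
 (.node (nat_lit 0x1c21833f7a) (.leaf (nat_lit 0x1c21833f1a) (nat_lit 3073))
 (.leaf (nat_lit 0x1c21833f7a) (nat_lit 2305))
))) (.node (nat_lit 0x1c21842f5a) (.node (nat_lit 0x1c2184275a) (.leaf (nat_lit 0x1c2184273a) (nat_lit 3073))
 (.node (nat_lit 0x1c21842f3a) (.leaf (nat_lit 0x1c2184275a) (nat_lit 3075))
 (.leaf (nat_lit 0x1c21842f3a) (nat_lit 2305))
)) (.node (nat_lit 0x1c2184371a) (.leaf (nat_lit 0x1c21842f5a) (nat_lit 3073))
 (.node (nat_lit 0x1c2184377a) (.leaf (nat_lit 0x1c2184371a) (nat_lit 2819))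
 (.leaf (nat_lit 0x1c2184377a) (nat_lit 3329))
)))))) (.node (nat_lit 0x1c21872b6a) (.node (nat_lit 0x1c2186231a) (.node (nat_lit 0x1c21852f4a) (.node (nat_lit 0x1c2185272a) (.node (nat_lit 0x1c21843f7a) (.leaf (nat_lit 0x1c21843f1a) (nat_lit 3329))
 (.leaf (nat_lit 0x1c21843f7a) (nat_lit 2561))
) (.node (nat_lit 0x1c2185274a) (.leaf (nat_lit 0x1c2185272a) (nat_lit 2819))
 (.node (nat_lit 0x1c21852f2a) (.leaf (nat_lit 0x1c2185274a) (nat_lit 2307))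
 (.leaf (nat_lit 0x1c21852f2a) (nat_lit 3331))
))) (.node (nat_lit 0x1c2185376a) (.node (nat_lit 0x1c2185370a) (.leaf (nat_lit 0x1c21852f4a) (nat_lit 2563))
 (.leaf (nat_lit 0x1c2185370a) (nat_lit 2051))
) (.node (nat_lit 0x1c21853f0a) (.leaf (nat_lit 0x1c2185376a) (nat_lit 2563))
 (.node (nat_lit 0x1c21853f6a) (.leaf (nat_lit 0x1c21853f0a) (nat_lit 2307))
 (.leaf (nat_lit 0x1c21853f6a) (nat_lit 3075))
)))) (.node (nat_lit 0x1c2186335a) (.node (nat_lit 0x1c21862b1a) (.node (nat_lit 0x1c2186237a) (.leaf (nat_lit 0x1c2186231a) (nat_lit 2816))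
 (.leaf (nat_lit 0x1c2186237a) (nat_lit 3332))
) (.node (nat_lit 0x1c21862b7a) (.leaf (nat_lit 0x1c21862b1a) (nat_lit 3332))
 (.node (nat_lit 0x1c2186333a) (.leaf (nat_lit 0x1c21862b7a) (nat_lit 3075))
 (.leaf (nat_lit 0x1c2186333a) (nat_lit 3331))
))) (.node (nat_lit 0x1c2187230a) (.node (nat_lit 0x1c21863b3a) (.leaf (nat_lit 0x1c2186335a) (nat_lit 3072))
 (.node (nat_lit 0x1c21863b5a) (.leaf (nat_lit 0x1c21863b3a) (nat_lit 2819))
 (.leaf (nat_lit 0x1c21863b5a) (nat_lit 3329))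
)) (.node (nat_lit 0x1c2187236a) (.leaf (nat_lit 0x1c2187230a) (nat_lit 1793))
 (.node (nat_lit 0x1c21872b0a) (.leaf (nat_lit 0x1c2187236a) (nat_lit 2564))
 (.leaf (nat_lit 0x1c21872b0a) (nat_lit 2308))
))))) (.node (nat_lit 0x1c30408b36) (.node (nat_lit 0x1c30408306) (.node (nat_lit 0x1c2187334a) (.node (nat_lit 0x1c2187332a) (.leaf (nat_lit 0x1c21872b6a) (nat_lit 2818))
 (.leaf (nat_lit 0x1c2187332a) (nat_lit 2820))
) (.node (nat_lit 0x1c21873b2a) (.leaf (nat_lit 0x1c2187334a) (nat_lit 2049))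
 (.node (nat_lit 0x1c21873b4a) (.leaf (nat_lit 0x1c21873b2a) (nat_lit 3074))
 (.leaf (nat_lit 0x1c21873b4a) (nat_lit 2564))
))) (.node (nat_lit 0x1c30408726) (.node (nat_lit 0x1c30408316) (.leaf (nat_lit 0x1c30408306) (nat_lit 515))
 (.leaf (nat_lit 0x1c30408316) (nat_lit 2819))
) (.node (nat_lit 0x1c30408736) (.leaf (nat_lit 0x1c30408726) (nat_lit 2563))
 (.node (nat_lit 0x1c30408b26) (.leaf (nat_lit 0x1c30408736) (nat_lit 2561))
 (.leaf (nat_lit 0x1c30408b26) (nat_lit 1795))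
)))) (.node (nat_lit 0x1c30418746) (.node (nat_lit 0x1c30408f16) (.node (nat_lit 0x1c30408f06) (.leaf (nat_lit 0x1c30408b36) (nat_lit 3588))
 (.leaf (nat_lit 0x1c30408f06) (nat_lit 1796))
) (.node (nat_lit 0x1c30418366) (.leaf (nat_lit 0x1c30408f16) (nat_lit 3585))
 (.node (nat_lit 0x1c30418376) (.leaf (nat_lit 0x1c30418366) (nat_lit 1536))
 (.leaf (nat_lit 0x1c30418376) (nat_lit 3587))
))) (.node (nat_lit 0x1c30418b56) (.node (nat_lit 0x1c30418756) (.leaf (nat_lit 0x1c30418746) (nat_lit 3332))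
 (.node (nat_lit 0x1c30418b46) (.leaf (nat_lit 0x1c30418756) (nat_lit 2049))
 (.leaf (nat_lit 0x1c30418b46) (nat_lit 2564))
)) (.node (nat_lit 0x1c30418f66) (.leaf (nat_lit 0x1c30418b56) (nat_lit 3073))
 (.node (nat_lit 0x1c30418f76) (.leaf (nat_lit 0x1c30418f66) (nat_lit 2564))
 (.leaf (nat_lit 0x1c30418f76) (nat_lit 2561))
))))))))) (.node (nat_lit 0x1c3147e286) (.node (nat_lit 0x1c30849a96) (.node (nat_lit 0x1c30478726) (.node (nat_lit 0x1c30449b36) (.node (nat_lit 0x1c30439726) (.node (nat_lit 0x1c30429b56) (.node (nat_lit 0x1c30429746) (.node (nat_lit 0x1c30429376) (.leaf (nat_lit 0x1c30429366) (nat_lit 1539))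
 (.leaf (nat_lit 0x1c30429376) (nat_lit 3586))
) (.node (nat_lit 0x1c30429756) (.leaf (nat_lit 0x1c30429746) (nat_lit 3332))
 (.node (nat_lit 0x1c30429b46) (.leaf (nat_lit 0x1c30429756) (nat_lit 2049))
 (.leaf (nat_lit 0x1c30429b46) (nat_lit 2564))
))) (.node (nat_lit 0x1c30429f76) (.node (nat_lit 0x1c30429f66) (.leaf (nat_lit 0x1c30429b56) (nat_lit 3073))
 (.leaf (nat_lit 0x1c30429f66) (nat_lit 2564))
) (.node (nat_lit 0x1c30439306) (.leaf (nat_lit 0x1c30429f76) (nat_lit 2561))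
 (.node (nat_lit 0x1c30439316) (.leaf (nat_lit 0x1c30439306) (nat_lit 1024))
 (.leaf (nat_lit 0x1c30439316) (nat_lit 3328))
)))) (.node (nat_lit 0x1c30439f16) (.node (nat_lit 0x1c30439b26) (.node (nat_lit 0x1c30439736) (.leaf (nat_lit 0x1c30439726) (nat_lit 3072))
 (.leaf (nat_lit 0x1c30439736) (nat_lit 2049))
) (.node (nat_lit 0x1c30439b36) (.leaf (nat_lit 0x1c30439b26) (nat_lit 2304))
 (.node (nat_lit 0x1c30439f06) (.leaf (nat_lit 0x1c30439b36) (nat_lit 3076))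
 (.leaf (nat_lit 0x1c30439f06) (nat_lit 2308))
))) (.node (nat_lit 0x1c30449726) (.node (nat_lit 0x1c30449306) (.leaf (nat_lit 0x1c30439f16) (nat_lit 3073))
 (.node (nat_lit 0x1c30449316) (.leaf (nat_lit 0x1c30449306) (nat_lit 771))
 (.leaf (nat_lit 0x1c30449316) (nat_lit 3075))
)) (.node (nat_lit 0x1c30449736) (.leaf (nat_lit 0x1c30449726) (nat_lit 2819))
 (.node (nat_lit 0x1c30449b26) (.leaf (nat_lit 0x1c30449736) (nat_lit 2305))
 (.leaf (nat_lit 0x1c30449b26) (nat_lit 2051))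
))))) (.node (nat_lit 0x1c30459f76) (.node (nat_lit 0x1c30459746) (.node (nat_lit 0x1c30449f16) (.node (nat_lit 0x1c30449f06) (.leaf (nat_lit 0x1c30449b36) (nat_lit 3332))
 (.leaf (nat_lit 0x1c30449f06) (nat_lit 2052))
) (.node (nat_lit 0x1c30459366) (.leaf (nat_lit 0x1c30449f16) (nat_lit 3329))
 (.node (nat_lit 0x1c30459376) (.leaf (nat_lit 0x1c30459366) (nat_lit 1792))
 (.leaf (nat_lit 0x1c30459376) (nat_lit 3331))
))) (.node (nat_lit 0x1c30459b46) (.node (nat_lit 0x1c30459756) (.leaf (nat_lit 0x1c30459746) (nat_lit 3330))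
 (.leaf (nat_lit 0x1c30459756) (nat_lit 1793))
) (.node (nat_lit 0x1c30459b56) (.leaf (nat_lit 0x1c30459b46) (nat_lit 2820))
 (.node (nat_lit 0x1c30459f66) (.leaf (nat_lit 0x1c30459b56) (nat_lit 2817))
 (.leaf (nat_lit 0x1c30459f66) (nat_lit 2820))
)))) (.node (nat_lit 0x1c30468b46) (.node (nat_lit 0x1c30468376) (.node (nat_lit 0x1c30468366) (.leaf (nat_lit 0x1c30459f76) (nat_lit 2305))
 (.leaf (nat_lit 0x1c30468366) (nat_lit 1283))
) (.node (nat_lit 0x1c30468746) (.leaf (nat_lit 0x1c30468376) (nat_lit 3330))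
 (.node (nat_lit 0x1c30468756) (.leaf (nat_lit 0x1c30468746) (nat_lit 3076))
 (.leaf (nat_lit 0x1c30468756) (nat_lit 2305))
))) (.node (nat_lit 0x1c30468f76) (.node (nat_lit 0x1c30468b56) (.leaf (nat_lit 0x1c30468b46) (nat_lit 2308))
 (.node (nat_lit 0x1c30468f66) (.leaf (nat_lit 0x1c30468b56) (nat_lit 3329))
 (.leaf (nat_lit 0x1c30468f66) (nat_lit 2308))
)) (.node (nat_lit 0x1c30478306) (.leaf (nat_lit 0x1c30468f76) (nat_lit 2817))
 (.node (nat_lit 0x1c30478316) (.leaf (nat_lit 0x1c30478306) (nat_lit 768))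
 (.leaf (nat_lit 0x1c30478316) (nat_lit 3072))
)))))) (.node (nat_lit 0x1c30819ef6) (.node (nat_lit 0x1c30808a96) (.node (nat_lit 0x1c30478f16) (.node (nat_lit 0x1c30478b26) (.node (nat_lit 0x1c30478736) (.leaf (nat_lit 0x1c30478726) (nat_lit 2816))
 (.leaf (nat_lit 0x1c30478736) (nat_lit 2305))
) (.node (nat_lit 0x1c30478b36) (.leaf (nat_lit 0x1c30478b26) (nat_lit 2048))
 (.node (nat_lit 0x1c30478f06) (.leaf (nat_lit 0x1c30478b36) (nat_lit 3332))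
 (.leaf (nat_lit 0x1c30478f06) (nat_lit 2052))
))) (.node (nat_lit 0x1c308082a6) (.node (nat_lit 0x1c30808286) (.leaf (nat_lit 0x1c30478f16) (nat_lit 3329))
 (.leaf (nat_lit 0x1c30808286) (nat_lit 771))
) (.node (nat_lit 0x1c30808696) (.leaf (nat_lit 0x1c308082a6) (nat_lit 2051))
 (.node (nat_lit 0x1c308086b6) (.leaf (nat_lit 0x1c30808696) (nat_lit 2563))
 (.leaf (nat_lit 0x1c308086b6) (nat_lit 3329))
)))) (.node (nat_lit 0x1c308192f6) (.node (nat_lit 0x1c30808e86) (.node (nat_lit 0x1c30808ab6) (.leaf (nat_lit 0x1c30808a96) (nat_lit 3331))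
 (.leaf (nat_lit 0x1c30808ab6) (nat_lit 2818))
) (.node (nat_lit 0x1c30808ea6) (.leaf (nat_lit 0x1c30808e86) (nat_lit 2052))
 (.node (nat_lit 0x1c308192d6) (.leaf (nat_lit 0x1c30808ea6) (nat_lit 2819))
 (.leaf (nat_lit 0x1c308192d6) (nat_lit 2307))
))) (.node (nat_lit 0x1c30819ac6) (.node (nat_lit 0x1c308196c6) (.leaf (nat_lit 0x1c308192f6) (nat_lit 2818))
 (.node (nat_lit 0x1c308196e6) (.leaf (nat_lit 0x1c308196c6) (nat_lit 3332))
 (.leaf (nat_lit 0x1c308196e6) (nat_lit 2818))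
)) (.node (nat_lit 0x1c30819ae6) (.leaf (nat_lit 0x1c30819ac6) (nat_lit 2818))
 (.node (nat_lit 0x1c30819ed6) (.leaf (nat_lit 0x1c30819ae6) (nat_lit 1792))
 (.leaf (nat_lit 0x1c30819ed6) (nat_lit 3076))
))))) (.node (nat_lit 0x1c308392a6) (.node (nat_lit 0x1c30828ac6) (.node (nat_lit 0x1c308282f6) (.node (nat_lit 0x1c308282d6) (.leaf (nat_lit 0x1c30819ef6) (nat_lit 3329))
 (.leaf (nat_lit 0x1c308282d6) (nat_lit 2304))
) (.node (nat_lit 0x1c308286c6) (.leaf (nat_lit 0x1c308282f6) (nat_lit 2818))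
 (.node (nat_lit 0x1c308286e6) (.leaf (nat_lit 0x1c308286c6) (nat_lit 3332))
 (.leaf (nat_lit 0x1c308286e6) (nat_lit 2818))
))) (.node (nat_lit 0x1c30828ed6) (.node (nat_lit 0x1c30828ae6) (.leaf (nat_lit 0x1c30828ac6) (nat_lit 2818))
 (.leaf (nat_lit 0x1c30828ae6) (nat_lit 1795))
) (.node (nat_lit 0x1c30828ef6) (.leaf (nat_lit 0x1c30828ed6) (nat_lit 3076))
 (.node (nat_lit 0x1c30839286) (.leaf (nat_lit 0x1c30828ef6) (nat_lit 3329))
 (.leaf (nat_lit 0x1c30839286) (nat_lit 1280))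
)))) (.node (nat_lit 0x1c30839e86) (.node (nat_lit 0x1c308396b6) (.node (nat_lit 0x1c30839696) (.leaf (nat_lit 0x1c308392a6) (nat_lit 2560))
 (.leaf (nat_lit 0x1c30839696) (nat_lit 3072))
) (.node (nat_lit 0x1c30839a96) (.leaf (nat_lit 0x1c308396b6) (nat_lit 3076))
 (.node (nat_lit 0x1c30839ab6) (.leaf (nat_lit 0x1c30839a96) (nat_lit 3330))
 (.leaf (nat_lit 0x1c30839ab6) (nat_lit 2306))
))) (.node (nat_lit 0x1c308492a6) (.node (nat_lit 0x1c30839ea6) (.leaf (nat_lit 0x1c30839e86) (nat_lit 2564))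
 (.node (nat_lit 0x1c30849286) (.leaf (nat_lit 0x1c30839ea6) (nat_lit 3328))
 (.leaf (nat_lit 0x1c30849286) (nat_lit 1027))
)) (.node (nat_lit 0x1c30849696) (.leaf (nat_lit 0x1c308492a6) (nat_lit 2307))
 (.node (nat_lit 0x1c308496b6) (.leaf (nat_lit 0x1c30849696) (nat_lit 2819))
 (.leaf (nat_lit 0x1c308496b6) (nat_lit 3332))
))))))) (.node (nat_lit 0x1c3141fea6) (.node (nat_lit 0x1c308782a6) (.node (nat_lit 0x1c30858ed6) (.node (nat_lit 0x1c308582f6) (.node (nat_lit 0x1c30849e86) (.node (nat_lit 0x1c30849ab6) (.leaf (nat_lit 0x1c30849a96) (nat_lit 3587))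
 (.leaf (nat_lit 0x1c30849ab6) (nat_lit 2562))
) (.node (nat_lit 0x1c30849ea6) (.leaf (nat_lit 0x1c30849e86) (nat_lit 2308))
 (.node (nat_lit 0x1c308582d6) (.leaf (nat_lit 0x1c30849ea6) (nat_lit 3075))
 (.leaf (nat_lit 0x1c308582d6) (nat_lit 2051))
))) (.node (nat_lit 0x1c308586e6) (.node (nat_lit 0x1c308586c6) (.leaf (nat_lit 0x1c308582f6) (nat_lit 2562))
 (.leaf (nat_lit 0x1c308586c6) (nat_lit 3076))
) (.node (nat_lit 0x1c30858ac6) (.leaf (nat_lit 0x1c308586e6) (nat_lit 3074))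
 (.node (nat_lit 0x1c30858ae6) (.leaf (nat_lit 0x1c30858ac6) (nat_lit 3074))
 (.leaf (nat_lit 0x1c30858ae6) (nat_lit 2048))
)))) (.node (nat_lit 0x1c308696e6) (.node (nat_lit 0x1c308692d6) (.node (nat_lit 0x1c30858ef6) (.leaf (nat_lit 0x1c30858ed6) (nat_lit 2820))
 (.leaf (nat_lit 0x1c30858ef6) (nat_lit 3585))
) (.node (nat_lit 0x1c308692f6) (.leaf (nat_lit 0x1c308692d6) (nat_lit 2560))
 (.node (nat_lit 0x1c308696c6) (.leaf (nat_lit 0x1c308692f6) (nat_lit 3074))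
 (.leaf (nat_lit 0x1c308696c6) (nat_lit 3330))
))) (.node (nat_lit 0x1c30869ed6) (.node (nat_lit 0x1c30869ac6) (.leaf (nat_lit 0x1c308696e6) (nat_lit 2562))
 (.node (nat_lit 0x1c30869ae6) (.leaf (nat_lit 0x1c30869ac6) (nat_lit 2562))
 (.leaf (nat_lit 0x1c30869ae6) (nat_lit 1539))
)) (.node (nat_lit 0x1c30869ef6) (.leaf (nat_lit 0x1c30869ed6) (nat_lit 3332))
 (.node (nat_lit 0x1c30878286) (.leaf (nat_lit 0x1c30869ef6) (nat_lit 3073))
 (.leaf (nat_lit 0x1c30878286) (nat_lit 1024))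
))))) (.node (nat_lit 0x1c3140eed6) (.node (nat_lit 0x1c30878e86) (.node (nat_lit 0x1c308786b6) (.node (nat_lit 0x1c30878696) (.leaf (nat_lit 0x1c308782a6) (nat_lit 2304))
 (.leaf (nat_lit 0x1c30878696) (nat_lit 2816))
) (.node (nat_lit 0x1c30878a96) (.leaf (nat_lit 0x1c308786b6) (nat_lit 3332))
 (.node (nat_lit 0x1c30878ab6) (.leaf (nat_lit 0x1c30878a96) (nat_lit 3586))
 (.leaf (nat_lit 0x1c30878ab6) (nat_lit 2562))
))) (.node (nat_lit 0x1c3140e286) (.node (nat_lit 0x1c30878ea6) (.leaf (nat_lit 0x1c30878e86) (nat_lit 2308))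
 (.leaf (nat_lit 0x1c30878ea6) (nat_lit 3072))
) (.node (nat_lit 0x1c3140e2d6) (.leaf (nat_lit 0x1c3140e286) (nat_lit 1284))
 (.node (nat_lit 0x1c3140ee86) (.leaf (nat_lit 0x1c3140e2d6) (nat_lit 2564))
 (.leaf (nat_lit 0x1c3140ee86) (nat_lit 2052))
)))) (.node (nat_lit 0x1c3141e696) (.node (nat_lit 0x1c3140f6e6) (.node (nat_lit 0x1c3140f6b6) (.leaf (nat_lit 0x1c3140eed6) (nat_lit 3076))
 (.leaf (nat_lit 0x1c3140f6b6) (nat_lit 3329))
) (.node (nat_lit 0x1c3140fab6) (.leaf (nat_lit 0x1c3140f6e6) (nat_lit 2564))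
 (.node (nat_lit 0x1c3140fae6) (.leaf (nat_lit 0x1c3140fab6) (nat_lit 2820))
 (.leaf (nat_lit 0x1c3140fae6) (nat_lit 2049))
))) (.node (nat_lit 0x1c3141eac6) (.node (nat_lit 0x1c3141e6c6) (.leaf (nat_lit 0x1c3141e696) (nat_lit 2305))
 (.node (nat_lit 0x1c3141ea96) (.leaf (nat_lit 0x1c3141e6c6) (nat_lit 3073))
 (.leaf (nat_lit 0x1c3141ea96) (nat_lit 3329))
)) (.node (nat_lit 0x1c3141f2a6) (.leaf (nat_lit 0x1c3141eac6) (nat_lit 3072))
 (.node (nat_lit 0x1c3141f2f6) (.leaf (nat_lit 0x1c3141f2a6) (nat_lit 2560))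
 (.leaf (nat_lit 0x1c3141f2f6) (nat_lit 3586))
)))))) (.node (nat_lit 0x1c3144eae6) (.node (nat_lit 0x1c3143e6b6) (.node (nat_lit 0x1c3142eef6) (.node (nat_lit 0x1c3142e2a6) (.node (nat_lit 0x1c3141fef6) (.leaf (nat_lit 0x1c3141fea6) (nat_lit 3332))
 (.leaf (nat_lit 0x1c3141fef6) (nat_lit 2817))
) (.node (nat_lit 0x1c3142e2f6) (.leaf (nat_lit 0x1c3142e2a6) (nat_lit 2051))
 (.node (nat_lit 0x1c3142eea6) (.leaf (nat_lit 0x1c3142e2f6) (nat_lit 3074))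
 (.leaf (nat_lit 0x1c3142eea6) (nat_lit 2820))
))) (.node (nat_lit 0x1c3142f6c6) (.node (nat_lit 0x1c3142f696) (.leaf (nat_lit 0x1c3142eef6) (nat_lit 3329))
 (.leaf (nat_lit 0x1c3142f696) (nat_lit 2817))
) (.node (nat_lit 0x1c3142fa96) (.leaf (nat_lit 0x1c3142f6c6) (nat_lit 3076))
 (.node (nat_lit 0x1c3142fac6) (.leaf (nat_lit 0x1c3142fa96) (nat_lit 3588))
 (.leaf (nat_lit 0x1c3142fac6) (nat_lit 2563))
)))) (.node (nat_lit 0x1c3143f2d6) (.node (nat_lit 0x1c3143eab6) (.node (nat_lit 0x1c3143e6e6) (.leaf (nat_lit 0x1c3143e6b6) (nat_lit 2817))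
 (.leaf (nat_lit 0x1c3143e6e6) (nat_lit 3076))
) (.node (nat_lit 0x1c3143eae6) (.leaf (nat_lit 0x1c3143eab6) (nat_lit 3332))
 (.node (nat_lit 0x1c3143f286) (.leaf (nat_lit 0x1c3143eae6) (nat_lit 2561))
 (.leaf (nat_lit 0x1c3143f286) (nat_lit 1796))
))) (.node (nat_lit 0x1c3144e6b6) (.node (nat_lit 0x1c3143fe86) (.leaf (nat_lit 0x1c3143f2d6) (nat_lit 3076))
 (.node (nat_lit 0x1c3143fed6) (.leaf (nat_lit 0x1c3143fe86) (nat_lit 2564))
 (.leaf (nat_lit 0x1c3143fed6) (nat_lit 3329))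
)) (.node (nat_lit 0x1c3144e6e6) (.leaf (nat_lit 0x1c3144e6b6) (nat_lit 3073))
 (.node (nat_lit 0x1c3144eab6) (.leaf (nat_lit 0x1c3144e6e6) (nat_lit 2820))
 (.leaf (nat_lit 0x1c3144eab6) (nat_lit 3076))
))))) (.node (nat_lit 0x1c3145f6c6) (.node (nat_lit 0x1c3145e2a6) (.node (nat_lit 0x1c3144f2d6) (.node (nat_lit 0x1c3144f286) (.leaf (nat_lit 0x1c3144eae6) (nat_lit 2305))
 (.leaf (nat_lit 0x1c3144f286) (nat_lit 1540))
) (.node (nat_lit 0x1c3144fe86) (.leaf (nat_lit 0x1c3144f2d6) (nat_lit 2820))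
 (.node (nat_lit 0x1c3144fed6) (.leaf (nat_lit 0x1c3144fe86) (nat_lit 2308))
 (.leaf (nat_lit 0x1c3144fed6) (nat_lit 3332))
))) (.node (nat_lit 0x1c3145eea6) (.node (nat_lit 0x1c3145e2f6) (.leaf (nat_lit 0x1c3145e2a6) (nat_lit 2304))
 (.leaf (nat_lit 0x1c3145e2f6) (nat_lit 3330))
) (.node (nat_lit 0x1c3145eef6) (.leaf (nat_lit 0x1c3145eea6) (nat_lit 3076))
 (.node (nat_lit 0x1c3145f696) (.leaf (nat_lit 0x1c3145eef6) (nat_lit 3073))
 (.leaf (nat_lit 0x1c3145f696) (nat_lit 2561))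
)))) (.node (nat_lit 0x1c3146ea96) (.node (nat_lit 0x1c3145fac6) (.node (nat_lit 0x1c3145fa96) (.leaf (nat_lit 0x1c3145f6c6) (nat_lit 3329))
 (.leaf (nat_lit 0x1c3145fa96) (nat_lit 3585))
) (.node (nat_lit 0x1c3146e696) (.leaf (nat_lit 0x1c3145fac6) (nat_lit 2816))
 (.node (nat_lit 0x1c3146e6c6) (.leaf (nat_lit 0x1c3146e696) (nat_lit 2561))
 (.leaf (nat_lit 0x1c3146e6c6) (nat_lit 3332))
))) (.node (nat_lit 0x1c3146f2f6) (.node (nat_lit 0x1c3146eac6) (.leaf (nat_lit 0x1c3146ea96) (nat_lit 3585))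
 (.node (nat_lit 0x1c3146f2a6) (.leaf (nat_lit 0x1c3146eac6) (nat_lit 2819))
 (.leaf (nat_lit 0x1c3146f2a6) (nat_lit 2307))
)) (.node (nat_lit 0x1c3146fea6) (.leaf (nat_lit 0x1c3146f2f6) (nat_lit 3330))
 (.node (nat_lit 0x1c3146fef6) (.leaf (nat_lit 0x1c3146fea6) (nat_lit 3076))
 (.leaf (nat_lit 0x1c3146fef6) (nat_lit 3073))
)))))))) (.node (nat_lit 0x1c40415366) (.node (nat_lit 0x1c3184eb36) (.node (nat_lit 0x1c3181f746) (.node (nat_lit 0x1c3180ef06) (.node (nat_lit 0x1c3147f6e6) (.node (nat_lit 0x1c3147ee86) (.node (nat_lit 0x1c3147e2d6) (.leaf (nat_lit 0x1c3147e286) (nat_lit 1540))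
 (.leaf (nat_lit 0x1c3147e2d6) (nat_lit 2820))
) (.node (nat_lit 0x1c3147eed6) (.leaf (nat_lit 0x1c3147ee86) (nat_lit 2308))
 (.node (nat_lit 0x1c3147f6b6) (.leaf (nat_lit 0x1c3147eed6) (nat_lit 3332))
 (.leaf (nat_lit 0x1c3147f6b6) (nat_lit 3073))
))) (.node (nat_lit 0x1c3147fae6) (.node (nat_lit 0x1c3147fab6) (.leaf (nat_lit 0x1c3147f6e6) (nat_lit 2820))
 (.leaf (nat_lit 0x1c3147fab6) (nat_lit 3076))
) (.node (nat_lit 0x1c3180e306) (.leaf (nat_lit 0x1c3147fae6) (nat_lit 2305))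
 (.node (nat_lit 0x1c3180e366) (.leaf (nat_lit 0x1c3180e306) (nat_lit 1283))
 (.leaf (nat_lit 0x1c3180e366) (nat_lit 2051))
)))) (.node (nat_lit 0x1c3180fb56) (.node (nat_lit 0x1c3180f736) (.node (nat_lit 0x1c3180ef66) (.leaf (nat_lit 0x1c3180ef06) (nat_lit 2051))
 (.leaf (nat_lit 0x1c3180ef66) (nat_lit 2818))
) (.node (nat_lit 0x1c3180f756) (.leaf (nat_lit 0x1c3180f736) (nat_lit 2817))
 (.node (nat_lit 0x1c3180fb36) (.leaf (nat_lit 0x1c3180f756) (nat_lit 2305))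
 (.leaf (nat_lit 0x1c3180fb36) (nat_lit 3332))
))) (.node (nat_lit 0x1c3181ef16) (.node (nat_lit 0x1c3181e316) (.leaf (nat_lit 0x1c3180fb56) (nat_lit 3076))
 (.node (nat_lit 0x1c3181e376) (.leaf (nat_lit 0x1c3181e316) (nat_lit 2307))
 (.leaf (nat_lit 0x1c3181e376) (nat_lit 3074))
)) (.node (nat_lit 0x1c3181ef76) (.leaf (nat_lit 0x1c3181ef16) (nat_lit 3332))
 (.node (nat_lit 0x1c3181f726) (.leaf (nat_lit 0x1c3181ef76) (nat_lit 3329))
 (.leaf (nat_lit 0x1c3181f726) (nat_lit 3328))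
))))) (.node (nat_lit 0x1c3182ff76) (.node (nat_lit 0x1c3182eb26) (.node (nat_lit 0x1c3181fb46) (.node (nat_lit 0x1c3181fb26) (.leaf (nat_lit 0x1c3181f746) (nat_lit 3075))
 (.leaf (nat_lit 0x1c3181fb26) (nat_lit 2561))
) (.node (nat_lit 0x1c3182e726) (.leaf (nat_lit 0x1c3181fb46) (nat_lit 3329))
 (.node (nat_lit 0x1c3182e746) (.leaf (nat_lit 0x1c3182e726) (nat_lit 2819))
 (.leaf (nat_lit 0x1c3182e746) (nat_lit 3330))
))) (.node (nat_lit 0x1c3182f316) (.node (nat_lit 0x1c3182eb46) (.leaf (nat_lit 0x1c3182eb26) (nat_lit 2049))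
 (.leaf (nat_lit 0x1c3182eb46) (nat_lit 2817))
) (.node (nat_lit 0x1c3182f376) (.leaf (nat_lit 0x1c3182f316) (nat_lit 2816))
 (.node (nat_lit 0x1c3182ff16) (.leaf (nat_lit 0x1c3182f376) (nat_lit 3586))
 (.leaf (nat_lit 0x1c3182ff16) (nat_lit 3329))
)))) (.node (nat_lit 0x1c3183f306) (.node (nat_lit 0x1c3183e756) (.node (nat_lit 0x1c3183e736) (.leaf (nat_lit 0x1c3182ff76) (nat_lit 2817))
 (.leaf (nat_lit 0x1c3183e736) (nat_lit 3329))
) (.node (nat_lit 0x1c3183eb36) (.leaf (nat_lit 0x1c3183e756) (nat_lit 2817))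
 (.node (nat_lit 0x1c3183eb56) (.leaf (nat_lit 0x1c3183eb36) (nat_lit 3073))
 (.leaf (nat_lit 0x1c3183eb56) (nat_lit 3588))
))) (.node (nat_lit 0x1c3183ff66) (.node (nat_lit 0x1c3183f366) (.leaf (nat_lit 0x1c3183f306) (nat_lit 1792))
 (.node (nat_lit 0x1c3183ff06) (.leaf (nat_lit 0x1c3183f366) (nat_lit 2560))
 (.leaf (nat_lit 0x1c3183ff06) (nat_lit 2560))
)) (.node (nat_lit 0x1c3184e736) (.leaf (nat_lit 0x1c3183ff66) (nat_lit 3330))
 (.node (nat_lit 0x1c3184e756) (.leaf (nat_lit 0x1c3184e736) (nat_lit 3073))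
 (.leaf (nat_lit 0x1c3184e756) (nat_lit 2561))
)))))) (.node (nat_lit 0x1c3186fb46) (.node (nat_lit 0x1c3185f316) (.node (nat_lit 0x1c3184ff66) (.node (nat_lit 0x1c3184f306) (.node (nat_lit 0x1c3184eb56) (.leaf (nat_lit 0x1c3184eb36) (nat_lit 3329))
 (.leaf (nat_lit 0x1c3184eb56) (nat_lit 3332))
) (.node (nat_lit 0x1c3184f366) (.leaf (nat_lit 0x1c3184f306) (nat_lit 1539))
 (.node (nat_lit 0x1c3184ff06) (.leaf (nat_lit 0x1c3184f366) (nat_lit 2307))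
 (.leaf (nat_lit 0x1c3184ff06) (nat_lit 2307))
))) (.node (nat_lit 0x1c3185e746) (.node (nat_lit 0x1c3185e726) (.leaf (nat_lit 0x1c3184ff66) (nat_lit 3074))
 (.leaf (nat_lit 0x1c3185e726) (nat_lit 3072))
) (.node (nat_lit 0x1c3185eb26) (.leaf (nat_lit 0x1c3185e746) (nat_lit 3331))
 (.node (nat_lit 0x1c3185eb46) (.leaf (nat_lit 0x1c3185eb26) (nat_lit 2305))
 (.leaf (nat_lit 0x1c3185eb46) (nat_lit 3073))
)))) (.node (nat_lit 0x1c3186e376) (.node (nat_lit 0x1c3185ff16) (.node (nat_lit 0x1c3185f376) (.leaf (nat_lit 0x1c3185f316) (nat_lit 2563))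
 (.leaf (nat_lit 0x1c3185f376) (nat_lit 3330))
) (.node (nat_lit 0x1c3185ff76) (.leaf (nat_lit 0x1c3185ff16) (nat_lit 3588))
 (.node (nat_lit 0x1c3186e316) (.leaf (nat_lit 0x1c3185ff76) (nat_lit 3073))
 (.leaf (nat_lit 0x1c3186e316) (nat_lit 2560))
))) (.node (nat_lit 0x1c3186f726) (.node (nat_lit 0x1c3186ef16) (.leaf (nat_lit 0x1c3186e376) (nat_lit 3330))
 (.node (nat_lit 0x1c3186ef76) (.leaf (nat_lit 0x1c3186ef16) (nat_lit 3585))
 (.leaf (nat_lit 0x1c3186ef76) (nat_lit 3073))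
)) (.node (nat_lit 0x1c3186f746) (.leaf (nat_lit 0x1c3186f726) (nat_lit 3075))
 (.node (nat_lit 0x1c3186fb26) (.leaf (nat_lit 0x1c3186f746) (nat_lit 3328))
 (.leaf (nat_lit 0x1c3186fb26) (nat_lit 2305))
))))) (.node (nat_lit 0x1c40404316) (.node (nat_lit 0x1c3187f736) (.node (nat_lit 0x1c3187e366) (.node (nat_lit 0x1c3187e306) (.leaf (nat_lit 0x1c3186fb46) (nat_lit 3073))
 (.leaf (nat_lit 0x1c3187e306) (nat_lit 1536))
) (.node (nat_lit 0x1c3187ef06) (.leaf (nat_lit 0x1c3187e366) (nat_lit 2304))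
 (.node (nat_lit 0x1c3187ef66) (.leaf (nat_lit 0x1c3187ef06) (nat_lit 2304))
 (.leaf (nat_lit 0x1c3187ef66) (nat_lit 3074))
))) (.node (nat_lit 0x1c3187fb36) (.node (nat_lit 0x1c3187f756) (.leaf (nat_lit 0x1c3187f736) (nat_lit 3073))
 (.leaf (nat_lit 0x1c3187f756) (nat_lit 2561))
) (.node (nat_lit 0x1c3187fb56) (.leaf (nat_lit 0x1c3187fb36) (nat_lit 3329))
 (.node (nat_lit 0x1c40404306) (.leaf (nat_lit 0x1c3187fb56) (nat_lit 3332))
 (.leaf (nat_lit 0x1c40404306) (nat_lit 772))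
)))) (.node (nat_lit 0x1c40405746) (.node (nat_lit 0x1c40404756) (.node (nat_lit 0x1c40404746) (.leaf (nat_lit 0x1c40404316) (nat_lit 2818))
 (.leaf (nat_lit 0x1c40404746) (nat_lit 3075))
) (.node (nat_lit 0x1c40405306) (.leaf (nat_lit 0x1c40404756) (nat_lit 2308))
 (.node (nat_lit 0x1c40405316) (.leaf (nat_lit 0x1c40405306) (nat_lit 1028))
 (.leaf (nat_lit 0x1c40405316) (nat_lit 3074))
))) (.node (nat_lit 0x1c40414376) (.node (nat_lit 0x1c40405756) (.leaf (nat_lit 0x1c40405746) (nat_lit 3331))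
 (.node (nat_lit 0x1c40414366) (.leaf (nat_lit 0x1c40405756) (nat_lit 2052))
 (.leaf (nat_lit 0x1c40414366) (nat_lit 1796))
)) (.node (nat_lit 0x1c40414726) (.leaf (nat_lit 0x1c40414376) (nat_lit 3331))
 (.node (nat_lit 0x1c40414736) (.leaf (nat_lit 0x1c40414726) (nat_lit 2307))
 (.leaf (nat_lit 0x1c40414736) (nat_lit 2820))
))))))) (.node (nat_lit 0x1c40465726) (.node (nat_lit 0x1c40444b56) (.node (nat_lit 0x1c40425f66) (.node (nat_lit 0x1c40424b36) (.node (nat_lit 0x1c40415726) (.node (nat_lit 0x1c40415376) (.leaf (nat_lit 0x1c40415366) (nat_lit 2052))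
 (.leaf (nat_lit 0x1c40415376) (nat_lit 3075))
) (.node (nat_lit 0x1c40415736) (.leaf (nat_lit 0x1c40415726) (nat_lit 2563))
 (.node (nat_lit 0x1c40424b26) (.leaf (nat_lit 0x1c40415736) (nat_lit 2564))
 (.leaf (nat_lit 0x1c40424b26) (nat_lit 1793))
))) (.node (nat_lit 0x1c40424f76) (.node (nat_lit 0x1c40424f66) (.leaf (nat_lit 0x1c40424b36) (nat_lit 3328))
 (.leaf (nat_lit 0x1c40424f66) (nat_lit 2304))
) (.node (nat_lit 0x1c40425b26) (.leaf (nat_lit 0x1c40424f76) (nat_lit 2817))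
 (.node (nat_lit 0x1c40425b36) (.leaf (nat_lit 0x1c40425b26) (nat_lit 2049))
 (.leaf (nat_lit 0x1c40425b36) (nat_lit 3072))
)))) (.node (nat_lit 0x1c40434f16) (.node (nat_lit 0x1c40434b46) (.node (nat_lit 0x1c40425f76) (.leaf (nat_lit 0x1c40425f66) (nat_lit 2560))
 (.leaf (nat_lit 0x1c40425f76) (nat_lit 2561))
) (.node (nat_lit 0x1c40434b56) (.leaf (nat_lit 0x1c40434b46) (nat_lit 2305))
 (.node (nat_lit 0x1c40434f06) (.leaf (nat_lit 0x1c40434b56) (nat_lit 2819))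
 (.leaf (nat_lit 0x1c40434f06) (nat_lit 1539))
))) (.node (nat_lit 0x1c40435f06) (.node (nat_lit 0x1c40435b46) (.leaf (nat_lit 0x1c40434f16) (nat_lit 3585))
 (.node (nat_lit 0x1c40435b56) (.leaf (nat_lit 0x1c40435b46) (nat_lit 2561))
 (.leaf (nat_lit 0x1c40435b56) (nat_lit 2563))
)) (.node (nat_lit 0x1c40435f16) (.leaf (nat_lit 0x1c40435f06) (nat_lit 1795))
 (.node (nat_lit 0x1c40444b46) (.leaf (nat_lit 0x1c40435f16) (nat_lit 3329))
 (.leaf (nat_lit 0x1c40444b46) (nat_lit 2049))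
))))) (.node (nat_lit 0x1c40454f76) (.node (nat_lit 0x1c40445f06) (.node (nat_lit 0x1c40444f16) (.node (nat_lit 0x1c40444f06) (.leaf (nat_lit 0x1c40444b56) (nat_lit 3072))
 (.leaf (nat_lit 0x1c40444f06) (nat_lit 1795))
) (.node (nat_lit 0x1c40445b46) (.leaf (nat_lit 0x1c40444f16) (nat_lit 3329))
 (.node (nat_lit 0x1c40445b56) (.leaf (nat_lit 0x1c40445b46) (nat_lit 2305))
 (.leaf (nat_lit 0x1c40445b56) (nat_lit 2816))
))) (.node (nat_lit 0x1c40454b26) (.node (nat_lit 0x1c40445f16) (.leaf (nat_lit 0x1c40445f06) (nat_lit 2051))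
 (.leaf (nat_lit 0x1c40445f16) (nat_lit 3073))
) (.node (nat_lit 0x1c40454b36) (.leaf (nat_lit 0x1c40454b26) (nat_lit 2049))
 (.node (nat_lit 0x1c40454f66) (.leaf (nat_lit 0x1c40454b36) (nat_lit 3075))
 (.leaf (nat_lit 0x1c40454f66) (nat_lit 2051))
)))) (.node (nat_lit 0x1c40464366) (.node (nat_lit 0x1c40455b36) (.node (nat_lit 0x1c40455b26) (.leaf (nat_lit 0x1c40454f76) (nat_lit 3073))
 (.leaf (nat_lit 0x1c40455b26) (nat_lit 2305))
) (.node (nat_lit 0x1c40455f66) (.leaf (nat_lit 0x1c40455b36) (nat_lit 2819))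
 (.node (nat_lit 0x1c40455f76) (.leaf (nat_lit 0x1c40455f66) (nat_lit 2307))
 (.leaf (nat_lit 0x1c40455f76) (nat_lit 2817))
))) (.node (nat_lit 0x1c40464736) (.node (nat_lit 0x1c40464376) (.leaf (nat_lit 0x1c40464366) (nat_lit 1540))
 (.node (nat_lit 0x1c40464726) (.leaf (nat_lit 0x1c40464376) (nat_lit 3330))
 (.leaf (nat_lit 0x1c40464726) (nat_lit 2560))
)) (.node (nat_lit 0x1c40465366) (.leaf (nat_lit 0x1c40464736) (nat_lit 2564))
 (.node (nat_lit 0x1c40465376) (.leaf (nat_lit 0x1c40465366) (nat_lit 1796))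
 (.leaf (nat_lit 0x1c40465376) (nat_lit 3328))
)))))) (.node (nat_lit 0x1c40812ef6) (.node (nat_lit 0x1c40802286) (.node (nat_lit 0x1c40474756) (.node (nat_lit 0x1c40474306) (.node (nat_lit 0x1c40465736) (.leaf (nat_lit 0x1c40465726) (nat_lit 2816))
 (.leaf (nat_lit 0x1c40465736) (nat_lit 2308))
) (.node (nat_lit 0x1c40474316) (.leaf (nat_lit 0x1c40474306) (nat_lit 1028))
 (.node (nat_lit 0x1c40474746) (.leaf (nat_lit 0x1c40474316) (nat_lit 3074))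
 (.leaf (nat_lit 0x1c40474746) (nat_lit 2819))
))) (.node (nat_lit 0x1c40475316) (.node (nat_lit 0x1c40475306) (.leaf (nat_lit 0x1c40474756) (nat_lit 2564))
 (.leaf (nat_lit 0x1c40475306) (nat_lit 1284))
) (.node (nat_lit 0x1c40475746) (.leaf (nat_lit 0x1c40475316) (nat_lit 3330))
 (.node (nat_lit 0x1c40475756) (.leaf (nat_lit 0x1c40475746) (nat_lit 3075))
 (.leaf (nat_lit 0x1c40475756) (nat_lit 2308))
)))) (.node (nat_lit 0x1c408032a6) (.node (nat_lit 0x1c40802ac6) (.node (nat_lit 0x1c408022a6) (.leaf (nat_lit 0x1c40802286) (nat_lit 1028))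
 (.leaf (nat_lit 0x1c408022a6) (nat_lit 2308))
) (.node (nat_lit 0x1c40802ae6) (.leaf (nat_lit 0x1c40802ac6) (nat_lit 3076))
 (.node (nat_lit 0x1c40803286) (.leaf (nat_lit 0x1c40802ae6) (nat_lit 2052))
 (.leaf (nat_lit 0x1c40803286) (nat_lit 1284))
))) (.node (nat_lit 0x1c40812696) (.node (nat_lit 0x1c40803ac6) (.leaf (nat_lit 0x1c408032a6) (nat_lit 2564))
 (.node (nat_lit 0x1c40803ae6) (.leaf (nat_lit 0x1c40803ac6) (nat_lit 2820))
 (.leaf (nat_lit 0x1c40803ae6) (nat_lit 1796))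
)) (.node (nat_lit 0x1c408126b6) (.leaf (nat_lit 0x1c40812696) (nat_lit 2305))
 (.node (nat_lit 0x1c40812ed6) (.leaf (nat_lit 0x1c408126b6) (nat_lit 3328))
 (.leaf (nat_lit 0x1c40812ed6) (nat_lit 2816))
))))) (.node (nat_lit 0x1c408232f6) (.node (nat_lit 0x1c408222d6) (.node (nat_lit 0x1c408136b6) (.node (nat_lit 0x1c40813696) (.leaf (nat_lit 0x1c40812ef6) (nat_lit 3073))
 (.leaf (nat_lit 0x1c40813696) (nat_lit 2561))
) (.node (nat_lit 0x1c40813ed6) (.leaf (nat_lit 0x1c408136b6) (nat_lit 3072))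
 (.node (nat_lit 0x1c40813ef6) (.leaf (nat_lit 0x1c40813ed6) (nat_lit 3072))
 (.leaf (nat_lit 0x1c40813ef6) (nat_lit 2817))
))) (.node (nat_lit 0x1c40822a96) (.node (nat_lit 0x1c408222f6) (.leaf (nat_lit 0x1c408222d6) (nat_lit 2564))
 (.leaf (nat_lit 0x1c408222f6) (nat_lit 3074))
) (.node (nat_lit 0x1c40822ab6) (.leaf (nat_lit 0x1c40822a96) (nat_lit 3075))
 (.node (nat_lit 0x1c408232d6) (.leaf (nat_lit 0x1c40822ab6) (nat_lit 3072))
 (.leaf (nat_lit 0x1c408232d6) (nat_lit 2820))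
)))) (.node (nat_lit 0x1c40832e86) (.node (nat_lit 0x1c40823ab6) (.node (nat_lit 0x1c40823a96) (.leaf (nat_lit 0x1c408232f6) (nat_lit 3330))
 (.leaf (nat_lit 0x1c40823a96) (nat_lit 3331))
) (.node (nat_lit 0x1c408326c6) (.leaf (nat_lit 0x1c40823ab6) (nat_lit 2816))
 (.node (nat_lit 0x1c408326e6) (.leaf (nat_lit 0x1c408326c6) (nat_lit 3073))
 (.leaf (nat_lit 0x1c408326e6) (nat_lit 2819))
))) (.node (nat_lit 0x1c408336e6) (.node (nat_lit 0x1c40832ea6) (.leaf (nat_lit 0x1c40832e86) (nat_lit 1795))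
 (.node (nat_lit 0x1c408336c6) (.leaf (nat_lit 0x1c40832ea6) (nat_lit 2819))
 (.leaf (nat_lit 0x1c408336c6) (nat_lit 3329))
)) (.node (nat_lit 0x1c40833e86) (.leaf (nat_lit 0x1c408336e6) (nat_lit 2563))
 (.node (nat_lit 0x1c40833ea6) (.leaf (nat_lit 0x1c40833e86) (nat_lit 2051))
 (.leaf (nat_lit 0x1c40833ea6) (nat_lit 3075))
)))))))))) (.node (nat_lit 0x1c510649ba) (.node (nat_lit 0x1c5041436a) (.node (nat_lit 0x1c41465ab6) (.node (nat_lit 0x1c41414ea6) (.node (nat_lit 0x1c408636b6) (.node (nat_lit 0x1c40852a96) (.node (nat_lit 0x1c408436e6) (.node (nat_lit 0x1c40842e86) (.node (nat_lit 0x1c408426e6) (.leaf (nat_lit 0x1c408426c6) (nat_lit 2817))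
 (.leaf (nat_lit 0x1c408426e6) (nat_lit 3072))
) (.node (nat_lit 0x1c40842ea6) (.leaf (nat_lit 0x1c40842e86) (nat_lit 2051))
 (.node (nat_lit 0x1c408436c6) (.leaf (nat_lit 0x1c40842ea6) (nat_lit 3072))
 (.leaf (nat_lit 0x1c408436c6) (nat_lit 3073))
))) (.node (nat_lit 0x1c40843ea6) (.node (nat_lit 0x1c40843e86) (.leaf (nat_lit 0x1c408436e6) (nat_lit 2816))
 (.leaf (nat_lit 0x1c40843e86) (nat_lit 2307))
) (.node (nat_lit 0x1c408522d6) (.leaf (nat_lit 0x1c40843ea6) (nat_lit 3328))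
 (.node (nat_lit 0x1c408522f6) (.leaf (nat_lit 0x1c408522d6) (nat_lit 2308))
 (.leaf (nat_lit 0x1c408522f6) (nat_lit 2818))
)))) (.node (nat_lit 0x1c40853ab6) (.node (nat_lit 0x1c408532d6) (.node (nat_lit 0x1c40852ab6) (.leaf (nat_lit 0x1c40852a96) (nat_lit 3328))
 (.leaf (nat_lit 0x1c40852ab6) (nat_lit 2819))
) (.node (nat_lit 0x1c408532f6) (.leaf (nat_lit 0x1c408532d6) (nat_lit 2564))
 (.node (nat_lit 0x1c40853a96) (.leaf (nat_lit 0x1c408532f6) (nat_lit 3074))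
 (.leaf (nat_lit 0x1c40853a96) (nat_lit 3584))
))) (.node (nat_lit 0x1c40862ed6) (.node (nat_lit 0x1c40862696) (.leaf (nat_lit 0x1c40853ab6) (nat_lit 2563))
 (.node (nat_lit 0x1c408626b6) (.leaf (nat_lit 0x1c40862696) (nat_lit 2561))
 (.leaf (nat_lit 0x1c408626b6) (nat_lit 3075))
)) (.node (nat_lit 0x1c40862ef6) (.leaf (nat_lit 0x1c40862ed6) (nat_lit 2563))
 (.node (nat_lit 0x1c40863696) (.leaf (nat_lit 0x1c40862ef6) (nat_lit 3329))
 (.leaf (nat_lit 0x1c40863696) (nat_lit 2817))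
))))) (.node (nat_lit 0x1c40873ae6) (.node (nat_lit 0x1c40872ac6) (.node (nat_lit 0x1c40863ef6) (.node (nat_lit 0x1c40863ed6) (.leaf (nat_lit 0x1c408636b6) (nat_lit 2819))
 (.leaf (nat_lit 0x1c40863ed6) (nat_lit 2819))
) (.node (nat_lit 0x1c40872286) (.leaf (nat_lit 0x1c40863ef6) (nat_lit 3073))
 (.node (nat_lit 0x1c408722a6) (.leaf (nat_lit 0x1c40872286) (nat_lit 1284))
 (.leaf (nat_lit 0x1c408722a6) (nat_lit 2564))
))) (.node (nat_lit 0x1c40873286) (.node (nat_lit 0x1c40872ae6) (.leaf (nat_lit 0x1c40872ac6) (nat_lit 3332))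
 (.leaf (nat_lit 0x1c40872ae6) (nat_lit 2308))
) (.node (nat_lit 0x1c408732a6) (.leaf (nat_lit 0x1c40873286) (nat_lit 1540))
 (.node (nat_lit 0x1c40873ac6) (.leaf (nat_lit 0x1c408732a6) (nat_lit 2820))
 (.leaf (nat_lit 0x1c40873ac6) (nat_lit 3076))
)))) (.node (nat_lit 0x1c41405286) (.node (nat_lit 0x1c414042d6) (.node (nat_lit 0x1c41404286) (.leaf (nat_lit 0x1c40873ae6) (nat_lit 2052))
 (.leaf (nat_lit 0x1c41404286) (nat_lit 1026))
) (.node (nat_lit 0x1c41404696) (.leaf (nat_lit 0x1c414042d6) (nat_lit 2306))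
 (.node (nat_lit 0x1c414046c6) (.leaf (nat_lit 0x1c41404696) (nat_lit 2564))
 (.leaf (nat_lit 0x1c414046c6) (nat_lit 3328))
))) (.node (nat_lit 0x1c414056c6) (.node (nat_lit 0x1c414052d6) (.leaf (nat_lit 0x1c41405286) (nat_lit 1282))
 (.node (nat_lit 0x1c41405696) (.leaf (nat_lit 0x1c414052d6) (nat_lit 2562))
 (.leaf (nat_lit 0x1c41405696) (nat_lit 2820))
)) (.node (nat_lit 0x1c41414ab6) (.leaf (nat_lit 0x1c414056c6) (nat_lit 3072))
 (.node (nat_lit 0x1c41414ae6) (.leaf (nat_lit 0x1c41414ab6) (nat_lit 3074))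
 (.leaf (nat_lit 0x1c41414ae6) (nat_lit 2306))
)))))) (.node (nat_lit 0x1c41435ed6) (.node (nat_lit 0x1c414252a6) (.node (nat_lit 0x1c41415ef6) (.node (nat_lit 0x1c41415ab6) (.node (nat_lit 0x1c41414ef6) (.leaf (nat_lit 0x1c41414ea6) (nat_lit 2563))
 (.leaf (nat_lit 0x1c41414ef6) (nat_lit 3331))
) (.node (nat_lit 0x1c41415ae6) (.leaf (nat_lit 0x1c41415ab6) (nat_lit 2818))
 (.node (nat_lit 0x1c41415ea6) (.leaf (nat_lit 0x1c41415ae6) (nat_lit 2050))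
 (.leaf (nat_lit 0x1c41415ea6) (nat_lit 2819))
))) (.node (nat_lit 0x1c414242f6) (.node (nat_lit 0x1c414242a6) (.leaf (nat_lit 0x1c41415ef6) (nat_lit 3332))
 (.leaf (nat_lit 0x1c414242a6) (nat_lit 2050))
) (.node (nat_lit 0x1c414246b6) (.leaf (nat_lit 0x1c414242f6) (nat_lit 2818))
 (.node (nat_lit 0x1c414246e6) (.leaf (nat_lit 0x1c414246b6) (nat_lit 3076))
 (.leaf (nat_lit 0x1c414246e6) (nat_lit 2816))
)))) (.node (nat_lit 0x1c41434ac6) (.node (nat_lit 0x1c414256b6) (.node (nat_lit 0x1c414252f6) (.leaf (nat_lit 0x1c414252a6) (nat_lit 2306))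
 (.leaf (nat_lit 0x1c414252f6) (nat_lit 3074))
) (.node (nat_lit 0x1c414256e6) (.leaf (nat_lit 0x1c414256b6) (nat_lit 3332))
 (.node (nat_lit 0x1c41434a96) (.leaf (nat_lit 0x1c414256e6) (nat_lit 2560))
 (.leaf (nat_lit 0x1c41434a96) (nat_lit 3331))
))) (.node (nat_lit 0x1c41435a96) (.node (nat_lit 0x1c41434e86) (.leaf (nat_lit 0x1c41434ac6) (nat_lit 2818))
 (.node (nat_lit 0x1c41434ed6) (.leaf (nat_lit 0x1c41434e86) (nat_lit 1795))
 (.leaf (nat_lit 0x1c41434ed6) (nat_lit 2819))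
)) (.node (nat_lit 0x1c41435ac6) (.leaf (nat_lit 0x1c41435a96) (nat_lit 3587))
 (.node (nat_lit 0x1c41435e86) (.leaf (nat_lit 0x1c41435ac6) (nat_lit 2562))
 (.leaf (nat_lit 0x1c41435e86) (nat_lit 2051))
))))) (.node (nat_lit 0x1c414542f6) (.node (nat_lit 0x1c41445a96) (.node (nat_lit 0x1c41444ac6) (.node (nat_lit 0x1c41444a96) (.leaf (nat_lit 0x1c41435ed6) (nat_lit 3075))
 (.leaf (nat_lit 0x1c41444a96) (nat_lit 3586))
) (.node (nat_lit 0x1c41444e86) (.leaf (nat_lit 0x1c41444ac6) (nat_lit 2562))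
 (.node (nat_lit 0x1c41444ed6) (.leaf (nat_lit 0x1c41444e86) (nat_lit 2051))
 (.leaf (nat_lit 0x1c41444ed6) (nat_lit 3072))
))) (.node (nat_lit 0x1c41445e86) (.node (nat_lit 0x1c41445ac6) (.leaf (nat_lit 0x1c41445a96) (nat_lit 3330))
 (.leaf (nat_lit 0x1c41445ac6) (nat_lit 2306))
) (.node (nat_lit 0x1c41445ed6) (.leaf (nat_lit 0x1c41445e86) (nat_lit 2307))
 (.node (nat_lit 0x1c414542a6) (.leaf (nat_lit 0x1c41445ed6) (nat_lit 3328))
 (.leaf (nat_lit 0x1c414542a6) (nat_lit 2306))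
)))) (.node (nat_lit 0x1c414556b6) (.node (nat_lit 0x1c414546e6) (.node (nat_lit 0x1c414546b6) (.leaf (nat_lit 0x1c414542f6) (nat_lit 3074))
 (.leaf (nat_lit 0x1c414546b6) (nat_lit 3331))
) (.node (nat_lit 0x1c414552a6) (.leaf (nat_lit 0x1c414546e6) (nat_lit 2563))
 (.node (nat_lit 0x1c414552f6) (.leaf (nat_lit 0x1c414552a6) (nat_lit 2562))
 (.leaf (nat_lit 0x1c414552f6) (nat_lit 3330))
))) (.node (nat_lit 0x1c41464ae6) (.node (nat_lit 0x1c414556e6) (.leaf (nat_lit 0x1c414556b6) (nat_lit 3075))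
 (.node (nat_lit 0x1c41464ab6) (.leaf (nat_lit 0x1c414556e6) (nat_lit 2307))
 (.leaf (nat_lit 0x1c41464ab6) (nat_lit 2818))
)) (.node (nat_lit 0x1c41464ea6) (.leaf (nat_lit 0x1c41464ae6) (nat_lit 2050))
 (.node (nat_lit 0x1c41464ef6) (.leaf (nat_lit 0x1c41464ea6) (nat_lit 2816))
 (.leaf (nat_lit 0x1c41464ef6) (nat_lit 3332))
))))))) (.node (nat_lit 0x1c41833f06) (.node (nat_lit 0x1c41812376) (.node (nat_lit 0x1c41475696) (.node (nat_lit 0x1c414742d6) (.node (nat_lit 0x1c41465ea6) (.node (nat_lit 0x1c41465ae6) (.leaf (nat_lit 0x1c41465ab6) (nat_lit 2562))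
 (.leaf (nat_lit 0x1c41465ae6) (nat_lit 1794))
) (.node (nat_lit 0x1c41465ef6) (.leaf (nat_lit 0x1c41465ea6) (nat_lit 3072))
 (.node (nat_lit 0x1c41474286) (.leaf (nat_lit 0x1c41465ef6) (nat_lit 3076))
 (.leaf (nat_lit 0x1c41474286) (nat_lit 1282))
))) (.node (nat_lit 0x1c414746c6) (.node (nat_lit 0x1c41474696) (.leaf (nat_lit 0x1c414742d6) (nat_lit 2562))
 (.leaf (nat_lit 0x1c41474696) (nat_lit 2820))
) (.node (nat_lit 0x1c41475286) (.leaf (nat_lit 0x1c414746c6) (nat_lit 3075))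
 (.node (nat_lit 0x1c414752d6) (.leaf (nat_lit 0x1c41475286) (nat_lit 1538))
 (.leaf (nat_lit 0x1c414752d6) (nat_lit 2818))
)))) (.node (nat_lit 0x1c41802b46) (.node (nat_lit 0x1c41802306) (.node (nat_lit 0x1c414756c6) (.leaf (nat_lit 0x1c41475696) (nat_lit 3076))
 (.leaf (nat_lit 0x1c414756c6) (nat_lit 2819))
) (.node (nat_lit 0x1c41802366) (.leaf (nat_lit 0x1c41802306) (nat_lit 1282))
 (.node (nat_lit 0x1c41802b26) (.leaf (nat_lit 0x1c41802366) (nat_lit 2050))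
 (.leaf (nat_lit 0x1c41802b26) (nat_lit 2308))
))) (.node (nat_lit 0x1c41803b26) (.node (nat_lit 0x1c41803306) (.leaf (nat_lit 0x1c41802b46) (nat_lit 2817))
 (.node (nat_lit 0x1c41803366) (.leaf (nat_lit 0x1c41803306) (nat_lit 1538))
 (.leaf (nat_lit 0x1c41803366) (nat_lit 2306))
)) (.node (nat_lit 0x1c41803b46) (.leaf (nat_lit 0x1c41803b26) (nat_lit 2564))
 (.node (nat_lit 0x1c41812316) (.leaf (nat_lit 0x1c41803b46) (nat_lit 3073))
 (.leaf (nat_lit 0x1c41812316) (nat_lit 2562))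
))))) (.node (nat_lit 0x1c41822f76) (.node (nat_lit 0x1c41813b36) (.node (nat_lit 0x1c41812b56) (.node (nat_lit 0x1c41812b36) (.leaf (nat_lit 0x1c41812376) (nat_lit 3074))
 (.leaf (nat_lit 0x1c41812b36) (nat_lit 3332))
) (.node (nat_lit 0x1c41813316) (.leaf (nat_lit 0x1c41812b56) (nat_lit 3328))
 (.node (nat_lit 0x1c41813376) (.leaf (nat_lit 0x1c41813316) (nat_lit 2818))
 (.leaf (nat_lit 0x1c41813376) (nat_lit 3330))
))) (.node (nat_lit 0x1c41822736) (.node (nat_lit 0x1c41813b56) (.leaf (nat_lit 0x1c41813b36) (nat_lit 3328))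
 (.leaf (nat_lit 0x1c41813b56) (nat_lit 3072))
) (.node (nat_lit 0x1c41822756) (.leaf (nat_lit 0x1c41822736) (nat_lit 3328))
 (.node (nat_lit 0x1c41822f16) (.leaf (nat_lit 0x1c41822756) (nat_lit 2817))
 (.leaf (nat_lit 0x1c41822f16) (nat_lit 3075))
)))) (.node (nat_lit 0x1c41832726) (.node (nat_lit 0x1c41823756) (.node (nat_lit 0x1c41823736) (.leaf (nat_lit 0x1c41822f76) (nat_lit 3073))
 (.leaf (nat_lit 0x1c41823736) (nat_lit 3072))
) (.node (nat_lit 0x1c41823f16) (.leaf (nat_lit 0x1c41823756) (nat_lit 2561))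
 (.node (nat_lit 0x1c41823f76) (.leaf (nat_lit 0x1c41823f16) (nat_lit 3331))
 (.leaf (nat_lit 0x1c41823f76) (nat_lit 2817))
))) (.node (nat_lit 0x1c41832f66) (.node (nat_lit 0x1c41832746) (.leaf (nat_lit 0x1c41832726) (nat_lit 2563))
 (.node (nat_lit 0x1c41832f06) (.leaf (nat_lit 0x1c41832746) (nat_lit 3331))
 (.leaf (nat_lit 0x1c41832f06) (nat_lit 1795))
)) (.node (nat_lit 0x1c41833726) (.leaf (nat_lit 0x1c41832f66) (nat_lit 2563))
 (.node (nat_lit 0x1c41833746) (.leaf (nat_lit 0x1c41833726) (nat_lit 2819))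
 (.leaf (nat_lit 0x1c41833746) (nat_lit 3330))
)))))) (.node (nat_lit 0x1c41862b56) (.node (nat_lit 0x1c41852736) (.node (nat_lit 0x1c41842f66) (.node (nat_lit 0x1c41842726) (.node (nat_lit 0x1c41833f66) (.leaf (nat_lit 0x1c41833f06) (nat_lit 2051))
 (.leaf (nat_lit 0x1c41833f66) (nat_lit 2819))
) (.node (nat_lit 0x1c41842746) (.leaf (nat_lit 0x1c41842726) (nat_lit 2816))
 (.node (nat_lit 0x1c41842f06) (.leaf (nat_lit 0x1c41842746) (nat_lit 3330))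
 (.leaf (nat_lit 0x1c41842f06) (nat_lit 2048))
))) (.node (nat_lit 0x1c41843746) (.node (nat_lit 0x1c41843726) (.leaf (nat_lit 0x1c41842f66) (nat_lit 2816))
 (.leaf (nat_lit 0x1c41843726) (nat_lit 3072))
) (.node (nat_lit 0x1c41843f06) (.leaf (nat_lit 0x1c41843746) (nat_lit 3074))
 (.node (nat_lit 0x1c41843f66) (.leaf (nat_lit 0x1c41843f06) (nat_lit 2304))
 (.leaf (nat_lit 0x1c41843f66) (nat_lit 3072))
)))) (.node (nat_lit 0x1c41853756) (.node (nat_lit 0x1c41852f16) (.node (nat_lit 0x1c41852756) (.leaf (nat_lit 0x1c41852736) (nat_lit 3075))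
 (.leaf (nat_lit 0x1c41852756) (nat_lit 2561))
) (.node (nat_lit 0x1c41852f76) (.leaf (nat_lit 0x1c41852f16) (nat_lit 3328))
 (.node (nat_lit 0x1c41853736) (.leaf (nat_lit 0x1c41852f76) (nat_lit 2817))
 (.leaf (nat_lit 0x1c41853736) (nat_lit 2819))
))) (.node (nat_lit 0x1c41862316) (.node (nat_lit 0x1c41853f16) (.leaf (nat_lit 0x1c41853756) (nat_lit 2305))
 (.node (nat_lit 0x1c41853f76) (.leaf (nat_lit 0x1c41853f16) (nat_lit 3329))
 (.leaf (nat_lit 0x1c41853f76) (nat_lit 2561))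
)) (.node (nat_lit 0x1c41862376) (.leaf (nat_lit 0x1c41862316) (nat_lit 2818))
 (.node (nat_lit 0x1c41862b36) (.leaf (nat_lit 0x1c41862376) (nat_lit 3330))
 (.leaf (nat_lit 0x1c41862b36) (nat_lit 3331))
))))) (.node (nat_lit 0x1c41873366) (.node (nat_lit 0x1c41872306) (.node (nat_lit 0x1c41863376) (.node (nat_lit 0x1c41863316) (.leaf (nat_lit 0x1c41862b56) (nat_lit 3075))
 (.leaf (nat_lit 0x1c41863316) (nat_lit 3074))
) (.node (nat_lit 0x1c41863b36) (.leaf (nat_lit 0x1c41863376) (nat_lit 3331))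
 (.node (nat_lit 0x1c41863b56) (.leaf (nat_lit 0x1c41863b36) (nat_lit 3075))
 (.leaf (nat_lit 0x1c41863b56) (nat_lit 2819))
))) (.node (nat_lit 0x1c41872b26) (.node (nat_lit 0x1c41872366) (.leaf (nat_lit 0x1c41872306) (nat_lit 1538))
 (.leaf (nat_lit 0x1c41872366) (nat_lit 2306))
) (.node (nat_lit 0x1c41872b46) (.leaf (nat_lit 0x1c41872b26) (nat_lit 2564))
 (.node (nat_lit 0x1c41873306) (.leaf (nat_lit 0x1c41872b46) (nat_lit 3073))
 (.leaf (nat_lit 0x1c41873306) (nat_lit 1794))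
)))) (.node (nat_lit 0x1c5040474a) (.node (nat_lit 0x1c41873b46) (.node (nat_lit 0x1c41873b26) (.leaf (nat_lit 0x1c41873366) (nat_lit 2562))
 (.leaf (nat_lit 0x1c41873b26) (nat_lit 2820))
) (.node (nat_lit 0x1c5040430a) (.leaf (nat_lit 0x1c41873b46) (nat_lit 3329))
 (.node (nat_lit 0x1c5040431a) (.leaf (nat_lit 0x1c5040430a) (nat_lit 1028))
 (.leaf (nat_lit 0x1c5040431a) (nat_lit 2820))
))) (.node (nat_lit 0x1c5040535a) (.node (nat_lit 0x1c5040475a) (.leaf (nat_lit 0x1c5040474a) (nat_lit 2052))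
 (.node (nat_lit 0x1c5040534a) (.leaf (nat_lit 0x1c5040475a) (nat_lit 3331))
 (.leaf (nat_lit 0x1c5040534a) (nat_lit 1284))
)) (.node (nat_lit 0x1c5040570a) (.leaf (nat_lit 0x1c5040535a) (nat_lit 3076))
 (.node (nat_lit 0x1c5040571a) (.leaf (nat_lit 0x1c5040570a) (nat_lit 1796))
 (.leaf (nat_lit 0x1c5040571a) (nat_lit 3332))
)))))))) (.node (nat_lit 0x1c50c3f5ca) (.node (nat_lit 0x1c5046472a) (.node (nat_lit 0x1c50435b3a) (.node (nat_lit 0x1c50424f4a) (.node (nat_lit 0x1c5041533a) (.node (nat_lit 0x1c5041472a) (.node (nat_lit 0x1c5041437a) (.leaf (nat_lit 0x1c5041436a) (nat_lit 1792))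
 (.leaf (nat_lit 0x1c5041437a) (nat_lit 3331))
) (.node (nat_lit 0x1c5041473a) (.leaf (nat_lit 0x1c5041472a) (nat_lit 2564))
 (.node (nat_lit 0x1c5041532a) (.leaf (nat_lit 0x1c5041473a) (nat_lit 2563))
 (.leaf (nat_lit 0x1c5041532a) (nat_lit 2048))
))) (.node (nat_lit 0x1c5041577a) (.node (nat_lit 0x1c5041576a) (.leaf (nat_lit 0x1c5041533a) (nat_lit 3075))
 (.leaf (nat_lit 0x1c5041576a) (nat_lit 2308))
) (.node (nat_lit 0x1c50424b0a) (.leaf (nat_lit 0x1c5041577a) (nat_lit 2819))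
 (.node (nat_lit 0x1c50424b1a) (.leaf (nat_lit 0x1c50424b0a) (nat_lit 1539))
 (.leaf (nat_lit 0x1c50424b1a) (nat_lit 3585))
)))) (.node (nat_lit 0x1c50425f1a) (.node (nat_lit 0x1c50425b4a) (.node (nat_lit 0x1c50424f5a) (.leaf (nat_lit 0x1c50424f4a) (nat_lit 2563))
 (.leaf (nat_lit 0x1c50424f5a) (nat_lit 2561))
) (.node (nat_lit 0x1c50425b5a) (.leaf (nat_lit 0x1c50425b4a) (nat_lit 1795))
 (.node (nat_lit 0x1c50425f0a) (.leaf (nat_lit 0x1c50425b5a) (nat_lit 3329))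
 (.leaf (nat_lit 0x1c50425f0a) (nat_lit 2307))
))) (.node (nat_lit 0x1c50434f2a) (.node (nat_lit 0x1c50434b6a) (.leaf (nat_lit 0x1c50425f1a) (nat_lit 2817))
 (.node (nat_lit 0x1c50434b7a) (.leaf (nat_lit 0x1c50434b6a) (nat_lit 2048))
 (.leaf (nat_lit 0x1c50434b7a) (nat_lit 3075))
)) (.node (nat_lit 0x1c50434f3a) (.leaf (nat_lit 0x1c50434f2a) (nat_lit 3331))
 (.node (nat_lit 0x1c50435b2a) (.leaf (nat_lit 0x1c50434f3a) (nat_lit 1793))
 (.leaf (nat_lit 0x1c50435b2a) (nat_lit 2304))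
))))) (.node (nat_lit 0x1c50445f7a) (.node (nat_lit 0x1c50444f2a) (.node (nat_lit 0x1c50435f7a) (.node (nat_lit 0x1c50435f6a) (.leaf (nat_lit 0x1c50435b3a) (nat_lit 2819))
 (.leaf (nat_lit 0x1c50435f6a) (nat_lit 3075))
) (.node (nat_lit 0x1c50444b6a) (.leaf (nat_lit 0x1c50435f7a) (nat_lit 2049))
 (.node (nat_lit 0x1c50444b7a) (.leaf (nat_lit 0x1c50444b6a) (nat_lit 1795))
 (.leaf (nat_lit 0x1c50444b7a) (nat_lit 3328))
))) (.node (nat_lit 0x1c50445b2a) (.node (nat_lit 0x1c50444f3a) (.leaf (nat_lit 0x1c50444f2a) (nat_lit 3075))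
 (.leaf (nat_lit 0x1c50444f3a) (nat_lit 2049))
) (.node (nat_lit 0x1c50445b3a) (.leaf (nat_lit 0x1c50445b2a) (nat_lit 2051))
 (.node (nat_lit 0x1c50445f6a) (.leaf (nat_lit 0x1c50445b3a) (nat_lit 3072))
 (.leaf (nat_lit 0x1c50445f6a) (nat_lit 2819))
)))) (.node (nat_lit 0x1c50455b4a) (.node (nat_lit 0x1c50454b1a) (.node (nat_lit 0x1c50454b0a) (.leaf (nat_lit 0x1c50445f7a) (nat_lit 2305))
 (.leaf (nat_lit 0x1c50454b0a) (nat_lit 1792))
) (.node (nat_lit 0x1c50454f4a) (.leaf (nat_lit 0x1c50454b1a) (nat_lit 3329))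
 (.node (nat_lit 0x1c50454f5a) (.leaf (nat_lit 0x1c50454f4a) (nat_lit 2816))
 (.leaf (nat_lit 0x1c50454f5a) (nat_lit 2305))
))) (.node (nat_lit 0x1c50455f1a) (.node (nat_lit 0x1c50455b5a) (.leaf (nat_lit 0x1c50455b4a) (nat_lit 2048))
 (.node (nat_lit 0x1c50455f0a) (.leaf (nat_lit 0x1c50455b5a) (nat_lit 3073))
 (.leaf (nat_lit 0x1c50455f0a) (nat_lit 2560))
)) (.node (nat_lit 0x1c5046436a) (.leaf (nat_lit 0x1c50455f1a) (nat_lit 2561))
 (.node (nat_lit 0x1c5046437a) (.leaf (nat_lit 0x1c5046436a) (nat_lit 1539))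
 (.leaf (nat_lit 0x1c5046437a) (nat_lit 3332))
)))))) (.node (nat_lit 0x1c50c0f9ea) (.node (nat_lit 0x1c5047534a) (.node (nat_lit 0x1c5046577a) (.node (nat_lit 0x1c5046532a) (.node (nat_lit 0x1c5046473a) (.leaf (nat_lit 0x1c5046472a) (nat_lit 2308))
 (.leaf (nat_lit 0x1c5046473a) (nat_lit 2819))
) (.node (nat_lit 0x1c5046533a) (.leaf (nat_lit 0x1c5046532a) (nat_lit 1795))
 (.node (nat_lit 0x1c5046576a) (.leaf (nat_lit 0x1c5046533a) (nat_lit 3328))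
 (.leaf (nat_lit 0x1c5046576a) (nat_lit 2052))
))) (.node (nat_lit 0x1c5047431a) (.node (nat_lit 0x1c5047430a) (.leaf (nat_lit 0x1c5046577a) (nat_lit 3075))
 (.leaf (nat_lit 0x1c5047430a) (nat_lit 1284))
) (.node (nat_lit 0x1c5047474a) (.leaf (nat_lit 0x1c5047431a) (nat_lit 3076))
 (.node (nat_lit 0x1c5047475a) (.leaf (nat_lit 0x1c5047474a) (nat_lit 2308))
 (.leaf (nat_lit 0x1c5047475a) (nat_lit 3075))
)))) (.node (nat_lit 0x1c50c0e1ba) (.node (nat_lit 0x1c5047570a) (.node (nat_lit 0x1c5047535a) (.leaf (nat_lit 0x1c5047534a) (nat_lit 1540))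
 (.leaf (nat_lit 0x1c5047535a) (nat_lit 3332))
) (.node (nat_lit 0x1c5047571a) (.leaf (nat_lit 0x1c5047570a) (nat_lit 2052))
 (.node (nat_lit 0x1c50c0e18a) (.leaf (nat_lit 0x1c5047571a) (nat_lit 3331))
 (.leaf (nat_lit 0x1c50c0e18a) (nat_lit 1284))
))) (.node (nat_lit 0x1c50c0f58a) (.node (nat_lit 0x1c50c0edda) (.leaf (nat_lit 0x1c50c0e1ba) (nat_lit 2564))
 (.node (nat_lit 0x1c50c0edea) (.leaf (nat_lit 0x1c50c0edda) (nat_lit 3331))
 (.leaf (nat_lit 0x1c50c0edea) (nat_lit 2308))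
)) (.node (nat_lit 0x1c50c0f5ba) (.leaf (nat_lit 0x1c50c0f58a) (nat_lit 1796))
 (.node (nat_lit 0x1c50c0f9da) (.leaf (nat_lit 0x1c50c0f5ba) (nat_lit 3076))
 (.leaf (nat_lit 0x1c50c0f9da) (nat_lit 3076))
))))) (.node (nat_lit 0x1c50c2e5ea) (.node (nat_lit 0x1c50c1f19a) (.node (nat_lit 0x1c50c1e5aa) (.node (nat_lit 0x1c50c1e59a) (.leaf (nat_lit 0x1c50c0f9ea) (nat_lit 1796))
 (.leaf (nat_lit 0x1c50c1e59a) (nat_lit 2049))
) (.node (nat_lit 0x1c50c1e9ca) (.leaf (nat_lit 0x1c50c1e5aa) (nat_lit 3584))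
 (.node (nat_lit 0x1c50c1e9fa) (.leaf (nat_lit 0x1c50c1e9ca) (nat_lit 2048))
 (.leaf (nat_lit 0x1c50c1e9fa) (nat_lit 3584))
))) (.node (nat_lit 0x1c50c1fdca) (.node (nat_lit 0x1c50c1f1aa) (.leaf (nat_lit 0x1c50c1f19a) (nat_lit 2817))
 (.leaf (nat_lit 0x1c50c1f1aa) (nat_lit 2816))
) (.node (nat_lit 0x1c50c1fdfa) (.leaf (nat_lit 0x1c50c1fdca) (nat_lit 3075))
 (.node (nat_lit 0x1c50c2e5da) (.leaf (nat_lit 0x1c50c1fdfa) (nat_lit 2561))
 (.leaf (nat_lit 0x1c50c2e5da) (nat_lit 2561))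
)))) (.node (nat_lit 0x1c50c2fd8a) (.node (nat_lit 0x1c50c2e9ba) (.node (nat_lit 0x1c50c2e98a) (.leaf (nat_lit 0x1c50c2e5ea) (nat_lit 3075))
 (.leaf (nat_lit 0x1c50c2e98a) (nat_lit 1539))
) (.node (nat_lit 0x1c50c2f1da) (.leaf (nat_lit 0x1c50c2e9ba) (nat_lit 3075))
 (.node (nat_lit 0x1c50c2f1ea) (.leaf (nat_lit 0x1c50c2f1da) (nat_lit 3329))
 (.leaf (nat_lit 0x1c50c2f1ea) (nat_lit 2307))
))) (.node (nat_lit 0x1c50c3e1fa) (.node (nat_lit 0x1c50c2fdba) (.leaf (nat_lit 0x1c50c2fd8a) (nat_lit 2563))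
 (.node (nat_lit 0x1c50c3e1ca) (.leaf (nat_lit 0x1c50c2fdba) (nat_lit 3073))
 (.leaf (nat_lit 0x1c50c3e1ca) (nat_lit 1796))
)) (.node (nat_lit 0x1c50c3ed9a) (.leaf (nat_lit 0x1c50c3e1fa) (nat_lit 3076))
 (.node (nat_lit 0x1c50c3edaa) (.leaf (nat_lit 0x1c50c3ed9a) (nat_lit 2819))
 (.leaf (nat_lit 0x1c50c3edaa) (nat_lit 2820))
))))))) (.node (nat_lit 0x1c5100558a) (.node (nat_lit 0x1c50c6e5aa) (.node (nat_lit 0x1c50c4f99a) (.node (nat_lit 0x1c50c4e1fa) (.node (nat_lit 0x1c50c3f99a) (.node (nat_lit 0x1c50c3f5fa) (.leaf (nat_lit 0x1c50c3f5ca) (nat_lit 2308))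
 (.leaf (nat_lit 0x1c50c3f5fa) (nat_lit 3331))
) (.node (nat_lit 0x1c50c3f9aa) (.leaf (nat_lit 0x1c50c3f99a) (nat_lit 3331))
 (.node (nat_lit 0x1c50c4e1ca) (.leaf (nat_lit 0x1c50c3f9aa) (nat_lit 2308))
 (.leaf (nat_lit 0x1c50c4e1ca) (nat_lit 1540))
))) (.node (nat_lit 0x1c50c4edaa) (.node (nat_lit 0x1c50c4ed9a) (.leaf (nat_lit 0x1c50c4e1fa) (nat_lit 2820))
 (.leaf (nat_lit 0x1c50c4ed9a) (nat_lit 3075))
) (.node (nat_lit 0x1c50c4f5ca) (.leaf (nat_lit 0x1c50c4edaa) (nat_lit 2564))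
 (.node (nat_lit 0x1c50c4f5fa) (.leaf (nat_lit 0x1c50c4f5ca) (nat_lit 2052))
 (.leaf (nat_lit 0x1c50c4f5fa) (nat_lit 3332))
)))) (.node (nat_lit 0x1c50c5e9ba) (.node (nat_lit 0x1c50c5e5da) (.node (nat_lit 0x1c50c4f9aa) (.leaf (nat_lit 0x1c50c4f99a) (nat_lit 3332))
 (.leaf (nat_lit 0x1c50c4f9aa) (nat_lit 2052))
) (.node (nat_lit 0x1c50c5e5ea) (.leaf (nat_lit 0x1c50c5e5da) (nat_lit 2305))
 (.node (nat_lit 0x1c50c5e98a) (.leaf (nat_lit 0x1c50c5e5ea) (nat_lit 3328))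
 (.leaf (nat_lit 0x1c50c5e98a) (nat_lit 1792))
))) (.node (nat_lit 0x1c50c5fd8a) (.node (nat_lit 0x1c50c5f1da) (.leaf (nat_lit 0x1c50c5e9ba) (nat_lit 3328))
 (.node (nat_lit 0x1c50c5f1ea) (.leaf (nat_lit 0x1c50c5f1da) (nat_lit 3073))
 (.leaf (nat_lit 0x1c50c5f1ea) (nat_lit 2560))
)) (.node (nat_lit 0x1c50c5fdba) (.leaf (nat_lit 0x1c50c5fd8a) (nat_lit 2819))
 (.node (nat_lit 0x1c50c6e59a) (.leaf (nat_lit 0x1c50c5fdba) (nat_lit 2817))
 (.leaf (nat_lit 0x1c50c6e59a) (nat_lit 2305))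
))))) (.node (nat_lit 0x1c50c7edea) (.node (nat_lit 0x1c50c6fdca) (.node (nat_lit 0x1c50c6e9fa) (.node (nat_lit 0x1c50c6e9ca) (.leaf (nat_lit 0x1c50c6e5aa) (nat_lit 3331))
 (.leaf (nat_lit 0x1c50c6e9ca) (nat_lit 1795))
) (.node (nat_lit 0x1c50c6f19a) (.leaf (nat_lit 0x1c50c6e9fa) (nat_lit 3331))
 (.node (nat_lit 0x1c50c6f1aa) (.leaf (nat_lit 0x1c50c6f19a) (nat_lit 3073))
 (.leaf (nat_lit 0x1c50c6f1aa) (nat_lit 2563))
))) (.node (nat_lit 0x1c50c7e18a) (.node (nat_lit 0x1c50c6fdfa) (.leaf (nat_lit 0x1c50c6fdca) (nat_lit 2819))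
 (.leaf (nat_lit 0x1c50c6fdfa) (nat_lit 2817))
) (.node (nat_lit 0x1c50c7e1ba) (.leaf (nat_lit 0x1c50c7e18a) (nat_lit 1540))
 (.node (nat_lit 0x1c50c7edda) (.leaf (nat_lit 0x1c50c7e1ba) (nat_lit 2820))
 (.leaf (nat_lit 0x1c50c7edda) (nat_lit 3075))
)))) (.node (nat_lit 0x1c5100418a) (.node (nat_lit 0x1c50c7f5ba) (.node (nat_lit 0x1c50c7f58a) (.leaf (nat_lit 0x1c50c7edea) (nat_lit 2564))
 (.leaf (nat_lit 0x1c50c7f58a) (nat_lit 2052))
) (.node (nat_lit 0x1c50c7f9da) (.leaf (nat_lit 0x1c50c7f5ba) (nat_lit 3332))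
 (.node (nat_lit 0x1c50c7f9ea) (.leaf (nat_lit 0x1c50c7f9da) (nat_lit 3332))
 (.leaf (nat_lit 0x1c50c7f9ea) (nat_lit 2052))
))) (.node (nat_lit 0x1c510045da) (.node (nat_lit 0x1c510041ca) (.leaf (nat_lit 0x1c5100418a) (nat_lit 1282))
 (.node (nat_lit 0x1c5100459a) (.leaf (nat_lit 0x1c510041ca) (nat_lit 1538))
 (.leaf (nat_lit 0x1c5100459a) (nat_lit 2820))
)) (.node (nat_lit 0x1c5100519a) (.leaf (nat_lit 0x1c510045da) (nat_lit 3076))
 (.node (nat_lit 0x1c510051da) (.leaf (nat_lit 0x1c5100519a) (nat_lit 3332))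
 (.leaf (nat_lit 0x1c510051da) (nat_lit 3328))
)))))) (.node (nat_lit 0x1c510345ea) (.node (nat_lit 0x1c5102498a) (.node (nat_lit 0x1c51014dea) (.node (nat_lit 0x1c510149ba) (.node (nat_lit 0x1c510055ca) (.leaf (nat_lit 0x1c5100558a) (nat_lit 2050))
 (.leaf (nat_lit 0x1c510055ca) (nat_lit 2306))
) (.node (nat_lit 0x1c510149fa) (.leaf (nat_lit 0x1c510149ba) (nat_lit 2819))
 (.node (nat_lit 0x1c51014daa) (.leaf (nat_lit 0x1c510149fa) (nat_lit 3075))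
 (.leaf (nat_lit 0x1c51014daa) (nat_lit 2818))
))) (.node (nat_lit 0x1c510159ea) (.node (nat_lit 0x1c510159aa) (.leaf (nat_lit 0x1c51014dea) (nat_lit 2562))
 (.leaf (nat_lit 0x1c510159aa) (nat_lit 2304))
) (.node (nat_lit 0x1c51015dba) (.leaf (nat_lit 0x1c510159ea) (nat_lit 2048))
 (.node (nat_lit 0x1c51015dfa) (.leaf (nat_lit 0x1c51015dba) (nat_lit 3331))
 (.leaf (nat_lit 0x1c51015dfa) (nat_lit 3329))
)))) (.node (nat_lit 0x1c510259da) (.node (nat_lit 0x1c51024d9a) (.node (nat_lit 0x1c510249ca) (.leaf (nat_lit 0x1c5102498a) (nat_lit 1795))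
 (.leaf (nat_lit 0x1c510249ca) (nat_lit 2051))
) (.node (nat_lit 0x1c51024dda) (.leaf (nat_lit 0x1c51024d9a) (nat_lit 3331))
 (.node (nat_lit 0x1c5102599a) (.leaf (nat_lit 0x1c51024dda) (nat_lit 3587))
 (.leaf (nat_lit 0x1c5102599a) (nat_lit 3074))
))) (.node (nat_lit 0x1c510341ba) (.node (nat_lit 0x1c51025d8a) (.leaf (nat_lit 0x1c510259da) (nat_lit 2818))
 (.node (nat_lit 0x1c51025dca) (.leaf (nat_lit 0x1c51025d8a) (nat_lit 2563))
 (.leaf (nat_lit 0x1c51025dca) (nat_lit 2819))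
)) (.node (nat_lit 0x1c510341fa) (.leaf (nat_lit 0x1c510341ba) (nat_lit 2050))
 (.node (nat_lit 0x1c510345aa) (.leaf (nat_lit 0x1c510341fa) (nat_lit 2306))
 (.leaf (nat_lit 0x1c510345aa) (nat_lit 3587))
))))) (.node (nat_lit 0x1c510451ea) (.node (nat_lit 0x1c510441ba) (.node (nat_lit 0x1c510351ea) (.node (nat_lit 0x1c510351aa) (.leaf (nat_lit 0x1c510345ea) (nat_lit 3331))
 (.leaf (nat_lit 0x1c510351aa) (nat_lit 2560))
) (.node (nat_lit 0x1c510355ba) (.leaf (nat_lit 0x1c510351ea) (nat_lit 2304))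
 (.node (nat_lit 0x1c510355fa) (.leaf (nat_lit 0x1c510355ba) (nat_lit 3075))
 (.leaf (nat_lit 0x1c510355fa) (nat_lit 3331))
))) (.node (nat_lit 0x1c510445aa) (.node (nat_lit 0x1c510441fa) (.leaf (nat_lit 0x1c510441ba) (nat_lit 2306))
 (.leaf (nat_lit 0x1c510441fa) (nat_lit 2562))
) (.node (nat_lit 0x1c510445ea) (.leaf (nat_lit 0x1c510445aa) (nat_lit 3331))
 (.node (nat_lit 0x1c510451aa) (.leaf (nat_lit 0x1c510445ea) (nat_lit 3075))
 (.leaf (nat_lit 0x1c510451aa) (nat_lit 2307))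
)))) (.node (nat_lit 0x1c51054d9a) (.node (nat_lit 0x1c510455fa) (.node (nat_lit 0x1c510455ba) (.leaf (nat_lit 0x1c510451ea) (nat_lit 2051))
 (.leaf (nat_lit 0x1c510455ba) (nat_lit 3328))
) (.node (nat_lit 0x1c5105498a) (.leaf (nat_lit 0x1c510455fa) (nat_lit 3584))
 (.node (nat_lit 0x1c510549ca) (.leaf (nat_lit 0x1c5105498a) (nat_lit 2048))
 (.leaf (nat_lit 0x1c510549ca) (nat_lit 2304))
))) (.node (nat_lit 0x1c510559da) (.node (nat_lit 0x1c51054dda) (.leaf (nat_lit 0x1c51054d9a) (nat_lit 3586))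
 (.node (nat_lit 0x1c5105599a) (.leaf (nat_lit 0x1c51054dda) (nat_lit 3330))
 (.leaf (nat_lit 0x1c5105599a) (nat_lit 2818))
)) (.node (nat_lit 0x1c51055d8a) (.leaf (nat_lit 0x1c510559da) (nat_lit 2562))
 (.node (nat_lit 0x1c51055dca) (.leaf (nat_lit 0x1c51055d8a) (nat_lit 2816))
 (.leaf (nat_lit 0x1c51055dca) (nat_lit 3072))
))))))))) (.node (nat_lit 0x1c60c3e1cc) (.node (nat_lit 0x1c608032cc) (.node (nat_lit 0x1c5183eb1a) (.node (nat_lit 0x1c5180f76a) (.node (nat_lit 0x1c5107459a) (.node (nat_lit 0x1c510659ea) (.node (nat_lit 0x1c51064daa) (.node (nat_lit 0x1c510649fa) (.leaf (nat_lit 0x1c510649ba) (nat_lit 3075))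
 (.leaf (nat_lit 0x1c510649fa) (nat_lit 3331))
) (.node (nat_lit 0x1c51064dea) (.leaf (nat_lit 0x1c51064daa) (nat_lit 2562))
 (.node (nat_lit 0x1c510659aa) (.leaf (nat_lit 0x1c51064dea) (nat_lit 2306))
 (.leaf (nat_lit 0x1c510659aa) (nat_lit 2051))
))) (.node (nat_lit 0x1c51065dfa) (.node (nat_lit 0x1c51065dba) (.leaf (nat_lit 0x1c510659ea) (nat_lit 1795))
 (.leaf (nat_lit 0x1c51065dba) (nat_lit 3329))
) (.node (nat_lit 0x1c5107418a) (.leaf (nat_lit 0x1c51065dfa) (nat_lit 3073))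
 (.node (nat_lit 0x1c510741ca) (.leaf (nat_lit 0x1c5107418a) (nat_lit 1538))
 (.leaf (nat_lit 0x1c510741ca) (nat_lit 1794))
)))) (.node (nat_lit 0x1c510755ca) (.node (nat_lit 0x1c5107519a) (.node (nat_lit 0x1c510745da) (.leaf (nat_lit 0x1c5107459a) (nat_lit 3076))
 (.leaf (nat_lit 0x1c510745da) (nat_lit 3332))
) (.node (nat_lit 0x1c510751da) (.leaf (nat_lit 0x1c5107519a) (nat_lit 3331))
 (.node (nat_lit 0x1c5107558a) (.leaf (nat_lit 0x1c510751da) (nat_lit 3075))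
 (.leaf (nat_lit 0x1c5107558a) (nat_lit 2306))
))) (.node (nat_lit 0x1c5180ef3a) (.node (nat_lit 0x1c5180e30a) (.leaf (nat_lit 0x1c510755ca) (nat_lit 2562))
 (.node (nat_lit 0x1c5180e36a) (.leaf (nat_lit 0x1c5180e30a) (nat_lit 1538))
 (.leaf (nat_lit 0x1c5180e36a) (nat_lit 2050))
)) (.node (nat_lit 0x1c5180ef5a) (.leaf (nat_lit 0x1c5180ef3a) (nat_lit 2305))
 (.node (nat_lit 0x1c5180f70a) (.leaf (nat_lit 0x1c5180ef5a) (nat_lit 3073))
 (.leaf (nat_lit 0x1c5180f70a) (nat_lit 2050))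
))))) (.node (nat_lit 0x1c5181fb4a) (.node (nat_lit 0x1c5181ef2a) (.node (nat_lit 0x1c5180fb5a) (.node (nat_lit 0x1c5180fb3a) (.leaf (nat_lit 0x1c5180f76a) (nat_lit 2562))
 (.leaf (nat_lit 0x1c5180fb3a) (nat_lit 3076))
) (.node (nat_lit 0x1c5181e31a) (.leaf (nat_lit 0x1c5180fb5a) (nat_lit 3328))
 (.node (nat_lit 0x1c5181e37a) (.leaf (nat_lit 0x1c5181e31a) (nat_lit 2306))
 (.leaf (nat_lit 0x1c5181e37a) (nat_lit 2818))
))) (.node (nat_lit 0x1c5181f71a) (.node (nat_lit 0x1c5181ef4a) (.leaf (nat_lit 0x1c5181ef2a) (nat_lit 3331))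
 (.leaf (nat_lit 0x1c5181ef4a) (nat_lit 3072))
) (.node (nat_lit 0x1c5181f77a) (.leaf (nat_lit 0x1c5181f71a) (nat_lit 3074))
 (.node (nat_lit 0x1c5181fb2a) (.leaf (nat_lit 0x1c5181f77a) (nat_lit 3328))
 (.leaf (nat_lit 0x1c5181fb2a) (nat_lit 3072))
)))) (.node (nat_lit 0x1c5182f33a) (.node (nat_lit 0x1c5182e75a) (.node (nat_lit 0x1c5182e73a) (.leaf (nat_lit 0x1c5181fb4a) (nat_lit 2304))
 (.leaf (nat_lit 0x1c5182e73a) (nat_lit 2819))
) (.node (nat_lit 0x1c5182eb0a) (.leaf (nat_lit 0x1c5182e75a) (nat_lit 3586))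
 (.node (nat_lit 0x1c5182eb6a) (.leaf (nat_lit 0x1c5182eb0a) (nat_lit 1795))
 (.leaf (nat_lit 0x1c5182eb6a) (nat_lit 2563))
))) (.node (nat_lit 0x1c5182ff6a) (.node (nat_lit 0x1c5182f35a) (.leaf (nat_lit 0x1c5182f33a) (nat_lit 3330))
 (.node (nat_lit 0x1c5182ff0a) (.leaf (nat_lit 0x1c5182f35a) (nat_lit 2818))
 (.leaf (nat_lit 0x1c5182ff0a) (nat_lit 2563))
)) (.node (nat_lit 0x1c5183e72a) (.leaf (nat_lit 0x1c5182ff6a) (nat_lit 3075))
 (.node (nat_lit 0x1c5183e74a) (.leaf (nat_lit 0x1c5183e72a) (nat_lit 3074))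
 (.leaf (nat_lit 0x1c5183e74a) (nat_lit 2562))
)))))) (.node (nat_lit 0x1c5185ff6a) (.node (nat_lit 0x1c5184f32a) (.node (nat_lit 0x1c5183ff7a) (.node (nat_lit 0x1c5183f32a) (.node (nat_lit 0x1c5183eb7a) (.leaf (nat_lit 0x1c5183eb1a) (nat_lit 2819))
 (.leaf (nat_lit 0x1c5183eb7a) (nat_lit 3588))
) (.node (nat_lit 0x1c5183f34a) (.leaf (nat_lit 0x1c5183f32a) (nat_lit 2562))
 (.node (nat_lit 0x1c5183ff1a) (.leaf (nat_lit 0x1c5183f34a) (nat_lit 2050))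
 (.leaf (nat_lit 0x1c5183ff1a) (nat_lit 3585))
))) (.node (nat_lit 0x1c5184e74a) (.node (nat_lit 0x1c5184e72a) (.leaf (nat_lit 0x1c5183ff7a) (nat_lit 2817))
 (.leaf (nat_lit 0x1c5184e72a) (nat_lit 2818))
) (.node (nat_lit 0x1c5184eb1a) (.leaf (nat_lit 0x1c5184e74a) (nat_lit 2306))
 (.node (nat_lit 0x1c5184eb7a) (.leaf (nat_lit 0x1c5184eb1a) (nat_lit 3072))
 (.leaf (nat_lit 0x1c5184eb7a) (nat_lit 3332))
)))) (.node (nat_lit 0x1c5185e75a) (.node (nat_lit 0x1c5184ff1a) (.node (nat_lit 0x1c5184f34a) (.leaf (nat_lit 0x1c5184f32a) (nat_lit 2306))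
 (.leaf (nat_lit 0x1c5184f34a) (nat_lit 1794))
) (.node (nat_lit 0x1c5184ff7a) (.leaf (nat_lit 0x1c5184ff1a) (nat_lit 3329))
 (.node (nat_lit 0x1c5185e73a) (.leaf (nat_lit 0x1c5184ff7a) (nat_lit 2561))
 (.leaf (nat_lit 0x1c5185e73a) (nat_lit 3072))
))) (.node (nat_lit 0x1c5185f33a) (.node (nat_lit 0x1c5185eb0a) (.leaf (nat_lit 0x1c5185e75a) (nat_lit 3330))
 (.node (nat_lit 0x1c5185eb6a) (.leaf (nat_lit 0x1c5185eb0a) (nat_lit 2048))
 (.leaf (nat_lit 0x1c5185eb6a) (nat_lit 2816))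
)) (.node (nat_lit 0x1c5185f35a) (.leaf (nat_lit 0x1c5185f33a) (nat_lit 3074))
 (.node (nat_lit 0x1c5185ff0a) (.leaf (nat_lit 0x1c5185f35a) (nat_lit 2562))
 (.leaf (nat_lit 0x1c5185ff0a) (nat_lit 2816))
))))) (.node (nat_lit 0x1c5187e36a) (.node (nat_lit 0x1c5186f71a) (.node (nat_lit 0x1c5186e37a) (.node (nat_lit 0x1c5186e31a) (.leaf (nat_lit 0x1c5185ff6a) (nat_lit 3328))
 (.leaf (nat_lit 0x1c5186e31a) (nat_lit 2562))
) (.node (nat_lit 0x1c5186ef2a) (.leaf (nat_lit 0x1c5186e37a) (nat_lit 3074))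
 (.node (nat_lit 0x1c5186ef4a) (.leaf (nat_lit 0x1c5186ef2a) (nat_lit 3331))
 (.leaf (nat_lit 0x1c5186ef4a) (nat_lit 2819))
))) (.node (nat_lit 0x1c5186fb2a) (.node (nat_lit 0x1c5186f77a) (.leaf (nat_lit 0x1c5186f71a) (nat_lit 3330))
 (.leaf (nat_lit 0x1c5186f77a) (nat_lit 3075))
) (.node (nat_lit 0x1c5186fb4a) (.leaf (nat_lit 0x1c5186fb2a) (nat_lit 2819))
 (.node (nat_lit 0x1c5187e30a) (.leaf (nat_lit 0x1c5186fb4a) (nat_lit 2051))
 (.leaf (nat_lit 0x1c5187e30a) (nat_lit 1794))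
)))) (.node (nat_lit 0x1c5187fb3a) (.node (nat_lit 0x1c5187ef5a) (.node (nat_lit 0x1c5187ef3a) (.leaf (nat_lit 0x1c5187e36a) (nat_lit 2306))
 (.leaf (nat_lit 0x1c5187ef3a) (nat_lit 2561))
) (.node (nat_lit 0x1c5187f70a) (.leaf (nat_lit 0x1c5187ef5a) (nat_lit 3329))
 (.node (nat_lit 0x1c5187f76a) (.leaf (nat_lit 0x1c5187f70a) (nat_lit 2306))
 (.leaf (nat_lit 0x1c5187f76a) (nat_lit 2818))
))) (.node (nat_lit 0x1c608022ac) (.node (nat_lit 0x1c5187fb5a) (.leaf (nat_lit 0x1c5187fb3a) (nat_lit 3332))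
 (.node (nat_lit 0x1c6080228c) (.leaf (nat_lit 0x1c5187fb5a) (nat_lit 3075))
 (.leaf (nat_lit 0x1c6080228c) (nat_lit 1284))
)) (.node (nat_lit 0x1c60802acc) (.leaf (nat_lit 0x1c608022ac) (nat_lit 2564))
 (.node (nat_lit 0x1c60802aec) (.leaf (nat_lit 0x1c60802acc) (nat_lit 2052))
 (.leaf (nat_lit 0x1c60802aec) (nat_lit 3074))
))))))) (.node (nat_lit 0x1c60853adc) (.node (nat_lit 0x1c608326fc) (.node (nat_lit 0x1c60813e8c) (.node (nat_lit 0x1c608126ac) (.node (nat_lit 0x1c60803a8c) (.node (nat_lit 0x1c608032ec) (.leaf (nat_lit 0x1c608032cc) (nat_lit 1540))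
 (.leaf (nat_lit 0x1c608032ec) (nat_lit 2820))
) (.node (nat_lit 0x1c60803aac) (.leaf (nat_lit 0x1c60803a8c) (nat_lit 1796))
 (.node (nat_lit 0x1c6081268c) (.leaf (nat_lit 0x1c60803aac) (nat_lit 2818))
 (.leaf (nat_lit 0x1c6081268c) (nat_lit 2051))
))) (.node (nat_lit 0x1c60812eec) (.node (nat_lit 0x1c60812ecc) (.leaf (nat_lit 0x1c608126ac) (nat_lit 3331))
 (.leaf (nat_lit 0x1c60812ecc) (nat_lit 2819))
) (.node (nat_lit 0x1c608136cc) (.leaf (nat_lit 0x1c60812eec) (nat_lit 3073))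
 (.node (nat_lit 0x1c608136ec) (.leaf (nat_lit 0x1c608136cc) (nat_lit 2307))
 (.leaf (nat_lit 0x1c608136ec) (nat_lit 3329))
)))) (.node (nat_lit 0x1c60822abc) (.node (nat_lit 0x1c608222dc) (.node (nat_lit 0x1c60813eac) (.leaf (nat_lit 0x1c60813e8c) (nat_lit 2563))
 (.leaf (nat_lit 0x1c60813eac) (nat_lit 3329))
) (.node (nat_lit 0x1c608222fc) (.leaf (nat_lit 0x1c608222dc) (nat_lit 2560))
 (.node (nat_lit 0x1c60822a9c) (.leaf (nat_lit 0x1c608222fc) (nat_lit 3330))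
 (.leaf (nat_lit 0x1c60822a9c) (nat_lit 3076))
))) (.node (nat_lit 0x1c60823adc) (.node (nat_lit 0x1c6082329c) (.leaf (nat_lit 0x1c60822abc) (nat_lit 2819))
 (.node (nat_lit 0x1c608232bc) (.leaf (nat_lit 0x1c6082329c) (nat_lit 2816))
 (.leaf (nat_lit 0x1c608232bc) (nat_lit 3331))
)) (.node (nat_lit 0x1c60823afc) (.leaf (nat_lit 0x1c60823adc) (nat_lit 2820))
 (.node (nat_lit 0x1c608326dc) (.leaf (nat_lit 0x1c60823afc) (nat_lit 3075))
 (.leaf (nat_lit 0x1c608326dc) (nat_lit 2816))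
))))) (.node (nat_lit 0x1c60842ebc) (.node (nat_lit 0x1c60833edc) (.node (nat_lit 0x1c60832ebc) (.node (nat_lit 0x1c60832e9c) (.leaf (nat_lit 0x1c608326fc) (nat_lit 3073))
 (.leaf (nat_lit 0x1c60832e9c) (nat_lit 3073))
) (.node (nat_lit 0x1c6083369c) (.leaf (nat_lit 0x1c60832ebc) (nat_lit 2049))
 (.node (nat_lit 0x1c608336bc) (.leaf (nat_lit 0x1c6083369c) (nat_lit 3072))
 (.leaf (nat_lit 0x1c608336bc) (nat_lit 2817))
))) (.node (nat_lit 0x1c608426dc) (.node (nat_lit 0x1c60833efc) (.leaf (nat_lit 0x1c60833edc) (nat_lit 3329))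
 (.leaf (nat_lit 0x1c60833efc) (nat_lit 2305))
) (.node (nat_lit 0x1c608426fc) (.leaf (nat_lit 0x1c608426dc) (nat_lit 2563))
 (.node (nat_lit 0x1c60842e9c) (.leaf (nat_lit 0x1c608426fc) (nat_lit 3329))
 (.leaf (nat_lit 0x1c60842e9c) (nat_lit 3331))
)))) (.node (nat_lit 0x1c608522dc) (.node (nat_lit 0x1c608436bc) (.node (nat_lit 0x1c6084369c) (.leaf (nat_lit 0x1c60842ebc) (nat_lit 2305))
 (.leaf (nat_lit 0x1c6084369c) (nat_lit 2819))
) (.node (nat_lit 0x1c60843edc) (.leaf (nat_lit 0x1c608436bc) (nat_lit 3073))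
 (.node (nat_lit 0x1c60843efc) (.leaf (nat_lit 0x1c60843edc) (nat_lit 3075))
 (.leaf (nat_lit 0x1c60843efc) (nat_lit 2561))
))) (.node (nat_lit 0x1c60852abc) (.node (nat_lit 0x1c608522fc) (.leaf (nat_lit 0x1c608522dc) (nat_lit 2307))
 (.node (nat_lit 0x1c60852a9c) (.leaf (nat_lit 0x1c608522fc) (nat_lit 3074))
 (.leaf (nat_lit 0x1c60852a9c) (nat_lit 2820))
)) (.node (nat_lit 0x1c6085329c) (.leaf (nat_lit 0x1c60852abc) (nat_lit 3075))
 (.node (nat_lit 0x1c608532bc) (.leaf (nat_lit 0x1c6085329c) (nat_lit 2563))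
 (.leaf (nat_lit 0x1c608532bc) (nat_lit 3330))
)))))) (.node (nat_lit 0x1c60c0edec) (.node (nat_lit 0x1c6087228c) (.node (nat_lit 0x1c60862eec) (.node (nat_lit 0x1c6086268c) (.node (nat_lit 0x1c60853afc) (.leaf (nat_lit 0x1c60853adc) (nat_lit 2564))
 (.leaf (nat_lit 0x1c60853afc) (nat_lit 3331))
) (.node (nat_lit 0x1c608626ac) (.leaf (nat_lit 0x1c6086268c) (nat_lit 2307))
 (.node (nat_lit 0x1c60862ecc) (.leaf (nat_lit 0x1c608626ac) (nat_lit 3329))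
 (.leaf (nat_lit 0x1c60862ecc) (nat_lit 3075))
))) (.node (nat_lit 0x1c608636ec) (.node (nat_lit 0x1c608636cc) (.leaf (nat_lit 0x1c60862eec) (nat_lit 2817))
 (.leaf (nat_lit 0x1c608636cc) (nat_lit 2563))
) (.node (nat_lit 0x1c60863e8c) (.leaf (nat_lit 0x1c608636ec) (nat_lit 3073))
 (.node (nat_lit 0x1c60863eac) (.leaf (nat_lit 0x1c60863e8c) (nat_lit 2819))
 (.leaf (nat_lit 0x1c60863eac) (nat_lit 3073))
)))) (.node (nat_lit 0x1c608732ec) (.node (nat_lit 0x1c60872acc) (.node (nat_lit 0x1c608722ac) (.leaf (nat_lit 0x1c6087228c) (nat_lit 1540))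
 (.leaf (nat_lit 0x1c608722ac) (nat_lit 2820))
) (.node (nat_lit 0x1c60872aec) (.leaf (nat_lit 0x1c60872acc) (nat_lit 2308))
 (.node (nat_lit 0x1c608732cc) (.leaf (nat_lit 0x1c60872aec) (nat_lit 3330))
 (.leaf (nat_lit 0x1c608732cc) (nat_lit 1796))
))) (.node (nat_lit 0x1c60c0e18c) (.node (nat_lit 0x1c60873a8c) (.leaf (nat_lit 0x1c608732ec) (nat_lit 3076))
 (.node (nat_lit 0x1c60873aac) (.leaf (nat_lit 0x1c60873a8c) (nat_lit 2052))
 (.leaf (nat_lit 0x1c60873aac) (nat_lit 3074))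
)) (.node (nat_lit 0x1c60c0e1bc) (.leaf (nat_lit 0x1c60c0e18c) (nat_lit 1284))
 (.node (nat_lit 0x1c60c0eddc) (.leaf (nat_lit 0x1c60c0e1bc) (nat_lit 2562))
 (.leaf (nat_lit 0x1c60c0eddc) (nat_lit 2564))
))))) (.node (nat_lit 0x1c60c1f1ec) (.node (nat_lit 0x1c60c1e58c) (.node (nat_lit 0x1c60c0f5ec) (.node (nat_lit 0x1c60c0f5dc) (.leaf (nat_lit 0x1c60c0edec) (nat_lit 3075))
 (.leaf (nat_lit 0x1c60c0f5dc) (nat_lit 2052))
) (.node (nat_lit 0x1c60c0f98c) (.leaf (nat_lit 0x1c60c0f5ec) (nat_lit 3332))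
 (.node (nat_lit 0x1c60c0f9bc) (.leaf (nat_lit 0x1c60c0f98c) (nat_lit 1540))
 (.leaf (nat_lit 0x1c60c0f9bc) (nat_lit 3074))
))) (.node (nat_lit 0x1c60c1e9dc) (.node (nat_lit 0x1c60c1e5bc) (.leaf (nat_lit 0x1c60c1e58c) (nat_lit 1795))
 (.leaf (nat_lit 0x1c60c1e5bc) (nat_lit 3331))
) (.node (nat_lit 0x1c60c1e9ec) (.leaf (nat_lit 0x1c60c1e9dc) (nat_lit 3331))
 (.node (nat_lit 0x1c60c1f1dc) (.leaf (nat_lit 0x1c60c1e9ec) (nat_lit 2305))
 (.leaf (nat_lit 0x1c60c1f1dc) (nat_lit 2563))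
)))) (.node (nat_lit 0x1c60c2e99c) (.node (nat_lit 0x1c60c1fdbc) (.node (nat_lit 0x1c60c1fd8c) (.leaf (nat_lit 0x1c60c1f1ec) (nat_lit 3073))
 (.leaf (nat_lit 0x1c60c1fd8c) (nat_lit 2307))
) (.node (nat_lit 0x1c60c2e5cc) (.leaf (nat_lit 0x1c60c1fdbc) (nat_lit 3329))
 (.node (nat_lit 0x1c60c2e5fc) (.leaf (nat_lit 0x1c60c2e5cc) (nat_lit 2304))
 (.leaf (nat_lit 0x1c60c2e5fc) (nat_lit 3329))
))) (.node (nat_lit 0x1c60c2f1ac) (.node (nat_lit 0x1c60c2e9ac) (.leaf (nat_lit 0x1c60c2e99c) (nat_lit 3329))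
 (.node (nat_lit 0x1c60c2f19c) (.leaf (nat_lit 0x1c60c2e9ac) (nat_lit 1793))
 (.leaf (nat_lit 0x1c60c2f19c) (nat_lit 3072))
)) (.node (nat_lit 0x1c60c2fdcc) (.leaf (nat_lit 0x1c60c2f1ac) (nat_lit 2561))
 (.node (nat_lit 0x1c60c2fdfc) (.leaf (nat_lit 0x1c60c2fdcc) (nat_lit 2819))
 (.leaf (nat_lit 0x1c60c2fdfc) (nat_lit 2817))
)))))))) (.node (nat_lit 0x1c6105359c) (.node (nat_lit 0x1c610029ac) (.node (nat_lit 0x1c60c5f1ac) (.node (nat_lit 0x1c60c4ed9c) (.node (nat_lit 0x1c60c3f5ac) (.node (nat_lit 0x1c60c3ed9c) (.node (nat_lit 0x1c60c3e1fc) (.leaf (nat_lit 0x1c60c3e1cc) (nat_lit 1796))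
 (.leaf (nat_lit 0x1c60c3e1fc) (nat_lit 3074))
) (.node (nat_lit 0x1c60c3edac) (.leaf (nat_lit 0x1c60c3ed9c) (nat_lit 3076))
 (.node (nat_lit 0x1c60c3f59c) (.leaf (nat_lit 0x1c60c3edac) (nat_lit 2563))
 (.leaf (nat_lit 0x1c60c3f59c) (nat_lit 2564))
))) (.node (nat_lit 0x1c60c3f9fc) (.node (nat_lit 0x1c60c3f9cc) (.leaf (nat_lit 0x1c60c3f5ac) (nat_lit 3075))
 (.leaf (nat_lit 0x1c60c3f9cc) (nat_lit 2052))
) (.node (nat_lit 0x1c60c4e1cc) (.leaf (nat_lit 0x1c60c3f9fc) (nat_lit 3586))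
 (.node (nat_lit 0x1c60c4e1fc) (.leaf (nat_lit 0x1c60c4e1cc) (nat_lit 1540))
 (.leaf (nat_lit 0x1c60c4e1fc) (nat_lit 2818))
)))) (.node (nat_lit 0x1c60c4f9fc) (.node (nat_lit 0x1c60c4f59c) (.node (nat_lit 0x1c60c4edac) (.leaf (nat_lit 0x1c60c4ed9c) (nat_lit 2820))
 (.leaf (nat_lit 0x1c60c4edac) (nat_lit 2819))
) (.node (nat_lit 0x1c60c4f5ac) (.leaf (nat_lit 0x1c60c4f59c) (nat_lit 2308))
 (.node (nat_lit 0x1c60c4f9cc) (.leaf (nat_lit 0x1c60c4f5ac) (nat_lit 3328))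
 (.leaf (nat_lit 0x1c60c4f9cc) (nat_lit 1796))
))) (.node (nat_lit 0x1c60c5e99c) (.node (nat_lit 0x1c60c5e5cc) (.leaf (nat_lit 0x1c60c4f9fc) (nat_lit 3330))
 (.node (nat_lit 0x1c60c5e5fc) (.leaf (nat_lit 0x1c60c5e5cc) (nat_lit 2051))
 (.leaf (nat_lit 0x1c60c5e5fc) (nat_lit 3587))
)) (.node (nat_lit 0x1c60c5e9ac) (.leaf (nat_lit 0x1c60c5e99c) (nat_lit 3587))
 (.node (nat_lit 0x1c60c5f19c) (.leaf (nat_lit 0x1c60c5e9ac) (nat_lit 2049))
 (.leaf (nat_lit 0x1c60c5f19c) (nat_lit 2819))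
))))) (.node (nat_lit 0x1c60c6fdbc) (.node (nat_lit 0x1c60c6e9dc) (.node (nat_lit 0x1c60c5fdfc) (.node (nat_lit 0x1c60c5fdcc) (.leaf (nat_lit 0x1c60c5f1ac) (nat_lit 2817))
 (.leaf (nat_lit 0x1c60c5fdcc) (nat_lit 2563))
) (.node (nat_lit 0x1c60c6e58c) (.leaf (nat_lit 0x1c60c5fdfc) (nat_lit 3073))
 (.node (nat_lit 0x1c60c6e5bc) (.leaf (nat_lit 0x1c60c6e58c) (nat_lit 2048))
 (.leaf (nat_lit 0x1c60c6e5bc) (nat_lit 3585))
))) (.node (nat_lit 0x1c60c6f1dc) (.node (nat_lit 0x1c60c6e9ec) (.leaf (nat_lit 0x1c60c6e9dc) (nat_lit 3585))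
 (.leaf (nat_lit 0x1c60c6e9ec) (nat_lit 2049))
) (.node (nat_lit 0x1c60c6f1ec) (.leaf (nat_lit 0x1c60c6f1dc) (nat_lit 2816))
 (.node (nat_lit 0x1c60c6fd8c) (.leaf (nat_lit 0x1c60c6f1ec) (nat_lit 2817))
 (.leaf (nat_lit 0x1c60c6fd8c) (nat_lit 2563))
)))) (.node (nat_lit 0x1c60c7f5dc) (.node (nat_lit 0x1c60c7e1bc) (.node (nat_lit 0x1c60c7e18c) (.leaf (nat_lit 0x1c60c6fdbc) (nat_lit 3073))
 (.leaf (nat_lit 0x1c60c7e18c) (nat_lit 1540))
) (.node (nat_lit 0x1c60c7eddc) (.leaf (nat_lit 0x1c60c7e1bc) (nat_lit 2818))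
 (.node (nat_lit 0x1c60c7edec) (.leaf (nat_lit 0x1c60c7eddc) (nat_lit 2820))
 (.leaf (nat_lit 0x1c60c7edec) (nat_lit 2819))
))) (.node (nat_lit 0x1c60c7f9bc) (.node (nat_lit 0x1c60c7f5ec) (.leaf (nat_lit 0x1c60c7f5dc) (nat_lit 2308))
 (.node (nat_lit 0x1c60c7f98c) (.leaf (nat_lit 0x1c60c7f5ec) (nat_lit 3331))
 (.leaf (nat_lit 0x1c60c7f98c) (nat_lit 1796))
)) (.node (nat_lit 0x1c6100218c) (.leaf (nat_lit 0x1c60c7f9bc) (nat_lit 3330))
 (.node (nat_lit 0x1c610021cc) (.leaf (nat_lit 0x1c6100218c) (nat_lit 1538))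
 (.leaf (nat_lit 0x1c610021cc) (nat_lit 1794))
)))))) (.node (nat_lit 0x1c61023dfc) (.node (nat_lit 0x1c610135ac) (.node (nat_lit 0x1c610039cc) (.node (nat_lit 0x1c610031ac) (.node (nat_lit 0x1c610029ec) (.leaf (nat_lit 0x1c610029ac) (nat_lit 2308))
 (.leaf (nat_lit 0x1c610029ec) (nat_lit 2564))
) (.node (nat_lit 0x1c610031ec) (.leaf (nat_lit 0x1c610031ac) (nat_lit 2564))
 (.node (nat_lit 0x1c6100398c) (.leaf (nat_lit 0x1c610031ec) (nat_lit 2820))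
 (.leaf (nat_lit 0x1c6100398c) (nat_lit 2050))
))) (.node (nat_lit 0x1c610125cc) (.node (nat_lit 0x1c6101258c) (.leaf (nat_lit 0x1c610039cc) (nat_lit 2306))
 (.leaf (nat_lit 0x1c6101258c) (nat_lit 2307))
) (.node (nat_lit 0x1c61012dac) (.leaf (nat_lit 0x1c610125cc) (nat_lit 2563))
 (.node (nat_lit 0x1c61012dec) (.leaf (nat_lit 0x1c61012dac) (nat_lit 3075))
 (.leaf (nat_lit 0x1c61012dec) (nat_lit 3331))
)))) (.node (nat_lit 0x1c610225fc) (.node (nat_lit 0x1c61013d8c) (.node (nat_lit 0x1c610135ec) (.leaf (nat_lit 0x1c610135ac) (nat_lit 3331))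
 (.leaf (nat_lit 0x1c610135ec) (nat_lit 3330))
) (.node (nat_lit 0x1c61013dcc) (.leaf (nat_lit 0x1c61013d8c) (nat_lit 2563))
 (.node (nat_lit 0x1c610225bc) (.leaf (nat_lit 0x1c61013dcc) (nat_lit 2819))
 (.leaf (nat_lit 0x1c610225bc) (nat_lit 3075))
))) (.node (nat_lit 0x1c6102359c) (.node (nat_lit 0x1c61022d9c) (.leaf (nat_lit 0x1c610225fc) (nat_lit 3331))
 (.node (nat_lit 0x1c61022ddc) (.leaf (nat_lit 0x1c61022d9c) (nat_lit 3330))
 (.leaf (nat_lit 0x1c61022ddc) (nat_lit 3074))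
)) (.node (nat_lit 0x1c610235dc) (.leaf (nat_lit 0x1c6102359c) (nat_lit 3072))
 (.node (nat_lit 0x1c61023dbc) (.leaf (nat_lit 0x1c610235dc) (nat_lit 2816))
 (.leaf (nat_lit 0x1c61023dbc) (nat_lit 3329))
))))) (.node (nat_lit 0x1c610421fc) (.node (nat_lit 0x1c6103319c) (.node (nat_lit 0x1c610321fc) (.node (nat_lit 0x1c610321bc) (.leaf (nat_lit 0x1c61023dfc) (nat_lit 3073))
 (.leaf (nat_lit 0x1c610321bc) (nat_lit 2306))
) (.node (nat_lit 0x1c6103299c) (.leaf (nat_lit 0x1c610321fc) (nat_lit 2562))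
 (.node (nat_lit 0x1c610329dc) (.leaf (nat_lit 0x1c6103299c) (nat_lit 3332))
 (.leaf (nat_lit 0x1c610329dc) (nat_lit 3588))
))) (.node (nat_lit 0x1c610339bc) (.node (nat_lit 0x1c610331dc) (.leaf (nat_lit 0x1c6103319c) (nat_lit 3328))
 (.leaf (nat_lit 0x1c610331dc) (nat_lit 3072))
) (.node (nat_lit 0x1c610339fc) (.leaf (nat_lit 0x1c610339bc) (nat_lit 2820))
 (.node (nat_lit 0x1c610421bc) (.leaf (nat_lit 0x1c610339fc) (nat_lit 3076))
 (.leaf (nat_lit 0x1c610421bc) (nat_lit 2562))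
)))) (.node (nat_lit 0x1c610439bc) (.node (nat_lit 0x1c610429dc) (.node (nat_lit 0x1c6104299c) (.leaf (nat_lit 0x1c610421fc) (nat_lit 2818))
 (.leaf (nat_lit 0x1c6104299c) (nat_lit 3587))
) (.node (nat_lit 0x1c6104319c) (.leaf (nat_lit 0x1c610429dc) (nat_lit 3331))
 (.node (nat_lit 0x1c610431dc) (.leaf (nat_lit 0x1c6104319c) (nat_lit 3075))
 (.leaf (nat_lit 0x1c610431dc) (nat_lit 2819))
))) (.node (nat_lit 0x1c610525fc) (.node (nat_lit 0x1c610439fc) (.leaf (nat_lit 0x1c610439bc) (nat_lit 3076))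
 (.node (nat_lit 0x1c610525bc) (.leaf (nat_lit 0x1c610439fc) (nat_lit 3332))
 (.leaf (nat_lit 0x1c610525bc) (nat_lit 3331))
)) (.node (nat_lit 0x1c61052d9c) (.leaf (nat_lit 0x1c610525fc) (nat_lit 3329))
 (.node (nat_lit 0x1c61052ddc) (.leaf (nat_lit 0x1c61052d9c) (nat_lit 3074))
 (.leaf (nat_lit 0x1c61052ddc) (nat_lit 2818))
))))))) (.node (nat_lit 0x1c6142faac) (.node (nat_lit 0x1c6140e2dc) (.node (nat_lit 0x1c61063d8c) (.node (nat_lit 0x1c610625cc) (.node (nat_lit 0x1c61053dbc) (.node (nat_lit 0x1c610535dc) (.leaf (nat_lit 0x1c6105359c) (nat_lit 2819))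
 (.leaf (nat_lit 0x1c610535dc) (nat_lit 2563))
) (.node (nat_lit 0x1c61053dfc) (.leaf (nat_lit 0x1c61053dbc) (nat_lit 3073))
 (.node (nat_lit 0x1c6106258c) (.leaf (nat_lit 0x1c61053dfc) (nat_lit 2817))
 (.leaf (nat_lit 0x1c6106258c) (nat_lit 2563))
))) (.node (nat_lit 0x1c61062dec) (.node (nat_lit 0x1c61062dac) (.leaf (nat_lit 0x1c610625cc) (nat_lit 2819))
 (.leaf (nat_lit 0x1c61062dac) (nat_lit 3328))
) (.node (nat_lit 0x1c610635ac) (.leaf (nat_lit 0x1c61062dec) (nat_lit 3330))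
 (.node (nat_lit 0x1c610635ec) (.leaf (nat_lit 0x1c610635ac) (nat_lit 3330))
 (.leaf (nat_lit 0x1c610635ec) (nat_lit 3074))
)))) (.node (nat_lit 0x1c610729ec) (.node (nat_lit 0x1c6107218c) (.node (nat_lit 0x1c61063dcc) (.leaf (nat_lit 0x1c61063d8c) (nat_lit 2816))
 (.leaf (nat_lit 0x1c61063dcc) (nat_lit 3072))
) (.node (nat_lit 0x1c610721cc) (.leaf (nat_lit 0x1c6107218c) (nat_lit 1794))
 (.node (nat_lit 0x1c610729ac) (.leaf (nat_lit 0x1c610721cc) (nat_lit 2050))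
 (.leaf (nat_lit 0x1c610729ac) (nat_lit 2564))
))) (.node (nat_lit 0x1c6107398c) (.node (nat_lit 0x1c610731ac) (.leaf (nat_lit 0x1c610729ec) (nat_lit 2820))
 (.node (nat_lit 0x1c610731ec) (.leaf (nat_lit 0x1c610731ac) (nat_lit 2820))
 (.leaf (nat_lit 0x1c610731ec) (nat_lit 3076))
)) (.node (nat_lit 0x1c610739cc) (.leaf (nat_lit 0x1c6107398c) (nat_lit 2306))
 (.node (nat_lit 0x1c6140e28c) (.leaf (nat_lit 0x1c610739cc) (nat_lit 2562))
 (.leaf (nat_lit 0x1c6140e28c) (nat_lit 1540))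
))))) (.node (nat_lit 0x1c6141eaec) (.node (nat_lit 0x1c6140fa8c) (.node (nat_lit 0x1c6140eeec) (.node (nat_lit 0x1c6140eebc) (.leaf (nat_lit 0x1c6140e2dc) (nat_lit 2306))
 (.leaf (nat_lit 0x1c6140eebc) (nat_lit 2308))
) (.node (nat_lit 0x1c6140f6bc) (.leaf (nat_lit 0x1c6140eeec) (nat_lit 3332))
 (.node (nat_lit 0x1c6140f6ec) (.leaf (nat_lit 0x1c6140f6bc) (nat_lit 2820))
 (.leaf (nat_lit 0x1c6140f6ec) (nat_lit 3072))
))) (.node (nat_lit 0x1c6141e68c) (.node (nat_lit 0x1c6140fadc) (.leaf (nat_lit 0x1c6140fa8c) (nat_lit 1794))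
 (.leaf (nat_lit 0x1c6140fadc) (nat_lit 2818))
) (.node (nat_lit 0x1c6141e6dc) (.leaf (nat_lit 0x1c6141e68c) (nat_lit 2051))
 (.node (nat_lit 0x1c6141eabc) (.leaf (nat_lit 0x1c6141e6dc) (nat_lit 2819))
 (.leaf (nat_lit 0x1c6141eabc) (nat_lit 3075))
)))) (.node (nat_lit 0x1c6142e2ac) (.node (nat_lit 0x1c6141f2ec) (.node (nat_lit 0x1c6141f2bc) (.leaf (nat_lit 0x1c6141eaec) (nat_lit 3076))
 (.leaf (nat_lit 0x1c6141f2bc) (nat_lit 3586))
) (.node (nat_lit 0x1c6141fe8c) (.leaf (nat_lit 0x1c6141f2ec) (nat_lit 2562))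
 (.node (nat_lit 0x1c6141fedc) (.leaf (nat_lit 0x1c6141fe8c) (nat_lit 2563))
 (.leaf (nat_lit 0x1c6141fedc) (nat_lit 3588))
))) (.node (nat_lit 0x1c6142eecc) (.node (nat_lit 0x1c6142e2fc) (.leaf (nat_lit 0x1c6142e2ac) (nat_lit 2050))
 (.node (nat_lit 0x1c6142ee9c) (.leaf (nat_lit 0x1c6142e2fc) (nat_lit 3074))
 (.leaf (nat_lit 0x1c6142ee9c) (nat_lit 3076))
)) (.node (nat_lit 0x1c6142f69c) (.leaf (nat_lit 0x1c6142eecc) (nat_lit 3075))
 (.node (nat_lit 0x1c6142f6cc) (.leaf (nat_lit 0x1c6142f69c) (nat_lit 3328))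
 (.leaf (nat_lit 0x1c6142f6cc) (nat_lit 2560))
)))))) (.node (nat_lit 0x1c6145eecc) (.node (nat_lit 0x1c6144e6ac) (.node (nat_lit 0x1c6143eacc) (.node (nat_lit 0x1c6143e6ac) (.node (nat_lit 0x1c6142fafc) (.leaf (nat_lit 0x1c6142faac) (nat_lit 2564))
 (.leaf (nat_lit 0x1c6142fafc) (nat_lit 3584))
) (.node (nat_lit 0x1c6143e6fc) (.leaf (nat_lit 0x1c6143e6ac) (nat_lit 2563))
 (.node (nat_lit 0x1c6143ea9c) (.leaf (nat_lit 0x1c6143e6fc) (nat_lit 3332))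
 (.leaf (nat_lit 0x1c6143ea9c) (nat_lit 3330))
))) (.node (nat_lit 0x1c6143f2cc) (.node (nat_lit 0x1c6143f29c) (.leaf (nat_lit 0x1c6143eacc) (nat_lit 2306))
 (.leaf (nat_lit 0x1c6143f29c) (nat_lit 2818))
) (.node (nat_lit 0x1c6143feac) (.leaf (nat_lit 0x1c6143f2cc) (nat_lit 2052))
 (.node (nat_lit 0x1c6143fefc) (.leaf (nat_lit 0x1c6143feac) (nat_lit 3075))
 (.leaf (nat_lit 0x1c6143fefc) (nat_lit 2820))
)))) (.node (nat_lit 0x1c6144f2cc) (.node (nat_lit 0x1c6144ea9c) (.node (nat_lit 0x1c6144e6fc) (.leaf (nat_lit 0x1c6144e6ac) (nat_lit 2816))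
 (.leaf (nat_lit 0x1c6144e6fc) (nat_lit 3076))
) (.node (nat_lit 0x1c6144eacc) (.leaf (nat_lit 0x1c6144ea9c) (nat_lit 3074))
 (.node (nat_lit 0x1c6144f29c) (.leaf (nat_lit 0x1c6144eacc) (nat_lit 2050))
 (.leaf (nat_lit 0x1c6144f29c) (nat_lit 2562))
))) (.node (nat_lit 0x1c6145e2ac) (.node (nat_lit 0x1c6144feac) (.leaf (nat_lit 0x1c6144f2cc) (nat_lit 1796))
 (.node (nat_lit 0x1c6144fefc) (.leaf (nat_lit 0x1c6144feac) (nat_lit 3328))
 (.leaf (nat_lit 0x1c6144fefc) (nat_lit 2564))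
)) (.node (nat_lit 0x1c6145e2fc) (.leaf (nat_lit 0x1c6145e2ac) (nat_lit 2306))
 (.node (nat_lit 0x1c6145ee9c) (.leaf (nat_lit 0x1c6145e2fc) (nat_lit 3330))
 (.leaf (nat_lit 0x1c6145ee9c) (nat_lit 3332))
))))) (.node (nat_lit 0x1c6146f2ec) (.node (nat_lit 0x1c6146e68c) (.node (nat_lit 0x1c6145f6cc) (.node (nat_lit 0x1c6145f69c) (.leaf (nat_lit 0x1c6145eecc) (nat_lit 2819))
 (.leaf (nat_lit 0x1c6145f69c) (nat_lit 3075))
) (.node (nat_lit 0x1c6145faac) (.leaf (nat_lit 0x1c6145f6cc) (nat_lit 2307))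
 (.node (nat_lit 0x1c6145fafc) (.leaf (nat_lit 0x1c6145faac) (nat_lit 2820))
 (.leaf (nat_lit 0x1c6145fafc) (nat_lit 3331))
))) (.node (nat_lit 0x1c6146eabc) (.node (nat_lit 0x1c6146e6dc) (.leaf (nat_lit 0x1c6146e68c) (nat_lit 2304))
 (.leaf (nat_lit 0x1c6146e6dc) (nat_lit 3072))
) (.node (nat_lit 0x1c6146eaec) (.leaf (nat_lit 0x1c6146eabc) (nat_lit 3328))
 (.node (nat_lit 0x1c6146f2bc) (.leaf (nat_lit 0x1c6146eaec) (nat_lit 2820))
 (.leaf (nat_lit 0x1c6146f2bc) (nat_lit 3330))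
)))) (.node (nat_lit 0x1c6147eebc) (.node (nat_lit 0x1c6146fedc) (.node (nat_lit 0x1c6146fe8c) (.leaf (nat_lit 0x1c6146f2ec) (nat_lit 2306))
 (.leaf (nat_lit 0x1c6146fe8c) (nat_lit 2819))
) (.node (nat_lit 0x1c6147e28c) (.leaf (nat_lit 0x1c6146fedc) (nat_lit 3332))
 (.node (nat_lit 0x1c6147e2dc) (.leaf (nat_lit 0x1c6147e28c) (nat_lit 1796))
 (.leaf (nat_lit 0x1c6147e2dc) (nat_lit 2562))
))) (.node (nat_lit 0x1c6147f6ec) (.node (nat_lit 0x1c6147eeec) (.leaf (nat_lit 0x1c6147eebc) (nat_lit 2564))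
 (.node (nat_lit 0x1c6147f6bc) (.leaf (nat_lit 0x1c6147eeec) (nat_lit 3331))
 (.leaf (nat_lit 0x1c6147f6bc) (nat_lit 3076))
)) (.node (nat_lit 0x1c6147fa8c) (.leaf (nat_lit 0x1c6147f6ec) (nat_lit 2819))
 (.node (nat_lit 0x1c6147fadc) (.leaf (nat_lit 0x1c6147fa8c) (nat_lit 2050))
 (.leaf (nat_lit 0x1c6147fadc) (nat_lit 3074))
))))))))))))))

theorem P3_ok : genOK A2 [(nat_lit 0x1020448102), (nat_lit 0x1030408106), (nat_lit 0x1020c08182), (nat_lit 0x1820408302), (nat_lit 0x106040c102)] P3_t (nat_lit 10752) = true := by decide +kernel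

end Cfsg.Agent.SF6
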