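import Mathlib
import Cfsg.Agent.SF6.Data
import Cfsg.Agent.SF6.DataP
import Cfsg.Agent.SF6.DataQ
import Cfsg.Agent.Loc.MssSyl

/-!
An involution `t` centralising a subgroup `L ≅ Sp₆(2)`: letters, listed subgroups, configurations.
Model and python helper: tools/sf6/m.py.
-/

set_option autoImplicit false
set_option linter.unusedSectionVars false
set_option maxRecDepth 100000
set_option synthInstance.maxSize 100000
set_option synthInstance.maxHeartbeats 1000000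

namespace Cfsg.Agent.SF6

open Cfsg.Agent.Rec Cfsg.Agent.Spor Cfsg.Agent.Loc.Mss Subgroup

/-- Letters with the codes of `t` and of elements of `Sp₆(2)`. -/
structure Pre (G : Type*) [Group G] where
  (t x1 x2 x3 x12 x13 x23 x123 y a b c d r w2 w3 n m : G)
  C : Cod A2 G
  rep : C.RepL cX [t, x1, x2, x3, x12, x13, x23, x123, y, a, b, c, d, r, w2, w3, n, m]
  card : Nat.card (clos [x3, w3, r, n, d, m]) = 1451520
  tL : t ∉ clos [x3, w3, r, n, d, m]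

variable {G : Type*} [Group G]

namespace Pre

variable (s : Pre G)

/-- Generators of `L`. -/
abbrev gL : List G := [s.x3, s.w3, s.r, s.n, s.d, s.m]
/-- The group `Sp₆(2)`. -/
def L : Subgroup G := clos s.gL
/-- The radical of the stabiliser of the plane, of order 64. -/
def V6 : Subgroup G := clos [s.x1, s.x2, s.x3, s.y, s.a, s.b]
/-- `⟨t⟩ × V6`, of order 128. -/
def W : Subgroup G := clos [s.t, s.x1, s.x2, s.x3, s.y, s.a, s.b]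
/-- The alternating part of `V6`, of order 8. -/
def A3 : Subgroup G := clos [s.y, s.a, s.b]
/-- The transvections on the line of `y`, of order 8. -/
def Z3 : Subgroup G := clos [s.x1, s.x2, s.y]
/-- `⟨t⟩ × Z3`, of order 16. -/
def W4 : Subgroup G := clos [s.t, s.x1, s.x2, s.y]
/-- The centre of `U`, of order 4. -/
def ZU : Subgroup G := clos [s.x1, s.y]
/-- `O₂(C_L(x1))`, of order 32. -/
def V5 : Subgroup G := clos [s.x1, s.y, s.a, s.c, s.r]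
/-- `⟨t⟩ × V5`, of order 64. -/
def W5 : Subgroup G := clos [s.t, s.x1, s.y, s.a, s.c, s.r]
/-- `O₂(C_L(y))`, of order 128. -/
def Q2 : Subgroup G := clos [s.x1, s.x2, s.y, s.a, s.b, s.c, s.d]
/-- `C_L(Z3)`, of order 768. -/
def C2 : Subgroup G := clos [s.x1, s.x2, s.a, s.b, s.c, s.d, s.x3, s.w3]
/-- A Sylow 2-subgroup of `L`, of order 512. -/
def U : Subgroup G := clos [s.x3, s.r, s.d, s.x2]
/-- `⟨t⟩ × U`, of order 1024. -/
def T : Subgroup G := clos [s.t, s.x3, s.r, s.d, s.x2]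
/-- A complement to `V6` in `U`, of order 8. -/
def D8 : Subgroup G := clos [s.r, s.d]
/-- The stabiliser of `y` in `L3`, of order 24. -/
def Sl : Subgroup G := clos [s.r, s.n, s.d]
/-- The stabiliser of `x1` in `L3`, of order 24. -/
def Sp : Subgroup G := clos [s.r, s.d, s.m]
/-- The Levi factor `L₃(2)`, of order 168. -/
def L3 : Subgroup G := clos [s.r, s.n, s.d, s.m]
/-- `C_L(x1, y)`, of order 1536. -/
def P12 : Subgroup G := clos [s.x3, s.w3, s.r, s.d, s.x2]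
/-- `C_L(y)`, of order 4608. -/
def P2 : Subgroup G := clos [s.x3, s.w3, s.r, s.n, s.d]
/-- `N_L(V6)`, of order 10752. -/
def P3 : Subgroup G := clos [s.x3, s.r, s.n, s.d, s.m]
/-- The 63 transvections. -/
def K1 : Set G := cls s.gL s.x1
/-- The 315 involutions of type `a₂`. -/
def K2 : Set G := cls s.gL s.y
/-- The 945 involutions of type `c₂`. -/
def K3 : Set G := cls s.gL (s.x1 * s.y)
/-- The 3780 involutions of type `b₃`. -/
def K4 : Set G := cls s.gL (s.x1 * s.x2 * s.x3)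
/-- The seven transvections in `V6`. -/
def Pts : Set G := {g | g ∈ [s.x1, s.x2, s.x3, s.x12, s.x13, s.x23, s.x123]}

theorem gV6 : s.C.Lists V6_t.dom s.V6 ∧ Nat.card s.V6 = 64 :=
  (s.rep.pick [1, 2, 3, 8, 9, 10]).gen V6_ok
theorem gW : s.C.Lists W_t.dom s.W ∧ Nat.card s.W = 128 :=
  (s.rep.pick [0, 1, 2, 3, 8, 9, 10]).gen W_ok
theorem gA3 : s.C.Lists A3_t.dom s.A3 ∧ Nat.card s.A3 = 8 :=
  (s.rep.pick [8, 9, 10]).gen A3_ok
theorem gZ3 : s.C.Lists Z3_t.dom s.Z3 ∧ Nat.card s.Z3 = 8 :=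
  (s.rep.pick [1, 2, 8]).gen Z3_ok
theorem gW4 : s.C.Lists W4_t.dom s.W4 ∧ Nat.card s.W4 = 16 :=
  (s.rep.pick [0, 1, 2, 8]).gen W4_ok
theorem gZU : s.C.Lists ZU_t.dom s.ZU ∧ Nat.card s.ZU = 4 :=
  (s.rep.pick [1, 8]).gen ZU_ok
theorem gV5 : s.C.Lists V5_t.dom s.V5 ∧ Nat.card s.V5 = 32 :=
  (s.rep.pick [1, 8, 9, 11, 13]).gen V5_ok
theorem gW5 : s.C.Lists W5_t.dom s.W5 ∧ Nat.card s.W5 = 64 :=
  (s.rep.pick [0, 1, 8, 9, 11, 13]).gen W5_ok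
theorem gQ2 : s.C.Lists Q2_t.dom s.Q2 ∧ Nat.card s.Q2 = 128 :=
  (s.rep.pick [1, 2, 8, 9, 10, 11, 12]).gen Q2_ok
theorem gC2 : s.C.Lists C2_t.dom s.C2 ∧ Nat.card s.C2 = 768 :=
  (s.rep.pick [1, 2, 9, 10, 11, 12, 3, 15]).gen C2_ok
theorem gU : s.C.Lists U_t.dom s.U ∧ Nat.card s.U = 512 :=
  (s.rep.pick [3, 13, 12, 2]).gen U_ok
theorem gT : s.C.Lists T_t.dom s.T ∧ Nat.card s.T = 1024 :=
  (s.rep.pick [0, 3, 13, 12, 2]).gen T_ok
theorem gD8 : s.C.Lists D8_t.dom s.D8 ∧ Nat.card s.D8 = 8 :=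
  (s.rep.pick [13, 12]).gen D8_ok
theorem gSl : s.C.Lists Sl_t.dom s.Sl ∧ Nat.card s.Sl = 24 :=
  (s.rep.pick [13, 16, 12]).gen Sl_ok
theorem gSp : s.C.Lists Sp_t.dom s.Sp ∧ Nat.card s.Sp = 24 :=
  (s.rep.pick [13, 12, 17]).gen Sp_ok
theorem gL3 : s.C.Lists L3_t.dom s.L3 ∧ Nat.card s.L3 = 168 :=
  (s.rep.pick [13, 16, 12, 17]).gen L3_ok
theorem gP12 : s.C.Lists P12_t.dom s.P12 ∧ Nat.card s.P12 = 1536 :=
  (s.rep.pick [3, 15, 13, 12, 2]).gen P12_ok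
theorem gP2 : s.C.Lists P2_t.dom s.P2 ∧ Nat.card s.P2 = 4608 :=
  (s.rep.pick [3, 15, 13, 16, 12]).gen P2_ok
theorem gP3 : s.C.Lists P3_t.dom s.P3 ∧ Nat.card s.P3 = 10752 :=
  (s.rep.pick [3, 13, 16, 12, 17]).gen P3_ok
theorem gK1 : s.C.Lists K1_t.dom s.K1 ∧ s.K1.ncard = 63 := (s.rep.pick [3, 15, 13, 16, 12, 17]).orb (s.rep.nth 1) K1_ok
theorem gK2 : s.C.Lists K2_t.dom s.K2 ∧ s.K2.ncard = 315 := (s.rep.pick [3, 15, 13, 16, 12, 17]).orb (s.rep.nth 8) K2_ok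
theorem gK3 : s.C.Lists K3_t.dom s.K3 ∧ s.K3.ncard = 945 :=
  (s.rep.pick [3, 15, 13, 16, 12, 17]).orb (s.rep.term _ (by decide +kernel)) K3_ok
theorem gK4 : s.C.Lists K4_t.dom s.K4 ∧ s.K4.ncard = 3780 :=
  (s.rep.pick [3, 15, 13, 16, 12, 17]).orb (s.rep.term _ (by decide +kernel)) K4_ok
theorem gPts : s.C.Lists (listDom ([1, 2, 3, 4, 5, 6, 7].map (nth A2.one cX))) s.Pts :=
  (s.rep.pick [1, 2, 3, 4, 5, 6, 7]).lists

/-- All listed sets: `s.hL.decide s.rep (by decide +kernel)` decides statements about them. -/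
theorem hL : s.C.ListsL
    [V6_t.dom, W_t.dom, A3_t.dom, Z3_t.dom, W4_t.dom, ZU_t.dom, V5_t.dom, W5_t.dom, Q2_t.dom, C2_t.dom, U_t.dom, T_t.dom, D8_t.dom, Sl_t.dom, Sp_t.dom, L3_t.dom, P12_t.dom, P2_t.dom, P3_t.dom, K1_t.dom, K2_t.dom, K3_t.dom, K4_t.dom, listDom ([1, 2, 3, 4, 5, 6, 7].map (nth A2.one cX))]
    [s.V6, s.W, s.A3, s.Z3, s.W4, s.ZU, s.V5, s.W5, s.Q2, s.C2, s.U, s.T, s.D8, s.Sl, s.Sp, s.L3, s.P12, s.P2, s.P3, s.K1, s.K2, s.K3, s.K4, s.Pts] :=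
  s.gV6.1.cons <| s.gW.1.cons <| s.gA3.1.cons <| s.gZ3.1.cons <| s.gW4.1.cons <| s.gZU.1.cons <| s.gV5.1.cons <| s.gW5.1.cons <| s.gQ2.1.cons <| s.gC2.1.cons <| s.gU.1.cons <| s.gT.1.cons <| s.gD8.1.cons <| s.gSl.1.cons <| s.gSp.1.cons <| s.gL3.1.cons <| s.gP12.1.cons <| s.gP2.1.cons <| s.gP3.1.cons <| s.gK1.1.cons <| s.gK2.1.cons <| s.gK3.1.cons <| s.gK4.1.cons <| s.gPts.cons Cod.listsL_nil

/-- The conjugates of `t`. -/
def D : Set G := {g | IsConj s.t g}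
/-- Elements centralising `V6` that move `t` to `t v`. -/
def Φ (v : G) : Set G := {e | (∀ u ∈ s.V6, e * u = u * e) ∧ e * s.t * e⁻¹ = s.t * v}
/-- The elements of `N(W)` centralising `V6`. -/
def E : Subgroup G := 𝐂[s.V6] ⊓ 𝐍[s.W]

/-- `α` acts on `W` as a translation of the eight elements `t`, `t p` (`p` in `Pts`). -/
structure Kp (α : G) : Prop where
  t : α * s.t * α⁻¹ = s.t * s.x1
  x1 : α * s.x1 * α⁻¹ = s.x1
  x2 : α * s.x2 * α⁻¹ = s.x2 * s.y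
  x3 : α * s.x3 * α⁻¹ = s.x3 * s.a
  y : α * s.y * α⁻¹ = s.y
  a : α * s.a * α⁻¹ = s.a
  b : α * s.b * α⁻¹ = s.b

/-- The good involution moving `t` to `t y`. -/
structure Hat (f : G) : Prop where
  mem : f ∈ s.Φ s.y
  sq : f * f = 1
  c2 : ∀ g ∈ s.C2, f * g = g * f
  r : f * s.r * f⁻¹ = s.r ∨ f * s.r * f⁻¹ = s.r * s.x1

/-- An elementary abelian group `B` with `C_B(t) = V6` and `[B, t] = A`, of order `64 |A|` (`A = A3` or `V6`). -/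
structure Big (A B : Subgroup G) : Prop where
  le : s.V6 ≤ B
  sq : ∀ e ∈ B, e * e = 1
  tB : s.t ∉ B
  tau : ∀ e ∈ B, ∃ v ∈ A, e ∈ s.Φ v
  onto : ∀ v ∈ A, ∃ e ∈ B, e ∈ s.Φ v
  max : ∀ v ∈ A, v ≠ 1 → ∀ e ∈ s.Φ v, e * e = 1 → e ∈ B
  card : Nat.card B = 64 * Nat.card A
  norm : s.P3 ≤ 𝐍[B]

/-- The configuration of `L₇(2)` and `U₇(2)`. -/
structure Sev (B : Subgroup G) : Prop where
  big : s.Big s.A3 B
  onto : ∀ v ∈ s.V6, ∃ e ∈ s.Φ v, e ∈ 𝐂[B]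
  sq : ∀ p ∈ s.Pts, ∀ v ∈ s.A3, ∀ e ∈ s.Φ (p * v), e ∈ 𝐂[B] → e * e = p
  comm : ∀ e ∈ s.Φ s.x1, ∀ e' ∈ s.Φ s.x2, e ∈ 𝐂[B] → e' ∈ 𝐂[B] → e * e' = s.y * (e' * e)

end Pre

/-- `C(t) = ⟨t⟩ × L`. -/
structure Cfg (G : Type*) [Group G] extends Pre G where
  cent : ∀ g, g * t = t * g → g ∈ toPre.L ∨ t * g ∈ toPre.L

end Cfsg.Agent.SF6
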