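import Mathlib
import Cfsg.Agent.SF6.Defs
import Cfsg.Agent.T16.SpMod
import Cfsg.Agent.Rec.Loc

/-!
The letters exist in every subgroup isomorphic to `Sp₆(2)` centralised by an involution outside it.
-/

set_option autoImplicit false
set_option linter.unusedSectionVars false
set_option maxRecDepth 100000
set_option synthInstance.maxSize 100000
set_option synthInstance.maxHeartbeats 1000000

namespace Cfsg.Agent.SF6

open Cfsg Cfsg.Agent.Rec Cfsg.Agent.Spor Cfsg.Agent.Loc.Mss Subgroup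
open scoped commutatorElement

variable {G : Type*} [Group G] [Finite G]

namespace K0

/-- The codes of the letters in `Sp₆(2)`. -/
noncomputable def cL : List ℕ := [(nat_lit 0x810204089), (nat_lit 0x810204481), (nat_lit 0x810224081),
  (nat_lit 0x810204699), (nat_lit 0x81022c0a9), (nat_lit 0x810234c81), (nat_lit 0x81023ceb9), (nat_lit 0x810204291),
  (nat_lit 0x81020c0a1), (nat_lit 0x810214881), (nat_lit 0xa10204085), (nat_lit 0xc10204181), (nat_lit 0x818204083),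
  (nat_lit 0x812204081), (nat_lit 0x910204081), (nat_lit 0x8106040c1), (nat_lit 0x830206081)]

/-- The letters as words in seven transvections. -/
def w1 : List (List ℕ) :=
  [[0, 1, 0, 2, 1, 0, 3, 2, 1, 0, 4, 3, 2, 1, 0, 6, 3, 2, 1, 0, 4, 3, 2, 1, 6, 3, 2, 4, 3, 6], [0], [6],
   [1, 0, 2, 1, 3, 2, 4, 3, 6, 3, 2, 1, 0, 4, 3, 2, 1], [4], [2], [3, 2, 4, 3, 6, 3, 2, 4, 3],
   [2, 3, 2, 4, 3, 2, 6, 3, 2, 4, 3, 6],
   [0, 1, 0, 2, 1, 0, 3, 2, 1, 0, 4, 3, 2, 1, 6, 3, 2, 1, 0, 4, 3, 2, 1, 6, 3, 2, 4, 3], [0, 2, 6],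
   [0, 1, 0, 2, 1, 0, 3, 2, 1, 4, 3, 2, 6, 3, 2, 1, 0, 4, 3, 2, 1, 6, 3, 2], [0, 2, 3, 2, 6, 3, 2],
   [0, 1, 2, 3, 2, 4, 3, 2, 6, 3, 2, 1, 0, 4, 3, 6], [1], [3], [0, 4, 3, 2, 5, 4, 3, 2, 6, 3, 2, 4, 3, 5, 4],
   [0, 1, 0, 2, 1, 0, 6]]

/-- The seven transvections as words in six letters. -/
def w2 : List (List ℕ) :=
  [[5, 4, 0, 4, 5], [4, 5, 1, 5, 4], [4, 0, 4], [1], [3, 2, 4, 0, 4, 2, 3], [2, 3, 4, 5, 1, 5, 3, 4, 2], [0]]

theorem w1_ok : beqL (w1.map (evC B6.A T16.Sp6.cS)) cL = true := by decide +kernel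

theorem w2_ok : beqL (w2.map (evC B6.A ([2, 14, 12, 15, 11, 16].map (nth B6.A.one cL)))) T16.Sp6.cS = true := by
  decide +kernel

theorem cX_eq : beqL ((2 * B6.A.one + 1) :: cL.map (2 * ·)) cX = true := by decide +kernel

omit [Finite G] in
theorem rep2 {A : Ar} {C : Cod A G} {L : Subgroup G} {t : G} (tt : t * t = 1) (hL : t ∉ L)
    (hc : ∀ l ∈ L, l * t = t * l) {c : List ℕ} {e : List G} (h : C.RepL c e) (he : ∀ x ∈ e, x ∈ L) :
    (cod2 C L tt hL hc).RepL (c.map (2 * ·)) e := by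
  induction h with
  | nil => exact Cod.repL_nil
  | @cons a x c e h _ ih =>
    refine Cod.Rep.cons ⟨?_, ?_⟩ (ih fun y hy => he y (List.mem_cons_of_mem _ hy))
    · change C.V (2 * a / 2) ∧ C.elt (2 * a / 2) ∈ L
      rw [Nat.mul_div_cancel_left _ two_pos, h.2]
      exact ⟨h.1, he x List.mem_cons_self⟩
    · change C.elt (2 * a / 2) * t ^ (2 * a) = x
      rw [Nat.mul_div_cancel_left _ two_pos, h.2, pow_mul, pow_two, tt, one_pow, mul_one]

omit [Finite G] in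
theorem rept {A : Ar} {C : Cod A G} {L : Subgroup G} {t : G} (tt : t * t = 1) (hL : t ∉ L)
    (hc : ∀ l ∈ L, l * t = t * l) : (cod2 C L tt hL hc).Rep (2 * A.one + 1) t := by
  have h : (2 * A.one + 1) / 2 = A.one := by omega
  refine ⟨?_, ?_⟩
  · change C.V ((2 * A.one + 1) / 2) ∧ C.elt ((2 * A.one + 1) / 2) ∈ L
    rw [h, C.elt_one]
    exact ⟨C.V_one, one_mem _⟩
  · change C.elt ((2 * A.one + 1) / 2) * t ^ (2 * A.one + 1) = t
    rw [h, C.elt_one, one_mul, pow_succ, pow_mul, pow_two, tt, one_pow, one_mul]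

end K0

namespace Pre

variable (s : Pre G)

omit s in
theorem exists_pre {L : Subgroup G} (e : L ≃* Matrix.symplecticGroup (Fin 3) (ZMod 2)) {t : G} (tt : t * t = 1)
    (hL : t ∉ L) (hc : ∀ l ∈ L, l * t = t * l) : ∃ s : Pre G, s.L = L ∧ s.t = t := by
  obtain ⟨φ⟩ := T16.Sp6.s0.equiv
  obtain ⟨C, e7, h7, hcl⟩ := T16.Sp6.s0.rep0.transport (H := L) (φ.trans e.symm)
  have h17 := h7.words K0.w1 K0.w1_ok
  have hm : ∀ x ∈ K0.w1.map (evalW (nth 1 e7)), x ∈ L := fun x hx => hcl ▸ clos_words_le e7 K0.w1 (mem_clos hx)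
  generalize K0.w1.map (evalW (nth 1 e7)) = l at h17 hm
  have h6 := h17.pick [2, 14, 12, 15, 11, 16]
  have hg : clos ([2, 14, 12, 15, 11, 16].map (nth 1 l)) = L := by
    refine le_antisymm (clos_le.2 fun x hx => ?_) ?_
    · obtain ⟨i, -, rfl⟩ := List.mem_map.1 hx
      exact clos_le.2 hm (nth_mem_clos l i)
    · rw [← hcl, h7.unique (h6.words K0.w2 K0.w2_ok)]
      exact clos_words_le _ _
  have hr := (K0.rept (C := C) tt hL hc).cons (K0.rep2 tt hL hc h17 hm)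
  rw [eq_of_beqL K0.cX_eq] at hr
  have hlen : l.length = 17 := h17.length_eq.symm
  match l, hlen with
  | [x1, x2, x3, x12, x13, x23, x123, y, a, b, c, d, r, w2, w3, n, m], _ =>
    have hg' : clos [x3, w3, r, n, d, m] = L := hg
    exact ⟨⟨t, x1, x2, x3, x12, x13, x23, x123, y, a, b, c, d, r, w2, w3, n, m, cod2 C L tt hL hc, hr,
      by rw [hg', Nat.card_congr e.toEquiv, T16.Sp6.card_sp], by rwa [hg']⟩, hg', rfl⟩

end Pre

end Cfsg.Agent.SF6
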