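import Mathlib
import Cfsg.Agent.SF6.Defs
import Cfsg.Agent.FG.ZLPar

/-! Facts about `⟨t⟩ × Sp₆(2)`. -/

set_option autoImplicit false
set_option linter.unusedSectionVars false
set_option maxRecDepth 100000
set_option synthInstance.maxSize 100000
set_option synthInstance.maxHeartbeats 1000000

namespace Cfsg.Agent.SF6

open Cfsg Cfsg.Agent.Rec Cfsg.Agent.Spor Cfsg.Agent.Loc.Mss Subgroup
open scoped commutatorElement

variable {G : Type*} [Group G] [Finite G]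

/-- Orbit counting determines a centraliser. -/
theorem cent_of_card {K L : Subgroup G} {z : G} (hKL : K ≤ L) (hK : ∀ k ∈ K, k * z = z * k) {S : Set G}
    (hS : ∀ u ∈ S, ∃ g ∈ L, g * z * g⁻¹ = u) (hc : S.ncard * Nat.card K = Nat.card L) {g : G} (hg : g ∈ L)
    (h : g * z = z * g) : g ∈ K := by
  have h1 := mul_card_le_of_conj (K := L ⊓ centralizer {z}) inf_le_left
    (fun k hk => mem_centralizer_singleton_iff.1 hk.2) hS
  rw [← hc] at h1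
  have h2 : 0 < S.ncard := Nat.pos_of_ne_zero fun e => by
    rw [e, zero_mul] at hc; exact (Nat.card_pos (α := L)).ne hc
  have h3 : K = L ⊓ centralizer {z} := eq_of_le_of_card_ge
    (le_inf hKL fun k hk => mem_centralizer_singleton_iff.2 (hK k hk)) (Nat.le_of_mul_le_mul_left h1 h2)
  rw [h3]; exact ⟨hg, mem_centralizer_singleton_iff.2 h⟩

omit [Finite G] in
theorem comm_of_sq2 {W : Subgroup G} (h : ∀ g ∈ W, g * g = 1) {g k : G} (hg : g ∈ W) (hk : k ∈ W) : g * k = k * g := by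
  rw [← inv_eq_of_mul_eq_one_right (h _ (mul_mem hg hk)), mul_inv_rev, inv_eq_of_mul_eq_one_right (h _ hg),
    inv_eq_of_mul_eq_one_right (h _ hk)]

/-- Adjoining an element of an elementary abelian group. -/
theorem adjoin {A W : Subgroup G} (hA : A ≤ W) (hW : ∀ g ∈ W, g * g = 1) {w : G} (hw : w ∈ W) (h : w ∉ A) :
    ∃ A' : Subgroup G, A' ≤ W ∧ Nat.card A' = 2 * Nat.card A ∧ ∀ g, g ∈ A' ↔ g ∈ A ∨ w * g ∈ A := by
  have hn : w ∈ 𝐍[A] := cent_le_norm A (mem_cent.2 fun a ha => comm_of_sq2 hW (hA ha) hw)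
  have h2 : w * w ∈ A := by rw [hW w hw]; exact one_mem _
  exact ⟨A ⊔ zpowers w, sup_le hA (zpowers_le.2 hw), FG.ZL.card_ext hn h2 h, fun g => FG.ZL.mem_ext hn h2⟩

theorem two_mul_card_le {A W : Subgroup G} (hA : A ≤ W) (hW : ∀ g ∈ W, g * g = 1) {w : G} (hw : w ∈ W) (h : w ∉ A) :
    2 * Nat.card A ≤ Nat.card W := by
  obtain ⟨A', h1, h2, -⟩ := adjoin hA hW hw h
  exact h2 ▸ card_le_of_le h1

theorem four_mul_card_le {A W : Subgroup G} (hA : A ≤ W) (hW : ∀ g ∈ W, g * g = 1) {u v : G} (hu : u ∈ W) (hv : v ∈ W)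
    (h1 : u ∉ A) (h2 : v ∉ A) (h3 : u * v ∉ A) : 4 * Nat.card A ≤ Nat.card W := by
  obtain ⟨A', k1, k2, k3⟩ := adjoin hA hW hu h1
  have := two_mul_card_le k1 hW hv fun h => ((k3 v).1 h).elim h2 h3
  omega

theorem eight_mul_card_le {A W : Subgroup G} (hA : A ≤ W) (hW : ∀ g ∈ W, g * g = 1) {u v w : G} (hu : u ∈ W) (hv : v ∈ W)
    (hw : w ∈ W) (h1 : u ∉ A) (h2 : v ∉ A) (h3 : u * v ∉ A) (h4 : w ∉ A) (h5 : u * w ∉ A) (h6 : v * w ∉ A)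
    (h7 : u * (v * w) ∉ A) : 8 * Nat.card A ≤ Nat.card W := by
  obtain ⟨A', k1, k2, k3⟩ := adjoin hA hW hu h1
  have := four_mul_card_le k1 hW hv hw (fun h => ((k3 v).1 h).elim h2 h3) (fun h => ((k3 w).1 h).elim h4 h5)
    fun h => ((k3 _).1 h).elim h6 h7
  omega

namespace Pre

variable (s : Pre G)

theorem tt : s.t * s.t = 1 := s.hL.decide s.rep (by decide +kernel)
theorem t_comm {l : G} (hl : l ∈ s.L) : l * s.t = s.t * l :=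
  (commute_clos (g := s.t) (by
    simp only [List.forall_mem_cons, List.not_mem_nil, false_imp_iff, implies_true, and_true]
    exact s.hL.decide s.rep (by decide +kernel)) l hl).symm
theorem P2_le : s.P2 ≤ s.L := clos_le.2 fun y hy => mem_clos (by
  simp only [List.mem_cons, List.not_mem_nil, or_false] at hy ⊢; tauto)
theorem P3_le : s.P3 ≤ s.L := clos_le.2 fun y hy => mem_clos (by
  simp only [List.mem_cons, List.not_mem_nil, or_false] at hy ⊢; tauto)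
theorem les : s.V6 ≤ s.U ∧ s.U ≤ s.P3 ∧ s.L3 ≤ s.P3 ∧ s.A3 ≤ s.V6 ∧ s.Z3 ≤ s.V6 ∧ s.V6 ≤ s.W ∧ s.W ≤ s.T ∧ s.U ≤ s.T ∧
    s.Sl ≤ s.L3 ∧ s.Sp ≤ s.L3 ∧ s.C2 ≤ s.P2 ∧ s.V6 ≤ s.C2 ∧ s.U ≤ s.P2 ∧ s.V5 ≤ s.U :=
  s.hL.decide s.rep (by decide +kernel)
theorem V6_le : s.V6 ≤ s.L := s.les.1.trans (s.les.2.1.trans s.P3_le)
theorem U_le : s.U ≤ s.L := s.les.2.1.trans s.P3_le
theorem L3_le : s.L3 ≤ s.L := s.les.2.2.1.trans s.P3_le
theorem cardL : Nat.card s.L = 1451520 := s.card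
theorem tW : s.t ∈ s.W := mem_clos (by simp)
theorem memW {g : G} : g ∈ s.W ↔ g ∈ s.V6 ∨ s.t * g ∈ s.V6 := by
  have h : ∀ g ∈ s.W, g ∈ s.V6 ∨ s.t * g ∈ s.V6 := s.hL.decide s.rep (by decide +kernel)
  refine ⟨h g, fun k => k.elim (fun k => s.les.2.2.2.2.2.1 k) fun k => ?_⟩
  exact (mul_mem_cancel_left s.tW).1 (s.les.2.2.2.2.2.1 k)
theorem memT {g : G} : g ∈ s.T ↔ g ∈ s.U ∨ s.t * g ∈ s.U := by
  have h : ∀ g ∈ s.T, g ∈ s.U ∨ s.t * g ∈ s.U := s.hL.decide s.rep (by decide +kernel)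
  refine ⟨h g, fun k => k.elim (fun k => s.les.2.2.2.2.2.2.2.1 k) fun k => ?_⟩
  exact (mul_mem_cancel_left (s.les.2.2.2.2.2.2.1 s.tW)).1 (s.les.2.2.2.2.2.2.2.1 k)
theorem W_sq {g : G} (hg : g ∈ s.W) : g * g = 1 :=
  (s.hL.decide s.rep (by decide +kernel) : ∀ g ∈ s.W, g * g = 1) g hg
theorem W_comm {g h : G} (hg : g ∈ s.W) (hh : h ∈ s.W) : g * h = h * g := comm_of_sq2 (fun _ => s.W_sq) hg hh
theorem P3_norm : s.P3 ≤ 𝐍[s.V6] ∧ s.P3 ≤ 𝐍[s.W] ∧ s.P3 ≤ 𝐍[s.A3] := by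
  refine ⟨fun g hg => mem_norm_of_cj_le (cj_le_iff.2 (le_normalizer_clos ?_ hg)),
    fun g hg => mem_norm_of_cj_le (cj_le_iff.2 (le_normalizer_clos ?_ hg)),
    fun g hg => mem_norm_of_cj_le (cj_le_iff.2 (le_normalizer_clos ?_ hg))⟩ <;>
  · simp only [List.forall_mem_cons, List.not_mem_nil, false_imp_iff, implies_true, and_true]
    exact s.hL.decide s.rep (by decide +kernel)
theorem T_norm : s.T ≤ 𝐍[s.W] := fun _ hg => (s.memT.1 hg).elim (fun k => s.P3_norm.2.1 (s.les.2.1 k))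
  fun k => (mul_mem_cancel_left (le_normalizer s.tW)).1 (s.P3_norm.2.1 (s.les.2.1 k))
theorem P3_eq {g : G} (hg : g ∈ s.P3) : ∃ v ∈ s.V6, ∃ l ∈ s.L3, g = v * l := by
  have h : s.P3 ≤ s.V6 ⊔ s.L3 := clos_le.2 (by
    simp only [List.forall_mem_cons, List.not_mem_nil, false_imp_iff, implies_true, and_true]
    refine ⟨mem_sup_left ?_, mem_sup_right ?_, mem_sup_right ?_, mem_sup_right ?_, mem_sup_right ?_⟩ <;>
      exact mem_clos (by simp))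
  obtain ⟨v, hv, l, hl, e⟩ := (mem_sup_norm (s.les.2.2.1.trans s.P3_norm.1)).1 (h hg)
  exact ⟨v, hv, l, hl, e.symm⟩
theorem V6_eq {v : G} (hv : v ∈ s.V6) : v ∈ s.A3 ∨ ∃ p ∈ s.Pts, ∃ u ∈ s.A3, v = p * u :=
  (s.hL.decide s.rep (by decide +kernel) : ∀ v ∈ s.V6, v ∈ s.A3 ∨ ∃ p ∈ s.Pts, ∃ u ∈ s.A3, v = p * u) v hv
theorem pt_eq {p : G} (hp : p ∈ s.Pts) : p ∈ s.V6 ∧ ∃ l ∈ s.L3, l * s.x1 * l⁻¹ = p :=
  (s.hL.decide s.rep (by decide +kernel) : ∀ p ∈ s.Pts, p ∈ s.V6 ∧ ∃ l ∈ s.L3, l * s.x1 * l⁻¹ = p) p hp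
theorem A3_eq {v : G} (hv : v ∈ s.A3) (h1 : v ≠ 1) : ∃ l ∈ s.L3, l * s.y * l⁻¹ = v :=
  (s.hL.decide s.rep (by decide +kernel) : ∀ v ∈ s.A3, v ≠ 1 → ∃ l ∈ s.L3, l * s.y * l⁻¹ = v) v hv h1
theorem cent_y {g : G} (hg : g ∈ s.L) (h : g * s.y = s.y * g) : g ∈ s.P2 := by
  refine cent_of_card s.P2_le (fun k hk => (commute_clos (g := s.y) ?_ k hk).symm) (S := s.K2) (fun _ h => h)
    (by rw [s.gK2.2, s.gP2.2, s.cardL]) hg h
  simp only [List.forall_mem_cons, List.not_mem_nil, false_imp_iff, implies_true, and_true]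
  exact s.hL.decide s.rep (by decide +kernel)
theorem norm_V6 {g : G} (hg : g ∈ s.L) (h : g ∈ 𝐍[s.V6]) : g ∈ s.P3 := by
  have k1 : (∀ v ∈ s.V6, v ∈ s.K2 → ∃ l ∈ s.L3, l * s.y * l⁻¹ = v) ∧ s.y ∈ s.V6 ∧ s.x3 ∈ s.V6 ∧
      ∀ k ∈ s.P2, k * s.x3 * k⁻¹ ∈ s.V6 → k ∈ s.P3 := s.hL.decide s.rep (by decide +kernel)
  obtain ⟨l, hl, e⟩ := k1.1 _ (conj_mem_of_norm h k1.2.1) ⟨g, hg, rfl⟩
  have h2 : l⁻¹ * g ∈ s.P2 := s.cent_y (mul_mem (inv_mem (s.L3_le hl)) hg) (by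
    calc l⁻¹ * g * s.y = l⁻¹ * (g * s.y * g⁻¹) * g := by group
      _ = _ := by rw [← e]; group)
  have h3 := k1.2.2.2 _ h2 (conj_mem_of_norm (mul_mem (inv_mem (s.P3_norm.1 (s.les.2.2.1 hl))) h) k1.2.2.1)
  exact (mul_mem_cancel_left (inv_mem (s.les.2.2.1 hl))).1 h3
theorem cent_V6 {g : G} (hg : g ∈ s.L) (h : ∀ u ∈ s.V6, g * u = u * g) : g ∈ s.V6 := by
  have k1 : ∀ k ∈ s.P2, k * s.x3 = s.x3 * k → k * s.x1 = s.x1 * k → k * s.x2 = s.x2 * k → k * s.a = s.a * k →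
      k * s.b = s.b * k → k ∈ s.V6 := s.hL.decide s.rep (by decide +kernel)
  refine k1 g (s.cent_y hg (h _ ?_)) (h _ ?_) (h _ ?_) (h _ ?_) (h _ ?_) (h _ ?_) <;> exact mem_clos (by simp)
theorem pgT : IsPGroup 2 s.T := IsPGroup.of_card (n := 10) (by rw [s.gT.2]; norm_num)
theorem sylU : Syl 2 s.U s.L := by
  refine ⟨s.U_le, IsPGroup.of_card (n := 9) (by rw [s.gU.2]; norm_num), fun h => ?_⟩
  have := Inv.Fz.card_mul_relIndex s.U_le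
  rw [s.gU.2, s.cardL] at this
  omega
theorem invol {g : G} (hg : g ∈ s.L) (h2 : g * g = 1) : g = 1 ∨ g ∈ s.K1 ∨ g ∈ s.K2 ∨ g ∈ s.K3 ∨ g ∈ s.K4 := by
  have k1 : ∀ u ∈ s.U, u * u = 1 → u = 1 ∨ u ∈ s.K1 ∨ u ∈ s.K2 ∨ u ∈ s.K3 ∨ u ∈ s.K4 :=
    s.hL.decide s.rep (by decide +kernel)
  obtain ⟨k, hk, h3⟩ := s.sylU.conj_le (FG.ZL.isPGroup_zpowers_of_pow (x := g) (n := 1) (by rw [pow_one, pow_two, h2]))
    (zpowers_le.2 hg)
  have e : g = k⁻¹ * (k * g * k⁻¹) * k⁻¹⁻¹ := by group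
  rcases k1 _ (h3 (conj_mem_cj (mem_zpowers g))) (by rw [conj_mul, h2]; group) with h | h | h | h | h
  · exact Or.inl (conj_eq_one_iff.1 h)
  all_goals
    have := conj_mem_cls (inv_mem hk) h
    rw [← e] at this
    tauto
/-- `W` is the only elementary abelian subgroup of order `≥ 128` in `T`. -/
theorem elemT {A : Subgroup G} (hA : A ≤ s.T) (h2 : ∀ g ∈ A, g * g = 1) (h : 128 ≤ Nat.card A) : A = s.W := by
  by_cases hW : A ≤ s.W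
  · exact eq_of_le_of_card_ge hW (by rwa [s.gW.2])
  exfalso
  have k0 : (∀ g ∈ s.T, ∃ l ∈ s.D8, g * l⁻¹ ∈ s.W) ∧ s.r * s.d ∈ s.T ∧ s.r * s.d * (s.r * s.d) ∉ s.W ∧
      (∀ l ∈ s.D8, l ≠ 1 → ∃ u ∈ s.V6, l * u ≠ u * l ∧ ∃ v ∈ s.V6, l * v ≠ v * l ∧ l * (u * v) ≠ u * v * l) ∧
      ∀ l ∈ s.D8, l ≠ 1 → ∀ k ∈ s.D8, k ≠ 1 → k ≠ l →
        ∃ u ∈ s.V6, ¬ (l * u = u * l ∧ k * u = u * k) ∧ ∃ v ∈ s.V6, ¬ (l * v = v * l ∧ k * v = v * k) ∧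
        ¬ (l * (u * v) = u * v * l ∧ k * (u * v) = u * v * k) ∧ ∃ w ∈ s.V6, ¬ (l * w = w * l ∧ k * w = w * k) ∧
        ¬ (l * (u * w) = u * w * l ∧ k * (u * w) = u * w * k) ∧ ¬ (l * (v * w) = v * w * l ∧ k * (v * w) = v * w * k) ∧
        ¬ (l * (u * (v * w)) = u * (v * w) * l ∧ k * (u * (v * w)) = u * (v * w) * k) :=
    s.hL.decide s.rep (by decide +kernel)
  obtain ⟨k1, k2, k3, k4, k5⟩ := k0
  have VW := s.les.2.2.2.2.2.1
  have hn := hA.trans s.T_norm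
  have c1 := GT.PG.card_sup_mul_card_inf hn
  have c2 : A ⊔ s.W ≤ s.T := sup_le hA s.les.2.2.2.2.2.2.1
  have c3 : Nat.card (A ⊔ s.W : Subgroup G) ≤ 512 := by
    have h3 := card_dvd_of_le c2
    rw [s.gT.2] at h3
    by_contra h4
    have h5 : Nat.card (A ⊔ s.W : Subgroup G) = 1024 := by
      obtain ⟨c, hc⟩ := h3
      rcases c with _ | _ | c
      · omega
      · omega
      · nlinarith
    have h6 : A ⊔ s.W = s.T := eq_of_le_of_card_ge c2 (by rw [s.gT.2, h5])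
    obtain ⟨x, hx, w, hw, e⟩ := (mem_sup_norm' hn).1 (h6.ge k2)
    refine k3 ?_
    rw [← e, show x * w * (x * w) = x * w * x⁻¹ * (x * x) * w by group, h2 x hx, mul_one]
    exact mul_mem (conj_mem_of_norm (hn hx) hw) hw
  have cm : ∀ g ∈ A, ∀ l, g * l⁻¹ ∈ s.W → ∀ u ∈ A ⊓ s.W, l * u = u * l := fun g hg l hl u hu => by
    have e1 := comm_of_sq2 h2 hg hu.1
    have e2 := s.W_comm hl hu.2
    calc l * u = (g * l⁻¹)⁻¹ * (g * u) := by group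
      _ = (g * l⁻¹)⁻¹ * (u * (g * l⁻¹)) * l := by rw [e1]; group
      _ = u * l := by rw [← e2]; group
  obtain ⟨g, hg, hgW⟩ := SetLike.not_le_iff_exists.1 hW
  obtain ⟨l, hl, h3⟩ := k1 g (hA hg)
  have l1 : l ≠ 1 := fun e => hgW (by simpa [e] using h3)
  rw [s.gW.2] at c1
  by_cases h4 : ∀ g' ∈ A, g' ∈ s.W ∨ g' * l⁻¹ ∈ s.W
  · obtain ⟨u, hu, a1, v, hv, a2, a3⟩ := k4 l hl l1
    have b1 := four_mul_card_le (A := A ⊓ s.W) inf_le_right (fun _ => s.W_sq) (VW hu) (VW hv)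
      (fun k => a1 (cm g hg l h3 _ k)) (fun k => a2 (cm g hg l h3 _ k)) fun k => a3 (cm g hg l h3 _ k)
    obtain ⟨A', -, b2, b3⟩ := adjoin (A := A ⊓ s.W) inf_le_left h2 hg fun k => hgW k.2
    have b4 : A ≤ A' := fun x hx => (b3 x).2 ((h4 x hx).imp (fun k => ⟨hx, k⟩) fun k => ⟨mul_mem hg hx, by
      have e : g * x = g * (x * l⁻¹ * (g * l⁻¹)⁻¹) * g⁻¹ * (g * g) := by group
      rw [e, h2 g hg, mul_one]
      exact conj_mem_of_norm (hn hg) (mul_mem k (inv_mem h3))⟩)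
    have b5 := card_le_of_le b4
    rw [s.gW.2] at b1
    omega
  · push Not at h4
    obtain ⟨g', hg', a1, a2⟩ := h4
    obtain ⟨k, hk, h5⟩ := k1 g' (hA hg')
    obtain ⟨u, hu, b1, v, hv, b2, b3, w, hw, b4, b5, b6, b7⟩ :=
      k5 l hl l1 k hk (fun e => a1 (by simpa [e] using h5)) fun e => a2 (e ▸ h5)
    have f : ∀ x ∈ A ⊓ s.W, l * x = x * l ∧ k * x = x * k := fun x hx => ⟨cm g hg l h3 x hx, cm g' hg' k h5 x hx⟩
    have b8 := eight_mul_card_le (A := A ⊓ s.W) inf_le_right (fun _ => s.W_sq) (VW hu) (VW hv) (VW hw)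
      (fun k => b1 (f _ k)) (fun k => b2 (f _ k)) (fun k => b3 (f _ k)) (fun k => b4 (f _ k)) (fun k => b5 (f _ k))
      (fun k => b6 (f _ k)) fun k => b7 (f _ k)
    rw [s.gW.2] at b8
    nlinarith

end Pre

end Cfsg.Agent.SF6
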