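import Mathlib
import Cfsg.Agent.SF6.Fact

set_option autoImplicit false
set_option linter.unusedSectionVars false
set_option maxRecDepth 100000
set_option synthInstance.maxSize 100000
set_option synthInstance.maxHeartbeats 1000000

namespace Cfsg.Agent.SF6

open Cfsg Cfsg.Agent.Rec Cfsg.Agent.Spor Cfsg.Agent.Loc.Mss Subgroup
open scoped commutatorElement

variable {G : Type*} [Group G] [Finite G]

namespace K1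

/-- The hypotheses on the pair `X`, `N`. -/
structure Hy (s : Pre G) (X N : Subgroup G) : Prop where
  le : X ≤ s.L
  nrm : N ≤ 𝐍[X]
  cen : ∀ a ∈ X, a * a = 1 → a ≠ 1 → ∀ g ∈ s.L, g * a = a * g → g ∈ N
  nle : ¬ s.L ≤ N

/-- The conclusion. -/
def Con (s : Pre G) (X N : Subgroup G) : Prop :=
  ∃ g ∈ s.L, cj(g, s.P2) ≤ N ∧ g * (s.x1 * s.x2) * g⁻¹ ∈ X ∧ g * (s.x1 * s.x12) * g⁻¹ ∈ X ∧
    ∀ u ∈ s.P2, g * u * g⁻¹ ∈ X → u = 1 ∨ u = s.x1 * s.x2 ∨ u = s.x1 * s.x12 ∨ u = s.x2 * s.x12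

variable {s : Pre G} {X N : Subgroup G}

theorem Hy.cj (h : Hy s X N) {g : G} (hg : g ∈ s.L) : Hy s cj(g, X) cj(g, N) where
  le := cj_le_of_mem h.le hg
  nrm := by rw [← cj_norm]; exact cj_mono g h.nrm
  cen a ha a2 a1 k hk e := mem_cj.2 (h.cen _ (mem_cj.1 ha)
    (by rw [show g⁻¹ * a * g * (g⁻¹ * a * g) = g⁻¹ * (a * a) * g by group, a2]; group)
    (fun e => a1 (by rw [show a = g * (g⁻¹ * a * g) * g⁻¹ by group, e]; group)) _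
    (mul_mem (mul_mem (inv_mem hg) hk) hg) (by
      rw [show g⁻¹ * k * g * (g⁻¹ * a * g) = g⁻¹ * (k * a) * g by group, e]; group))
  nle k := h.nle (cj_le_cj.1 ((cj_of_mem hg).le.trans k))

theorem Con.of_cj {g : G} (hg : g ∈ s.L) (h : Con s cj(g, X) cj(g, N)) : Con s X N := by
  obtain ⟨k, hk, h1, h2, h3, h4⟩ := h
  have e : ∀ u, g⁻¹ * k * u * (g⁻¹ * k)⁻¹ = g⁻¹ * (k * u * k⁻¹) * g := fun u => by group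
  refine ⟨g⁻¹ * k, mul_mem (inv_mem hg) hk, ?_, e _ ▸ mem_cj.1 h2, e _ ▸ mem_cj.1 h3,
    fun u hu hX => h4 u hu (mem_cj.2 (e u ▸ hX))⟩
  rw [← cj_cj]
  exact le_cj_iff_inv_le.1 h1

theorem mem_L : s.x3 ∈ s.L ∧ s.w3 ∈ s.L ∧ s.r ∈ s.L ∧ s.n ∈ s.L ∧ s.d ∈ s.L ∧ s.m ∈ s.L := by
  refine ⟨?_, ?_, ?_, ?_, ?_, ?_⟩ <;> exact mem_clos (by simp)

theorem P12_le : s.P12 ≤ s.P2 := s.hL.decide s.rep (by decide +kernel)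

theorem Hy.comm_mem (h : Hy s X N) {u q : G} (hu : u ∈ X) (hq : q ∈ N) : ⁅u, q⁆ ∈ X := by
  rw [commutatorElement_def, mul_assoc, mul_assoc, ← mul_assoc q]
  exact mul_mem hu (conj_mem_of_norm (h.nrm hq) (inv_mem hu))

theorem Hy.not_both (h : Hy s X N) (h1 : s.x1 ∈ X) (h2 : s.y ∈ X) : False := by
  have k : (s.x1 * s.x1 = 1 ∧ s.x1 ≠ 1 ∧ s.y * s.y = 1 ∧ s.y ≠ 1) ∧ s.x3 * s.x1 = s.x1 * s.x3 ∧
      s.w3 * s.x1 = s.x1 * s.w3 ∧ s.r * s.x1 = s.x1 * s.r ∧ s.n * s.y = s.y * s.n ∧ s.d * s.x1 = s.x1 * s.d ∧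
      s.m * s.x1 = s.x1 * s.m := s.hL.decide s.rep (by decide +kernel)
  obtain ⟨⟨a1, a2, a3, a4⟩, b1, b2, b3, b4, b5, b6⟩ := k
  obtain ⟨c1, c2, c3, c4, c5, c6⟩ := mem_L (s := s)
  refine h.nle (clos_le.2 ?_)
  simp only [List.forall_mem_cons, List.not_mem_nil, false_imp_iff, implies_true, and_true]
  exact ⟨h.cen _ h1 a1 a2 _ c1 b1, h.cen _ h1 a1 a2 _ c2 b2, h.cen _ h1 a1 a2 _ c3 b3, h.cen _ h2 a3 a4 _ c4 b4,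
    h.cen _ h1 a1 a2 _ c5 b5, h.cen _ h1 a1 a2 _ c6 b6⟩

theorem Hy.not_y (h : Hy s X N) (hy : s.y ∈ X) {w : G} (hw : w ∈ X)
    (k : w = s.x1 ∨ s.y * w = s.x1 ∨ (w = s.a ∨ s.y * w = s.a) ∨ (w = s.x1 * s.a ∨ s.y * w = s.x1 * s.a)) :
    False := by
  have k0 : (s.y * s.y = 1 ∧ s.y ≠ 1 ∧ ∀ g ∈ s.P2, g * s.y = s.y * g) ∧
      s.a * (s.x3 * s.w3 * s.x3 * s.a * (s.x3 * s.w3 * s.x3)⁻¹) * (s.w3 * s.a * s.w3⁻¹) = s.x1 ∧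
      s.x1 * s.a * (s.x1 * s.a) = 1 ∧ s.x1 * s.a ≠ 1 ∧ s.w2 * (s.x1 * s.a) = s.x1 * s.a * s.w2 ∧
      s.d * s.m * s.d * s.w3 * (s.d * s.m * s.d)⁻¹ = s.w2 ∧
      s.x3 * s.w2 * (s.x3 * s.w3 * s.x3 * s.d * s.w2 * (s.x3 * s.w3 * s.x3 * s.d)⁻¹) = s.m ∧
      s.x3 ∈ s.P2 ∧ s.w3 ∈ s.P2 ∧ s.r ∈ s.P2 ∧ s.n ∈ s.P2 ∧ s.d ∈ s.P2 := s.hL.decide s.rep (by decide +kernel)
  obtain ⟨⟨a1, a2, a3⟩, b1, b2, b3, b4, b5, b6, c1, c2, c3, c4, c5⟩ := k0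
  have hP : s.P2 ≤ N := fun g hg => h.cen _ hy a1 a2 g (s.P2_le hg) (a3 g hg)
  have hw' := mul_mem hy hw
  rcases k with e | e | e | e
  · exact h.not_both (e ▸ hw) hy
  · exact h.not_both (e ▸ hw') hy
  · have ha : s.a ∈ X := e.elim (· ▸ hw) (· ▸ hw')
    exact h.not_both (b1 ▸ mul_mem (mul_mem ha (conj_mem_of_norm (h.nrm (hP (mul_mem (mul_mem c1 c2) c1))) ha))
      (conj_mem_of_norm (h.nrm (hP c2)) ha)) hy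
  · have ha : s.x1 * s.a ∈ X := e.elim (· ▸ hw) (· ▸ hw')
    obtain ⟨-, d2, -, -, d5, d6⟩ := mem_L (s := s)
    have h3 := mul_mem (mul_mem d5 d6) d5
    have h2 : s.w2 ∈ N := h.cen _ ha b2 b3 _ (b5 ▸ mul_mem (mul_mem h3 d2) (inv_mem h3)) b4
    have h4 := hP (mul_mem (mul_mem (mul_mem c1 c2) c1) c5)
    refine h.nle (clos_le.2 ?_)
    simp only [List.forall_mem_cons, List.not_mem_nil, false_imp_iff, implies_true, and_true]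
    exact ⟨hP c1, hP c2, hP c3, hP c4, hP c5, b6 ▸ mul_mem (mul_mem (hP c1) h2) (mul_mem (mul_mem h4 h2) (inv_mem h4))⟩

theorem Hy.fin (h : Hy s X N) (hz : s.x1 * s.y ∈ X) {w : G} (hw : w ∈ X)
    (k : (w = s.y ∨ s.x1 * s.y * w = s.y) ∨ (w = s.x2 ∨ s.x1 * s.y * w = s.x2) ∨
      (w = s.x1 * s.x2 ∨ s.x1 * s.y * w = s.x1 * s.x2)) : Con s X N := by
  have k0 : (s.x1 * s.y * (s.x1 * s.y) = 1 ∧ s.x1 * s.y ≠ 1 ∧ ∀ g ∈ s.P12, g * (s.x1 * s.y) = s.x1 * s.y * g) ∧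
      (s.x2 * s.x2 = 1 ∧ s.x2 ≠ 1 ∧ s.n * s.x2 = s.x2 * s.n ∧ s.n * (s.x1 * s.y * s.x2) * s.n⁻¹ = s.x1) ∧
      (s.x1 * s.x2 * (s.x1 * s.x2) = 1 ∧ s.x1 * s.x2 ≠ 1 ∧ s.x1 * s.y * (s.x1 * s.x2) = s.x1 * s.x12 ∧
        s.n * s.r * s.n⁻¹ * (s.x1 * s.x2) = s.x1 * s.x2 * (s.n * s.r * s.n⁻¹) ∧
        s.r * (s.n * s.r * s.n⁻¹) * s.r = s.n) ∧
      (s.x3 ∈ s.P12 ∧ s.w3 ∈ s.P12 ∧ s.r ∈ s.P12 ∧ s.d ∈ s.P12) ∧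
      (s.a ∈ s.P2 ∧ s.b ∈ s.P2 ∧ s.c ∈ s.P2 ∧ s.d ∈ s.P2) := s.hL.decide s.rep (by decide +kernel)
  obtain ⟨⟨a1, a2, a3⟩, ⟨b1, b2, b3, b4⟩, ⟨c1, c2, c3, c4, c5⟩, ⟨d1, d2, d3, d4⟩, e1, e2, e3, e4⟩ := k0
  obtain ⟨-, -, l3, l4, -, -⟩ := mem_L (s := s)
  have ny : s.y ∉ X := fun hy => h.not_both ((mul_mem_cancel_right hy).1 hz) hy
  have hw' := mul_mem hz hw
  rcases k with e | e | e
  · exact absurd (e.elim (· ▸ hw) (· ▸ hw')) ny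
  · have h2 : s.x2 ∈ X := e.elim (· ▸ hw) (· ▸ hw')
    have h1 : s.x1 ∈ X := b4 ▸ conj_mem_of_norm (h.nrm (h.cen _ h2 b1 b2 _ l4 b3)) (mul_mem hz h2)
    exact absurd ((mul_mem_cancel_left h1).1 hz) ny
  have h2 : s.x1 * s.x2 ∈ X := e.elim (· ▸ hw) (· ▸ hw')
  have h3 : s.x1 * s.x12 ∈ X := c3 ▸ mul_mem hz h2
  have hP : s.P12 ≤ N := fun g hg => h.cen _ hz a1 a2 g (s.P2_le (P12_le hg)) (a3 g hg)
  have hn : s.n ∈ N := c5 ▸ mul_mem (mul_mem (hP d3) (h.cen _ h2 c1 c2 _ (mul_mem (mul_mem l4 l3) (inv_mem l4)) c4))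
    (hP d3)
  have hP2 : s.P2 ≤ N := clos_le.2 (by
    simp only [List.forall_mem_cons, List.not_mem_nil, false_imp_iff, implies_true, and_true]
    exact ⟨hP d1, hP d2, hP d3, hn, hP d4⟩)
  have k1 : ∀ u ∈ s.Q2, u ∈ s.Z3 ∨ ⁅u, s.a⁆ = s.y ∨ ⁅u, s.b⁆ = s.y ∨ ⁅u, s.c⁆ = s.y ∨ ⁅u, s.d⁆ = s.y :=
    s.hL.decide s.rep (by decide +kernel)
  have k2 : ∀ u ∈ s.P2, u ∈ s.Q2 ∨ (⁅u, s.a⁆ ∈ s.Q2 ∧ ⁅u, s.a⁆ ∉ s.Z3) ∨ (⁅u, s.b⁆ ∈ s.Q2 ∧ ⁅u, s.b⁆ ∉ s.Z3) ∨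
      (⁅u, s.c⁆ ∈ s.Q2 ∧ ⁅u, s.c⁆ ∉ s.Z3) ∨ (⁅u, s.d⁆ ∈ s.Q2 ∧ ⁅u, s.d⁆ ∉ s.Z3) :=
    s.hL.decide s.rep (by decide +kernel)
  have k3 : ∀ u ∈ s.Z3, (u = 1 ∨ u = s.x1 * s.x2 ∨ u = s.x1 * s.x12 ∨ u = s.x2 * s.x12) ∨ u = s.y ∨
      u * (s.x1 * s.x2) = s.y ∨ u * (s.x1 * s.x12) = s.y ∨ u * (s.x1 * s.y) = s.y :=
    s.hL.decide s.rep (by decide +kernel)
  have k4 : ∀ u ∈ s.Q2, u ∈ X → u ∈ s.Z3 := fun u hu hX => by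
    rcases k1 u hu with e | e | e | e | e
    · exact e
    · exact absurd (e ▸ h.comm_mem hX (hP2 e1)) ny
    · exact absurd (e ▸ h.comm_mem hX (hP2 e2)) ny
    · exact absurd (e ▸ h.comm_mem hX (hP2 e3)) ny
    · exact absurd (e ▸ h.comm_mem hX (hP2 e4)) ny
  refine ⟨1, one_mem _, by rwa [cj_one], by simpa using h2, by simpa using h3, fun u hu hX => ?_⟩
  rw [one_mul, inv_one, mul_one] at hX
  have hZ : u ∈ s.Z3 := by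
    rcases k2 u hu with e | e | e | e | e
    · exact k4 u e hX
    · exact absurd (k4 _ e.1 (h.comm_mem hX (hP2 e1))) e.2
    · exact absurd (k4 _ e.1 (h.comm_mem hX (hP2 e2))) e.2
    · exact absurd (k4 _ e.1 (h.comm_mem hX (hP2 e3))) e.2
    · exact absurd (k4 _ e.1 (h.comm_mem hX (hP2 e4))) e.2
  rcases k3 u hZ with e | e | e | e | e
  · exact e
  · exact absurd (e ▸ hX) ny
  · exact absurd (e ▸ mul_mem hX h2) ny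
  · exact absurd (e ▸ mul_mem hX h3) ny
  · exact absurd (e ▸ mul_mem hX hz) ny

theorem Hy.core (h : Hy s X N) {z w : G} (hz : z ∈ X) (zU : z ∈ s.ZU) (z1 : z ≠ 1) (hw : w ∈ X) (wU : w ∈ s.U)
    (w1 : w ≠ 1) (wz : w ≠ z) : Con s X N := by
  have k0 : ∀ z ∈ s.ZU, (z = 1 ∨ z = s.x1 ∨ z = s.y ∨ z = s.x1 * s.y) ∧ z * z = 1 ∧ z ∈ s.U ∧
      ∀ u ∈ s.U, u * z = z * u := s.hL.decide s.rep (by decide +kernel)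
  obtain ⟨a1, a2, a3, a4⟩ := k0 z zU
  have mz : ∀ {x}, x ∈ zpowers z ↔ x = 1 ∨ x = z := fun {x} => by
    refine ⟨fun hx => ?_, fun hx => hx.elim (· ▸ one_mem _) (· ▸ mem_zpowers z)⟩
    obtain ⟨k, rfl⟩ := mem_zpowers_iff.1 hx
    have e : z ^ (2 : ℤ) = 1 := by rw [zpow_two, a2]
    rcases Int.even_or_odd' k with ⟨j, rfl | rfl⟩
    · exact .inl (by rw [zpow_mul, e, one_zpow])
    · exact .inr (by rw [zpow_add, zpow_mul, e, one_zpow, one_mul, zpow_one])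
  have hU : s.U ≤ N := fun g hg => h.cen z hz a2 z1 g (s.U_le hg) (a4 g hg)
  obtain ⟨x, ⟨xX, xU⟩, xz, -, -, hx⟩ := GT.PG.exists_step (p := 2) (N := zpowers z) (M := X ⊓ s.U) (H := s.U)
    s.sylU.pg.to_inf_right s.sylU.pg (norm_inf (hU.trans h.nrm) le_normalizer)
    (norm_of_cent (cent_comm (zpowers_le.2 (mem_cent.2 a4))))
    (lt_of_le_of_ne (zpowers_le.2 ⟨hz, a3⟩) fun e => (mz.1 (e.ge ⟨hw, wU⟩)).elim w1 wz)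
  have g1 := mz.1 (hx s.x3 (mem_clos (by simp)))
  have g2 := mz.1 (hx s.r (mem_clos (by simp)))
  have g3 := mz.1 (hx s.d (mem_clos (by simp)))
  have g4 := mz.1 (hx s.x2 (mem_clos (by simp)))
  rw [mz, not_or] at xz
  rcases a1 with rfl | rfl | rfl | rfl
  · exact absurd rfl z1
  · have k : ∀ x ∈ s.U, (⁅x, s.x3⁆ = 1 ∨ ⁅x, s.x3⁆ = s.x1) → (⁅x, s.r⁆ = 1 ∨ ⁅x, s.r⁆ = s.x1) →
        (⁅x, s.d⁆ = 1 ∨ ⁅x, s.d⁆ = s.x1) → (⁅x, s.x2⁆ = 1 ∨ ⁅x, s.x2⁆ = s.x1) → x ≠ 1 → x ≠ s.x1 →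
        x = s.y ∨ s.x1 * x = s.y := s.hL.decide s.rep (by decide +kernel)
    exact (h.not_both hz ((k x xU g1 g2 g3 g4 xz.1 xz.2).elim (· ▸ xX) (· ▸ mul_mem hz xX))).elim
  · have k : ∀ x ∈ s.U, (⁅x, s.x3⁆ = 1 ∨ ⁅x, s.x3⁆ = s.y) → (⁅x, s.r⁆ = 1 ∨ ⁅x, s.r⁆ = s.y) →
        (⁅x, s.d⁆ = 1 ∨ ⁅x, s.d⁆ = s.y) → (⁅x, s.x2⁆ = 1 ∨ ⁅x, s.x2⁆ = s.y) → x ≠ 1 → x ≠ s.y →
        x = s.x1 ∨ s.y * x = s.x1 ∨ (x = s.a ∨ s.y * x = s.a) ∨ (x = s.x1 * s.a ∨ s.y * x = s.x1 * s.a) :=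
      s.hL.decide s.rep (by decide +kernel)
    exact (h.not_y hz xX (k x xU g1 g2 g3 g4 xz.1 xz.2)).elim
  · have k : ∀ x ∈ s.U, (⁅x, s.x3⁆ = 1 ∨ ⁅x, s.x3⁆ = s.x1 * s.y) → (⁅x, s.r⁆ = 1 ∨ ⁅x, s.r⁆ = s.x1 * s.y) →
        (⁅x, s.d⁆ = 1 ∨ ⁅x, s.d⁆ = s.x1 * s.y) → (⁅x, s.x2⁆ = 1 ∨ ⁅x, s.x2⁆ = s.x1 * s.y) → x ≠ 1 → x ≠ s.x1 * s.y →
        (x = s.y ∨ s.x1 * s.y * x = s.y) ∨ (x = s.x2 ∨ s.x1 * s.y * x = s.x2) ∨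
          (x = s.x1 * s.x2 ∨ s.x1 * s.y * x = s.x1 * s.x2) := s.hL.decide s.rep (by decide +kernel)
    exact h.fin hz xX (k x xU g1 g2 g3 g4 xz.1 xz.2)

/-- An involution of `X` with a second element of `X` in every Sylow subgroup of its centraliser. -/
theorem Hy.start (h : Hy s X N) (h4 : 4 ∣ Nat.card X) : ∃ a ∈ X, a * a = 1 ∧ a ≠ 1 ∧
    ∀ P ≤ s.L, IsPGroup 2 P → (∀ g ∈ P, g * a = a * g) → ∃ T, P ≤ T ∧ T ≤ s.L ∧ IsPGroup 2 T ∧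
      ∃ w ∈ T, w ∈ X ∧ w * a = a * w ∧ w ≠ 1 ∧ w ≠ a := by
  obtain ⟨S, hS⟩ := Syl.exists 2 (s.L ⊓ 𝐍[X])
  have hX := hS.inf (M := X) (le_inf h.le le_normalizer) (hS.le.trans inf_le_right)
  have c4 : 4 ∣ Nat.card (S ⊓ X : Subgroup G) := by
    have e := Inv.Fz.card_mul_relIndex hX.le
    rw [← e] at h4
    exact (Nat.Coprime.pow_left 2 ((Nat.Prime.coprime_iff_not_dvd Nat.prime_two).2 hX.nd)).dvd_of_dvd_mul_right h4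
  obtain ⟨a, ⟨aS, aX⟩, a1, a2, -, ac⟩ := GT.PG.exists_step (p := 2) (N := ⊥) (M := S ⊓ X) (H := S) hX.pg hS.pg
    (norm_inf le_normalizer (hS.le.trans inf_le_right)) (norm_normal _ _) (bot_lt_iff_ne_bot.2 fun e => by
      rw [e, card_bot] at c4; omega)
  rw [mem_bot] at a1 a2
  rw [pow_two] at a2
  let C := s.L ⊓ centralizer {a}
  have hC : C ≤ s.L ⊓ 𝐍[X] := fun g hg =>
    ⟨hg.1, h.nrm (h.cen a aX a2 a1 g hg.1 (mem_centralizer_singleton_iff.1 hg.2))⟩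
  have hSC : S ≤ C := fun g hg => ⟨(hS.le hg).1, mem_centralizer_singleton_iff.2
    (commutatorElement_eq_one_iff_mul_comm.1 (mem_bot.1 (ac g hg))).symm⟩
  refine ⟨a, aX, a2, a1, fun P hP pP cP => ?_⟩
  obtain ⟨g, hg, e⟩ := (hS.mono hSC hC).le_conj pP fun x hx => ⟨hP hx, mem_centralizer_singleton_iff.2 (cP x hx)⟩
  obtain ⟨w, hw, wa⟩ : ∃ w ∈ S ⊓ X, w ∉ zpowers a := SetLike.not_le_iff_exists.1 fun k => by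
    have := card_le_of_le k
    rw [Nat.card_zpowers, orderOf_eq_prime (p := 2) (by rw [pow_two, a2]) a1] at this
    have := Nat.le_of_dvd Nat.card_pos c4
    omega
  have ga : g * a * g⁻¹ = a := mul_inv_eq_iff_eq_mul.2 (mem_centralizer_singleton_iff.1 hg.2)
  have hT := cj_le_of_mem hSC hg
  refine ⟨_, e, hT.trans inf_le_left, pg_cj hS.pg g, _, conj_mem_cj hw.1, conj_mem_of_norm (hC hg).2 hw.2,
    mem_centralizer_singleton_iff.1 (hT (conj_mem_cj hw.1)).2, fun k => wa ?_, fun k => wa ?_⟩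
  · rw [conj_eq_one_iff.1 k]; exact one_mem _
  · rw [← ga, mul_left_inj, mul_right_inj] at k
    rw [k]; exact mem_zpowers a

theorem Hy.cen_case (h : Hy s X N) {z : G} (zU : z ∈ s.ZU) {g : G} (hg : g ∈ s.L) (hz : g * z * g⁻¹ ∈ X)
    (z1 : g * z * g⁻¹ ≠ 1)
    (hT : ∀ P ≤ s.L, IsPGroup 2 P → (∀ k ∈ P, k * (g * z * g⁻¹) = g * z * g⁻¹ * k) → ∃ T, P ≤ T ∧ T ≤ s.L ∧
      IsPGroup 2 T ∧ ∃ w ∈ T, w ∈ X ∧ w * (g * z * g⁻¹) = g * z * g⁻¹ * w ∧ w ≠ 1 ∧ w ≠ g * z * g⁻¹) :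
    Con s X N := by
  have k0 : ∀ z ∈ s.ZU, ∀ u ∈ s.U, u * z = z * u := s.hL.decide s.rep (by decide +kernel)
  obtain ⟨T, h1, h2, h3, w, wT, wX, -, w1, wz⟩ := hT _ (cj_le_of_mem s.U_le hg) (pg_cj s.sylU.pg g) fun k hk => by
    have := k0 z zU _ (mem_cj.1 hk)
    rw [show k * (g * z * g⁻¹) = g * (g⁻¹ * k * g * z) * g⁻¹ by group, this]; group
  rw [(s.sylU.cj_mem hg).eq_of_le h3 h1 h2] at wT
  refine Con.of_cj (inv_mem hg) ((h.cj (inv_mem hg)).core (z := z) (w := g⁻¹ * w * g) (mem_cj.2 (by simpa using hz)) zU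
    (fun e => z1 (by rw [e]; group)) (mem_cj.2 (by simpa [mul_assoc] using wX)) (mem_cj.1 wT) (fun e => w1 ?_)
    fun e => wz ?_)
  · rw [show w = g * (g⁻¹ * w * g) * g⁻¹ by group, e]; group
  · rw [← e]; group

theorem Hy.four_case (h : Hy s X N) (hv : s.x1 * s.x2 * s.x3 ∈ X) {T : Subgroup G} (h1 : s.V6 ≤ T) (h2 : T ≤ s.L)
    (h3 : IsPGroup 2 T) {w : G} (wT : w ∈ T) (wX : w ∈ X) (wc : w * (s.x1 * s.x2 * s.x3) = s.x1 * s.x2 * s.x3 * w)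
    (w1 : w ≠ 1) (wv : w ≠ s.x1 * s.x2 * s.x3) : Con s X N := by
  have k0 : s.x1 * s.x2 * s.x3 * (s.x1 * s.x2 * s.x3) = 1 ∧ s.x1 * s.x2 * s.x3 ≠ 1 ∧
      (∀ u ∈ s.V6, u * (s.x1 * s.x2 * s.x3) = s.x1 * s.x2 * s.x3 * u) ∧
      (∀ k ∈ s.L3, k * (s.x1 * s.x2 * s.x3) * k⁻¹ ∈ s.U ∧ k * (s.x1 * s.x2 * s.x3) * k⁻¹ ∉ s.ZU) ∧
      (∀ w ∈ s.P3, w * (s.x1 * s.x2 * s.x3) = s.x1 * s.x2 * s.x3 * w → w ∈ s.V6 ∨
        ∃ u ∈ s.V6, ⁅w, u⁆ ∈ s.V6 ∧ ⁅w, u⁆ ≠ 1 ∧ ⁅w, u⁆ ≠ s.x1 * s.x2 * s.x3) ∧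
      ∀ w ∈ s.V6, w ≠ 1 → w ≠ s.x1 * s.x2 * s.x3 → (∃ k ∈ s.L3, k * w * k⁻¹ ∈ s.ZU) ∨
        (∃ k ∈ s.L3, k * (w * (s.x1 * s.x2 * s.x3)) * k⁻¹ ∈ s.ZU) ∨
        ∃ l ∈ s.L3, l * (s.x1 * s.x2 * s.x3) = s.x1 * s.x2 * s.x3 * l ∧ w * (l * w * l⁻¹) ≠ 1 ∧
          ∃ k ∈ s.L3, k * (w * (l * w * l⁻¹)) * k⁻¹ ∈ s.ZU := s.hL.decide s.rep (by decide +kernel)
  obtain ⟨a1, a2, a3, a4, a5, a6⟩ := k0
  have VW := s.les.2.2.2.2.2.1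
  have UT := s.les.2.2.2.2.2.2.2.1
  have wP : w ∈ s.P3 := by
    obtain ⟨k, hk, e⟩ := s.sylU.conj_le h3 h2
    have kt : k * s.t * k⁻¹ = s.t := mul_inv_eq_iff_eq_mul.2 (s.t_comm hk)
    have e1 : cj(k, s.W) = s.W := s.elemT (cj_le_iff.2 fun x hx => (s.memW.1 hx).elim
      (fun j => UT (e (conj_mem_cj (h1 j)))) fun j => s.memT.2 (.inr (by
        rw [show s.t * (k * x * k⁻¹) = k * (s.t * x) * k⁻¹ by rw [← kt]; nth_rw 2 [kt]; group]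
        exact e (conj_mem_cj (h1 j)))))
      (fun x hx => by
        rw [show x * x = k * (k⁻¹ * x * k * (k⁻¹ * x * k)) * k⁻¹ by group, s.W_sq (mem_cj.1 hx)]; group)
      (by rw [card_cj, s.gW.2])
    have kP : k ∈ s.P3 := s.norm_V6 hk (mem_norm_of_cj_le (cj_le_iff.2 fun x hx =>
      (s.memW.1 (e1.le (conj_mem_cj (VW hx)))).elim id fun j => absurd ((mul_mem_cancel_right
        (mul_mem (mul_mem hk (s.V6_le hx)) (inv_mem hk))).1 (s.V6_le j)) s.tL))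
    simpa [mul_assoc] using mul_mem (mul_mem (inv_mem kP) (s.les.2.1 (e (conj_mem_cj wT)))) kP
  obtain ⟨w', w'V, w'X, w'1, w'v⟩ : ∃ w' ∈ s.V6, w' ∈ X ∧ w' ≠ 1 ∧ w' ≠ s.x1 * s.x2 * s.x3 := by
    rcases a5 w wP wc with e | ⟨u, hu, e1, e2, e3⟩
    · exact ⟨w, e, wX, w1, wv⟩
    · exact ⟨_, e1, h.comm_mem wX (h.cen _ hv a1 a2 u (s.V6_le hu) (a3 u hu)), e2, e3⟩
  have key : ∀ e ∈ X, e ≠ 1 → (∃ k ∈ s.L3, k * e * k⁻¹ ∈ s.ZU) → Con s X N := by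
    rintro e he e1 ⟨k, hk, hZ⟩
    exact Con.of_cj (s.L3_le hk) ((h.cj (s.L3_le hk)).core (conj_mem_cj he) hZ (fun j => e1 (conj_eq_one_iff.1 j))
      (conj_mem_cj hv) (a4 k hk).1 (fun j => a2 (conj_eq_one_iff.1 j)) fun j => (a4 k hk).2 (j ▸ hZ))
  rcases a6 w' w'V w'1 w'v with e | e | ⟨l, hl, e1, e2, e⟩
  · exact key _ w'X w'1 e
  · exact key _ (mul_mem w'X hv) (fun j => w'v (by rw [eq_inv_of_mul_eq_one_left j, inv_eq_of_mul_eq_one_right a1])) e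
  · exact key _ (mul_mem w'X (conj_mem_of_norm (h.nrm (h.cen _ hv a1 a2 l (s.L3_le hl) e1)) w'X)) e2 e

end K1

namespace Pre

variable (s : Pre G)

theorem k_lemma {X N : Subgroup G} (hX : X ≤ s.L) (hn : N ≤ 𝐍[X])
    (hc : ∀ a ∈ X, a * a = 1 → a ≠ 1 → ∀ g ∈ s.L, g * a = a * g → g ∈ N) (h4 : 4 ∣ Nat.card X) (hN : ¬ s.L ≤ N) :
    ∃ g ∈ s.L, cj(g, s.P2) ≤ N ∧ g * (s.x1 * s.x2) * g⁻¹ ∈ X ∧ g * (s.x1 * s.x12) * g⁻¹ ∈ X ∧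
      ∀ u ∈ s.P2, g * u * g⁻¹ ∈ X → u = 1 ∨ u = s.x1 * s.x2 ∨ u = s.x1 * s.x12 ∨ u = s.x2 * s.x12 := by
  have h : K1.Hy s X N := ⟨hX, hn, hc, hN⟩
  obtain ⟨a, aX, a2, a1, hT⟩ := h.start h4
  have z1 : s.x1 ∈ s.ZU := mem_clos (by simp)
  have z2 : s.y ∈ s.ZU := mem_clos (by simp)
  rcases s.invol (hX aX) a2 with e | ⟨g, hg, rfl⟩ | ⟨g, hg, rfl⟩ | ⟨g, hg, rfl⟩ | ⟨g, hg, rfl⟩
  · exact absurd e a1
  · exact h.cen_case z1 hg aX a1 hT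
  · exact h.cen_case z2 hg aX a1 hT
  · exact h.cen_case (mul_mem z1 z2) hg aX a1 hT
  · have k0 : ∀ u ∈ s.V6, u * (s.x1 * s.x2 * s.x3) = s.x1 * s.x2 * s.x3 * u := s.hL.decide s.rep (by decide +kernel)
    obtain ⟨T, h1, h2, h3, w, wT, wX, wc, w1, wz⟩ := hT _ (cj_le_of_mem s.V6_le hg)
      (pg_cj (s.sylU.pg.to_le s.les.1) g) fun k hk => by
        have := k0 _ (mem_cj.1 hk)
        rw [show k * (g * (s.x1 * s.x2 * s.x3) * g⁻¹) = g * (g⁻¹ * k * g * (s.x1 * s.x2 * s.x3)) * g⁻¹ by group, this]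
        group
    refine K1.Con.of_cj (inv_mem hg) ((h.cj (inv_mem hg)).four_case (T := cj(g⁻¹, T)) (w := g⁻¹ * w * g)
      (mem_cj.2 (by simpa using aX)) (cj_le_iff_le_inv.1 h1) (cj_le_of_mem h2 (inv_mem hg)) (pg_cj h3 _)
      (mem_cj.2 (by simpa [mul_assoc] using wT)) (mem_cj.2 (by simpa [mul_assoc] using wX)) ?_ (fun e => w1 ?_)
      fun e => wz ?_)
    · rw [show g⁻¹ * w * g * (s.x1 * s.x2 * s.x3) = g⁻¹ * (w * (g * (s.x1 * s.x2 * s.x3) * g⁻¹)) * g by group, wc]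
      group
    · rw [show w = g * (g⁻¹ * w * g) * g⁻¹ by group, e]; group
    · rw [← e]; group

theorem cent_F4 {g : G} (hg : g ∈ s.L) (h1 : g * (s.x1 * s.x2) = s.x1 * s.x2 * g)
    (h2 : g * (s.x1 * s.x12) = s.x1 * s.x12 * g) : g ∈ s.C2 := by
  have k : s.x1 * s.x2 * (s.x1 * s.x12) = s.x1 * s.y ∧ (∀ k ∈ s.P12, k * (s.x1 * s.y) = s.x1 * s.y * k) ∧
      ∀ k ∈ s.P12, k * (s.x1 * s.x2) = s.x1 * s.x2 * k → k ∈ s.C2 := s.hL.decide s.rep (by decide +kernel)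
  refine k.2.2 g (cent_of_card (K1.P12_le.trans s.P2_le) k.2.1 (S := s.K3) (fun _ h => h)
    (by rw [s.gK3.2, s.gP12.2, s.cardL]) hg ?_) h1
  rw [← k.1, ← mul_assoc, h1, mul_assoc, h2, ← mul_assoc]

end Pre

end Cfsg.Agent.SF6
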