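import Mathlib
import Cfsg.Agent.SF6.Fact
import Cfsg.Agent.GT.TransferCocycle

/-! Fusion kit for an involution with centraliser `⟨t⟩ × Sp₆(2)`. -/

set_option autoImplicit false
set_option linter.unusedSectionVars false
set_option maxRecDepth 100000
set_option synthInstance.maxSize 100000
set_option synthInstance.maxHeartbeats 1000000

namespace Cfsg.Agent.SF6

open Cfsg Cfsg.Agent.Rec Cfsg.Agent.Spor Cfsg.Agent.Loc.Mss Subgroup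
open scoped commutatorElement

variable {G : Type*} [Group G] [Finite G]

namespace Cfg

variable (s : Cfg G)

theorem tmul (g : G) : s.t * (s.t * g) = g := by rw [← mul_assoc, s.tt, one_mul]
theorem t_normL : s.t ∈ 𝐍[s.L] := cent_le_norm _ (mem_cent.2 fun _ h => s.t_comm h)
theorem cent_eq : centralizer {s.t} = s.L ⊔ zpowers s.t := by
  ext g
  rw [FG.ZL.mem_ext s.t_normL (by rw [s.tt]; exact one_mem _), mem_centralizer_singleton_iff]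
  refine ⟨s.cent g, fun h => h.elim s.t_comm fun h => ?_⟩
  have := s.t_comm h
  rwa [mul_assoc, mul_right_inj] at this
theorem card_cent : Nat.card (centralizer {s.t}) = 2903040 := by
  rw [s.cent_eq, FG.ZL.card_ext s.t_normL (by rw [s.tt]; exact one_mem _) s.tL, s.cardL]
theorem T_comm {g : G} (hg : g ∈ s.T) : g * s.t = s.t * g := by
  rcases s.memT.1 hg with h | h
  · exact s.t_comm (s.U_le h)
  · have := s.t_comm (s.U_le h)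
    rwa [mul_assoc, mul_right_inj] at this
theorem sylT : Syl 2 s.T (centralizer {s.t}) := by
  have h1 : s.T ≤ centralizer {s.t} := fun g hg => mem_centralizer_singleton_iff.2 (s.T_comm hg)
  refine ⟨h1, s.pgT, fun h => ?_⟩
  have := Inv.Fz.card_mul_relIndex h1
  rw [s.gT.2, s.card_cent] at this
  omega
theorem tD : s.t ∈ s.D := IsConj.refl _
theorem D_conj {d : G} (hd : d ∈ s.D) (g : G) : g * d * g⁻¹ ∈ s.D := IsConj.trans hd (isConj_iff.2 ⟨g, rfl⟩)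
theorem D_sq {d : G} (hd : d ∈ s.D) : d * d = 1 := by
  obtain ⟨g, rfl⟩ := isConj_iff.1 hd
  rw [conj_mul, s.tt]; group
theorem D_L {v g : G} (hg : g ∈ s.L) (h : s.t * v ∈ s.D) : s.t * (g * v * g⁻¹) ∈ s.D := by
  have := s.D_conj h g
  rwa [← mul_assoc, s.t_comm hg, mul_assoc s.t, mul_assoc s.t] at this
/-- Extremal conjugation. -/
theorem toT {d : G} (hd : d ∈ s.D) {P : Subgroup G} (hP : IsPGroup 2 P) (h : ∀ g ∈ P, g * d = d * g) :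
    ∃ g, g * d * g⁻¹ = s.t ∧ cj(g, P) ≤ s.T := by
  obtain ⟨g, e⟩ := isConj_iff.1 (IsConj.symm hd)
  obtain ⟨m, hm, h2⟩ := s.sylT.conj_le (pg_cj hP g) (cj_le_iff.2 fun a ha =>
    mem_centralizer_singleton_iff.2 (by rw [← e, conj_mul, conj_mul, h a ha]))
  refine ⟨m * g, ?_, by rwa [cj_cj] at h2⟩
  calc _ = m * (g * d * g⁻¹) * m⁻¹ := by group
    _ = _ := by rw [e, mem_centralizer_singleton_iff.1 hm, mul_inv_cancel_right]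
theorem card_le {d : G} (hd : d ∈ s.D) {P : Subgroup G} (hP : IsPGroup 2 P) (h : ∀ g ∈ P, g * d = d * g) :
    Nat.card P ≤ 1024 := by
  obtain ⟨g, -, h1⟩ := s.toT hd hP h
  have := card_le_of_le h1
  rwa [card_cj, s.gT.2] at this
theorem pg_sq {A : Subgroup G} (h2 : ∀ g ∈ A, g * g = 1) : IsPGroup 2 A :=
  pg_iff.2 fun x hx => ⟨1, by rw [pow_one, pow_two, h2 x hx]⟩
theorem cj_sq {A : Subgroup G} (h2 : ∀ g ∈ A, g * g = 1) (k : G) : ∀ g ∈ cj(k, A), g * g = 1 := fun g hg => by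
  have := h2 _ (mem_cj.1 hg)
  calc g * g = k * (k⁻¹ * g * k * (k⁻¹ * g * k)) * k⁻¹ := by group
    _ = 1 := by rw [this]; group
theorem rank {d : G} (hd : d ∈ s.D) {A : Subgroup G} (hA : ∀ g ∈ A, g * d = d * g) (h2 : ∀ g ∈ A, g * g = 1) :
    Nat.card A ≤ 128 := by
  obtain ⟨g, -, h1⟩ := s.toT hd (pg_sq h2) hA
  by_contra h
  have := s.elemT h1 (cj_sq h2 g) (by rw [card_cj]; omega)
  rw [← card_cj A g, this, s.gW.2] at h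
  omega
/-- A 2-subgroup of `C(d)` has at most one elementary abelian subgroup of order 128. -/
theorem uniq {d : G} (hd : d ∈ s.D) {P A B : Subgroup G} (hP : IsPGroup 2 P) (h : ∀ g ∈ P, g * d = d * g)
    (hA : A ≤ P) (hB : B ≤ P) (a2 : ∀ g ∈ A, g * g = 1) (b2 : ∀ g ∈ B, g * g = 1) (ca : Nat.card A = 128)
    (cb : Nat.card B = 128) : A = B := by
  obtain ⟨g, -, h1⟩ := s.toT hd hP h
  exact cj_eq_cj.1 ((s.elemT ((cj_mono g hA).trans h1) (cj_sq a2 g) (by rw [card_cj, ca])).trans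
    (s.elemT ((cj_mono g hB).trans h1) (cj_sq b2 g) (by rw [card_cj, cb])).symm)
theorem normW_of_le {g : G} (h : cj(g, s.W) ≤ s.T) : g ∈ 𝐍[s.W] :=
  cj_eq_iff.1 (s.elemT h (cj_sq (fun _ => s.W_sq) g) (by rw [card_cj, s.gW.2]))
theorem normT_le : 𝐍[s.T] ≤ 𝐍[s.W] := fun _ hg => s.normW_of_le (cj_le_of_norm s.les.2.2.2.2.2.2.1 hg)
theorem fusW {d : G} (hd : d ∈ s.D) (hw : d ∈ s.W) : ∃ g ∈ 𝐍[s.W], g * s.t * g⁻¹ = d := by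
  obtain ⟨g, e, h1⟩ := s.toT hd (pg_sq fun _ => s.W_sq) fun g hg => s.W_comm hg hw
  exact ⟨g⁻¹, inv_mem (s.normW_of_le h1), by rw [← e]; group⟩
theorem normW {g : G} (hg : g ∈ 𝐍[s.W]) (h : g * s.t = s.t * g) : ∃ w ∈ s.W, ∃ l ∈ s.L3, g = w * l := by
  have key : ∀ g ∈ s.L, g ∈ 𝐍[s.W] → ∃ w ∈ s.W, ∃ l ∈ s.L3, g = w * l := fun g hL hg => by
    obtain ⟨v, hv, l, hl, e⟩ := s.P3_eq (s.norm_V6 hL (mem_norm_of_cj_le (cj_le_iff.2 fun u hu =>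
      (s.memW.1 (conj_mem_of_norm hg (s.les.2.2.2.2.2.1 hu))).resolve_right fun k => s.tL
        ((mul_mem_cancel_right (mul_mem (mul_mem hL (s.V6_le hu)) (inv_mem hL))).1 (s.V6_le k)))))
    exact ⟨v, s.les.2.2.2.2.2.1 hv, l, hl, e⟩
  rcases s.cent g h with k | k
  · exact key g k hg
  · obtain ⟨w, hw, l, hl, e⟩ := key _ k (mul_mem (le_normalizer s.tW) hg)
    exact ⟨s.t * w, mul_mem s.tW hw, l, hl, by rw [mul_assoc, ← e, s.tmul]⟩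
theorem centW {g : G} (hg : ∀ u ∈ s.V6, g * u = u * g) (h : g * s.t = s.t * g) : g ∈ s.W :=
  s.memW.2 ((s.cent g h).imp (fun k => s.cent_V6 k hg) fun k => s.cent_V6 k fun u hu => by
    rw [mul_assoc, hg u hu, ← mul_assoc, ← s.t_comm (s.V6_le hu), mul_assoc])
/-- An element of `C(t)` acts on `C(t)` as an element of `L`. -/
theorem act {g : G} (h : g * s.t = s.t * g) : ∃ l ∈ s.L, (g = l ∨ g = s.t * l) ∧
    ∀ x, x * s.t = s.t * x → g * x * g⁻¹ = l * x * l⁻¹ := by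
  rcases s.cent g h with k | k
  · exact ⟨g, k, Or.inl rfl, fun _ _ => rfl⟩
  · refine ⟨_, k, Or.inr (s.tmul g).symm, fun x hx => ?_⟩
    rw [← h]
    calc _ = g * (x * s.t) * s.t⁻¹ * g⁻¹ := by group
      _ = _ := by rw [hx]; group
theorem comm_L {g h : G} (hg : g * s.t = s.t * g) (hh : h * s.t = s.t * h) : g * h * g⁻¹ * h⁻¹ ∈ s.L := by
  obtain ⟨l, hl, -, e⟩ := s.act hg
  obtain ⟨k, hk, -, e'⟩ := s.act hh
  rw [e h hh, show l * h * l⁻¹ * h⁻¹ = l * (h * l⁻¹ * h⁻¹) by group, e' _ (s.t_comm (inv_mem hl))]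
  exact mul_mem hl (mul_mem (mul_mem hk (inv_mem hl)) (inv_mem hk))
theorem not_comm {d g h : G} (hd : d ∈ s.D) (hg : g * d = d * g) (hh : h * d = d * h) : g * h * g⁻¹ * h⁻¹ ≠ d := by
  obtain ⟨k, e⟩ := isConj_iff.1 (IsConj.symm hd)
  intro h1
  have := s.comm_L (g := k * g * k⁻¹) (h := k * h * k⁻¹) (by rw [← e, conj_mul, conj_mul, hg])
    (by rw [← e, conj_mul, conj_mul, hh])
  refine s.tL ?_
  rw [show k * g * k⁻¹ * (k * h * k⁻¹) * (k * g * k⁻¹)⁻¹ * (k * h * k⁻¹)⁻¹ = k * (g * h * g⁻¹ * h⁻¹) * k⁻¹ by group,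
    h1, e] at this
  exact this
theorem K_nD {g : G} (hg : g ∈ s.K1 ∨ g ∈ s.K2 ∨ g ∈ s.K3) : g ∉ s.D := fun hd => by
  have k : ∀ {z l : G}, l * z * l⁻¹ = g → z ∈ s.D := fun {z l} e => by
    have := s.D_conj hd l⁻¹
    rwa [← e, show l⁻¹ * (l * z * l⁻¹) * l⁻¹⁻¹ = z by group] at this
  rcases hg with ⟨l, -, e⟩ | ⟨l, -, e⟩ | ⟨l, -, e⟩
  · refine s.not_comm (g := s.x3 * s.y * s.d * s.r) (h := s.x2 * s.a) (k e) ?_ ?_ ?_ <;>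
      exact s.hL.decide s.rep (by decide +kernel)
  · refine s.not_comm (g := s.a) (h := s.d) (k e) ?_ ?_ ?_ <;> exact s.hL.decide s.rep (by decide +kernel)
  · refine s.not_comm (g := s.x2) (h := s.r) (k e) ?_ ?_ ?_ <;> exact s.hL.decide s.rep (by decide +kernel)
theorem T_act {g : G} (hg : g ∈ s.T) : ∃ l ∈ s.D8, ∀ w ∈ s.W, w * g * w⁻¹ * g⁻¹ = w * l * w⁻¹ * l⁻¹ := by
  have k : (∀ g ∈ s.T, ∃ l ∈ s.D8, g * l⁻¹ ∈ s.W) ∧ s.D8 ≤ s.T := s.hL.decide s.rep (by decide +kernel)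
  obtain ⟨l, hl, h⟩ := k.1 g hg
  refine ⟨l, hl, fun w hw => ?_⟩
  calc _ = w * (g * l⁻¹ * (l * w⁻¹ * l⁻¹)) * (g * l⁻¹)⁻¹ := by group
    _ = _ := by rw [s.W_comm h (conj_mem_of_norm (s.T_norm (k.2 hl)) (inv_mem hw))]; group
theorem normT {z : G} (hz : z ∈ s.ZU) (h : s.t * z ∈ s.D) : ∃ α ∈ 𝐍[s.T], α ∈ 𝐍[s.W] ∧ α * s.t * α⁻¹ = s.t * z ∧
    α * s.y * α⁻¹ = s.y ∧ (α * (s.x1 * s.a) * α⁻¹ = s.x1 * s.a ∨ α * (s.x1 * s.a) * α⁻¹ = s.x1 * s.a * s.y) := by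
  have k0 : (∀ z ∈ s.ZU, ∀ g ∈ s.T, g * (s.t * z) = s.t * z * g) ∧
      (∀ w ∈ s.W, ∀ g ∈ s.D8, w * g * w⁻¹ * g⁻¹ ∈ s.V6 ∧
        (w * g * w⁻¹ * g⁻¹ ∈ s.V5 ∨ s.x2 * s.b * (w * g * w⁻¹ * g⁻¹) ∈ s.V5)) ∧
      (∀ u ∈ s.V6, (u ∈ s.V5 ∨ s.x2 * s.b * u ∈ s.V5) → ∀ g ∈ s.D8, u * g * u⁻¹ * g⁻¹ = 1 ∨ u * g * u⁻¹ * g⁻¹ = s.y ∨
        u * g * u⁻¹ * g⁻¹ = s.x1 * s.a ∨ u * g * u⁻¹ * g⁻¹ = s.x1 * s.a * s.y) ∧
      (∀ u ∈ s.V6, (u = 1 ∨ u = s.y ∨ u = s.x1 * s.a ∨ u = s.x1 * s.a * s.y) → ∀ g ∈ s.D8,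
        u * g * u⁻¹ * g⁻¹ = 1 ∨ u * g * u⁻¹ * g⁻¹ = s.y) ∧
      s.x3 ∈ s.W ∧ s.d ∈ s.T ∧ s.d * s.r ∈ s.T ∧ s.x1 * s.a ∈ s.V6 ∧ s.y ∈ s.V6 ∧ s.y ≠ 1 ∧ s.x1 * s.a ≠ 1 ∧
      s.x1 * s.a ≠ s.y ∧ s.x1 * s.a * s.d * (s.x1 * s.a)⁻¹ * s.d⁻¹ = s.y ∧
      s.x3 * s.d * s.x3⁻¹ * s.d⁻¹ * (s.d * s.r) * (s.x3 * s.d * s.x3⁻¹ * s.d⁻¹)⁻¹ * (s.d * s.r)⁻¹ = s.x1 * s.a :=
    s.hL.decide s.rep (by decide +kernel)
  obtain ⟨k1, k2, k3, k4, m1, m2, m3, m4, m5, n1, n2, n3, e1, e2⟩ := k0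
  obtain ⟨g, e, h1⟩ := s.toT h s.pgT (k1 z hz)
  have h2 : g⁻¹ ∈ 𝐍[s.T] := inv_mem (mem_norm_of_cj_le h1)
  have h3 := s.normT_le h2
  have ht : g⁻¹ * s.t * g⁻¹⁻¹ = s.t * z := by
    calc _ = g⁻¹ * (g * (s.t * z) * g⁻¹) * g⁻¹⁻¹ := by rw [e]
      _ = _ := by group
  generalize g⁻¹ = α at h2 h3 ht
  have VW := s.les.2.2.2.2.2.1
  obtain ⟨l1, b1, c1⟩ := s.T_act (conj_mem_of_norm h2 m2)
  obtain ⟨l2, b2, c2⟩ := s.T_act (conj_mem_of_norm h2 m3)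
  obtain ⟨a1, a2⟩ := k2 _ (conj_mem_of_norm h3 m1) _ b1
  rw [← c1 _ (conj_mem_of_norm h3 m1)] at a1 a2
  have a3 := k3 _ a1 a2 _ b2
  rw [← c2 _ (VW a1)] at a3
  have cm : ∀ u v : G, α * u * α⁻¹ * (α * v * α⁻¹) * (α * u * α⁻¹)⁻¹ * (α * v * α⁻¹)⁻¹ =
      α * (u * v * u⁻¹ * v⁻¹) * α⁻¹ := fun u v => by group
  rw [cm, cm, e2] at a3
  have a0 : α * (s.x1 * s.a) * α⁻¹ ∈ s.V6 := by
    rcases a3 with a | a | a | a <;> rw [a]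
    exacts [one_mem _, m5, m4, mul_mem m4 m5]
  have a4 := k4 _ a0 a3 _ b1
  rw [← c1 _ (VW a0), cm, e1] at a4
  have a5 := a4.resolve_left fun a => n1 (conj_eq_one_iff.1 a)
  refine ⟨α, h2, h3, ht, a5, ?_⟩
  rcases a3 with a | a | a
  · exact (n2 (conj_eq_one_iff.1 a)).elim
  · rw [← a5, mul_left_inj, mul_right_inj] at a
    exact (n3 a).elim
  · exact a
theorem A3_D {v : G} (hv : v ∈ s.A3) (h1 : v ≠ 1) : s.t * v ∈ s.D ↔ s.t * s.y ∈ s.D := by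
  obtain ⟨l, hl, rfl⟩ := s.A3_eq hv h1
  refine ⟨fun h => ?_, s.D_L (s.L3_le hl)⟩
  have := s.D_L (inv_mem (s.L3_le hl)) h
  rwa [show l⁻¹ * (l * s.y * l⁻¹) * l⁻¹⁻¹ = s.y by group] at this
theorem noII (hy : s.t * s.y ∉ s.D) : s.t * (s.x1 * s.y) ∉ s.D := fun h => by
  have k0 : s.x1 * s.y ∈ s.ZU ∧ s.d * s.m * s.d ∈ s.L3 ∧
      s.d * s.m * s.d * (s.x1 * s.y) * (s.d * s.m * s.d)⁻¹ = s.x1 * s.a ∧
      s.x1 * s.y * (s.x1 * s.a) ∈ s.A3 ∧ s.x1 * s.y * (s.x1 * s.a) ≠ 1 ∧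
      s.x1 * s.y * (s.x1 * s.a * s.y) ∈ s.A3 ∧ s.x1 * s.y * (s.x1 * s.a * s.y) ≠ 1 :=
    s.hL.decide s.rep (by decide +kernel)
  obtain ⟨k1, k2, k3, k4, k5, k6, k7⟩ := k0
  obtain ⟨α, -, -, e1, -, e2⟩ := s.normT k1 h
  have h1 := s.D_L (s.L3_le k2) h
  rw [k3] at h1
  have h2 := s.D_conj h1 α
  rw [← conj_mul, e1] at h2
  rcases e2 with e | e <;> rw [e, mul_assoc] at h2
  exacts [hy ((s.A3_D k4 k5).1 h2), hy ((s.A3_D k6 k7).1 h2)]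
theorem noI (hp : s.t ∈ commutator G) (hy : s.t * s.y ∉ s.D) : s.t * s.x1 ∈ s.D := by
  by_contra hx
  have k0 : (∀ u ∈ s.T, u * s.x3 = s.x3 * u → u * s.r = s.r * u → u * s.d = s.d * u → u * s.x2 = s.x2 * u →
      u = s.t ∨ u = s.t * s.x1 ∨ u = s.t * s.y ∨ u = s.t * (s.x1 * s.y) ∨ u = 1 ∨ u ∈ s.K1 ∨ u ∈ s.K2 ∨ u ∈ s.K3) ∧
      s.x3 ∈ s.T ∧ s.r ∈ s.T ∧ s.d ∈ s.T ∧ s.x2 ∈ s.T ∧ s.t ∈ s.T ∧ s.t ≠ 1 := s.hL.decide s.rep (by decide +kernel)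
  obtain ⟨k1, k2, k3, k4, k5, k6, k7⟩ := k0
  have fix : ∀ p ∈ 𝐍[s.T], p * s.t * p⁻¹ = s.t := fun p hp => by
    have c : ∀ u ∈ s.T, p * s.t * p⁻¹ * u = u * (p * s.t * p⁻¹) := fun u hu => by
      calc _ = p * (s.t * (p⁻¹ * u * p)) * p⁻¹ := by group
        _ = _ := by rw [← s.T_comm (conj_mem_of_norm' hp hu)]; group
    have hd := s.D_conj s.tD p
    rcases k1 _ (conj_mem_of_norm hp k6) (c _ k2) (c _ k3) (c _ k4) (c _ k5) with h | h | h | h | h | h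
    · exact h
    · exact (hx (h ▸ hd)).elim
    · exact (hy (h ▸ hd)).elim
    · exact (s.noII hy (h ▸ hd)).elim
    · exact (k7 (conj_eq_one_iff.1 h)).elim
    · exact (s.K_nD h hd).elim
  have h1 : Syl 2 s.T ⊤ := Syl.of_norm s.pgT le_top fun P hP h2 _ h3 => s.sylT.ge_of_le hP h2 fun p hp =>
    mem_centralizer_singleton_iff.2 (mul_inv_eq_iff_eq_mul.1 (fix p (h3 hp)))
  have h2 : (s.U.subgroupOf s.T).index = 2 := by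
    have := Inv.Fz.card_mul_relIndex s.les.2.2.2.2.2.2.2.1
    rw [s.gT.2, s.gU.2] at this
    change s.U.relIndex s.T = 2
    omega
  have := normal_of_index_eq_two h2
  obtain ⟨g, h3, -, h4⟩ := GT.Tr.thompson_transfer_of_isCyclic (H := s.T) (by simpa using h1.nd) (T := s.U)
    (isCyclic_of_prime_card (p := 2) h2) (by rw [pow_two, s.tt]) hp s.pgT fun _ => s.T_comm
  rw [fix g (mem_norm_of_cj_le (cj_le_iff.2 h4))] at h3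
  exact s.tL (s.U_le h3)

end Cfg

end Cfsg.Agent.SF6
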