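import Mathlib
import Cfsg.Agent.SF6.Kit
import Cfsg.Agent.FG.ZLPar

set_option autoImplicit false
set_option linter.unusedSectionVars false
set_option maxRecDepth 100000
set_option synthInstance.maxSize 100000
set_option synthInstance.maxHeartbeats 1000000

namespace Cfsg.Agent.SF6

open Cfsg Cfsg.Agent.Rec Cfsg.Agent.Spor Cfsg.Agent.Loc.Mss Subgroup
open scoped commutatorElement

variable {G : Type*} [Group G] [Finite G]

namespace Phi

theorem comm_of_sq {B : Subgroup G} (h2 : ∀ e ∈ B, e * e = 1) {e e' : G} (he : e ∈ B) (he' : e' ∈ B) :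
    e * e' = e' * e := by
  have i : ∀ x ∈ B, x⁻¹ = x := fun x hx => inv_eq_of_mul_eq_one_right (h2 x hx)
  rw [← i _ (mul_mem he he'), mul_inv_rev, i e he, i e' he']

theorem pg_of_sq {B : Subgroup G} (h2 : ∀ e ∈ B, e * e = 1) : IsPGroup 2 B :=
  pg_iff.2 fun x hx => ⟨1, by rw [pow_one, pow_two, h2 x hx]⟩

variable (s : Cfg G)

theorem V_W : s.V6 ≤ s.W := s.les.2.2.2.2.2.1
theorem A_V : s.A3 ≤ s.V6 := s.les.2.2.2.1
theorem V_sq {v : G} (hv : v ∈ s.V6) : v * v = 1 := s.W_sq (V_W s hv)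
theorem tV : s.t ∉ s.V6 := fun h => s.tL (s.V6_le h)
theorem tt' (x : G) : s.t * (s.t * x) = x := by rw [← mul_assoc, s.tt, one_mul]
theorem ti : s.t⁻¹ = s.t := inv_eq_of_mul_eq_one_right s.tt

theorem cj_fix {e v u : G} (he : e ∈ s.Φ v) (hu : u ∈ s.V6) : e * u * e⁻¹ = u := by
  rw [he.1 u hu, mul_inv_cancel_right]

theorem et {e v : G} (he : e ∈ s.Φ v) : e * s.t = s.t * v * e := by rw [← he.2, inv_mul_cancel_right]

theorem dec_sq : ∀ v ∈ s.V6, (v ∈ s.A3 ∧ v ≠ 1) ∨ v ∈ s.Pts → ∀ q ∈ s.V6,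
    (∀ l ∈ s.L3, l * v = v * l → l * q * l⁻¹ = q ∨ l * q * l⁻¹ = v * q) → q = 1 ∨ q = v :=
  s.hL.decide s.rep (by decide +kernel)

end Phi

namespace Cfg

open Phi

variable (s : Cfg G)

theorem Φ_E {e v : G} (he : e ∈ s.Φ v) (hv : v ∈ s.V6) : e ∈ s.E := by
  refine ⟨mem_cent.2 fun u hu => (he.1 u hu).symm, mem_norm_of_cj_le (cj_le_iff.2 fun w hw => ?_)⟩
  rcases s.memW.1 hw with h | h
  · rw [cj_fix s he h]
    exact hw
  · rw [← tt' s w, show e * (s.t * (s.t * w)) * e⁻¹ = e * s.t * e⁻¹ * (e * (s.t * w) * e⁻¹) by group,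
      he.2, cj_fix s he h]
    exact mul_mem (mul_mem s.tW (V_W s hv)) (V_W s h)

theorem E_Φ {e : G} (he : e ∈ s.E) : ∃ v ∈ s.V6, e ∈ s.Φ v := by
  have hc : ∀ u ∈ s.V6, e * u = u * e := fun u hu => (mem_cent.1 he.1 u hu).symm
  rcases s.memW.1 (conj_mem_of_norm he.2 s.tW) with h | h
  · have := hc _ h
    rw [inv_mul_cancel_right, mul_right_inj] at this
    exact (tV s (this ▸ h)).elim
  · exact ⟨_, h, hc, (tt' s _).symm⟩

theorem Φ_uniq {e v v' : G} (he : e ∈ s.Φ v) (he' : e ∈ s.Φ v') : v = v' :=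
  mul_left_cancel (he.2.symm.trans he'.2)

theorem Φ_D {e v : G} (he : e ∈ s.Φ v) : s.t * v ∈ s.D := isConj_iff.2 ⟨e, he.2⟩

theorem Φ_one {e : G} : e ∈ s.Φ 1 ↔ e ∈ s.W :=
  ⟨fun h => s.centW h.1 (by rw [et s h, mul_one]), fun h =>
    ⟨fun u hu => s.W_comm h (V_W s hu), by rw [s.W_comm h s.tW, mul_inv_cancel_right, mul_one]⟩⟩

theorem Φ_mul {e e' v v' : G} (he : e ∈ s.Φ v) (he' : e' ∈ s.Φ v') (hv' : v' ∈ s.V6) : e * e' ∈ s.Φ (v * v') :=
  ⟨fun u hu => by rw [mul_assoc, he'.1 u hu, ← mul_assoc, he.1 u hu, mul_assoc], by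
    calc e * e' * s.t * (e * e')⁻¹ = e * (e' * s.t * e'⁻¹) * e⁻¹ := by group
      _ = e * s.t * e⁻¹ * (e * v' * e⁻¹) := by rw [he'.2]; group
      _ = _ := by rw [he.2, cj_fix s he hv', mul_assoc]⟩

theorem Φ_inv {e v : G} (he : e ∈ s.Φ v) (hv : v ∈ s.V6) : e⁻¹ ∈ s.Φ v :=
  ⟨fun u hu => by rw [inv_mul_eq_iff_eq_mul, ← mul_assoc, he.1 u hu, mul_inv_cancel_right], by
    rw [inv_inv, mul_assoc, inv_mul_eq_iff_eq_mul, ← mul_assoc, et s he, mul_assoc _ e, he.1 v hv,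
      mul_assoc, ← mul_assoc v, V_sq s hv, one_mul]⟩

theorem Φ_conj {e v g : G} (he : e ∈ s.Φ v) (hg : g ∈ s.P3) : g * e * g⁻¹ ∈ s.Φ (g * v * g⁻¹) := by
  have ht : g * s.t * g⁻¹ = s.t := by rw [s.t_comm (s.P3_le hg), mul_inv_cancel_right]
  refine ⟨fun u hu => ?_, ?_⟩
  · have := he.1 _ (conj_mem_of_norm' (s.P3_norm.1 hg) hu)
    calc g * e * g⁻¹ * u = g * (e * (g⁻¹ * u * g)) * g⁻¹ := by group
      _ = _ := by rw [this]; group
  · calc g * e * g⁻¹ * s.t * (g * e * g⁻¹)⁻¹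
        = g * e * g⁻¹ * (g * s.t * g⁻¹) * (g * e * g⁻¹)⁻¹ := by rw [ht]
      _ = g * (e * s.t * e⁻¹) * g⁻¹ := by group
      _ = g * s.t * g⁻¹ * (g * v * g⁻¹) := by rw [he.2]; group
      _ = _ := by rw [ht]

theorem Φ_W {e v w : G} (he : e ∈ s.Φ v) (hv : v ∈ s.V6) (hw : w ∈ s.W) : e * w ∈ s.Φ v ∧ w * e ∈ s.Φ v :=
  ⟨by simpa using s.Φ_mul he (s.Φ_one.2 hw) (one_mem _), by simpa using s.Φ_mul (s.Φ_one.2 hw) he hv⟩

theorem Φ_diff {e e' v : G} (he : e ∈ s.Φ v) (he' : e' ∈ s.Φ v) (hv : v ∈ s.V6) :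
    (∃ u ∈ s.V6, e' = e * u) ∨ ∃ u ∈ s.V6, e' = s.t * e * u := by
  have h := s.Φ_mul (s.Φ_inv he hv) he' hv
  rw [V_sq s hv] at h
  rcases s.memW.1 (s.Φ_one.1 h) with h | h
  · exact Or.inl ⟨_, h, by group⟩
  · refine Or.inr ⟨_, mul_mem hv h, ?_⟩
    rw [← mul_assoc, mul_assoc s.t, he.1 v hv, ← mul_assoc s.t, ← et s he, mul_assoc, tt',
      mul_inv_cancel_left]

theorem Φ_t_sq {e v : G} (he : e ∈ s.Φ v) (hv : v ∈ s.V6) : s.t * e * (s.t * e) = v * (e * e) := by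
  rw [mul_assoc, ← mul_assoc e, et s he, mul_assoc, mul_assoc, tt']

theorem Φ_V_sq {e v u : G} (he : e ∈ s.Φ v) (hu : u ∈ s.V6) : e * u * (e * u) = e * e := by
  rw [mul_assoc, ← mul_assoc u, ← he.1 u hu, mul_assoc, V_sq s hu, mul_one]

theorem E_sq {e : G} (he : e ∈ s.E) : e * e ∈ s.V6 := by
  obtain ⟨v, hv, h⟩ := s.E_Φ he
  have h2 := s.Φ_mul h h hv
  rw [V_sq s hv] at h2
  rcases s.memW.1 (s.Φ_one.1 h2) with k | k
  · exact k
  · have e1 : e * s.t = s.t * e := by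
      have := h.1 _ k
      refine mul_right_cancel (b := e * e) ?_
      rw [mul_assoc, this]
      group
    rw [s.W_sq (s.centW h.1 e1)]
    exact one_mem _

theorem E_comm {e e' : G} (he : e ∈ s.E) (he' : e' ∈ s.E) : e * e' * e⁻¹ * e'⁻¹ ∈ s.V6 := by
  have h := mem_cent.1 he'.1 _ (s.E_sq he)
  have : e * e' * e⁻¹ * e'⁻¹ = e * e' * (e * e') * (e * e)⁻¹ * (e' * e')⁻¹ := by
    calc e * e' * e⁻¹ * e'⁻¹ = e * e' * (e * e') * (e * e * e')⁻¹ * e'⁻¹ := by group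
      _ = _ := by rw [h]; group
  rw [this]
  exact mul_mem (mul_mem (s.E_sq (mul_mem he he')) (inv_mem (s.E_sq he))) (inv_mem (s.E_sq he'))

/-- Elements with the same translation `v ≠ 1` and the same square differ by an element of `V6`. -/
theorem Φ_same {e e' v : G} (he : e ∈ s.Φ v) (he' : e' ∈ s.Φ v) (hv : v ∈ s.V6) (h1 : v ≠ 1) (h : e * e = e' * e') :
    ∃ u ∈ s.V6, e' = e * u := by
  refine (s.Φ_diff he he' hv).resolve_right ?_
  rintro ⟨u, hu, rfl⟩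
  rw [s.Φ_V_sq (s.Φ_W he hv s.tW).2 hu, s.Φ_t_sq he hv] at h
  exact h1 (right_eq_mul.1 h)

theorem Φ_sq {e v : G} (he : e ∈ s.Φ v) (hv : (v ∈ s.A3 ∧ v ≠ 1) ∨ v ∈ s.Pts) : e * e = 1 ∨ e * e = v := by
  have hV : v ∈ s.V6 := hv.elim (fun h => A_V s h.1) fun h => (s.pt_eq h).1
  refine dec_sq s v hV hv _ (s.E_sq (s.Φ_E he hV)) fun l hl e1 => ?_
  have h := s.Φ_conj he (s.les.2.2.1 hl)
  rw [e1, mul_inv_cancel_right] at h
  rw [show l * (e * e) * l⁻¹ = l * e * l⁻¹ * (l * e * l⁻¹) by group]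
  rcases s.Φ_diff he h hV with ⟨u, hu, k⟩ | ⟨u, hu, k⟩
  · exact Or.inl (by rw [k, s.Φ_V_sq he hu])
  · exact Or.inr (by rw [k, s.Φ_V_sq (s.Φ_W he hV s.tW).2 hu, s.Φ_t_sq he hV])

theorem Φ_invol {e v : G} (he : e ∈ s.Φ v) (hv : (v ∈ s.A3 ∧ v ≠ 1) ∨ v ∈ s.Pts) : ∃ f ∈ s.Φ v, f * f = 1 := by
  have hV : v ∈ s.V6 := hv.elim (fun h => A_V s h.1) fun h => (s.pt_eq h).1
  rcases s.Φ_sq he hv with h | h
  · exact ⟨e, he, h⟩
  · exact ⟨_, (s.Φ_W he hV s.tW).2, by rw [s.Φ_t_sq he hV, h, V_sq s hV]⟩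

theorem big_comm {A B : Subgroup G} (h : s.Big A B) {e e' : G} (he : e ∈ B) (he' : e' ∈ B) : e * e' = e' * e :=
  comm_of_sq h.sq he he'

theorem big_cent {A B : Subgroup G} (h : s.Big A B) {e : G} (he : e ∈ B) : e * s.t = s.t * e ↔ e ∈ s.V6 :=
  ⟨fun k => (s.memW.1 (s.centW (fun _ hu => s.big_comm h he (h.le hu)) k)).resolve_right fun k' =>
    h.tB ((mul_mem_cancel_right he).1 (h.le k')), fun k => s.t_comm (s.V6_le k)⟩

theorem big_T {A B : Subgroup G} (h : s.Big A B) (hA : A ≤ s.V6) : s.T ≤ 𝐍[B] := by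
  have ht : s.t ∈ 𝐍[B] := mem_norm_of_cj_le (cj_le_iff.2 fun e he => by
    obtain ⟨v, hv, k⟩ := h.tau e he
    rw [ti, mul_assoc, et s k, mul_assoc, tt']
    exact mul_mem (h.le (hA hv)) he)
  intro g hg
  rcases s.memT.1 hg with k | k
  · exact h.norm (s.les.2.1 k)
  · exact (mul_mem_cancel_left ht).1 (h.norm (s.les.2.1 k))

theorem big_nD {A B : Subgroup G} (h : s.Big A B) (hA : s.A3 ≤ A) {e : G} (he : e ∈ B) (g : G) : g * e * g⁻¹ ∉ s.D := by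
  intro hd
  have h1 := s.D_conj hd g⁻¹
  rw [show g⁻¹ * (g * e * g⁻¹) * g⁻¹⁻¹ = e by group] at h1
  have h2 := s.rank h1 (fun _ hx => s.big_comm h hx he) h.sq
  have h3 := card_le_of_le hA
  rw [s.gA3.2] at h3
  rw [h.card] at h2
  omega

omit s in
/-- An involution `d` normalising an elementary abelian 2-group `B`: centraliser and commutator group. -/
theorem invol_act {B : Subgroup G} (h2 : ∀ e ∈ B, e * e = 1) {d : G} (hd : d * d = 1) (hn : d ∈ 𝐍[B]) :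
    ∃ M : Subgroup G, M ≤ B ⊓ centralizer {d} ∧ (∀ g, g ∈ M ↔ ∃ e ∈ B, g = e * d * e⁻¹ * d) ∧
      Nat.card M * Nat.card (B ⊓ centralizer {d} : Subgroup G) = Nat.card B := by
  have di : d⁻¹ = d := inv_eq_of_mul_eq_one_right hd
  have dd : ∀ x, d * (d * x) = x := fun x => by rw [← mul_assoc, hd, one_mul]
  have i : ∀ x ∈ B, x⁻¹ = x := fun x hx => inv_eq_of_mul_eq_one_right (h2 x hx)
  have m : ∀ x ∈ B, d * x * d ∈ B := fun x hx => by simpa only [di] using conj_mem_of_norm hn hx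
  let φ : B →* G := MonoidHom.mk' (fun e => e * (d * e * d)) fun a b => by
    have := comm_of_sq h2 b.2 (m a a.2)
    calc (a * b : B) * (d * (a * b : B) * d) = a * (b * (d * a * d)) * (d * b * d) := by
          simp only [coe_mul, mul_assoc, dd]
      _ = _ := by rw [this]; simp only [mul_assoc]
  have hk : φ.ker = (B ⊓ centralizer {d}).subgroupOf B := by
    ext ⟨e, he⟩
    rw [MonoidHom.mem_ker, mem_subgroupOf, mem_inf, mem_centralizer_singleton_iff]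
    show e * (d * e * d) = 1 ↔ e ∈ B ∧ e * d = d * e
    refine ⟨fun k => ⟨he, ?_⟩, fun k => by rw [← k.2, mul_assoc e d, hd, mul_one, h2 e he]⟩
    rw [mul_eq_one_iff_inv_eq, i e he] at k
    nth_rw 1 [k]
    rw [mul_assoc, hd, mul_one]
  refine ⟨φ.range, ?_, fun g => ⟨?_, ?_⟩, ?_⟩
  · rintro _ ⟨⟨e, he⟩, rfl⟩
    refine ⟨mul_mem he (m e he), mem_centralizer_singleton_iff.2 ?_⟩
    show e * (d * e * d) * d = d * (e * (d * e * d))
    rw [comm_of_sq h2 he (m e he)]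
    nth_rw 1 [← comm_of_sq h2 he (m e he)]
    simp only [mul_assoc, dd, hd, mul_one]
  · rintro ⟨⟨e, he⟩, rfl⟩
    exact ⟨e, he, by rw [i e he]; show e * (d * e * d) = _; simp only [mul_assoc]⟩
  · rintro ⟨e, he, rfl⟩
    exact ⟨⟨e, he⟩, by rw [i e he]; show e * (d * e * d) = _; simp only [mul_assoc]⟩
  · rw [← φ.ker.card_mul_index, index_ker, hk,
      Nat.card_congr (subgroupOfEquivOfLe inf_le_left).toEquiv, mul_comm]

/-- The centraliser of `d ∈ W ∩ D` in an elementary abelian group normalised by `W`. -/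
theorem cent_norm {B : Subgroup G} (h2 : ∀ e ∈ B, e * e = 1) (hn : s.W ≤ 𝐍[B]) {d : G} (hd : d ∈ s.D) (hw : d ∈ s.W)
    (hB : d ∉ B) : B ⊓ centralizer {d} ≤ 𝐍[s.W] ∧ Nat.card (B ⊓ centralizer {d} : Subgroup G) ≤ 64 ∧
      (Nat.card (B ⊓ centralizer {d} : Subgroup G) = 64 → B ⊓ centralizer {d} ≤ s.W) := by
  set C := B ⊓ centralizer {d} with hC
  have cd : ∀ c ∈ C, c * d = d * c := fun c hc => mem_centralizer_singleton_iff.1 hc.2
  have wd : s.W ≤ centralizer {d} := fun w h => mem_centralizer_singleton_iff.2 (s.W_comm h hw)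
  have c2 : ∀ c ∈ C, c * c = 1 := fun c hc => h2 c hc.1
  have nC : s.W ≤ 𝐍[C] := norm_inf hn (norm_of_le wd)
  have pP : IsPGroup 2 ↥(s.W ⊔ C) := pg_sup (pg_of_sq fun _ => s.W_sq) (pg_of_sq c2) nC
  have cP : ∀ g ∈ s.W ⊔ C, g * d = d * g := fun g hg =>
    mem_centralizer_singleton_iff.1 (sup_le wd inf_le_right hg)
  have k1 : Nat.card ↥(C ⊔ zpowers d) = 2 * Nat.card C :=
    FG.ZL.card_ext (nC hw) (by rw [s.D_sq hd]; exact one_mem _) fun h => hB h.1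
  have le : C ⊔ zpowers d ≤ s.W ⊔ C := sup_le le_sup_right ((zpowers_le.2 hw).trans le_sup_left)
  have k2 : ∀ g ∈ C ⊔ zpowers d, g * g = 1 := fun g hg => by
    obtain ⟨c, hc, x, hx, rfl⟩ := (mem_sup_norm ((zpowers_le.2 hw).trans nC)).1 hg
    have e : c * x = x * c := by
      obtain ⟨k, rfl⟩ := mem_zpowers_iff.1 hx
      exact (Commute.zpow_right (cd c hc) k).eq
    rw [mul_assoc, ← mul_assoc x, ← e, mul_assoc, s.W_sq (zpowers_le.2 hw hx), mul_one, c2 c hc]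
  refine ⟨fun c hc => cj_eq_iff.1 (s.uniq hd pP cP (cj_le_of_mem le_sup_left (mem_sup_right hc))
    le_sup_left (fun g hg => ?_) (fun _ => s.W_sq) (by rw [card_cj, s.gW.2]) s.gW.2), ?_, fun h => ?_⟩
  · have := s.W_sq (mem_cj.1 hg)
    calc g * g = c * (c⁻¹ * g * c * (c⁻¹ * g * c)) * c⁻¹ := by group
      _ = 1 := by rw [this]; group
  · have := s.rank hd (fun g hg => cP g (le hg)) k2
    omega
  · exact le_sup_left.trans (s.uniq hd pP cP le le_sup_left k2 (fun _ => s.W_sq) (by omega) s.gW.2).le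

end Cfg

end Cfsg.Agent.SF6
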